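import Cfsg.Agent.Helper17.Fi22aTC.Lemmas

set_option autoImplicit false
set_option linter.all false

noncomputable section

namespace Cfsg.Agent.Helper17.Fi22aTC

theorem F1 : act 0 n0 = n0 := d39_0 B0 
theorem F2 : act 2 n0 = n0 := d40_0 B1 
theorem F3 : act 3 n0 = n0 := d41_0 B2 
theorem F4 : act 4 n0 = n0 := d42_0 B3 
theorem F5 : act 5 n0 = n0 := d43_0 B4 
theorem F6 : act 6 n0 = n0 := d44_0 B5 
theorem F7 : act 7 n0 = n0 := d45_0 B6 
theorem F8 : act 8 n0 = n0 := d46_0 B7 
def n1 : Q := act 1 n0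
theorem D1 : act 1 n0 = n1 := rfl
def n2 : Q := act 0 n1
theorem D2 : act 0 n1 = n2 := rfl
def n3 : Q := act 7 n2
theorem D3 : act 7 n2 = n3 := rfl
def n4 : Q := act 4 n3
theorem D4 : act 4 n3 = n4 := rfl
def n5 : Q := act 3 n4
theorem D5 : act 3 n4 = n5 := rfl
def n6 : Q := act 2 n5
theorem D6 : act 2 n5 = n6 := rfl
def n7 : Q := act 1 n6
theorem D7 : act 1 n6 = n7 := rfl
def n8 : Q := act 0 n7
theorem D8 : act 0 n7 = n8 := rfl
def n9 : Q := act 7 n8
theorem D9 : act 7 n8 = n9 := rfl
def n10 : Q := act 4 n9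
theorem D10 : act 4 n9 = n10 := rfl
def n11 : Q := act 3 n10
theorem D11 : act 3 n10 = n11 := rfl
def n12 : Q := act 2 n11
theorem D12 : act 2 n11 = n12 := rfl
def n13 : Q := act 1 n12
theorem D13 : act 1 n12 = n13 := rfl
def n14 : Q := act 0 n13
theorem D14 : act 0 n13 = n14 := rfl
def n15 : Q := act 7 n14
theorem D15 : act 7 n14 = n15 := rfl
def n16 : Q := act 4 n15
theorem D16 : act 4 n15 = n16 := rfl
def n17 : Q := act 3 n16
theorem D17 : act 3 n16 = n17 := rfl
def n18 : Q := act 2 n17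
theorem D18 : act 2 n17 = n18 := rfl
def n19 : Q := act 1 n18
theorem D19 : act 1 n18 = n19 := rfl
def n20 : Q := act 0 n19
theorem D20 : act 0 n19 = n20 := rfl
def n21 : Q := act 7 n20
theorem D21 : act 7 n20 = n21 := rfl
def n22 : Q := act 4 n21
theorem D22 : act 4 n21 = n22 := rfl
def n23 : Q := act 3 n22
theorem D23 : act 3 n22 = n23 := rfl
theorem F9 : act 2 n23 = n1 := d47_27 B8 F7 F4 F3 F2 D1 D2 D3 D4 D5 D6 D7 D8 D9 D10 D11 D12 D13 D14 D15 D16 D17 D18 D19 D20 D21 D22 D23 (iv D1) F1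
theorem F10 : act 1 n23 = n23 := d8_5 F9 (iv D1) F2 D1 (iv F9)
theorem F11 : act 1 n22 = n22 := d9_3 D23 F10 (iv D23)
theorem F12 : act 1 n21 = n21 := d10_3 D22 F11 (iv D22)
theorem F13 : act 1 n20 = n20 := d13_3 D21 F12 (iv D21)
theorem F14 : act 0 n18 = n18 := d0_3 F13 (iv D20) (iv D19) D19 D20
theorem F15 : act 0 n17 = n17 := d1_3 D18 F14 (iv D18)
theorem F16 : act 0 n16 = n16 := d2_3 D17 F15 (iv D17)
theorem F17 : act 0 n15 = n15 := d3_3 D16 F16 (iv D16)
theorem E1 : n14 = n13 := ((c6_4 D15 F17 (iv D15) (iv D14))).symm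
theorem F18 : act 0 n13 = n13 := (sb E1 (iv D14))
theorem F19 : act 7 n13 = n15 := (sb E1 D15)
theorem F20 : act 1 n2 = n2 := d0_2 D1 D2 (iv D2) (iv D1) F1
theorem F21 : act 1 n3 = n3 := d13_3 (iv D3) F20 D3
theorem F22 : act 1 n4 = n4 := d10_3 (iv D4) F21 D4
theorem F23 : act 1 n5 = n5 := d9_3 (iv D5) F22 D5
theorem F24 : act 2 n7 = n7 := d8_4 (iv D6) F23 D6 D7 (iv D7)
theorem F25 : act 2 n8 = n8 := d1_2 F24 D8 (iv D8)
theorem F26 : act 2 n9 = n9 := d19_3 (iv D9) F25 D9
theorem F27 : act 2 n10 = n10 := d16_3 (iv D10) F26 D10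
theorem F28 : act 3 n12 = n12 := d15_4 (iv D11) F27 D11 D12 (iv D12)
theorem F30 : act 3 n1 = n1 := d9_2 F3 D1 (iv D1)
theorem F31 : act 4 n1 = n1 := d10_2 F4 D1 (iv D1)
theorem F32 : act 5 n1 = n1 := d11_2 F5 D1 (iv D1)
theorem F33 : act 6 n1 = n1 := d12_2 F6 D1 (iv D1)
theorem F34 : act 7 n1 = n1 := d13_2 F7 D1 (iv D1)
theorem F35 : act 8 n1 = n1 := d14_2 F8 D1 (iv D1)
theorem F36 : act 8 n2 = n2 := d7_2 F35 D2 (iv D2)
theorem F37 : act 8 n23 = n23 := d20_2 F35 (iv F9) F9
theorem F38 : act 8 n22 = n22 := d25_2 F37 (iv D23) D23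
theorem F39 : act 8 n21 = n21 := d29_2 F38 (iv D22) D22
theorem E2 : n3 = n2 := (c6_3 F34 D2 D3 (iv D2))
theorem F40 : act 4 n2 = n4 := (sb E2 D4)
theorem F41 : act 7 n2 = n2 := (sb E2 (iv D3))
theorem F42 : act 7 n23 = n23 := d19_2 F34 (iv F9) F9
theorem E3 : n4 = n2 := (c3_1 F40 (iv D2) F31 D2)
theorem F44 : act 3 n2 = n5 := (sb E3 D5)
theorem F45 : act 4 n2 = n2 := (sb E3 (iv F40))
theorem E4 : n5 = n2 := (c2_1 F44 (iv D2) F30 D2)
theorem F46 : act 2 n2 = n6 := (sb E4 D6)
theorem F47 : act 3 n2 = n2 := (sb E4 (iv F44))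
theorem F48 : act 0 n6 = n23 := d1_1 F46 F9 D2
theorem F49 : act 4 n6 = n6 := d16_2 F45 F46 (iv F46)
theorem F50 : act 7 n6 = n6 := d19_2 F41 F46 (iv F46)
theorem F51 : act 8 n6 = n6 := d20_2 F36 F46 (iv F46)
theorem F52 : act 8 n7 = n7 := d14_2 F51 D7 (iv D7)
theorem F53 : act 8 n8 = n8 := d7_2 F52 D8 (iv D8)
theorem F54 : act 7 n7 = n7 := d13_2 F50 D7 (iv D7)
theorem E5 : n9 = n8 := (c6_3 F54 D8 D9 (iv D8))
theorem F55 : act 4 n8 = n10 := (sb E5 D10)
theorem F58 : act 8 n10 = n10 := d29_2 F53 F55 (iv F55)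
theorem F59 : act 8 n11 = n11 := d25_2 F58 D11 (iv D11)
theorem F60 : act 8 n12 = n12 := d20_2 F59 D12 (iv D12)
theorem F62 : act 4 n23 = n23 := d3_2 F49 F48 (iv F48)
theorem F63 : act 4 n7 = n7 := d10_2 F49 D7 (iv D7)
theorem E6 : n10 = n8 := (c3_3 F63 D8 F55 (iv D8))
theorem F64 : act 3 n8 = n11 := (sb E6 D11)
theorem F66 : act 3 n21 = n21 := d21_3 F62 (iv D23) (iv D22) D22 D23
theorem E7 : n8 = n7 := (c0_6 (iv D7) F48 F10 (iv F48) D7 D8)
theorem F67 : act 0 n7 = n7 := (sb E7 (iv D8))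
theorem F68 : act 3 n7 = n11 := (sb E7 F64)
theorem F69 : act 0 n11 = n11 := d2_1 F68 (iv F68) F67
theorem F70 : act 0 n12 = n12 := d1_3 (iv D12) F69 D12
theorem E8 : n13 = n12 := (c0_1 D13 F70 D13 F18 (iv D13) F70)
theorem F71 : act 1 n12 = n12 := (sb E8 (iv D13))
theorem F72 : act 7 n12 = n15 := (sb E8 F19)
theorem F73 : act 1 n15 = n15 := d13_1 F72 (iv F72) F71
theorem F74 : act 1 n16 = n16 := d10_3 (iv D16) F73 D16
theorem F75 : act 1 n17 = n17 := d9_3 (iv D17) F74 D17
theorem F76 : act 2 n19 = n19 := d8_4 (iv D18) F75 D18 D19 (iv D19)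
theorem F77 : act 2 n20 = n20 := d1_2 F76 D20 (iv D20)
theorem F78 : act 2 n21 = n21 := d19_3 (iv D21) F77 D21
theorem F79 : act 2 n22 = n22 := d16_3 (iv D22) F78 D22
theorem F80 : act 6 n2 = n2 := d5_2 F33 D2 (iv D2)
theorem F81 : act 6 n23 = n23 := d18_2 F33 (iv F9) F9
theorem F82 : act 6 n6 = n6 := d5_2 F81 (iv F48) F48
theorem F83 : act 6 n22 = n22 := d23_2 F81 (iv D23) D23
theorem F84 : act 6 n21 = n21 := d27_2 F83 (iv D22) D22
theorem F85 : act 6 n20 = n20 := d33_3 D21 F84 (iv D21)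
theorem F86 : act 6 n19 = n19 := d5_2 F85 (iv D20) D20
theorem F87 : act 6 n18 = n18 := d12_2 F86 (iv D19) D19
theorem F88 : act 6 n17 = n17 := d18_2 F87 (iv D18) D18
theorem F89 : act 6 n16 = n16 := d23_2 F88 (iv D17) D17
theorem F90 : act 6 n15 = n15 := d27_2 F89 (iv D16) D16
theorem F91 : act 6 n12 = n12 := d33_3 F72 F90 (iv F72)
theorem F92 : act 6 n11 = n11 := d18_2 F91 (iv D12) D12
theorem F93 : act 6 n7 = n7 := d23_2 F92 (iv F68) F68
theorem F94 : act 5 n2 = n2 := d4_2 F32 D2 (iv D2)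
theorem F95 : act 5 n23 = n23 := d17_2 F32 (iv F9) F9
theorem F96 : act 5 n6 = n6 := d4_2 F95 (iv F48) F48
theorem F97 : act 5 n22 = n22 := d22_2 F95 (iv D23) D23
theorem F98 : act 5 n7 = n7 := d11_2 F96 D7 (iv D7)
theorem F99 : act 5 n11 = n11 := d22_2 F98 F68 (iv F68)
theorem F100 : act 5 n12 = n12 := d17_2 F99 D12 (iv D12)
theorem F101 : act 5 n15 = n15 := d31_3 (iv F72) F100 F72
def n24 : Q := act 3 n6
theorem D24 : act 3 n6 = n24 := rfl
theorem F102 : act 0 n24 = n22 := d2_1 D24 D23 (iv F48)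
theorem F103 : act 1 n24 = n11 := d9_1 D24 (iv F68) (iv D7)
theorem F104 : act 2 n24 = n24 := d15_1 D24 (iv D24) (iv F46) F47 F46
theorem F105 : act 5 n24 = n24 := d22_2 F96 D24 (iv D24)
theorem F106 : act 6 n24 = n24 := d23_2 F82 D24 (iv D24)
theorem F107 : act 8 n24 = n24 := d25_2 F51 D24 (iv D24)
def n25 : Q := act 4 n11
theorem D25 : act 4 n11 = n25 := rfl
theorem F108 : act 0 n25 = n25 := d3_1 D25 (iv D25) F69
theorem F109 : act 3 n25 = n25 := d21_1 D25 (iv D25) (iv F68) F63 F68
theorem F110 : act 6 n25 = n25 := d27_2 F92 D25 (iv D25)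
theorem F111 : act 8 n25 = n25 := d29_2 F59 D25 (iv D25)
def n26 : Q := act 7 n11
theorem D26 : act 7 n11 = n26 := rfl
theorem F112 : act 0 n26 = n26 := d6_1 D26 (iv D26) F69
theorem F113 : act 2 n26 = n15 := d19_1 D26 (iv F72) (iv D12)
theorem F114 : act 3 n26 = n26 := d24_1 D26 (iv D26) (iv F68) F54 F68
theorem F115 : act 5 n26 = n26 := d31_1 D26 (iv D26) F99
theorem F116 : act 6 n26 = n26 := d33_1 D26 (iv D26) F92
def n27 : Q := act 4 n12
theorem D27 : act 4 n12 = n27 := rfl
theorem F117 : act 0 n27 = n27 := d3_1 D27 (iv D27) F70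
theorem F118 : act 1 n27 = n27 := d10_1 D27 (iv D27) F71
theorem F119 : act 2 n27 = n25 := d16_1 D27 (iv D25) D12
theorem F120 : act 6 n27 = n27 := d27_2 F91 D27 (iv D27)
theorem F121 : act 7 n27 = n16 := d28_2 (iv F72) D27 (iv D16)
theorem F122 : act 8 n27 = n27 := d29_2 F60 D27 (iv D27)
def n28 : Q := act 3 n15
theorem D28 : act 3 n15 = n28 := rfl
theorem F123 : act 0 n28 = n28 := d2_1 D28 (iv D28) F17
theorem F124 : act 1 n28 = n28 := d9_1 D28 (iv D28) F73
theorem F125 : act 2 n28 = n28 := d15_1 D28 (iv D28) (iv F113) F114 F113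
theorem F126 : act 5 n28 = n28 := d22_2 F101 D28 (iv D28)
theorem F127 : act 6 n28 = n28 := d23_2 F90 D28 (iv D28)
theorem F128 : act 7 n28 = n28 := d24_2 F72 D28 (iv D28) (iv F72) F28
def n29 : Q := act 8 n15
theorem D29 : act 8 n15 = n29 := rfl
theorem F129 : act 0 n29 = n29 := d7_1 D29 (iv D29) F17
theorem F130 : act 1 n29 = n29 := d14_1 D29 (iv D29) F73
theorem F131 : act 5 n29 = n29 := d32_1 D29 (iv D29) F101
theorem F132 : act 6 n29 = n29 := d34_1 D29 (iv D29) F90
theorem F133 : act 7 n29 = n29 := d35_1 D29 (iv D29) (iv F72) F60 F72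
def n30 : Q := act 2 n16
theorem D30 : act 2 n16 = n30 := rfl
theorem F135 : act 4 n30 = n26 := d16_2 D16 D30 F113
theorem F137 : act 7 n30 = n25 := d19_2 F121 D30 (iv F119)
def n31 : Q := act 5 n16
theorem D31 : act 5 n16 = n31 := rfl
theorem F138 : act 0 n31 = n31 := d4_1 D31 (iv D31) F16
theorem F139 : act 1 n31 = n31 := d11_1 D31 (iv D31) F74
theorem F140 : act 4 n31 = n31 := d26_1 D31 (iv D31) (iv D16) F101 D16
def n32 : Q := act 8 n16
theorem D32 : act 8 n16 = n32 := rfl
theorem F141 : act 0 n32 = n32 := d7_1 D32 (iv D32) F16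
theorem F142 : act 1 n32 = n32 := d14_1 D32 (iv D32) F74
theorem F143 : act 4 n32 = n29 := d29_1 D32 (iv D29) D16
theorem F144 : act 6 n32 = n32 := d34_1 D32 (iv D32) F89
theorem F145 : act 7 n32 = n32 := d35_1 D32 (iv D32) (iv F121) F122 F121
def n34 : Q := act 5 n17
theorem D34 : act 5 n17 = n34 := rfl
theorem F151 : act 3 n34 = n31 := d22_1 D34 (iv D31) D17
def n36 : Q := act 8 n17
theorem D36 : act 8 n17 = n36 := rfl
theorem F157 : act 3 n36 = n32 := d25_1 D36 (iv D32) D17
def n37 : Q := act 3 n18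
theorem D37 : act 3 n18 = n37 := rfl
theorem F159 : act 0 n37 = n37 := d2_1 D37 (iv D37) F14
theorem F160 : act 6 n37 = n37 := d23_2 F87 D37 (iv D37)
def n38 : Q := act 4 n18
theorem D38 : act 4 n18 = n38 := rfl
def n39 : Q := act 5 n18
theorem D39 : act 5 n18 = n39 := rfl
theorem F164 : act 0 n39 = n39 := d4_1 D39 (iv D39) F14
theorem F165 : act 2 n39 = n34 := d17_1 D39 (iv D34) D18
def n40 : Q := act 7 n18
theorem D40 : act 7 n18 = n40 := rfl
def n41 : Q := act 8 n18
theorem D41 : act 8 n18 = n41 := rfl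
theorem F169 : act 0 n41 = n41 := d7_1 D41 (iv D41) F14
theorem F170 : act 2 n41 = n36 := d20_1 D41 (iv D36) D18
theorem F171 : act 6 n41 = n41 := d34_1 D41 (iv D41) F87
def n42 : Q := act 3 n19
theorem D42 : act 3 n19 = n42 := rfl
theorem F172 : act 1 n42 = n37 := d9_1 D42 (iv D37) D19
theorem F173 : act 6 n42 = n42 := d23_2 F86 D42 (iv D42)
def n43 : Q := act 4 n19
theorem D43 : act 4 n19 = n43 := rfl
theorem F174 : act 1 n43 = n38 := d10_1 D43 (iv D38) D19
theorem F175 : act 2 n43 = n43 := d16_1 D43 (iv D43) F76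
theorem F176 : act 6 n43 = n43 := d27_2 F86 D43 (iv D43)
def n44 : Q := act 5 n19
theorem D44 : act 5 n19 = n44 := rfl
theorem F177 : act 1 n44 = n39 := d11_1 D44 (iv D39) D19
theorem F178 : act 2 n44 = n44 := d17_1 D44 (iv D44) F76
def n45 : Q := act 7 n19
theorem D45 : act 7 n19 = n45 := rfl
theorem F179 : act 0 n45 = n21 := d6_1 D45 (iv D21) (iv D20)
theorem F180 : act 1 n45 = n40 := d13_1 D45 (iv D40) D19
theorem F181 : act 2 n45 = n45 := d19_1 D45 (iv D45) F76
theorem F182 : act 6 n45 = n45 := d33_1 D45 (iv D45) F86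
theorem F183 : act 3 n45 = n45 := d2_0 F179 F66 (iv F179)
theorem F184 : act 4 n24 = n45 := d3_0 F179 D22 (iv F102)
theorem F185 : act 8 n45 = n45 := d7_0 F179 F39 (iv F179)
theorem F186 : act 8 n40 = n40 := d14_2 F185 F180 (iv F180)
theorem F188 : act 7 n41 = n41 := d35_3 F186 (iv D40) D41 (iv D41) D40
theorem F189 : act 7 n36 = n36 := d19_2 F188 F170 (iv F170)
theorem E9 : n36 = n32 := ((c24_6 F189 F157 F145 (iv F157) F189 F157)).symm
theorem F190 : act 2 n32 = n41 := (sb E9 (iv F170))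
theorem F191 : act 3 n32 = n32 := (sb E9 F157)
theorem E10 : n17 = n16 := ((((iv D32)).symm.trans (sb E9 (iv D36)))).symm
theorem E11 : n30 = n18 := ((D30).symm.trans (sb E10 D18))
theorem F192 : act 3 n16 = n16 := (sb E10 (iv D17))
theorem E13 : n34 = n31 := (((D31).symm.trans (sb E10 D34))).symm
theorem F193 : act 2 n18 = n16 := (sb E11 (iv D30))
theorem E15 : n38 = n26 := ((D38).symm.trans (sb E11 F135))
theorem E16 : n40 = n25 := ((D40).symm.trans (sb E11 F137))
theorem F194 : act 2 n31 = n39 := (sb E13 (iv F165))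
theorem F195 : act 3 n31 = n31 := (sb E13 F151)
theorem F196 : act 1 n26 = n43 := (sb E15 (iv F174))
theorem F197 : act 4 n26 = n18 := (sb E15 (iv D38))
theorem F198 : act 1 n25 = n45 := (sb E16 (iv F180))
theorem F199 : act 7 n25 = n18 := (sb E16 (iv D40))
theorem F200 : act 7 n37 = n37 := d24_2 F199 D37 (iv D37) (iv F199) F109
theorem F201 : act 7 n42 = n42 := d13_2 F200 (iv F172) F172
theorem F202 : act 4 n37 = n37 := d21_2 F197 D37 (iv D37) (iv F197) F114
theorem F203 : act 4 n39 = n39 := d26_3 F115 F197 D39 (iv D39) (iv F197)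
theorem F204 : act 4 n44 = n44 := d10_2 F203 (iv F177) F177
theorem F205 : act 5 n43 = n43 := d26_4 D44 F204 (iv D44) D43 (iv D43)
theorem F206 : act 4 n42 = n42 := d10_2 F202 (iv F172) F172
theorem F207 : act 3 n43 = n43 := d21_3 F206 (iv D42) D43 (iv D43) D42
theorem F208 : act 7 n43 = n24 := d13_2 D26 F196 F103
theorem F209 : act 2 n37 = n37 := d15_5 (iv D37) F193 F192 (iv F193) D37
theorem F210 : act 4 n28 = n28 := d21_4 D16 F192 (iv D16) D28 (iv D28)
def n46 : Q := act 8 n19
theorem D46 : act 8 n19 = n46 := rfl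
theorem F211 : act 1 n46 = n41 := d14_1 D46 (iv D41) D19
theorem F212 : act 2 n46 = n46 := d20_1 D46 (iv D46) F76
theorem F213 : act 6 n46 = n46 := d34_1 D46 (iv D46) F86
theorem F214 : act 7 n46 = n46 := d35_1 D46 (iv D46) D45 F185 (iv D45)
def n47 : Q := act 3 n20
theorem D47 : act 3 n20 = n47 := rfl
theorem F215 : act 0 n47 = n42 := d2_1 D47 (iv D42) D20
theorem F216 : act 1 n47 = n47 := d9_1 D47 (iv D47) F13
theorem F217 : act 6 n47 = n47 := d23_2 F85 D47 (iv D47)
theorem F218 : act 7 n47 = n47 := d24_2 (iv D21) D47 (iv D47) D21 F66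
theorem F219 : act 4 n47 = n47 := d3_0 F215 F206 (iv F215)
def n48 : Q := act 4 n20
theorem D48 : act 4 n20 = n48 := rfl
theorem F220 : act 0 n48 = n43 := d3_1 D48 (iv D43) D20
theorem F221 : act 1 n48 = n48 := d10_1 D48 (iv D48) F13
theorem F222 : act 2 n48 = n48 := d16_1 D48 (iv D48) F77
theorem F223 : act 3 n48 = n48 := d21_1 D48 (iv D48) D47 F219 (iv D47)
theorem F224 : act 6 n48 = n48 := d27_2 F85 D48 (iv D48)
theorem F225 : act 7 n48 = n22 := d28_2 (iv D21) D48 (iv D22)
theorem F226 : act 5 n48 = n48 := d31_3 F225 F97 (iv F225)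
def n49 : Q := act 5 n20
theorem D49 : act 5 n20 = n49 := rfl
theorem F227 : act 0 n49 = n44 := d4_1 D49 (iv D44) D20
theorem F228 : act 1 n49 = n49 := d11_1 D49 (iv D49) F13
theorem F229 : act 2 n49 = n49 := d17_1 D49 (iv D49) F77
theorem F230 : act 4 n49 = n49 := d26_1 D49 (iv D49) D48 F226 (iv D48)
def n50 : Q := act 8 n20
theorem D50 : act 8 n20 = n50 := rfl
theorem F231 : act 0 n50 = n46 := d7_1 D50 (iv D46) D20
theorem F232 : act 1 n50 = n50 := d14_1 D50 (iv D50) F13
theorem F233 : act 2 n50 = n50 := d20_1 D50 (iv D50) F77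
theorem F234 : act 6 n50 = n50 := d34_1 D50 (iv D50) F85
theorem F235 : act 7 n50 = n50 := d35_1 D50 (iv D50) D21 F39 (iv D21)
def n51 : Q := act 5 n21
theorem D51 : act 5 n21 = n51 := rfl
theorem F236 : act 1 n51 = n51 := d11_1 D51 (iv D51) F12
theorem F237 : act 2 n51 = n51 := d17_1 D51 (iv D51) F78
theorem F238 : act 3 n51 = n51 := d22_1 D51 (iv D51) F66
theorem F239 : act 4 n51 = n51 := d26_1 D51 (iv D51) D22 F97 (iv D22)
theorem F240 : act 7 n51 = n49 := d31_2 D21 D51 (iv D49)
theorem F241 : act 8 n51 = n51 := d32_2 F39 D51 (iv D51)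
def n52 : Q := act 5 n25
theorem D52 : act 5 n25 = n52 := rfl
theorem F242 : act 0 n52 = n52 := d4_1 D52 (iv D52) F108
theorem F243 : act 3 n52 = n52 := d22_1 D52 (iv D52) F109
theorem F244 : act 4 n52 = n52 := d26_1 D52 (iv D52) (iv D25) F99 D25
theorem F245 : act 7 n52 = n39 := d31_2 (iv F199) D52 (iv D39)
theorem F246 : act 8 n52 = n52 := d32_2 F111 D52 (iv D52)
def n53 : Q := act 8 n26
theorem D53 : act 8 n26 = n53 := rfl
theorem F247 : act 0 n53 = n53 := d7_1 D53 (iv D53) F112
theorem F248 : act 2 n53 = n29 := d20_1 D53 (iv D29) (iv F113)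
theorem F249 : act 3 n53 = n53 := d25_1 D53 (iv D53) F114
theorem F250 : act 4 n53 = n41 := d29_1 D53 (iv D41) (iv F197)
theorem F251 : act 5 n53 = n53 := d32_1 D53 (iv D53) F115
theorem F252 : act 6 n53 = n53 := d34_1 D53 (iv D53) F116
theorem F253 : act 7 n53 = n53 := d35_1 D53 (iv D53) (iv D26) F59 D26
def n54 : Q := act 3 n27
theorem D54 : act 3 n27 = n54 := rfl
theorem F254 : act 0 n54 = n54 := d2_1 D54 (iv D54) F117
theorem F255 : act 1 n54 = n54 := d9_1 D54 (iv D54) F118
theorem F256 : act 2 n54 = n54 := d15_1 D54 (iv D54) F119 F109 (iv F119)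
theorem F257 : act 4 n54 = n54 := d21_2 D27 D54 (iv D54) (iv D27) F28
theorem F258 : act 6 n54 = n54 := d23_2 F120 D54 (iv D54)
theorem F259 : act 7 n54 = n54 := d24_2 (iv F121) D54 (iv D54) F121 F192
theorem F260 : act 8 n54 = n54 := d25_2 F122 D54 (iv D54)
def n55 : Q := act 5 n27
theorem D55 : act 5 n27 = n55 := rfl
theorem F261 : act 0 n55 = n55 := d4_1 D55 (iv D55) F117
theorem F262 : act 1 n55 = n55 := d11_1 D55 (iv D55) F118
theorem F263 : act 2 n55 = n52 := d17_1 D55 (iv D52) (iv F119)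
theorem F264 : act 4 n55 = n55 := d26_1 D55 (iv D55) (iv D27) F100 D27
theorem F265 : act 7 n55 = n31 := d31_2 (iv F121) D55 (iv D31)
theorem F266 : act 8 n55 = n55 := d32_2 F122 D55 (iv D55)
def n56 : Q := act 8 n28
theorem D56 : act 8 n28 = n56 := rfl
theorem F267 : act 0 n56 = n56 := d7_1 D56 (iv D56) F123
theorem F268 : act 1 n56 = n56 := d14_1 D56 (iv D56) F124
theorem F269 : act 2 n56 = n56 := d20_1 D56 (iv D56) F125
theorem F270 : act 3 n56 = n29 := d25_1 D56 (iv D29) D28
theorem F271 : act 4 n56 = n56 := d29_1 D56 (iv D56) F210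
theorem F272 : act 5 n56 = n56 := d32_1 D56 (iv D56) F126
theorem F273 : act 6 n56 = n56 := d34_1 D56 (iv D56) F127
def n57 : Q := act 6 n31
theorem D57 : act 6 n31 = n57 := rfl
theorem F274 : act 0 n57 = n57 := d5_1 D57 (iv D57) F138
theorem F275 : act 1 n57 = n57 := d12_1 D57 (iv D57) F139
theorem F276 : act 3 n57 = n57 := d23_1 D57 (iv D57) F195
theorem F277 : act 4 n57 = n57 := d27_1 D57 (iv D57) F140
theorem F278 : act 5 n57 = n57 := d30_1 D57 (iv D57) (iv D31) F89 D31
def n58 : Q := act 8 n31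
theorem D58 : act 8 n31 = n58 := rfl
theorem F279 : act 0 n58 = n58 := d7_1 D58 (iv D58) F138
theorem F280 : act 1 n58 = n58 := d14_1 D58 (iv D58) F139
theorem F281 : act 3 n58 = n58 := d25_1 D58 (iv D58) F195
theorem F282 : act 4 n58 = n58 := d29_1 D58 (iv D58) F140
theorem F283 : act 5 n58 = n32 := d32_1 D58 (iv D32) D31
theorem F284 : act 7 n58 = n58 := d35_1 D58 (iv D58) (iv F265) F266 F265
def n59 : Q := act 5 n37
theorem D59 : act 5 n37 = n59 := rfl
theorem F285 : act 0 n59 = n59 := d4_1 D59 (iv D59) F159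
theorem F286 : act 2 n59 = n59 := d17_1 D59 (iv D59) F209
theorem F287 : act 3 n59 = n39 := d22_1 D59 (iv D39) D37
theorem F288 : act 7 n59 = n59 := d31_2 F200 D59 (iv D59)
def n60 : Q := act 8 n37
theorem D60 : act 8 n37 = n60 := rfl
theorem F289 : act 0 n60 = n60 := d7_1 D60 (iv D60) F159
theorem F290 : act 2 n60 = n60 := d20_1 D60 (iv D60) F209
theorem F291 : act 3 n60 = n41 := d25_1 D60 (iv D41) D37
theorem F292 : act 4 n60 = n60 := d29_1 D60 (iv D60) F202
theorem F293 : act 6 n60 = n60 := d34_1 D60 (iv D60) F160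
def n61 : Q := act 6 n39
theorem D61 : act 6 n39 = n61 := rfl
theorem F294 : act 0 n61 = n61 := d5_1 D61 (iv D61) F164
theorem F295 : act 2 n61 = n57 := d18_1 D61 (iv D57) F194
theorem F296 : act 4 n61 = n61 := d27_1 D61 (iv D61) F203
theorem F297 : act 5 n61 = n61 := d30_1 D61 (iv D61) (iv D39) F87 D39
def n62 : Q := act 8 n39
theorem D62 : act 8 n39 = n62 := rfl
theorem F298 : act 0 n62 = n62 := d7_1 D62 (iv D62) F164
theorem F299 : act 2 n62 = n58 := d20_1 D62 (iv D58) F194
theorem F300 : act 4 n62 = n62 := d29_1 D62 (iv D62) F203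
theorem F301 : act 5 n62 = n41 := d32_1 D62 (iv D41) D39
theorem F302 : act 7 n62 = n62 := d35_1 D62 (iv D62) (iv F245) F246 F245
def n63 : Q := act 2 n42
theorem D63 : act 2 n42 = n63 := rfl
theorem F303 : act 1 n63 = n63 := d8_1 D63 (iv D63) F172 F209 (iv F172)
theorem F304 : act 3 n63 = n63 := d15_2 D42 D63 (iv D63) (iv D42) F76
theorem F305 : act 4 n63 = n63 := d16_2 F206 D63 (iv D63)
theorem F306 : act 6 n63 = n63 := d18_2 F173 D63 (iv D63)
theorem F307 : act 7 n63 = n63 := d19_2 F201 D63 (iv D63)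
def n64 : Q := act 5 n42
theorem D64 : act 5 n42 = n64 := rfl
theorem F308 : act 1 n64 = n59 := d11_1 D64 (iv D59) (iv F172)
theorem F309 : act 3 n64 = n44 := d22_1 D64 (iv D44) D42
theorem F310 : act 7 n64 = n64 := d31_2 F201 D64 (iv D64)
def n65 : Q := act 8 n42
theorem D65 : act 8 n42 = n65 := rfl
theorem F311 : act 1 n65 = n60 := d14_1 D65 (iv D60) (iv F172)
theorem F312 : act 3 n65 = n46 := d25_1 D65 (iv D46) D42
theorem F313 : act 4 n65 = n65 := d29_1 D65 (iv D65) F206
theorem F314 : act 6 n65 = n65 := d34_1 D65 (iv D65) F173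
def n66 : Q := act 8 n43
theorem D66 : act 8 n43 = n66 := rfl
theorem F315 : act 1 n66 = n53 := d14_1 D66 (iv D53) F196
theorem F316 : act 2 n66 = n66 := d20_1 D66 (iv D66) F175
theorem F317 : act 3 n66 = n66 := d25_1 D66 (iv D66) F207
theorem F318 : act 4 n66 = n46 := d29_1 D66 (iv D46) D43
theorem F319 : act 5 n66 = n66 := d32_1 D66 (iv D66) F205
theorem F320 : act 6 n66 = n66 := d34_1 D66 (iv D66) F176
theorem F321 : act 7 n66 = n66 := d35_1 D66 (iv D66) F208 F107 (iv F208)
def n67 : Q := act 6 n44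
theorem D67 : act 6 n44 = n67 := rfl
theorem F322 : act 1 n67 = n61 := d12_1 D67 (iv D61) (iv F177)
theorem F323 : act 2 n67 = n67 := d18_1 D67 (iv D67) F178
theorem F324 : act 4 n67 = n67 := d27_1 D67 (iv D67) F204
theorem F325 : act 5 n67 = n67 := d30_1 D67 (iv D67) (iv D44) F86 D44
def n68 : Q := act 7 n44
theorem D68 : act 7 n44 = n68 := rfl
theorem F326 : act 0 n68 = n51 := d6_1 D68 F240 F227
theorem F327 : act 1 n68 = n52 := d13_1 D68 F245 (iv F177)
theorem F328 : act 2 n68 = n68 := d19_1 D68 (iv D68) F178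
theorem F329 : act 3 n68 = n68 := d24_1 D68 (iv D68) (iv F309) F310 F309
theorem F330 : act 4 n68 = n68 := d28_1 D68 (iv D68) F204
theorem F331 : act 5 n68 = n45 := d31_1 D68 (iv D45) D44
theorem F332 : act 8 n68 = n68 := d32_0 F331 F185 (iv F331)
def n69 : Q := act 8 n44
theorem D69 : act 8 n44 = n69 := rfl
theorem F333 : act 1 n69 = n62 := d14_1 D69 (iv D62) (iv F177)
theorem F334 : act 2 n69 = n69 := d20_1 D69 (iv D69) F178
theorem F335 : act 4 n69 = n69 := d29_1 D69 (iv D69) F204
theorem F336 : act 5 n69 = n46 := d32_1 D69 (iv D46) D44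
theorem F337 : act 7 n69 = n69 := d35_1 D69 (iv D69) D68 F332 (iv D68)
def n70 : Q := act 2 n47
theorem D70 : act 2 n47 = n70 := rfl
theorem F338 : act 0 n70 = n63 := d1_1 D70 (iv D63) (iv F215)
theorem F339 : act 3 n70 = n70 := d15_2 D47 D70 (iv D70) (iv D47) F77
theorem F340 : act 4 n70 = n70 := d16_2 F219 D70 (iv D70)
theorem F341 : act 6 n70 = n70 := d18_2 F217 D70 (iv D70)
theorem F342 : act 7 n70 = n70 := d19_2 F218 D70 (iv D70)
def n71 : Q := act 5 n47
theorem D71 : act 5 n47 = n71 := rfl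
theorem F343 : act 0 n71 = n64 := d4_1 D71 (iv D64) (iv F215)
theorem F344 : act 1 n71 = n71 := d11_1 D71 (iv D71) F216
theorem F345 : act 3 n71 = n49 := d22_1 D71 (iv D49) D47
theorem F346 : act 7 n71 = n71 := d31_2 F218 D71 (iv D71)
def n72 : Q := act 8 n47
theorem D72 : act 8 n47 = n72 := rfl
theorem F347 : act 0 n72 = n65 := d7_1 D72 (iv D65) (iv F215)
theorem F348 : act 1 n72 = n72 := d14_1 D72 (iv D72) F216
theorem F349 : act 3 n72 = n50 := d25_1 D72 (iv D50) D47
theorem F350 : act 4 n72 = n72 := d29_1 D72 (iv D72) F219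
theorem F351 : act 6 n72 = n72 := d34_1 D72 (iv D72) F217
def n73 : Q := act 8 n48
theorem D73 : act 8 n48 = n73 := rfl
theorem F352 : act 0 n73 = n66 := d7_1 D73 (iv D66) (iv F220)
theorem F353 : act 1 n73 = n73 := d14_1 D73 (iv D73) F221
theorem F354 : act 2 n73 = n73 := d20_1 D73 (iv D73) F222
theorem F355 : act 3 n73 = n73 := d25_1 D73 (iv D73) F223
theorem F356 : act 4 n73 = n50 := d29_1 D73 (iv D50) D48
theorem F357 : act 5 n73 = n73 := d32_1 D73 (iv D73) F226
theorem F358 : act 6 n73 = n73 := d34_1 D73 (iv D73) F224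
theorem F359 : act 7 n73 = n73 := d35_1 D73 (iv D73) F225 F38 (iv F225)
def n74 : Q := act 6 n49
theorem D74 : act 6 n49 = n74 := rfl
theorem F360 : act 0 n74 = n67 := d5_1 D74 (iv D67) (iv F227)
theorem F361 : act 1 n74 = n74 := d12_1 D74 (iv D74) F228
theorem F362 : act 2 n74 = n74 := d18_1 D74 (iv D74) F229
theorem F363 : act 4 n74 = n74 := d27_1 D74 (iv D74) F230
theorem F364 : act 5 n74 = n74 := d30_1 D74 (iv D74) (iv D49) F85 D49
def n75 : Q := act 8 n49
theorem D75 : act 8 n49 = n75 := rfl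
theorem F365 : act 0 n75 = n69 := d7_1 D75 (iv D69) (iv F227)
theorem F366 : act 1 n75 = n75 := d14_1 D75 (iv D75) F228
theorem F367 : act 2 n75 = n75 := d20_1 D75 (iv D75) F229
theorem F368 : act 4 n75 = n75 := d29_1 D75 (iv D75) F230
theorem F369 : act 5 n75 = n50 := d32_1 D75 (iv D50) D49
theorem F370 : act 7 n75 = n75 := d35_1 D75 (iv D75) (iv F240) F241 F240
def n76 : Q := act 6 n51
theorem D76 : act 6 n51 = n76 := rfl
theorem F371 : act 1 n76 = n76 := d12_1 D76 (iv D76) F236
theorem F372 : act 2 n76 = n76 := d18_1 D76 (iv D76) F237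
theorem F373 : act 3 n76 = n76 := d23_1 D76 (iv D76) F238
theorem F374 : act 4 n76 = n76 := d27_1 D76 (iv D76) F239
theorem F375 : act 5 n76 = n76 := d30_1 D76 (iv D76) (iv D51) F84 D51
theorem F376 : act 7 n76 = n74 := d33_2 (iv F240) D76 (iv D74)
theorem F377 : act 8 n76 = n76 := d34_2 F241 D76 (iv D76)
def n77 : Q := act 6 n52
theorem D77 : act 6 n52 = n77 := rfl
theorem F378 : act 0 n77 = n77 := d5_1 D77 (iv D77) F242
theorem F379 : act 3 n77 = n77 := d23_1 D77 (iv D77) F243
theorem F380 : act 4 n77 = n77 := d27_1 D77 (iv D77) F244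
theorem F381 : act 5 n77 = n77 := d30_1 D77 (iv D77) (iv D52) F110 D52
theorem F382 : act 7 n77 = n61 := d33_2 (iv F245) D77 (iv D61)
theorem F383 : act 8 n77 = n77 := d34_2 F246 D77 (iv D77)
def n78 : Q := act 5 n54
theorem D78 : act 5 n54 = n78 := rfl
theorem F384 : act 0 n78 = n78 := d4_1 D78 (iv D78) F254
theorem F385 : act 1 n78 = n78 := d11_1 D78 (iv D78) F255
theorem F386 : act 2 n78 = n78 := d17_1 D78 (iv D78) F256
theorem F387 : act 3 n78 = n55 := d22_1 D78 (iv D55) D54
theorem F388 : act 7 n78 = n78 := d31_2 F259 D78 (iv D78)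
theorem F389 : act 8 n78 = n78 := d32_2 F260 D78 (iv D78)
def n79 : Q := act 6 n55
theorem D79 : act 6 n55 = n79 := rfl
theorem F390 : act 0 n79 = n79 := d5_1 D79 (iv D79) F261
theorem F391 : act 1 n79 = n79 := d12_1 D79 (iv D79) F262
theorem F392 : act 2 n79 = n77 := d18_1 D79 (iv D77) (iv F263)
theorem F393 : act 4 n79 = n79 := d27_1 D79 (iv D79) F264
theorem F394 : act 5 n79 = n79 := d30_1 D79 (iv D79) (iv D55) F120 D55
theorem F395 : act 7 n79 = n57 := d33_2 (iv F265) D79 (iv D57)
theorem F396 : act 8 n79 = n79 := d34_2 F266 D79 (iv D79)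
def n80 : Q := act 7 n56
theorem D80 : act 7 n56 = n80 := rfl
theorem F397 : act 0 n80 = n80 := d6_1 D80 (iv D80) F267
theorem F398 : act 1 n80 = n80 := d13_1 D80 (iv D80) F268
theorem F399 : act 2 n80 = n80 := d19_1 D80 (iv D80) F269
theorem F400 : act 3 n80 = n80 := d24_1 D80 (iv D80) F270 F133 (iv F270)
theorem F401 : act 4 n80 = n80 := d28_1 D80 (iv D80) F271
theorem F402 : act 5 n80 = n80 := d31_1 D80 (iv D80) F272
theorem F403 : act 6 n80 = n80 := d33_1 D80 (iv D80) F273
theorem F404 : act 8 n80 = n80 := d35_2 D56 D80 (iv D80) (iv D56) F128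
def n81 : Q := act 8 n57
theorem D81 : act 8 n57 = n81 := rfl
theorem F405 : act 0 n81 = n81 := d7_1 D81 (iv D81) F274
theorem F406 : act 1 n81 = n81 := d14_1 D81 (iv D81) F275
theorem F407 : act 3 n81 = n81 := d25_1 D81 (iv D81) F276
theorem F408 : act 4 n81 = n81 := d29_1 D81 (iv D81) F277
theorem F409 : act 5 n81 = n81 := d32_1 D81 (iv D81) F278
theorem F410 : act 6 n81 = n58 := d34_1 D81 (iv D58) D57
theorem F411 : act 7 n81 = n81 := d35_1 D81 (iv D81) (iv F395) F396 F395
def n82 : Q := act 4 n59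
theorem D82 : act 4 n59 = n82 := rfl
theorem F412 : act 0 n82 = n82 := d3_1 D82 (iv D82) F285
theorem F413 : act 2 n82 = n82 := d16_1 D82 (iv D82) F286
theorem F414 : act 3 n82 = n82 := d21_1 D82 (iv D82) F287 F203 (iv F287)
theorem F415 : act 5 n82 = n82 := d26_2 D59 D82 (iv D82) (iv D59) F202
theorem F416 : act 7 n82 = n82 := d28_2 F288 D82 (iv D82)
def n83 : Q := act 6 n59
theorem D83 : act 6 n59 = n83 := rfl
theorem F417 : act 0 n83 = n83 := d5_1 D83 (iv D83) F285
theorem F418 : act 2 n83 = n83 := d18_1 D83 (iv D83) F286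
theorem F419 : act 3 n83 = n61 := d23_1 D83 (iv D61) (iv F287)
theorem F420 : act 5 n83 = n83 := d30_1 D83 (iv D83) (iv D59) F160 D59
theorem F421 : act 7 n83 = n83 := d33_2 F288 D83 (iv D83)
def n84 : Q := act 8 n59
theorem D84 : act 8 n59 = n84 := rfl
theorem F422 : act 0 n84 = n84 := d7_1 D84 (iv D84) F285
theorem F423 : act 2 n84 = n84 := d20_1 D84 (iv D84) F286
theorem F424 : act 3 n84 = n62 := d25_1 D84 (iv D62) (iv F287)
theorem F425 : act 5 n84 = n60 := d32_1 D84 (iv D60) D59
def n85 : Q := act 7 n60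
theorem D85 : act 7 n60 = n85 := rfl
theorem F426 : act 0 n85 = n85 := d6_1 D85 (iv D85) F289
theorem F427 : act 2 n85 = n85 := d19_1 D85 (iv D85) F290
theorem F428 : act 3 n85 = n85 := d24_1 D85 (iv D85) F291 F188 (iv F291)
theorem F429 : act 4 n85 = n85 := d28_1 D85 (iv D85) F292
theorem F430 : act 6 n85 = n85 := d33_1 D85 (iv D85) F293
theorem F431 : act 8 n85 = n85 := d35_2 D60 D85 (iv D85) (iv D60) F200
def n86 : Q := act 8 n61
theorem D86 : act 8 n61 = n86 := rfl
theorem F432 : act 0 n86 = n86 := d7_1 D86 (iv D86) F294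
theorem F433 : act 2 n86 = n81 := d20_1 D86 (iv D81) (iv F295)
theorem F434 : act 4 n86 = n86 := d29_1 D86 (iv D86) F296
theorem F435 : act 5 n86 = n86 := d32_1 D86 (iv D86) F297
theorem F436 : act 6 n86 = n62 := d34_1 D86 (iv D62) D61
theorem F437 : act 7 n86 = n86 := d35_1 D86 (iv D86) (iv F382) F383 F382
def n87 : Q := act 5 n63
theorem D87 : act 5 n63 = n87 := rfl
theorem F438 : act 1 n87 = n87 := d11_1 D87 (iv D87) F303
theorem F439 : act 2 n87 = n64 := d17_1 D87 (iv D64) D63
theorem F440 : act 3 n87 = n87 := d22_1 D87 (iv D87) F304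
theorem F441 : act 7 n87 = n87 := d31_2 F307 D87 (iv D87)
def n88 : Q := act 8 n63
theorem D88 : act 8 n63 = n88 := rfl
theorem F442 : act 1 n88 = n88 := d14_1 D88 (iv D88) F303
theorem F443 : act 2 n88 = n65 := d20_1 D88 (iv D65) D63
theorem F444 : act 3 n88 = n88 := d25_1 D88 (iv D88) F304
theorem F445 : act 4 n88 = n88 := d29_1 D88 (iv D88) F305
theorem F446 : act 6 n88 = n88 := d34_1 D88 (iv D88) F306
def n89 : Q := act 4 n64
theorem D89 : act 4 n64 = n89 := rfl
theorem F447 : act 1 n89 = n82 := d10_1 D89 (iv D82) (iv F308)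
theorem F448 : act 3 n89 = n89 := d21_1 D89 (iv D89) F309 F204 (iv F309)
theorem F449 : act 5 n89 = n89 := d26_2 D64 D89 (iv D89) (iv D64) F206
theorem F450 : act 7 n89 = n89 := d28_2 F310 D89 (iv D89)
def n90 : Q := act 6 n64
theorem D90 : act 6 n64 = n90 := rfl
theorem F451 : act 1 n90 = n83 := d12_1 D90 (iv D83) (iv F308)
theorem F452 : act 3 n90 = n67 := d23_1 D90 (iv D67) (iv F309)
theorem F453 : act 5 n90 = n90 := d30_1 D90 (iv D90) (iv D64) F173 D64
theorem F454 : act 7 n90 = n90 := d33_2 F310 D90 (iv D90)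
def n91 : Q := act 8 n64
theorem D91 : act 8 n64 = n91 := rfl
theorem F455 : act 1 n91 = n84 := d14_1 D91 (iv D84) (iv F308)
theorem F456 : act 3 n91 = n69 := d25_1 D91 (iv D69) (iv F309)
theorem F457 : act 5 n91 = n65 := d32_1 D91 (iv D65) D64
def n92 : Q := act 7 n65
theorem D92 : act 7 n65 = n92 := rfl
theorem F458 : act 1 n92 = n85 := d13_1 D92 (iv D85) (iv F311)
theorem F459 : act 3 n92 = n92 := d24_1 D92 (iv D92) F312 F214 (iv F312)
theorem F460 : act 4 n92 = n92 := d28_1 D92 (iv D92) F313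
theorem F461 : act 6 n92 = n92 := d33_1 D92 (iv D92) F314
theorem F462 : act 8 n92 = n92 := d35_2 D65 D92 (iv D92) (iv D65) F201
def n93 : Q := act 7 n67
theorem D93 : act 7 n67 = n93 := rfl
theorem F463 : act 0 n93 = n76 := d6_1 D93 F376 F360
theorem F464 : act 1 n93 = n77 := d13_1 D93 F382 (iv F322)
theorem F465 : act 2 n93 = n93 := d19_1 D93 (iv D93) F323
theorem F466 : act 3 n93 = n93 := d24_1 D93 (iv D93) (iv F452) F454 F452
theorem F467 : act 4 n93 = n93 := d28_1 D93 (iv D93) F324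
theorem F468 : act 5 n93 = n93 := d31_1 D93 (iv D93) F325
theorem F469 : act 6 n93 = n68 := d33_1 D93 (iv D68) D67
theorem F470 : act 8 n93 = n93 := d34_0 F469 F332 (iv F469)
def n94 : Q := act 8 n67
theorem D94 : act 8 n67 = n94 := rfl
theorem F471 : act 1 n94 = n86 := d14_1 D94 (iv D86) (iv F322)
theorem F472 : act 2 n94 = n94 := d20_1 D94 (iv D94) F323
theorem F473 : act 4 n94 = n94 := d29_1 D94 (iv D94) F324
theorem F474 : act 5 n94 = n94 := d32_1 D94 (iv D94) F325
theorem F475 : act 6 n94 = n69 := d34_1 D94 (iv D69) D67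
theorem F476 : act 7 n94 = n94 := d35_1 D94 (iv D94) D93 F470 (iv D93)
def n95 : Q := act 1 n70
theorem D95 : act 1 n70 = n95 := rfl
theorem F477 : act 0 n95 = n95 := d0_1 D95 (iv D95) F338 F303 (iv F338)
theorem F478 : act 2 n95 = n95 := d8_2 D70 D95 (iv D95) (iv D70) F216
theorem F479 : act 3 n95 = n95 := d9_2 F339 D95 (iv D95)
theorem F480 : act 4 n95 = n95 := d10_2 F340 D95 (iv D95)
theorem F481 : act 6 n95 = n95 := d12_2 F341 D95 (iv D95)
theorem F482 : act 7 n95 = n95 := d13_2 F342 D95 (iv D95)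
def n96 : Q := act 5 n70
theorem D96 : act 5 n70 = n96 := rfl
theorem F483 : act 0 n96 = n87 := d4_1 D96 (iv D87) (iv F338)
theorem F484 : act 2 n96 = n71 := d17_1 D96 (iv D71) D70
theorem F485 : act 3 n96 = n96 := d22_1 D96 (iv D96) F339
theorem F486 : act 7 n96 = n96 := d31_2 F342 D96 (iv D96)
def n97 : Q := act 8 n70
theorem D97 : act 8 n70 = n97 := rfl
theorem F487 : act 0 n97 = n88 := d7_1 D97 (iv D88) (iv F338)
theorem F488 : act 2 n97 = n72 := d20_1 D97 (iv D72) D70
theorem F489 : act 3 n97 = n97 := d25_1 D97 (iv D97) F339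
theorem F490 : act 4 n97 = n97 := d29_1 D97 (iv D97) F340
theorem F491 : act 6 n97 = n97 := d34_1 D97 (iv D97) F341
def n98 : Q := act 4 n71
theorem D98 : act 4 n71 = n98 := rfl
theorem F492 : act 0 n98 = n89 := d3_1 D98 (iv D89) (iv F343)
theorem F493 : act 1 n98 = n98 := d10_1 D98 (iv D98) F344
theorem F494 : act 3 n98 = n98 := d21_1 D98 (iv D98) F345 F230 (iv F345)
theorem F495 : act 5 n98 = n98 := d26_2 D71 D98 (iv D98) (iv D71) F219
theorem F496 : act 7 n98 = n98 := d28_2 F346 D98 (iv D98)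
def n99 : Q := act 6 n71
theorem D99 : act 6 n71 = n99 := rfl
theorem F497 : act 0 n99 = n90 := d5_1 D99 (iv D90) (iv F343)
theorem F498 : act 1 n99 = n99 := d12_1 D99 (iv D99) F344
theorem F499 : act 3 n99 = n74 := d23_1 D99 (iv D74) (iv F345)
theorem F500 : act 5 n99 = n99 := d30_1 D99 (iv D99) (iv D71) F217 D71
theorem F501 : act 7 n99 = n99 := d33_2 F346 D99 (iv D99)
def n100 : Q := act 8 n71
theorem D100 : act 8 n71 = n100 := rfl
theorem F502 : act 0 n100 = n91 := d7_1 D100 (iv D91) (iv F343)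
theorem F503 : act 1 n100 = n100 := d14_1 D100 (iv D100) F344
theorem F504 : act 3 n100 = n75 := d25_1 D100 (iv D75) (iv F345)
theorem F505 : act 5 n100 = n72 := d32_1 D100 (iv D72) D71
def n101 : Q := act 7 n72
theorem D101 : act 7 n72 = n101 := rfl
theorem F506 : act 0 n101 = n92 := d6_1 D101 (iv D92) (iv F347)
theorem F507 : act 1 n101 = n101 := d13_1 D101 (iv D101) F348
theorem F508 : act 3 n101 = n101 := d24_1 D101 (iv D101) F349 F235 (iv F349)
theorem F509 : act 4 n101 = n101 := d28_1 D101 (iv D101) F350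
theorem F510 : act 6 n101 = n101 := d33_1 D101 (iv D101) F351
theorem F511 : act 8 n101 = n101 := d35_2 D72 D101 (iv D101) (iv D72) F218
def n102 : Q := act 8 n74
theorem D102 : act 8 n74 = n102 := rfl
theorem F512 : act 0 n102 = n94 := d7_1 D102 (iv D94) (iv F360)
theorem F513 : act 1 n102 = n102 := d14_1 D102 (iv D102) F361
theorem F514 : act 2 n102 = n102 := d20_1 D102 (iv D102) F362
theorem F515 : act 4 n102 = n102 := d29_1 D102 (iv D102) F363
theorem F516 : act 5 n102 = n102 := d32_1 D102 (iv D102) F364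
theorem F517 : act 6 n102 = n75 := d34_1 D102 (iv D75) D74
theorem F518 : act 7 n102 = n102 := d35_1 D102 (iv D102) (iv F376) F377 F376
def n103 : Q := act 4 n78
theorem D103 : act 4 n78 = n103 := rfl
theorem F519 : act 0 n103 = n103 := d3_1 D103 (iv D103) F384
theorem F520 : act 1 n103 = n103 := d10_1 D103 (iv D103) F385
theorem F521 : act 2 n103 = n103 := d16_1 D103 (iv D103) F386
theorem F522 : act 3 n103 = n103 := d21_1 D103 (iv D103) F387 F264 (iv F387)
theorem F523 : act 5 n103 = n103 := d26_2 D78 D103 (iv D103) (iv D78) F257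
theorem F524 : act 7 n103 = n103 := d28_2 F388 D103 (iv D103)
theorem F525 : act 8 n103 = n103 := d29_2 F389 D103 (iv D103)
def n104 : Q := act 6 n78
theorem D104 : act 6 n78 = n104 := rfl
theorem F526 : act 0 n104 = n104 := d5_1 D104 (iv D104) F384
theorem F527 : act 1 n104 = n104 := d12_1 D104 (iv D104) F385
theorem F528 : act 2 n104 = n104 := d18_1 D104 (iv D104) F386
theorem F529 : act 3 n104 = n79 := d23_1 D104 (iv D79) (iv F387)
theorem F530 : act 5 n104 = n104 := d30_1 D104 (iv D104) (iv D78) F258 D78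
theorem F531 : act 7 n104 = n104 := d33_2 F388 D104 (iv D104)
theorem F532 : act 8 n104 = n104 := d34_2 F389 D104 (iv D104)
def n105 : Q := act 6 n82
theorem D105 : act 6 n82 = n105 := rfl
theorem F533 : act 0 n105 = n105 := d5_1 D105 (iv D105) F412
theorem F534 : act 2 n105 = n105 := d18_1 D105 (iv D105) F413
theorem F535 : act 3 n105 = n105 := d23_1 D105 (iv D105) F414
theorem F536 : act 4 n105 = n83 := d27_1 D105 (iv D83) D82
theorem F537 : act 7 n105 = n105 := d33_2 F416 D105 (iv D105)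
def n106 : Q := act 8 n82
theorem D106 : act 8 n82 = n106 := rfl
theorem F538 : act 0 n106 = n106 := d7_1 D106 (iv D106) F412
theorem F539 : act 2 n106 = n106 := d20_1 D106 (iv D106) F413
theorem F540 : act 3 n106 = n106 := d25_1 D106 (iv D106) F414
theorem F541 : act 4 n106 = n84 := d29_1 D106 (iv D84) D82
theorem F542 : act 5 n106 = n106 := d32_1 D106 (iv D106) F415
def n107 : Q := act 8 n83
theorem D107 : act 8 n83 = n107 := rfl
theorem F543 : act 0 n107 = n107 := d7_1 D107 (iv D107) F417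
theorem F544 : act 2 n107 = n107 := d20_1 D107 (iv D107) F418
theorem F545 : act 3 n107 = n86 := d25_1 D107 (iv D86) (iv F419)
theorem F546 : act 5 n107 = n107 := d32_1 D107 (iv D107) F420
theorem F547 : act 6 n107 = n84 := d34_1 D107 (iv D84) D83
def n108 : Q := act 7 n84
theorem D108 : act 7 n84 = n108 := rfl
theorem F548 : act 0 n108 = n108 := d6_1 D108 (iv D108) F422
theorem F549 : act 2 n108 = n108 := d19_1 D108 (iv D108) F423
theorem F550 : act 3 n108 = n108 := d24_1 D108 (iv D108) F424 F302 (iv F424)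
theorem F551 : act 5 n108 = n85 := d31_1 D108 (iv D85) (iv F425)
theorem F552 : act 8 n108 = n108 := d35_2 D84 D108 (iv D108) (iv D84) F288
def n109 : Q := act 4 n87
theorem D109 : act 4 n87 = n109 := rfl
theorem F553 : act 1 n109 = n109 := d10_1 D109 (iv D109) F438
theorem F554 : act 2 n109 = n89 := d16_1 D109 (iv D89) (iv F439)
theorem F555 : act 5 n109 = n109 := d26_2 D87 D109 (iv D109) (iv D87) F305
theorem F556 : act 7 n109 = n109 := d28_2 F441 D109 (iv D109)
def n110 : Q := act 6 n87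
theorem D110 : act 6 n87 = n110 := rfl
theorem F557 : act 1 n110 = n110 := d12_1 D110 (iv D110) F438
theorem F558 : act 2 n110 = n90 := d18_1 D110 (iv D90) (iv F439)
theorem F559 : act 3 n110 = n110 := d23_1 D110 (iv D110) F440
theorem F560 : act 5 n110 = n110 := d30_1 D110 (iv D110) (iv D87) F306 D87
theorem F561 : act 7 n110 = n110 := d33_2 F441 D110 (iv D110)
def n111 : Q := act 8 n87
theorem D111 : act 8 n87 = n111 := rfl
theorem F562 : act 1 n111 = n111 := d14_1 D111 (iv D111) F438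
theorem F563 : act 2 n111 = n91 := d20_1 D111 (iv D91) (iv F439)
theorem F564 : act 3 n111 = n111 := d25_1 D111 (iv D111) F440
theorem F565 : act 5 n111 = n88 := d32_1 D111 (iv D88) D87
def n112 : Q := act 7 n88
theorem D112 : act 7 n88 = n112 := rfl
theorem F566 : act 1 n112 = n112 := d13_1 D112 (iv D112) F442
theorem F567 : act 2 n112 = n92 := d19_1 D112 (iv D92) (iv F443)
theorem F568 : act 4 n112 = n112 := d28_1 D112 (iv D112) F445
theorem F569 : act 6 n112 = n112 := d33_1 D112 (iv D112) F446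
theorem F570 : act 8 n112 = n112 := d35_2 D88 D112 (iv D112) (iv D88) F307
def n113 : Q := act 6 n89
theorem D113 : act 6 n89 = n113 := rfl
theorem F571 : act 1 n113 = n105 := d12_1 D113 (iv D105) (iv F447)
theorem F572 : act 3 n113 = n113 := d23_1 D113 (iv D113) F448
theorem F573 : act 4 n113 = n90 := d27_1 D113 (iv D90) D89
theorem F574 : act 7 n113 = n113 := d33_2 F450 D113 (iv D113)
def n114 : Q := act 8 n89
theorem D114 : act 8 n89 = n114 := rfl
theorem F575 : act 1 n114 = n106 := d14_1 D114 (iv D106) (iv F447)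
theorem F576 : act 3 n114 = n114 := d25_1 D114 (iv D114) F448
theorem F577 : act 4 n114 = n91 := d29_1 D114 (iv D91) D89
theorem F578 : act 5 n114 = n114 := d32_1 D114 (iv D114) F449
def n115 : Q := act 8 n90
theorem D115 : act 8 n90 = n115 := rfl
theorem F579 : act 1 n115 = n107 := d14_1 D115 (iv D107) (iv F451)
theorem F580 : act 3 n115 = n94 := d25_1 D115 (iv D94) (iv F452)
theorem F581 : act 5 n115 = n115 := d32_1 D115 (iv D115) F453
theorem F582 : act 6 n115 = n91 := d34_1 D115 (iv D91) D90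
def n116 : Q := act 7 n91
theorem D116 : act 7 n91 = n116 := rfl
theorem F583 : act 1 n116 = n108 := d13_1 D116 (iv D108) (iv F455)
theorem F584 : act 3 n116 = n116 := d24_1 D116 (iv D116) F456 F337 (iv F456)
theorem F585 : act 5 n116 = n92 := d31_1 D116 (iv D92) (iv F457)
theorem F586 : act 8 n116 = n116 := d35_2 D91 D116 (iv D116) (iv D91) F310
def n117 : Q := act 5 n95
theorem D117 : act 5 n95 = n117 := rfl
theorem F587 : act 0 n117 = n117 := d4_1 D117 (iv D117) F477
theorem F588 : act 1 n117 = n96 := d11_1 D117 (iv D96) D95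
theorem F589 : act 2 n117 = n117 := d17_1 D117 (iv D117) F478
theorem F590 : act 3 n117 = n117 := d22_1 D117 (iv D117) F479
theorem F591 : act 7 n117 = n117 := d31_2 F482 D117 (iv D117)
def n118 : Q := act 8 n95
theorem D118 : act 8 n95 = n118 := rfl
theorem F592 : act 0 n118 = n118 := d7_1 D118 (iv D118) F477
theorem F593 : act 1 n118 = n97 := d14_1 D118 (iv D97) D95
theorem F594 : act 2 n118 = n118 := d20_1 D118 (iv D118) F478
theorem F595 : act 3 n118 = n118 := d25_1 D118 (iv D118) F479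
theorem F596 : act 4 n118 = n118 := d29_1 D118 (iv D118) F480
theorem F597 : act 6 n118 = n118 := d34_1 D118 (iv D118) F481
def n119 : Q := act 4 n96
theorem D119 : act 4 n96 = n119 := rfl
theorem F598 : act 0 n119 = n109 := d3_1 D119 (iv D109) (iv F483)
theorem F599 : act 2 n119 = n98 := d16_1 D119 (iv D98) (iv F484)
theorem F600 : act 5 n119 = n119 := d26_2 D96 D119 (iv D119) (iv D96) F340
theorem F601 : act 7 n119 = n119 := d28_2 F486 D119 (iv D119)
def n120 : Q := act 6 n96
theorem D120 : act 6 n96 = n120 := rfl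
theorem F602 : act 0 n120 = n110 := d5_1 D120 (iv D110) (iv F483)
theorem F603 : act 2 n120 = n99 := d18_1 D120 (iv D99) (iv F484)
theorem F604 : act 3 n120 = n120 := d23_1 D120 (iv D120) F485
theorem F605 : act 5 n120 = n120 := d30_1 D120 (iv D120) (iv D96) F341 D96
theorem F606 : act 7 n120 = n120 := d33_2 F486 D120 (iv D120)
def n121 : Q := act 8 n96
theorem D121 : act 8 n96 = n121 := rfl
theorem F607 : act 0 n121 = n111 := d7_1 D121 (iv D111) (iv F483)
theorem F608 : act 2 n121 = n100 := d20_1 D121 (iv D100) (iv F484)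
theorem F609 : act 3 n121 = n121 := d25_1 D121 (iv D121) F485
theorem F610 : act 5 n121 = n97 := d32_1 D121 (iv D97) D96
def n122 : Q := act 7 n97
theorem D122 : act 7 n97 = n122 := rfl
theorem F611 : act 0 n122 = n112 := d6_1 D122 (iv D112) (iv F487)
theorem F612 : act 2 n122 = n101 := d19_1 D122 (iv D101) (iv F488)
theorem F613 : act 4 n122 = n122 := d28_1 D122 (iv D122) F490
theorem F614 : act 6 n122 = n122 := d33_1 D122 (iv D122) F491
theorem F615 : act 8 n122 = n122 := d35_2 D97 D122 (iv D122) (iv D97) F342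
def n123 : Q := act 6 n98
theorem D123 : act 6 n98 = n123 := rfl
theorem F616 : act 0 n123 = n113 := d5_1 D123 (iv D113) (iv F492)
theorem F617 : act 1 n123 = n123 := d12_1 D123 (iv D123) F493
theorem F618 : act 3 n123 = n123 := d23_1 D123 (iv D123) F494
theorem F619 : act 4 n123 = n99 := d27_1 D123 (iv D99) D98
theorem F620 : act 7 n123 = n123 := d33_2 F496 D123 (iv D123)
def n124 : Q := act 8 n98
theorem D124 : act 8 n98 = n124 := rfl
theorem F621 : act 0 n124 = n114 := d7_1 D124 (iv D114) (iv F492)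
theorem F622 : act 1 n124 = n124 := d14_1 D124 (iv D124) F493
theorem F623 : act 3 n124 = n124 := d25_1 D124 (iv D124) F494
theorem F624 : act 4 n124 = n100 := d29_1 D124 (iv D100) D98
theorem F625 : act 5 n124 = n124 := d32_1 D124 (iv D124) F495
def n125 : Q := act 8 n99
theorem D125 : act 8 n99 = n125 := rfl
theorem F626 : act 0 n125 = n115 := d7_1 D125 (iv D115) (iv F497)
theorem F627 : act 1 n125 = n125 := d14_1 D125 (iv D125) F498
theorem F628 : act 3 n125 = n102 := d25_1 D125 (iv D102) (iv F499)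
theorem F629 : act 5 n125 = n125 := d32_1 D125 (iv D125) F500
theorem F630 : act 6 n125 = n100 := d34_1 D125 (iv D100) D99
def n126 : Q := act 7 n100
theorem D126 : act 7 n100 = n126 := rfl
theorem F631 : act 0 n126 = n116 := d6_1 D126 (iv D116) (iv F502)
theorem F632 : act 1 n126 = n126 := d13_1 D126 (iv D126) F503
theorem F633 : act 3 n126 = n126 := d24_1 D126 (iv D126) F504 F370 (iv F504)
theorem F634 : act 5 n126 = n101 := d31_1 D126 (iv D101) (iv F505)
theorem F635 : act 8 n126 = n126 := d35_2 D100 D126 (iv D126) (iv D100) F346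
def n127 : Q := act 6 n103
theorem D127 : act 6 n103 = n127 := rfl
theorem F636 : act 0 n127 = n127 := d5_1 D127 (iv D127) F519
theorem F637 : act 1 n127 = n127 := d12_1 D127 (iv D127) F520
theorem F638 : act 2 n127 = n127 := d18_1 D127 (iv D127) F521
theorem F639 : act 3 n127 = n127 := d23_1 D127 (iv D127) F522
theorem F640 : act 4 n127 = n104 := d27_1 D127 (iv D104) D103
theorem F641 : act 7 n127 = n127 := d33_2 F524 D127 (iv D127)
theorem F642 : act 8 n127 = n127 := d34_2 F525 D127 (iv D127)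
def n128 : Q := act 5 n105
theorem D128 : act 5 n105 = n128 := rfl
theorem F643 : act 0 n128 = n128 := d4_1 D128 (iv D128) F533
theorem F644 : act 2 n128 = n128 := d17_1 D128 (iv D128) F534
theorem F645 : act 3 n128 = n128 := d22_1 D128 (iv D128) F535
theorem F646 : act 4 n128 = n128 := d26_1 D128 (iv D128) F536 F420 (iv F536)
theorem F647 : act 6 n128 = n128 := d30_2 D105 D128 (iv D128) (iv D105) F415
theorem F648 : act 7 n128 = n128 := d31_2 F537 D128 (iv D128)
def n129 : Q := act 8 n105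
theorem D129 : act 8 n105 = n129 := rfl
theorem F649 : act 0 n129 = n129 := d7_1 D129 (iv D129) F533
theorem F650 : act 2 n129 = n129 := d20_1 D129 (iv D129) F534
theorem F651 : act 3 n129 = n129 := d25_1 D129 (iv D129) F535
theorem F652 : act 4 n129 = n107 := d29_1 D129 (iv D107) (iv F536)
theorem F653 : act 6 n129 = n106 := d34_1 D129 (iv D106) D105
def n130 : Q := act 7 n106
theorem D130 : act 7 n106 = n130 := rfl
theorem F654 : act 0 n130 = n130 := d6_1 D130 (iv D130) F538
theorem F655 : act 2 n130 = n130 := d19_1 D130 (iv D130) F539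
theorem F656 : act 4 n130 = n108 := d28_1 D130 (iv D108) (iv F541)
theorem F657 : act 5 n130 = n130 := d31_1 D130 (iv D130) F542
theorem F658 : act 8 n130 = n130 := d35_2 D106 D130 (iv D130) (iv D106) F416
def n131 : Q := act 7 n107
theorem D131 : act 7 n107 = n131 := rfl
theorem F659 : act 0 n131 = n131 := d6_1 D131 (iv D131) F543
theorem F660 : act 2 n131 = n131 := d19_1 D131 (iv D131) F544
theorem F661 : act 3 n131 = n131 := d24_1 D131 (iv D131) F545 F437 (iv F545)
theorem F662 : act 5 n131 = n131 := d31_1 D131 (iv D131) F546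
theorem F663 : act 6 n131 = n108 := d33_1 D131 (iv D108) (iv F547)
theorem F664 : act 8 n131 = n131 := d35_2 D107 D131 (iv D131) (iv D107) F421
def n132 : Q := act 3 n109
theorem D132 : act 3 n109 = n132 := rfl
theorem F665 : act 1 n132 = n132 := d9_1 D132 (iv D132) F553
theorem F666 : act 2 n132 = n132 := d15_1 D132 (iv D132) F554 F448 (iv F554)
theorem F667 : act 4 n132 = n132 := d21_2 D109 D132 (iv D132) (iv D109) F440
theorem F668 : act 5 n132 = n132 := d22_2 F555 D132 (iv D132)
def n133 : Q := act 6 n109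
theorem D133 : act 6 n109 = n133 := rfl
theorem F669 : act 1 n133 = n133 := d12_1 D133 (iv D133) F553
theorem F670 : act 2 n133 = n113 := d18_1 D133 (iv D113) (iv F554)
theorem F671 : act 4 n133 = n110 := d27_1 D133 (iv D110) D109
theorem F672 : act 7 n133 = n133 := d33_2 F556 D133 (iv D133)
def n134 : Q := act 8 n109
theorem D134 : act 8 n109 = n134 := rfl
theorem F673 : act 1 n134 = n134 := d14_1 D134 (iv D134) F553
theorem F674 : act 2 n134 = n114 := d20_1 D134 (iv D114) (iv F554)
theorem F675 : act 4 n134 = n111 := d29_1 D134 (iv D111) D109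
theorem F676 : act 5 n134 = n134 := d32_1 D134 (iv D134) F555
def n135 : Q := act 8 n110
theorem D135 : act 8 n110 = n135 := rfl
theorem F677 : act 1 n135 = n135 := d14_1 D135 (iv D135) F557
theorem F678 : act 2 n135 = n115 := d20_1 D135 (iv D115) (iv F558)
theorem F679 : act 3 n135 = n135 := d25_1 D135 (iv D135) F559
theorem F680 : act 5 n135 = n135 := d32_1 D135 (iv D135) F560
theorem F681 : act 6 n135 = n111 := d34_1 D135 (iv D111) D110
def n136 : Q := act 7 n111
theorem D136 : act 7 n111 = n136 := rfl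
theorem F682 : act 1 n136 = n136 := d13_1 D136 (iv D136) F562
theorem F683 : act 2 n136 = n116 := d19_1 D136 (iv D116) (iv F563)
theorem F684 : act 5 n136 = n112 := d31_1 D136 (iv D112) (iv F565)
theorem F685 : act 8 n136 = n136 := d35_2 D111 D136 (iv D136) (iv D111) F441
def n137 : Q := act 3 n112
theorem D137 : act 3 n112 = n137 := rfl
theorem F686 : act 1 n137 = n137 := d9_1 D137 (iv D137) F566
theorem F687 : act 2 n137 = n137 := d15_1 D137 (iv D137) F567 F459 (iv F567)
theorem F688 : act 6 n137 = n137 := d23_2 F569 D137 (iv D137)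
theorem F689 : act 7 n137 = n137 := d24_2 D112 D137 (iv D137) (iv D112) F444
theorem F690 : act 8 n137 = n137 := d25_2 F570 D137 (iv D137)
def n138 : Q := act 5 n113
theorem D138 : act 5 n113 = n138 := rfl
theorem F691 : act 1 n138 = n128 := d11_1 D138 (iv D128) (iv F571)
theorem F692 : act 3 n138 = n138 := d22_1 D138 (iv D138) F572
theorem F693 : act 4 n138 = n138 := d26_1 D138 (iv D138) F573 F453 (iv F573)
theorem F694 : act 6 n138 = n138 := d30_2 D113 D138 (iv D138) (iv D113) F449
theorem F695 : act 7 n138 = n138 := d31_2 F574 D138 (iv D138)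
def n139 : Q := act 8 n113
theorem D139 : act 8 n113 = n139 := rfl
theorem F696 : act 1 n139 = n129 := d14_1 D139 (iv D129) (iv F571)
theorem F697 : act 3 n139 = n139 := d25_1 D139 (iv D139) F572
theorem F698 : act 4 n139 = n115 := d29_1 D139 (iv D115) (iv F573)
theorem F699 : act 6 n139 = n114 := d34_1 D139 (iv D114) D113
def n140 : Q := act 7 n114
theorem D140 : act 7 n114 = n140 := rfl
theorem F700 : act 1 n140 = n130 := d13_1 D140 (iv D130) (iv F575)
theorem F701 : act 4 n140 = n116 := d28_1 D140 (iv D116) (iv F577)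
theorem F702 : act 5 n140 = n140 := d31_1 D140 (iv D140) F578
theorem F703 : act 8 n140 = n140 := d35_2 D114 D140 (iv D140) (iv D114) F450
def n141 : Q := act 7 n115
theorem D141 : act 7 n115 = n141 := rfl
theorem F704 : act 1 n141 = n131 := d13_1 D141 (iv D131) (iv F579)
theorem F705 : act 3 n141 = n141 := d24_1 D141 (iv D141) F580 F476 (iv F580)
theorem F706 : act 5 n141 = n141 := d31_1 D141 (iv D141) F581
theorem F707 : act 6 n141 = n116 := d33_1 D141 (iv D116) (iv F582)
theorem F708 : act 8 n141 = n141 := d35_2 D115 D141 (iv D141) (iv D115) F454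
def n142 : Q := act 4 n117
theorem D142 : act 4 n117 = n142 := rfl
theorem F709 : act 0 n142 = n142 := d3_1 D142 (iv D142) F587
theorem F710 : act 1 n142 = n119 := d10_1 D142 (iv D119) (iv F588)
theorem F711 : act 2 n142 = n142 := d16_1 D142 (iv D142) F589
theorem F712 : act 5 n142 = n142 := d26_2 D117 D142 (iv D142) (iv D117) F480
theorem F713 : act 7 n142 = n142 := d28_2 F591 D142 (iv D142)
def n143 : Q := act 6 n117
theorem D143 : act 6 n117 = n143 := rfl
theorem F714 : act 0 n143 = n143 := d5_1 D143 (iv D143) F587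
theorem F715 : act 1 n143 = n120 := d12_1 D143 (iv D120) (iv F588)
theorem F716 : act 2 n143 = n143 := d18_1 D143 (iv D143) F589
theorem F717 : act 3 n143 = n143 := d23_1 D143 (iv D143) F590
theorem F718 : act 5 n143 = n143 := d30_1 D143 (iv D143) (iv D117) F481 D117
theorem F719 : act 7 n143 = n143 := d33_2 F591 D143 (iv D143)
def n144 : Q := act 8 n117
theorem D144 : act 8 n117 = n144 := rfl
theorem F720 : act 0 n144 = n144 := d7_1 D144 (iv D144) F587
theorem F721 : act 1 n144 = n121 := d14_1 D144 (iv D121) (iv F588)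
theorem F722 : act 2 n144 = n144 := d20_1 D144 (iv D144) F589
theorem F723 : act 3 n144 = n144 := d25_1 D144 (iv D144) F590
theorem F724 : act 5 n144 = n118 := d32_1 D144 (iv D118) D117
def n145 : Q := act 7 n118
theorem D145 : act 7 n118 = n145 := rfl
theorem F725 : act 0 n145 = n145 := d6_1 D145 (iv D145) F592
theorem F726 : act 1 n145 = n122 := d13_1 D145 (iv D122) (iv F593)
theorem F727 : act 2 n145 = n145 := d19_1 D145 (iv D145) F594
theorem F728 : act 4 n145 = n145 := d28_1 D145 (iv D145) F596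
theorem F729 : act 6 n145 = n145 := d33_1 D145 (iv D145) F597
theorem F730 : act 8 n145 = n145 := d35_2 D118 D145 (iv D145) (iv D118) F482
def n146 : Q := act 3 n119
theorem D146 : act 3 n119 = n146 := rfl
theorem F731 : act 0 n146 = n132 := d2_1 D146 (iv D132) (iv F598)
theorem F732 : act 2 n146 = n146 := d15_1 D146 (iv D146) F599 F494 (iv F599)
theorem F733 : act 4 n146 = n146 := d21_2 D119 D146 (iv D146) (iv D119) F485
theorem F734 : act 5 n146 = n146 := d22_2 F600 D146 (iv D146)
def n147 : Q := act 6 n119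
theorem D147 : act 6 n119 = n147 := rfl
theorem F735 : act 0 n147 = n133 := d5_1 D147 (iv D133) (iv F598)
theorem F736 : act 2 n147 = n123 := d18_1 D147 (iv D123) (iv F599)
theorem F737 : act 4 n147 = n120 := d27_1 D147 (iv D120) D119
theorem F738 : act 7 n147 = n147 := d33_2 F601 D147 (iv D147)
def n148 : Q := act 8 n119
theorem D148 : act 8 n119 = n148 := rfl
theorem F739 : act 0 n148 = n134 := d7_1 D148 (iv D134) (iv F598)
theorem F740 : act 2 n148 = n124 := d20_1 D148 (iv D124) (iv F599)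
theorem F741 : act 4 n148 = n121 := d29_1 D148 (iv D121) D119
theorem F742 : act 5 n148 = n148 := d32_1 D148 (iv D148) F600
def n149 : Q := act 8 n120
theorem D149 : act 8 n120 = n149 := rfl
theorem F743 : act 0 n149 = n135 := d7_1 D149 (iv D135) (iv F602)
theorem F744 : act 2 n149 = n125 := d20_1 D149 (iv D125) (iv F603)
theorem F745 : act 3 n149 = n149 := d25_1 D149 (iv D149) F604
theorem F746 : act 5 n149 = n149 := d32_1 D149 (iv D149) F605
theorem F747 : act 6 n149 = n121 := d34_1 D149 (iv D121) D120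
def n150 : Q := act 7 n121
theorem D150 : act 7 n121 = n150 := rfl
theorem F748 : act 0 n150 = n136 := d6_1 D150 (iv D136) (iv F607)
theorem F749 : act 2 n150 = n126 := d19_1 D150 (iv D126) (iv F608)
theorem F750 : act 5 n150 = n122 := d31_1 D150 (iv D122) (iv F610)
theorem F751 : act 8 n150 = n150 := d35_2 D121 D150 (iv D150) (iv D121) F486
def n151 : Q := act 3 n122
theorem D151 : act 3 n122 = n151 := rfl
theorem F752 : act 0 n151 = n137 := d2_1 D151 (iv D137) (iv F611)
theorem F753 : act 2 n151 = n151 := d15_1 D151 (iv D151) F612 F508 (iv F612)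
theorem F754 : act 6 n151 = n151 := d23_2 F614 D151 (iv D151)
theorem F755 : act 7 n151 = n151 := d24_2 D122 D151 (iv D151) (iv D122) F489
theorem F756 : act 8 n151 = n151 := d25_2 F615 D151 (iv D151)
def n152 : Q := act 5 n123
theorem D152 : act 5 n123 = n152 := rfl
theorem F757 : act 0 n152 = n138 := d4_1 D152 (iv D138) (iv F616)
theorem F758 : act 1 n152 = n152 := d11_1 D152 (iv D152) F617
theorem F759 : act 3 n152 = n152 := d22_1 D152 (iv D152) F618
theorem F760 : act 4 n152 = n152 := d26_1 D152 (iv D152) F619 F500 (iv F619)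
theorem F761 : act 6 n152 = n152 := d30_2 D123 D152 (iv D152) (iv D123) F495
theorem F762 : act 7 n152 = n152 := d31_2 F620 D152 (iv D152)
def n153 : Q := act 8 n123
theorem D153 : act 8 n123 = n153 := rfl
theorem F763 : act 0 n153 = n139 := d7_1 D153 (iv D139) (iv F616)
theorem F764 : act 1 n153 = n153 := d14_1 D153 (iv D153) F617
theorem F765 : act 3 n153 = n153 := d25_1 D153 (iv D153) F618
theorem F766 : act 4 n153 = n125 := d29_1 D153 (iv D125) (iv F619)
theorem F767 : act 6 n153 = n124 := d34_1 D153 (iv D124) D123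
def n154 : Q := act 7 n124
theorem D154 : act 7 n124 = n154 := rfl
theorem F768 : act 0 n154 = n140 := d6_1 D154 (iv D140) (iv F621)
theorem F769 : act 1 n154 = n154 := d13_1 D154 (iv D154) F622
theorem F770 : act 4 n154 = n126 := d28_1 D154 (iv D126) (iv F624)
theorem F771 : act 5 n154 = n154 := d31_1 D154 (iv D154) F625
theorem F772 : act 8 n154 = n154 := d35_2 D124 D154 (iv D154) (iv D124) F496
def n155 : Q := act 7 n125
theorem D155 : act 7 n125 = n155 := rfl
theorem F773 : act 0 n155 = n141 := d6_1 D155 (iv D141) (iv F626)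
theorem F774 : act 1 n155 = n155 := d13_1 D155 (iv D155) F627
theorem F775 : act 3 n155 = n155 := d24_1 D155 (iv D155) F628 F518 (iv F628)
theorem F776 : act 5 n155 = n155 := d31_1 D155 (iv D155) F629
theorem F777 : act 6 n155 = n126 := d33_1 D155 (iv D126) (iv F630)
theorem F778 : act 8 n155 = n155 := d35_2 D125 D155 (iv D155) (iv D125) F501
def n156 : Q := act 5 n127
theorem D156 : act 5 n127 = n156 := rfl
theorem F779 : act 0 n156 = n156 := d4_1 D156 (iv D156) F636
theorem F780 : act 1 n156 = n156 := d11_1 D156 (iv D156) F637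
theorem F781 : act 2 n156 = n156 := d17_1 D156 (iv D156) F638
theorem F782 : act 3 n156 = n156 := d22_1 D156 (iv D156) F639
theorem F783 : act 4 n156 = n156 := d26_1 D156 (iv D156) F640 F530 (iv F640)
theorem F784 : act 6 n156 = n156 := d30_2 D127 D156 (iv D156) (iv D127) F523
theorem F785 : act 7 n156 = n156 := d31_2 F641 D156 (iv D156)
theorem F786 : act 8 n156 = n156 := d32_2 F642 D156 (iv D156)
def n157 : Q := act 8 n128
theorem D157 : act 8 n128 = n157 := rfl
theorem F787 : act 0 n157 = n157 := d7_1 D157 (iv D157) F643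
theorem F788 : act 2 n157 = n157 := d20_1 D157 (iv D157) F644
theorem F789 : act 3 n157 = n157 := d25_1 D157 (iv D157) F645
theorem F790 : act 4 n157 = n157 := d29_1 D157 (iv D157) F646
theorem F791 : act 5 n157 = n129 := d32_1 D157 (iv D129) D128
theorem F792 : act 6 n157 = n157 := d34_1 D157 (iv D157) F647
def n158 : Q := act 7 n129
theorem D158 : act 7 n129 = n158 := rfl
theorem F793 : act 0 n158 = n158 := d6_1 D158 (iv D158) F649
theorem F794 : act 2 n158 = n158 := d19_1 D158 (iv D158) F650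
theorem F795 : act 4 n158 = n131 := d28_1 D158 (iv D131) (iv F652)
theorem F796 : act 6 n158 = n130 := d33_1 D158 (iv D130) (iv F653)
theorem F797 : act 8 n158 = n158 := d35_2 D129 D158 (iv D158) (iv D129) F537
def n159 : Q := act 3 n130
theorem D159 : act 3 n130 = n159 := rfl
theorem F798 : act 0 n159 = n159 := d2_1 D159 (iv D159) F654
theorem F799 : act 4 n159 = n159 := d21_2 (iv F656) D159 (iv D159) F656 F550
theorem F800 : act 5 n159 = n159 := d22_2 F657 D159 (iv D159)
theorem F801 : act 7 n159 = n159 := d24_2 D130 D159 (iv D159) (iv D130) F540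
theorem F802 : act 8 n159 = n159 := d25_2 F658 D159 (iv D159)
def n160 : Q := act 6 n132
theorem D160 : act 6 n132 = n160 := rfl
theorem F803 : act 1 n160 = n160 := d12_1 D160 (iv D160) F665
theorem F804 : act 2 n160 = n160 := d18_1 D160 (iv D160) F666
theorem F805 : act 3 n160 = n133 := d23_1 D160 (iv D133) D132
theorem F806 : act 4 n160 = n160 := d27_1 D160 (iv D160) F667
def n161 : Q := act 7 n132
theorem D161 : act 7 n132 = n161 := rfl
theorem F807 : act 1 n161 = n161 := d13_1 D161 (iv D161) F665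
theorem F808 : act 2 n161 = n161 := d19_1 D161 (iv D161) F666
theorem F809 : act 3 n161 = n161 := d24_1 D161 (iv D161) (iv D132) F556 D132
theorem F810 : act 4 n161 = n161 := d28_1 D161 (iv D161) F667
theorem F811 : act 5 n161 = n161 := d31_1 D161 (iv D161) F668
def n162 : Q := act 8 n132
theorem D162 : act 8 n132 = n162 := rfl
theorem F812 : act 1 n162 = n162 := d14_1 D162 (iv D162) F665
theorem F813 : act 2 n162 = n162 := d20_1 D162 (iv D162) F666
theorem F814 : act 3 n162 = n134 := d25_1 D162 (iv D134) D132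
theorem F815 : act 4 n162 = n162 := d29_1 D162 (iv D162) F667
theorem F816 : act 5 n162 = n162 := d32_1 D162 (iv D162) F668
def n163 : Q := act 5 n133
theorem D163 : act 5 n133 = n163 := rfl
theorem F817 : act 1 n163 = n163 := d11_1 D163 (iv D163) F669
theorem F818 : act 2 n163 = n138 := d17_1 D163 (iv D138) (iv F670)
theorem F819 : act 4 n163 = n163 := d26_1 D163 (iv D163) F671 F560 (iv F671)
theorem F820 : act 6 n163 = n163 := d30_2 D133 D163 (iv D163) (iv D133) F555
theorem F821 : act 7 n163 = n163 := d31_2 F672 D163 (iv D163)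
def n164 : Q := act 8 n133
theorem D164 : act 8 n133 = n164 := rfl
theorem F822 : act 1 n164 = n164 := d14_1 D164 (iv D164) F669
theorem F823 : act 2 n164 = n139 := d20_1 D164 (iv D139) (iv F670)
theorem F824 : act 4 n164 = n135 := d29_1 D164 (iv D135) (iv F671)
theorem F825 : act 6 n164 = n134 := d34_1 D164 (iv D134) D133
def n165 : Q := act 7 n134
theorem D165 : act 7 n134 = n165 := rfl
theorem F826 : act 1 n165 = n165 := d13_1 D165 (iv D165) F673
theorem F827 : act 2 n165 = n140 := d19_1 D165 (iv D140) (iv F674)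
theorem F828 : act 4 n165 = n136 := d28_1 D165 (iv D136) (iv F675)
theorem F829 : act 5 n165 = n165 := d31_1 D165 (iv D165) F676
theorem F830 : act 8 n165 = n165 := d35_2 D134 D165 (iv D165) (iv D134) F556
def n166 : Q := act 7 n135
theorem D166 : act 7 n135 = n166 := rfl
theorem F831 : act 1 n166 = n166 := d13_1 D166 (iv D166) F677
theorem F832 : act 2 n166 = n141 := d19_1 D166 (iv D141) (iv F678)
theorem F833 : act 5 n166 = n166 := d31_1 D166 (iv D166) F680
theorem F834 : act 6 n166 = n136 := d33_1 D166 (iv D136) (iv F681)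
theorem F835 : act 8 n166 = n166 := d35_2 D135 D166 (iv D166) (iv D135) F561
def n167 : Q := act 3 n136
theorem D167 : act 3 n136 = n167 := rfl
theorem F836 : act 1 n167 = n167 := d9_1 D167 (iv D167) F682
theorem F837 : act 2 n167 = n167 := d15_1 D167 (iv D167) F683 F584 (iv F683)
theorem F838 : act 5 n167 = n137 := d22_2 (iv F684) D167 (iv D137)
theorem F839 : act 7 n167 = n167 := d24_2 D136 D167 (iv D167) (iv D136) F564
theorem F840 : act 8 n167 = n167 := d25_2 F685 D167 (iv D167)
def n168 : Q := act 4 n137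
theorem D168 : act 4 n137 = n168 := rfl
theorem F841 : act 1 n168 = n168 := d10_1 D168 (iv D168) F686
theorem F842 : act 2 n168 = n168 := d16_1 D168 (iv D168) F687
theorem F843 : act 3 n168 = n168 := d21_1 D168 (iv D168) (iv D137) F568 D137
theorem F844 : act 6 n168 = n168 := d27_2 F688 D168 (iv D168)
theorem F845 : act 7 n168 = n168 := d28_2 F689 D168 (iv D168)
theorem F846 : act 8 n168 = n168 := d29_2 F690 D168 (iv D168)
def n169 : Q := act 8 n138
theorem D169 : act 8 n138 = n169 := rfl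
theorem F847 : act 1 n169 = n157 := d14_1 D169 (iv D157) (iv F691)
theorem F848 : act 3 n169 = n169 := d25_1 D169 (iv D169) F692
theorem F849 : act 4 n169 = n169 := d29_1 D169 (iv D169) F693
theorem F850 : act 5 n169 = n139 := d32_1 D169 (iv D139) D138
theorem F851 : act 6 n169 = n169 := d34_1 D169 (iv D169) F694
def n170 : Q := act 7 n139
theorem D170 : act 7 n139 = n170 := rfl
theorem F852 : act 1 n170 = n158 := d13_1 D170 (iv D158) (iv F696)
theorem F853 : act 4 n170 = n141 := d28_1 D170 (iv D141) (iv F698)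
theorem F854 : act 6 n170 = n140 := d33_1 D170 (iv D140) (iv F699)
theorem F855 : act 8 n170 = n170 := d35_2 D139 D170 (iv D170) (iv D139) F574
def n171 : Q := act 3 n140
theorem D171 : act 3 n140 = n171 := rfl
theorem F856 : act 1 n171 = n159 := d9_1 D171 (iv D159) (iv F700)
theorem F857 : act 4 n171 = n171 := d21_2 (iv F701) D171 (iv D171) F701 F584
theorem F858 : act 5 n171 = n171 := d22_2 F702 D171 (iv D171)
theorem F859 : act 7 n171 = n171 := d24_2 D140 D171 (iv D171) (iv D140) F576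
theorem F860 : act 8 n171 = n171 := d25_2 F703 D171 (iv D171)
def n172 : Q := act 3 n142
theorem D172 : act 3 n142 = n172 := rfl
theorem F861 : act 0 n172 = n172 := d2_1 D172 (iv D172) F709
theorem F862 : act 1 n172 = n146 := d9_1 D172 (iv D146) (iv F710)
theorem F863 : act 4 n172 = n172 := d21_2 D142 D172 (iv D172) (iv D142) F590
theorem F864 : act 5 n172 = n172 := d22_2 F712 D172 (iv D172)
def n173 : Q := act 6 n142
theorem D173 : act 6 n142 = n173 := rfl
theorem F865 : act 0 n173 = n173 := d5_1 D173 (iv D173) F709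
theorem F866 : act 1 n173 = n147 := d12_1 D173 (iv D147) (iv F710)
theorem F867 : act 2 n173 = n173 := d18_1 D173 (iv D173) F711
theorem F868 : act 4 n173 = n143 := d27_1 D173 (iv D143) D142
theorem F869 : act 7 n173 = n173 := d33_2 F713 D173 (iv D173)
def n174 : Q := act 8 n142
theorem D174 : act 8 n142 = n174 := rfl
theorem F870 : act 0 n174 = n174 := d7_1 D174 (iv D174) F709
theorem F871 : act 1 n174 = n148 := d14_1 D174 (iv D148) (iv F710)
theorem F872 : act 2 n174 = n174 := d20_1 D174 (iv D174) F711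
theorem F873 : act 4 n174 = n144 := d29_1 D174 (iv D144) D142
theorem F874 : act 5 n174 = n174 := d32_1 D174 (iv D174) F712
def n175 : Q := act 8 n143
theorem D175 : act 8 n143 = n175 := rfl
theorem F875 : act 0 n175 = n175 := d7_1 D175 (iv D175) F714
theorem F876 : act 1 n175 = n149 := d14_1 D175 (iv D149) (iv F715)
theorem F877 : act 2 n175 = n175 := d20_1 D175 (iv D175) F716
theorem F878 : act 3 n175 = n175 := d25_1 D175 (iv D175) F717
theorem F879 : act 5 n175 = n175 := d32_1 D175 (iv D175) F718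
theorem F880 : act 6 n175 = n144 := d34_1 D175 (iv D144) D143
def n176 : Q := act 7 n144
theorem D176 : act 7 n144 = n176 := rfl
theorem F881 : act 0 n176 = n176 := d6_1 D176 (iv D176) F720
theorem F882 : act 1 n176 = n150 := d13_1 D176 (iv D150) (iv F721)
theorem F883 : act 2 n176 = n176 := d19_1 D176 (iv D176) F722
theorem F884 : act 5 n176 = n145 := d31_1 D176 (iv D145) (iv F724)
theorem F885 : act 8 n176 = n176 := d35_2 D144 D176 (iv D176) (iv D144) F591
def n177 : Q := act 3 n145
theorem D177 : act 3 n145 = n177 := rfl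
theorem F886 : act 0 n177 = n177 := d2_1 D177 (iv D177) F725
theorem F887 : act 1 n177 = n151 := d9_1 D177 (iv D151) (iv F726)
theorem F888 : act 6 n177 = n177 := d23_2 F729 D177 (iv D177)
theorem F889 : act 7 n177 = n177 := d24_2 D145 D177 (iv D177) (iv D145) F595
theorem F890 : act 8 n177 = n177 := d25_2 F730 D177 (iv D177)
def n178 : Q := act 6 n146
theorem D178 : act 6 n146 = n178 := rfl
theorem F891 : act 0 n178 = n160 := d5_1 D178 (iv D160) (iv F731)
theorem F892 : act 2 n178 = n178 := d18_1 D178 (iv D178) F732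
theorem F893 : act 3 n178 = n147 := d23_1 D178 (iv D147) D146
theorem F894 : act 4 n178 = n178 := d27_1 D178 (iv D178) F733
def n179 : Q := act 7 n146
theorem D179 : act 7 n146 = n179 := rfl
theorem F895 : act 0 n179 = n161 := d6_1 D179 (iv D161) (iv F731)
theorem F896 : act 2 n179 = n179 := d19_1 D179 (iv D179) F732
theorem F897 : act 3 n179 = n179 := d24_1 D179 (iv D179) (iv D146) F601 D146
theorem F898 : act 4 n179 = n179 := d28_1 D179 (iv D179) F733
theorem F899 : act 5 n179 = n179 := d31_1 D179 (iv D179) F734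
def n180 : Q := act 8 n146
theorem D180 : act 8 n146 = n180 := rfl
theorem F900 : act 0 n180 = n162 := d7_1 D180 (iv D162) (iv F731)
theorem F901 : act 2 n180 = n180 := d20_1 D180 (iv D180) F732
theorem F902 : act 3 n180 = n148 := d25_1 D180 (iv D148) D146
theorem F903 : act 4 n180 = n180 := d29_1 D180 (iv D180) F733
theorem F904 : act 5 n180 = n180 := d32_1 D180 (iv D180) F734
def n181 : Q := act 5 n147
theorem D181 : act 5 n147 = n181 := rfl
theorem F905 : act 0 n181 = n163 := d4_1 D181 (iv D163) (iv F735)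
theorem F906 : act 2 n181 = n152 := d17_1 D181 (iv D152) (iv F736)
theorem F907 : act 4 n181 = n181 := d26_1 D181 (iv D181) F737 F605 (iv F737)
theorem F908 : act 6 n181 = n181 := d30_2 D147 D181 (iv D181) (iv D147) F600
theorem F909 : act 7 n181 = n181 := d31_2 F738 D181 (iv D181)
def n182 : Q := act 8 n147
theorem D182 : act 8 n147 = n182 := rfl
theorem F910 : act 0 n182 = n164 := d7_1 D182 (iv D164) (iv F735)
theorem F911 : act 2 n182 = n153 := d20_1 D182 (iv D153) (iv F736)
theorem F912 : act 4 n182 = n149 := d29_1 D182 (iv D149) (iv F737)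
theorem F913 : act 6 n182 = n148 := d34_1 D182 (iv D148) D147
def n183 : Q := act 7 n148
theorem D183 : act 7 n148 = n183 := rfl
theorem F914 : act 0 n183 = n165 := d6_1 D183 (iv D165) (iv F739)
theorem F915 : act 2 n183 = n154 := d19_1 D183 (iv D154) (iv F740)
theorem F916 : act 4 n183 = n150 := d28_1 D183 (iv D150) (iv F741)
theorem F917 : act 5 n183 = n183 := d31_1 D183 (iv D183) F742
theorem F918 : act 8 n183 = n183 := d35_2 D148 D183 (iv D183) (iv D148) F601
def n184 : Q := act 7 n149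
theorem D184 : act 7 n149 = n184 := rfl
theorem F919 : act 0 n184 = n166 := d6_1 D184 (iv D166) (iv F743)
theorem F920 : act 2 n184 = n155 := d19_1 D184 (iv D155) (iv F744)
theorem F921 : act 5 n184 = n184 := d31_1 D184 (iv D184) F746
theorem F922 : act 6 n184 = n150 := d33_1 D184 (iv D150) (iv F747)
theorem F923 : act 8 n184 = n184 := d35_2 D149 D184 (iv D184) (iv D149) F606
def n185 : Q := act 3 n150
theorem D185 : act 3 n150 = n185 := rfl
theorem F924 : act 0 n185 = n167 := d2_1 D185 (iv D167) (iv F748)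
theorem F925 : act 2 n185 = n185 := d15_1 D185 (iv D185) F749 F633 (iv F749)
theorem F926 : act 5 n185 = n151 := d22_2 (iv F750) D185 (iv D151)
theorem F927 : act 7 n185 = n185 := d24_2 D150 D185 (iv D185) (iv D150) F609
theorem F928 : act 8 n185 = n185 := d25_2 F751 D185 (iv D185)
def n186 : Q := act 4 n151
theorem D186 : act 4 n151 = n186 := rfl
theorem F929 : act 0 n186 = n168 := d3_1 D186 (iv D168) (iv F752)
theorem F930 : act 2 n186 = n186 := d16_1 D186 (iv D186) F753
theorem F931 : act 3 n186 = n186 := d21_1 D186 (iv D186) (iv D151) F613 D151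
theorem F932 : act 6 n186 = n186 := d27_2 F754 D186 (iv D186)
theorem F933 : act 7 n186 = n186 := d28_2 F755 D186 (iv D186)
theorem F934 : act 8 n186 = n186 := d29_2 F756 D186 (iv D186)
def n187 : Q := act 8 n152
theorem D187 : act 8 n152 = n187 := rfl
theorem F935 : act 0 n187 = n169 := d7_1 D187 (iv D169) (iv F757)
theorem F936 : act 1 n187 = n187 := d14_1 D187 (iv D187) F758
theorem F937 : act 3 n187 = n187 := d25_1 D187 (iv D187) F759
theorem F938 : act 4 n187 = n187 := d29_1 D187 (iv D187) F760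
theorem F939 : act 5 n187 = n153 := d32_1 D187 (iv D153) D152
theorem F940 : act 6 n187 = n187 := d34_1 D187 (iv D187) F761
def n188 : Q := act 7 n153
theorem D188 : act 7 n153 = n188 := rfl
theorem F941 : act 0 n188 = n170 := d6_1 D188 (iv D170) (iv F763)
theorem F942 : act 1 n188 = n188 := d13_1 D188 (iv D188) F764
theorem F943 : act 4 n188 = n155 := d28_1 D188 (iv D155) (iv F766)
theorem F944 : act 6 n188 = n154 := d33_1 D188 (iv D154) (iv F767)
theorem F945 : act 8 n188 = n188 := d35_2 D153 D188 (iv D188) (iv D153) F620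
def n189 : Q := act 3 n154
theorem D189 : act 3 n154 = n189 := rfl
theorem F946 : act 0 n189 = n171 := d2_1 D189 (iv D171) (iv F768)
theorem F947 : act 1 n189 = n189 := d9_1 D189 (iv D189) F769
theorem F948 : act 4 n189 = n189 := d21_2 (iv F770) D189 (iv D189) F770 F633
theorem F949 : act 5 n189 = n189 := d22_2 F771 D189 (iv D189)
theorem F950 : act 7 n189 = n189 := d24_2 D154 D189 (iv D189) (iv D154) F623
theorem F951 : act 8 n189 = n189 := d25_2 F772 D189 (iv D189)
def n190 : Q := act 7 n157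
theorem D190 : act 7 n157 = n190 := rfl
theorem F952 : act 0 n190 = n190 := d6_1 D190 (iv D190) F787
theorem F953 : act 2 n190 = n190 := d19_1 D190 (iv D190) F788
theorem F954 : act 4 n190 = n190 := d28_1 D190 (iv D190) F790
theorem F955 : act 5 n190 = n158 := d31_1 D190 (iv D158) (iv F791)
theorem F956 : act 6 n190 = n190 := d33_1 D190 (iv D190) F792
theorem F957 : act 8 n190 = n190 := d35_2 D157 D190 (iv D190) (iv D157) F648
def n191 : Q := act 3 n158
theorem D191 : act 3 n158 = n191 := rfl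
theorem F958 : act 0 n191 = n191 := d2_1 D191 (iv D191) F793
theorem F959 : act 4 n191 = n191 := d21_2 (iv F795) D191 (iv D191) F795 F661
theorem F960 : act 6 n191 = n159 := d23_2 (iv F796) D191 (iv D159)
theorem F961 : act 7 n191 = n191 := d24_2 D158 D191 (iv D191) (iv D158) F651
theorem F962 : act 8 n191 = n191 := d25_2 F797 D191 (iv D191)
def n192 : Q := act 2 n159
theorem D192 : act 2 n159 = n192 := rfl
theorem F963 : act 0 n192 = n192 := d1_1 D192 (iv D192) F798
theorem F964 : act 3 n192 = n192 := d15_2 D159 D192 (iv D192) (iv D159) F655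
theorem F965 : act 4 n192 = n192 := d16_2 F799 D192 (iv D192)
theorem F966 : act 5 n192 = n192 := d17_2 F800 D192 (iv D192)
theorem F967 : act 7 n192 = n192 := d19_2 F801 D192 (iv D192)
theorem F968 : act 8 n192 = n192 := d20_2 F802 D192 (iv D192)
def n193 : Q := act 5 n160
theorem D193 : act 5 n160 = n193 := rfl
theorem F969 : act 1 n193 = n193 := d11_1 D193 (iv D193) F803
theorem F970 : act 2 n193 = n193 := d17_1 D193 (iv D193) F804
theorem F971 : act 3 n193 = n163 := d22_1 D193 (iv D163) (iv F805)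
theorem F972 : act 6 n193 = n193 := d30_2 D160 D193 (iv D193) (iv D160) F668
def n194 : Q := act 7 n160
theorem D194 : act 7 n160 = n194 := rfl
theorem F973 : act 1 n194 = n194 := d13_1 D194 (iv D194) F803
theorem F974 : act 2 n194 = n194 := d19_1 D194 (iv D194) F804
theorem F975 : act 3 n194 = n194 := d24_1 D194 (iv D194) F805 F672 (iv F805)
theorem F976 : act 4 n194 = n194 := d28_1 D194 (iv D194) F806
theorem F977 : act 6 n194 = n161 := d33_1 D194 (iv D161) D160
def n195 : Q := act 8 n160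
theorem D195 : act 8 n160 = n195 := rfl
theorem F978 : act 1 n195 = n195 := d14_1 D195 (iv D195) F803
theorem F979 : act 2 n195 = n195 := d20_1 D195 (iv D195) F804
theorem F980 : act 3 n195 = n164 := d25_1 D195 (iv D164) (iv F805)
theorem F981 : act 4 n195 = n195 := d29_1 D195 (iv D195) F806
theorem F982 : act 6 n195 = n162 := d34_1 D195 (iv D162) D160
def n196 : Q := act 8 n161
theorem D196 : act 8 n161 = n196 := rfl
theorem F983 : act 1 n196 = n196 := d14_1 D196 (iv D196) F807
theorem F984 : act 2 n196 = n196 := d20_1 D196 (iv D196) F808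
theorem F985 : act 3 n196 = n196 := d25_1 D196 (iv D196) F809
theorem F986 : act 4 n196 = n196 := d29_1 D196 (iv D196) F810
theorem F987 : act 5 n196 = n196 := d32_1 D196 (iv D196) F811
def n197 : Q := act 7 n162
theorem D197 : act 7 n162 = n197 := rfl
theorem F988 : act 1 n197 = n197 := d13_1 D197 (iv D197) F812
theorem F989 : act 2 n197 = n197 := d19_1 D197 (iv D197) F813
theorem F990 : act 4 n197 = n197 := d28_1 D197 (iv D197) F815
theorem F991 : act 5 n197 = n197 := d31_1 D197 (iv D197) F816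
def n198 : Q := act 8 n163
theorem D198 : act 8 n163 = n198 := rfl
theorem F992 : act 1 n198 = n198 := d14_1 D198 (iv D198) F817
theorem F993 : act 2 n198 = n169 := d20_1 D198 (iv D169) (iv F818)
theorem F994 : act 4 n198 = n198 := d29_1 D198 (iv D198) F819
theorem F995 : act 5 n198 = n164 := d32_1 D198 (iv D164) D163
theorem F996 : act 6 n198 = n198 := d34_1 D198 (iv D198) F820
def n199 : Q := act 7 n164
theorem D199 : act 7 n164 = n199 := rfl
theorem F997 : act 1 n199 = n199 := d13_1 D199 (iv D199) F822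
theorem F998 : act 2 n199 = n170 := d19_1 D199 (iv D170) (iv F823)
theorem F999 : act 4 n199 = n166 := d28_1 D199 (iv D166) (iv F824)
theorem F1000 : act 6 n199 = n165 := d33_1 D199 (iv D165) (iv F825)
theorem F1001 : act 8 n199 = n199 := d35_2 D164 D199 (iv D199) (iv D164) F672
def n200 : Q := act 3 n165
theorem D200 : act 3 n165 = n200 := rfl
theorem F1002 : act 1 n200 = n200 := d9_1 D200 (iv D200) F826
theorem F1003 : act 5 n200 = n200 := d22_2 F829 D200 (iv D200)
theorem F1004 : act 8 n200 = n200 := d25_2 F830 D200 (iv D200)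
def n201 : Q := act 3 n166
theorem D201 : act 3 n166 = n201 := rfl
theorem F1005 : act 1 n201 = n201 := d9_1 D201 (iv D201) F831
theorem F1006 : act 2 n201 = n201 := d15_1 D201 (iv D201) F832 F705 (iv F832)
theorem F1007 : act 5 n201 = n201 := d22_2 F833 D201 (iv D201)
theorem F1008 : act 6 n201 = n167 := d23_2 (iv F834) D201 (iv D167)
theorem F1009 : act 7 n201 = n201 := d24_2 D166 D201 (iv D201) (iv D166) F679
theorem F1010 : act 8 n201 = n201 := d25_2 F835 D201 (iv D201)
def n202 : Q := act 4 n167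
theorem D202 : act 4 n167 = n202 := rfl
theorem F1011 : act 1 n202 = n202 := d10_1 D202 (iv D202) F836
theorem F1012 : act 2 n202 = n202 := d16_1 D202 (iv D202) F837
theorem F1013 : act 7 n202 = n202 := d28_2 F839 D202 (iv D202)
theorem F1014 : act 8 n202 = n202 := d29_2 F840 D202 (iv D202)
def n203 : Q := act 5 n168
theorem D203 : act 5 n168 = n203 := rfl
theorem F1015 : act 1 n203 = n203 := d11_1 D203 (iv D203) F841
theorem F1016 : act 2 n203 = n203 := d17_1 D203 (iv D203) F842
theorem F1017 : act 3 n203 = n203 := d22_1 D203 (iv D203) F843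
theorem F1018 : act 7 n203 = n203 := d31_2 F845 D203 (iv D203)
theorem F1019 : act 8 n203 = n203 := d32_2 F846 D203 (iv D203)
def n204 : Q := act 7 n169
theorem D204 : act 7 n169 = n204 := rfl
theorem F1020 : act 1 n204 = n190 := d13_1 D204 (iv D190) (iv F847)
theorem F1021 : act 4 n204 = n204 := d28_1 D204 (iv D204) F849
theorem F1022 : act 5 n204 = n170 := d31_1 D204 (iv D170) (iv F850)
theorem F1023 : act 6 n204 = n204 := d33_1 D204 (iv D204) F851
theorem F1024 : act 8 n204 = n204 := d35_2 D169 D204 (iv D204) (iv D169) F695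
def n205 : Q := act 3 n170
theorem D205 : act 3 n170 = n205 := rfl
theorem F1025 : act 1 n205 = n191 := d9_1 D205 (iv D191) (iv F852)
theorem F1026 : act 4 n205 = n205 := d21_2 (iv F853) D205 (iv D205) F853 F705
theorem F1027 : act 6 n205 = n171 := d23_2 (iv F854) D205 (iv D171)
theorem F1028 : act 7 n205 = n205 := d24_2 D170 D205 (iv D205) (iv D170) F697
theorem F1029 : act 8 n205 = n205 := d25_2 F855 D205 (iv D205)
def n206 : Q := act 2 n171
theorem D206 : act 2 n171 = n206 := rfl
theorem F1030 : act 4 n206 = n206 := d16_2 F857 D206 (iv D206)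
theorem F1031 : act 5 n206 = n206 := d17_2 F858 D206 (iv D206)
theorem F1032 : act 7 n206 = n206 := d19_2 F859 D206 (iv D206)
theorem F1033 : act 8 n206 = n206 := d20_2 F860 D206 (iv D206)
def n207 : Q := act 2 n172
theorem D207 : act 2 n172 = n207 := rfl
theorem F1034 : act 0 n207 = n207 := d1_1 D207 (iv D207) F861
theorem F1035 : act 1 n207 = n207 := d8_1 D207 (iv D207) F862 F732 (iv F862)
theorem F1036 : act 3 n207 = n207 := d15_2 D172 D207 (iv D207) (iv D172) F711
theorem F1037 : act 4 n207 = n207 := d16_2 F863 D207 (iv D207)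
theorem F1038 : act 5 n207 = n207 := d17_2 F864 D207 (iv D207)
def n208 : Q := act 6 n172
theorem D208 : act 6 n172 = n208 := rfl
theorem F1039 : act 0 n208 = n208 := d5_1 D208 (iv D208) F861
theorem F1040 : act 1 n208 = n178 := d12_1 D208 (iv D178) (iv F862)
theorem F1041 : act 3 n208 = n173 := d23_1 D208 (iv D173) D172
theorem F1042 : act 4 n208 = n208 := d27_1 D208 (iv D208) F863
def n209 : Q := act 7 n172
theorem D209 : act 7 n172 = n209 := rfl
theorem F1043 : act 0 n209 = n209 := d6_1 D209 (iv D209) F861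
theorem F1044 : act 1 n209 = n179 := d13_1 D209 (iv D179) (iv F862)
theorem F1045 : act 3 n209 = n209 := d24_1 D209 (iv D209) (iv D172) F713 D172
theorem F1046 : act 4 n209 = n209 := d28_1 D209 (iv D209) F863
theorem F1047 : act 5 n209 = n209 := d31_1 D209 (iv D209) F864
def n210 : Q := act 8 n172
theorem D210 : act 8 n172 = n210 := rfl
theorem F1048 : act 0 n210 = n210 := d7_1 D210 (iv D210) F861
theorem F1049 : act 1 n210 = n180 := d14_1 D210 (iv D180) (iv F862)
theorem F1050 : act 3 n210 = n174 := d25_1 D210 (iv D174) D172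
theorem F1051 : act 4 n210 = n210 := d29_1 D210 (iv D210) F863
theorem F1052 : act 5 n210 = n210 := d32_1 D210 (iv D210) F864
def n211 : Q := act 5 n173
theorem D211 : act 5 n173 = n211 := rfl
theorem F1053 : act 0 n211 = n211 := d4_1 D211 (iv D211) F865
theorem F1054 : act 1 n211 = n181 := d11_1 D211 (iv D181) (iv F866)
theorem F1055 : act 2 n211 = n211 := d17_1 D211 (iv D211) F867
theorem F1056 : act 4 n211 = n211 := d26_1 D211 (iv D211) F868 F718 (iv F868)
theorem F1057 : act 6 n211 = n211 := d30_2 D173 D211 (iv D211) (iv D173) F712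
theorem F1058 : act 7 n211 = n211 := d31_2 F869 D211 (iv D211)
def n212 : Q := act 8 n173
theorem D212 : act 8 n173 = n212 := rfl
theorem F1059 : act 0 n212 = n212 := d7_1 D212 (iv D212) F865
theorem F1060 : act 1 n212 = n182 := d14_1 D212 (iv D182) (iv F866)
theorem F1061 : act 2 n212 = n212 := d20_1 D212 (iv D212) F867
theorem F1062 : act 4 n212 = n175 := d29_1 D212 (iv D175) (iv F868)
theorem F1063 : act 6 n212 = n174 := d34_1 D212 (iv D174) D173
def n213 : Q := act 7 n174
theorem D213 : act 7 n174 = n213 := rfl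
theorem F1064 : act 0 n213 = n213 := d6_1 D213 (iv D213) F870
theorem F1065 : act 1 n213 = n183 := d13_1 D213 (iv D183) (iv F871)
theorem F1066 : act 2 n213 = n213 := d19_1 D213 (iv D213) F872
theorem F1067 : act 4 n213 = n176 := d28_1 D213 (iv D176) (iv F873)
theorem F1068 : act 5 n213 = n213 := d31_1 D213 (iv D213) F874
theorem F1069 : act 8 n213 = n213 := d35_2 D174 D213 (iv D213) (iv D174) F713
def n214 : Q := act 7 n175
theorem D214 : act 7 n175 = n214 := rfl
theorem F1070 : act 0 n214 = n214 := d6_1 D214 (iv D214) F875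
theorem F1071 : act 1 n214 = n184 := d13_1 D214 (iv D184) (iv F876)
theorem F1072 : act 2 n214 = n214 := d19_1 D214 (iv D214) F877
theorem F1073 : act 5 n214 = n214 := d31_1 D214 (iv D214) F879
theorem F1074 : act 6 n214 = n176 := d33_1 D214 (iv D176) (iv F880)
theorem F1075 : act 8 n214 = n214 := d35_2 D175 D214 (iv D214) (iv D175) F719
def n215 : Q := act 3 n176
theorem D215 : act 3 n176 = n215 := rfl
theorem F1076 : act 0 n215 = n215 := d2_1 D215 (iv D215) F881
theorem F1077 : act 1 n215 = n185 := d9_1 D215 (iv D185) (iv F882)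
theorem F1078 : act 5 n215 = n177 := d22_2 (iv F884) D215 (iv D177)
theorem F1079 : act 7 n215 = n215 := d24_2 D176 D215 (iv D215) (iv D176) F723
theorem F1080 : act 8 n215 = n215 := d25_2 F885 D215 (iv D215)
def n216 : Q := act 2 n177
theorem D216 : act 2 n177 = n216 := rfl
theorem F1081 : act 0 n216 = n216 := d1_1 D216 (iv D216) F886
theorem F1082 : act 1 n216 = n216 := d8_1 D216 (iv D216) F887 F753 (iv F887)
theorem F1083 : act 3 n216 = n216 := d15_2 D177 D216 (iv D216) (iv D177) F727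
theorem F1084 : act 6 n216 = n216 := d18_2 F888 D216 (iv D216)
theorem F1085 : act 7 n216 = n216 := d19_2 F889 D216 (iv D216)
theorem F1086 : act 8 n216 = n216 := d20_2 F890 D216 (iv D216)
def n217 : Q := act 4 n177
theorem D217 : act 4 n177 = n217 := rfl
theorem F1087 : act 0 n217 = n217 := d3_1 D217 (iv D217) F886
theorem F1088 : act 1 n217 = n186 := d10_1 D217 (iv D186) (iv F887)
theorem F1089 : act 3 n217 = n217 := d21_1 D217 (iv D217) (iv D177) F728 D177
theorem F1090 : act 6 n217 = n217 := d27_2 F888 D217 (iv D217)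
theorem F1091 : act 7 n217 = n217 := d28_2 F889 D217 (iv D217)
theorem F1092 : act 8 n217 = n217 := d29_2 F890 D217 (iv D217)
def n218 : Q := act 5 n178
theorem D218 : act 5 n178 = n218 := rfl
theorem F1093 : act 0 n218 = n193 := d4_1 D218 (iv D193) (iv F891)
theorem F1094 : act 2 n218 = n218 := d17_1 D218 (iv D218) F892
theorem F1095 : act 3 n218 = n181 := d22_1 D218 (iv D181) (iv F893)
theorem F1096 : act 6 n218 = n218 := d30_2 D178 D218 (iv D218) (iv D178) F734
def n219 : Q := act 7 n178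
theorem D219 : act 7 n178 = n219 := rfl
theorem F1097 : act 0 n219 = n194 := d6_1 D219 (iv D194) (iv F891)
theorem F1098 : act 2 n219 = n219 := d19_1 D219 (iv D219) F892
theorem F1099 : act 3 n219 = n219 := d24_1 D219 (iv D219) F893 F738 (iv F893)
theorem F1100 : act 4 n219 = n219 := d28_1 D219 (iv D219) F894
theorem F1101 : act 6 n219 = n179 := d33_1 D219 (iv D179) D178
def n220 : Q := act 8 n178
theorem D220 : act 8 n178 = n220 := rfl
theorem F1102 : act 0 n220 = n195 := d7_1 D220 (iv D195) (iv F891)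
theorem F1103 : act 2 n220 = n220 := d20_1 D220 (iv D220) F892
theorem F1104 : act 3 n220 = n182 := d25_1 D220 (iv D182) (iv F893)
theorem F1105 : act 4 n220 = n220 := d29_1 D220 (iv D220) F894
theorem F1106 : act 6 n220 = n180 := d34_1 D220 (iv D180) D178
def n221 : Q := act 8 n179
theorem D221 : act 8 n179 = n221 := rfl
theorem F1107 : act 0 n221 = n196 := d7_1 D221 (iv D196) (iv F895)
theorem F1108 : act 2 n221 = n221 := d20_1 D221 (iv D221) F896
theorem F1109 : act 3 n221 = n221 := d25_1 D221 (iv D221) F897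
theorem F1110 : act 4 n221 = n221 := d29_1 D221 (iv D221) F898
theorem F1111 : act 5 n221 = n221 := d32_1 D221 (iv D221) F899
def n222 : Q := act 7 n180
theorem D222 : act 7 n180 = n222 := rfl
theorem F1112 : act 0 n222 = n197 := d6_1 D222 (iv D197) (iv F900)
theorem F1113 : act 2 n222 = n222 := d19_1 D222 (iv D222) F901
theorem F1114 : act 4 n222 = n222 := d28_1 D222 (iv D222) F903
theorem F1115 : act 5 n222 = n222 := d31_1 D222 (iv D222) F904
def n223 : Q := act 8 n181
theorem D223 : act 8 n181 = n223 := rfl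
theorem F1116 : act 0 n223 = n198 := d7_1 D223 (iv D198) (iv F905)
theorem F1117 : act 2 n223 = n187 := d20_1 D223 (iv D187) (iv F906)
theorem F1118 : act 4 n223 = n223 := d29_1 D223 (iv D223) F907
theorem F1119 : act 5 n223 = n182 := d32_1 D223 (iv D182) D181
theorem F1120 : act 6 n223 = n223 := d34_1 D223 (iv D223) F908
def n224 : Q := act 7 n182
theorem D224 : act 7 n182 = n224 := rfl
theorem F1121 : act 0 n224 = n199 := d6_1 D224 (iv D199) (iv F910)
theorem F1122 : act 2 n224 = n188 := d19_1 D224 (iv D188) (iv F911)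
theorem F1123 : act 4 n224 = n184 := d28_1 D224 (iv D184) (iv F912)
theorem F1124 : act 6 n224 = n183 := d33_1 D224 (iv D183) (iv F913)
theorem F1125 : act 8 n224 = n224 := d35_2 D182 D224 (iv D224) (iv D182) F738
def n225 : Q := act 3 n183
theorem D225 : act 3 n183 = n225 := rfl
theorem F1126 : act 0 n225 = n200 := d2_1 D225 (iv D200) (iv F914)
theorem F1127 : act 5 n225 = n225 := d22_2 F917 D225 (iv D225)
theorem F1128 : act 8 n225 = n225 := d25_2 F918 D225 (iv D225)
def n226 : Q := act 3 n184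
theorem D226 : act 3 n184 = n226 := rfl
theorem F1129 : act 0 n226 = n201 := d2_1 D226 (iv D201) (iv F919)
theorem F1130 : act 2 n226 = n226 := d15_1 D226 (iv D226) F920 F775 (iv F920)
theorem F1131 : act 5 n226 = n226 := d22_2 F921 D226 (iv D226)
theorem F1132 : act 6 n226 = n185 := d23_2 (iv F922) D226 (iv D185)
theorem F1133 : act 7 n226 = n226 := d24_2 D184 D226 (iv D226) (iv D184) F745
theorem F1134 : act 8 n226 = n226 := d25_2 F923 D226 (iv D226)
def n227 : Q := act 4 n185
theorem D227 : act 4 n185 = n227 := rfl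
theorem F1135 : act 0 n227 = n202 := d3_1 D227 (iv D202) (iv F924)
theorem F1136 : act 2 n227 = n227 := d16_1 D227 (iv D227) F925
theorem F1137 : act 7 n227 = n227 := d28_2 F927 D227 (iv D227)
theorem F1138 : act 8 n227 = n227 := d29_2 F928 D227 (iv D227)
def n228 : Q := act 5 n186
theorem D228 : act 5 n186 = n228 := rfl
theorem F1139 : act 0 n228 = n203 := d4_1 D228 (iv D203) (iv F929)
theorem F1140 : act 2 n228 = n228 := d17_1 D228 (iv D228) F930
theorem F1141 : act 3 n228 = n228 := d22_1 D228 (iv D228) F931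
theorem F1142 : act 7 n228 = n228 := d31_2 F933 D228 (iv D228)
theorem F1143 : act 8 n228 = n228 := d32_2 F934 D228 (iv D228)
def n229 : Q := act 7 n187
theorem D229 : act 7 n187 = n229 := rfl
theorem F1144 : act 0 n229 = n204 := d6_1 D229 (iv D204) (iv F935)
theorem F1145 : act 1 n229 = n229 := d13_1 D229 (iv D229) F936
theorem F1146 : act 4 n229 = n229 := d28_1 D229 (iv D229) F938
theorem F1147 : act 5 n229 = n188 := d31_1 D229 (iv D188) (iv F939)
theorem F1148 : act 6 n229 = n229 := d33_1 D229 (iv D229) F940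
theorem F1149 : act 8 n229 = n229 := d35_2 D187 D229 (iv D229) (iv D187) F762
def n230 : Q := act 3 n188
theorem D230 : act 3 n188 = n230 := rfl
theorem F1150 : act 0 n230 = n205 := d2_1 D230 (iv D205) (iv F941)
theorem F1151 : act 1 n230 = n230 := d9_1 D230 (iv D230) F942
theorem F1152 : act 4 n230 = n230 := d21_2 (iv F943) D230 (iv D230) F943 F775
theorem F1153 : act 6 n230 = n189 := d23_2 (iv F944) D230 (iv D189)
theorem F1154 : act 7 n230 = n230 := d24_2 D188 D230 (iv D230) (iv D188) F765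
theorem F1155 : act 8 n230 = n230 := d25_2 F945 D230 (iv D230)
def n231 : Q := act 2 n189
theorem D231 : act 2 n189 = n231 := rfl
theorem F1156 : act 0 n231 = n206 := d1_1 D231 (iv D206) (iv F946)
theorem F1157 : act 4 n231 = n231 := d16_2 F948 D231 (iv D231)
theorem F1158 : act 5 n231 = n231 := d17_2 F949 D231 (iv D231)
theorem F1159 : act 7 n231 = n231 := d19_2 F950 D231 (iv D231)
theorem F1160 : act 8 n231 = n231 := d20_2 F951 D231 (iv D231)
def n232 : Q := act 3 n190
theorem D232 : act 3 n190 = n232 := rfl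
theorem F1161 : act 0 n232 = n232 := d2_1 D232 (iv D232) F952
theorem F1162 : act 5 n232 = n191 := d22_2 (iv F955) D232 (iv D191)
theorem F1163 : act 6 n232 = n232 := d23_2 F956 D232 (iv D232)
theorem F1164 : act 7 n232 = n232 := d24_2 D190 D232 (iv D232) (iv D190) F789
theorem F1165 : act 8 n232 = n232 := d25_2 F957 D232 (iv D232)
def n233 : Q := act 2 n191
theorem D233 : act 2 n191 = n233 := rfl
theorem F1166 : act 0 n233 = n233 := d1_1 D233 (iv D233) F958
theorem F1167 : act 3 n233 = n233 := d15_2 D191 D233 (iv D233) (iv D191) F794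
theorem F1168 : act 4 n233 = n233 := d16_2 F959 D233 (iv D233)
theorem F1169 : act 6 n233 = n192 := d18_2 (iv F960) D233 (iv D192)
theorem F1170 : act 7 n233 = n233 := d19_2 F961 D233 (iv D233)
theorem F1171 : act 8 n233 = n233 := d20_2 F962 D233 (iv D233)
def n234 : Q := act 1 n192
theorem D234 : act 1 n192 = n234 := rfl
theorem F1172 : act 3 n234 = n234 := d9_2 F964 D234 (iv D234)
theorem F1173 : act 4 n234 = n234 := d10_2 F965 D234 (iv D234)
theorem F1174 : act 5 n234 = n234 := d11_2 F966 D234 (iv D234)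
theorem F1175 : act 7 n234 = n234 := d13_2 F967 D234 (iv D234)
theorem F1176 : act 8 n234 = n234 := d14_2 F968 D234 (iv D234)
def n235 : Q := act 4 n193
theorem D235 : act 4 n193 = n235 := rfl
theorem F1177 : act 1 n235 = n235 := d10_1 D235 (iv D235) F969
theorem F1178 : act 2 n235 = n235 := d16_1 D235 (iv D235) F970
theorem F1179 : act 3 n235 = n235 := d21_1 D235 (iv D235) F971 F819 (iv F971)
theorem F1180 : act 5 n235 = n235 := d26_2 D193 D235 (iv D235) (iv D193) F806
theorem F1181 : act 6 n235 = n235 := d27_2 F972 D235 (iv D235)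
def n236 : Q := act 7 n193
theorem D236 : act 7 n193 = n236 := rfl
theorem F1182 : act 1 n236 = n236 := d13_1 D236 (iv D236) F969
theorem F1183 : act 2 n236 = n236 := d19_1 D236 (iv D236) F970
theorem F1184 : act 3 n236 = n236 := d24_1 D236 (iv D236) F971 F821 (iv F971)
theorem F1185 : act 5 n236 = n194 := d31_1 D236 (iv D194) D193
theorem F1186 : act 6 n236 = n236 := d33_1 D236 (iv D236) F972
def n237 : Q := act 8 n193
theorem D237 : act 8 n193 = n237 := rfl
theorem F1187 : act 1 n237 = n237 := d14_1 D237 (iv D237) F969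
theorem F1188 : act 2 n237 = n237 := d20_1 D237 (iv D237) F970
theorem F1189 : act 3 n237 = n198 := d25_1 D237 (iv D198) (iv F971)
theorem F1190 : act 5 n237 = n195 := d32_1 D237 (iv D195) D193
theorem F1191 : act 6 n237 = n237 := d34_1 D237 (iv D237) F972
def n238 : Q := act 8 n194
theorem D238 : act 8 n194 = n238 := rfl
theorem F1192 : act 1 n238 = n238 := d14_1 D238 (iv D238) F973
theorem F1193 : act 2 n238 = n238 := d20_1 D238 (iv D238) F974
theorem F1194 : act 3 n238 = n238 := d25_1 D238 (iv D238) F975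
theorem F1195 : act 4 n238 = n238 := d29_1 D238 (iv D238) F976
theorem F1196 : act 6 n238 = n196 := d34_1 D238 (iv D196) (iv F977)
def n239 : Q := act 7 n195
theorem D239 : act 7 n195 = n239 := rfl
theorem F1197 : act 1 n239 = n239 := d13_1 D239 (iv D239) F978
theorem F1198 : act 2 n239 = n239 := d19_1 D239 (iv D239) F979
theorem F1199 : act 4 n239 = n239 := d28_1 D239 (iv D239) F981
theorem F1200 : act 6 n239 = n197 := d33_1 D239 (iv D197) (iv F982)
def n240 : Q := act 7 n196
theorem D240 : act 7 n196 = n240 := rfl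
theorem F1201 : act 1 n240 = n240 := d13_1 D240 (iv D240) F983
theorem F1202 : act 2 n240 = n240 := d19_1 D240 (iv D240) F984
theorem F1203 : act 4 n240 = n240 := d28_1 D240 (iv D240) F986
theorem F1204 : act 5 n240 = n240 := d31_1 D240 (iv D240) F987
theorem F1205 : act 8 n240 = n197 := d35_2 D196 D240 (iv D197) (iv D162) D161
def n241 : Q := act 3 n197
theorem D241 : act 3 n197 = n241 := rfl
theorem F1206 : act 1 n241 = n241 := d9_1 D241 (iv D241) F988
theorem F1207 : act 5 n241 = n241 := d22_2 F991 D241 (iv D241)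
theorem F1208 : act 7 n241 = n200 := d24_2 D197 D241 (iv D200) (iv D165) (iv F814)
def n242 : Q := act 7 n198
theorem D242 : act 7 n198 = n242 := rfl
theorem F1209 : act 1 n242 = n242 := d13_1 D242 (iv D242) F992
theorem F1210 : act 2 n242 = n204 := d19_1 D242 (iv D204) (iv F993)
theorem F1211 : act 4 n242 = n242 := d28_1 D242 (iv D242) F994
theorem F1212 : act 5 n242 = n199 := d31_1 D242 (iv D199) (iv F995)
theorem F1213 : act 6 n242 = n242 := d33_1 D242 (iv D242) F996
theorem F1214 : act 8 n242 = n242 := d35_2 D198 D242 (iv D242) (iv D198) F821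
def n243 : Q := act 3 n199
theorem D243 : act 3 n199 = n243 := rfl
theorem F1215 : act 1 n243 = n243 := d9_1 D243 (iv D243) F997
theorem F1216 : act 6 n243 = n200 := d23_2 (iv F1000) D243 (iv D200)
theorem F1217 : act 8 n243 = n243 := d25_2 F1001 D243 (iv D243)
def n244 : Q := act 2 n200
theorem D244 : act 2 n200 = n244 := rfl
theorem F1218 : act 3 n244 = n206 := d15_2 D200 D244 (iv D206) (iv D171) (iv F827)
theorem F1219 : act 5 n244 = n244 := d17_2 F1003 D244 (iv D244)
theorem F1220 : act 8 n244 = n244 := d20_2 F1004 D244 (iv D244)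
def n245 : Q := act 4 n200
theorem D245 : act 4 n200 = n245 := rfl
theorem F1221 : act 1 n245 = n245 := d10_1 D245 (iv D245) F1002
theorem F1222 : act 3 n245 = n202 := d21_1 D245 (iv D202) (iv D167) (iv F828) D200
theorem F1223 : act 8 n245 = n245 := d29_2 F1004 D245 (iv D245)
def n246 : Q := act 4 n201
theorem D246 : act 4 n201 = n246 := rfl
theorem F1224 : act 1 n246 = n246 := d10_1 D246 (iv D246) F1005
theorem F1225 : act 2 n246 = n246 := d16_1 D246 (iv D246) F1006
theorem F1226 : act 6 n246 = n202 := d27_2 (iv F1008) D246 (iv D202)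
theorem F1227 : act 7 n246 = n246 := d28_2 F1009 D246 (iv D246)
theorem F1228 : act 8 n246 = n246 := d29_2 F1010 D246 (iv D246)
def n247 : Q := act 5 n202
theorem D247 : act 5 n202 = n247 := rfl
theorem F1229 : act 1 n247 = n247 := d11_1 D247 (iv D247) F1011
theorem F1230 : act 2 n247 = n247 := d17_1 D247 (iv D247) F1012
theorem F1231 : act 4 n247 = n203 := d26_1 D247 (iv D203) (iv D168) (iv F838) D202
theorem F1232 : act 7 n247 = n247 := d31_2 F1013 D247 (iv D247)
theorem F1233 : act 8 n247 = n247 := d32_2 F1014 D247 (iv D247)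
def n248 : Q := act 6 n203
theorem D248 : act 6 n203 = n248 := rfl
theorem F1234 : act 1 n248 = n248 := d12_1 D248 (iv D248) F1015
theorem F1235 : act 2 n248 = n248 := d18_1 D248 (iv D248) F1016
theorem F1236 : act 3 n248 = n248 := d23_1 D248 (iv D248) F1017
theorem F1237 : act 5 n248 = n248 := d30_1 D248 (iv D248) (iv D203) F844 D203
theorem F1238 : act 7 n248 = n248 := d33_2 F1018 D248 (iv D248)
theorem F1239 : act 8 n248 = n248 := d34_2 F1019 D248 (iv D248)
def n249 : Q := act 3 n204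
theorem D249 : act 3 n204 = n249 := rfl
theorem F1240 : act 1 n249 = n232 := d9_1 D249 (iv D232) (iv F1020)
theorem F1241 : act 5 n249 = n205 := d22_2 (iv F1022) D249 (iv D205)
theorem F1242 : act 6 n249 = n249 := d23_2 F1023 D249 (iv D249)
theorem F1243 : act 7 n249 = n249 := d24_2 D204 D249 (iv D249) (iv D204) F848
theorem F1244 : act 8 n249 = n249 := d25_2 F1024 D249 (iv D249)
def n250 : Q := act 2 n205
theorem D250 : act 2 n205 = n250 := rfl
theorem F1245 : act 4 n250 = n250 := d16_2 F1026 D250 (iv D250)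
theorem F1246 : act 6 n250 = n206 := d18_2 (iv F1027) D250 (iv D206)
theorem F1247 : act 7 n250 = n250 := d19_2 F1028 D250 (iv D250)
theorem F1248 : act 8 n250 = n250 := d20_2 F1029 D250 (iv D250)
def n251 : Q := act 1 n206
theorem D251 : act 1 n206 = n251 := rfl
theorem F1249 : act 2 n251 = n234 := d8_2 D206 D251 (iv D234) (iv D192) (iv F856)
theorem F1250 : act 4 n251 = n251 := d10_2 F1030 D251 (iv D251)
theorem F1251 : act 5 n251 = n251 := d11_2 F1031 D251 (iv D251)
theorem F1252 : act 7 n251 = n251 := d13_2 F1032 D251 (iv D251)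
theorem F1253 : act 8 n251 = n251 := d14_2 F1033 D251 (iv D251)
def n252 : Q := act 6 n207
theorem D252 : act 6 n207 = n252 := rfl
theorem F1254 : act 0 n252 = n252 := d5_1 D252 (iv D252) F1034
theorem F1255 : act 1 n252 = n252 := d12_1 D252 (iv D252) F1035
theorem F1256 : act 2 n252 = n208 := d18_1 D252 (iv D208) D207
theorem F1257 : act 3 n252 = n252 := d23_1 D252 (iv D252) F1036
theorem F1258 : act 4 n252 = n252 := d27_1 D252 (iv D252) F1037
def n253 : Q := act 7 n207
theorem D253 : act 7 n207 = n253 := rfl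
theorem F1259 : act 0 n253 = n253 := d6_1 D253 (iv D253) F1034
theorem F1260 : act 1 n253 = n253 := d13_1 D253 (iv D253) F1035
theorem F1261 : act 2 n253 = n209 := d19_1 D253 (iv D209) D207
theorem F1262 : act 4 n253 = n253 := d28_1 D253 (iv D253) F1037
theorem F1263 : act 5 n253 = n253 := d31_1 D253 (iv D253) F1038
def n254 : Q := act 8 n207
theorem D254 : act 8 n207 = n254 := rfl
theorem F1264 : act 0 n254 = n254 := d7_1 D254 (iv D254) F1034
theorem F1265 : act 1 n254 = n254 := d14_1 D254 (iv D254) F1035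
theorem F1266 : act 2 n254 = n210 := d20_1 D254 (iv D210) D207
theorem F1267 : act 3 n254 = n254 := d25_1 D254 (iv D254) F1036
theorem F1268 : act 4 n254 = n254 := d29_1 D254 (iv D254) F1037
theorem F1269 : act 5 n254 = n254 := d32_1 D254 (iv D254) F1038
def n255 : Q := act 5 n208
theorem D255 : act 5 n208 = n255 := rfl
theorem F1270 : act 0 n255 = n255 := d4_1 D255 (iv D255) F1039
theorem F1271 : act 1 n255 = n218 := d11_1 D255 (iv D218) (iv F1040)
theorem F1272 : act 3 n255 = n211 := d22_1 D255 (iv D211) (iv F1041)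
theorem F1273 : act 6 n255 = n255 := d30_2 D208 D255 (iv D255) (iv D208) F864
def n256 : Q := act 7 n208
theorem D256 : act 7 n208 = n256 := rfl
theorem F1274 : act 0 n256 = n256 := d6_1 D256 (iv D256) F1039
theorem F1275 : act 1 n256 = n219 := d13_1 D256 (iv D219) (iv F1040)
theorem F1276 : act 3 n256 = n256 := d24_1 D256 (iv D256) F1041 F869 (iv F1041)
theorem F1277 : act 4 n256 = n256 := d28_1 D256 (iv D256) F1042
theorem F1278 : act 6 n256 = n209 := d33_1 D256 (iv D209) D208
def n257 : Q := act 8 n208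
theorem D257 : act 8 n208 = n257 := rfl
theorem F1279 : act 0 n257 = n257 := d7_1 D257 (iv D257) F1039
theorem F1280 : act 1 n257 = n220 := d14_1 D257 (iv D220) (iv F1040)
theorem F1281 : act 3 n257 = n212 := d25_1 D257 (iv D212) (iv F1041)
theorem F1282 : act 4 n257 = n257 := d29_1 D257 (iv D257) F1042
theorem F1283 : act 6 n257 = n210 := d34_1 D257 (iv D210) D208
def n258 : Q := act 8 n209
theorem D258 : act 8 n209 = n258 := rfl
theorem F1284 : act 0 n258 = n258 := d7_1 D258 (iv D258) F1043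
theorem F1285 : act 1 n258 = n221 := d14_1 D258 (iv D221) (iv F1044)
theorem F1286 : act 3 n258 = n258 := d25_1 D258 (iv D258) F1045
theorem F1287 : act 4 n258 = n258 := d29_1 D258 (iv D258) F1046
theorem F1288 : act 5 n258 = n258 := d32_1 D258 (iv D258) F1047
def n259 : Q := act 7 n210
theorem D259 : act 7 n210 = n259 := rfl
theorem F1289 : act 0 n259 = n259 := d6_1 D259 (iv D259) F1048
theorem F1290 : act 1 n259 = n222 := d13_1 D259 (iv D222) (iv F1049)
theorem F1291 : act 4 n259 = n259 := d28_1 D259 (iv D259) F1051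
theorem F1292 : act 5 n259 = n259 := d31_1 D259 (iv D259) F1052
def n260 : Q := act 8 n211
theorem D260 : act 8 n211 = n260 := rfl
theorem F1293 : act 0 n260 = n260 := d7_1 D260 (iv D260) F1053
theorem F1294 : act 1 n260 = n223 := d14_1 D260 (iv D223) (iv F1054)
theorem F1295 : act 2 n260 = n260 := d20_1 D260 (iv D260) F1055
theorem F1296 : act 4 n260 = n260 := d29_1 D260 (iv D260) F1056
theorem F1297 : act 5 n260 = n212 := d32_1 D260 (iv D212) D211
theorem F1298 : act 6 n260 = n260 := d34_1 D260 (iv D260) F1057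
def n261 : Q := act 7 n212
theorem D261 : act 7 n212 = n261 := rfl
theorem F1299 : act 0 n261 = n261 := d6_1 D261 (iv D261) F1059
theorem F1300 : act 1 n261 = n224 := d13_1 D261 (iv D224) (iv F1060)
theorem F1301 : act 2 n261 = n261 := d19_1 D261 (iv D261) F1061
theorem F1302 : act 4 n261 = n214 := d28_1 D261 (iv D214) (iv F1062)
theorem F1303 : act 6 n261 = n213 := d33_1 D261 (iv D213) (iv F1063)
theorem F1304 : act 8 n261 = n261 := d35_2 D212 D261 (iv D261) (iv D212) F869
def n262 : Q := act 3 n213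
theorem D262 : act 3 n213 = n262 := rfl
theorem F1305 : act 0 n262 = n262 := d2_1 D262 (iv D262) F1064
theorem F1306 : act 1 n262 = n225 := d9_1 D262 (iv D225) (iv F1065)
theorem F1307 : act 5 n262 = n262 := d22_2 F1068 D262 (iv D262)
theorem F1308 : act 8 n262 = n262 := d25_2 F1069 D262 (iv D262)
def n263 : Q := act 3 n214
theorem D263 : act 3 n214 = n263 := rfl
theorem F1309 : act 0 n263 = n263 := d2_1 D263 (iv D263) F1070
theorem F1310 : act 1 n263 = n226 := d9_1 D263 (iv D226) (iv F1071)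
theorem F1311 : act 5 n263 = n263 := d22_2 F1073 D263 (iv D263)
theorem F1312 : act 6 n263 = n215 := d23_2 (iv F1074) D263 (iv D215)
theorem F1313 : act 7 n263 = n263 := d24_2 D214 D263 (iv D263) (iv D214) F878
theorem F1314 : act 8 n263 = n263 := d25_2 F1075 D263 (iv D263)
def n264 : Q := act 2 n215
theorem D264 : act 2 n215 = n264 := rfl
theorem F1315 : act 0 n264 = n264 := d1_1 D264 (iv D264) F1076
theorem F1316 : act 1 n264 = n264 := d8_1 D264 (iv D264) F1077 F925 (iv F1077)
theorem F1317 : act 3 n264 = n264 := d15_2 D215 D264 (iv D264) (iv D215) F883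
theorem F1318 : act 5 n264 = n216 := d17_2 (iv F1078) D264 (iv D216)
theorem F1319 : act 7 n264 = n264 := d19_2 F1079 D264 (iv D264)
theorem F1320 : act 8 n264 = n264 := d20_2 F1080 D264 (iv D264)
def n265 : Q := act 4 n215
theorem D265 : act 4 n215 = n265 := rfl
theorem F1321 : act 0 n265 = n265 := d3_1 D265 (iv D265) F1076
theorem F1322 : act 1 n265 = n227 := d10_1 D265 (iv D227) (iv F1077)
theorem F1323 : act 7 n265 = n265 := d28_2 F1079 D265 (iv D265)
theorem F1324 : act 8 n265 = n265 := d29_2 F1080 D265 (iv D265)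
def n266 : Q := act 4 n216
theorem D266 : act 4 n216 = n266 := rfl
theorem F1325 : act 0 n266 = n266 := d3_1 D266 (iv D266) F1081
theorem F1326 : act 1 n266 = n266 := d10_1 D266 (iv D266) F1082
theorem F1327 : act 2 n266 = n217 := d16_1 D266 (iv D217) D216
theorem F1328 : act 6 n266 = n266 := d27_2 F1084 D266 (iv D266)
theorem F1329 : act 7 n266 = n266 := d28_2 F1085 D266 (iv D266)
theorem F1330 : act 8 n266 = n266 := d29_2 F1086 D266 (iv D266)
def n267 : Q := act 5 n217
theorem D267 : act 5 n217 = n267 := rfl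
theorem F1331 : act 0 n267 = n267 := d4_1 D267 (iv D267) F1087
theorem F1332 : act 1 n267 = n228 := d11_1 D267 (iv D228) (iv F1088)
theorem F1333 : act 3 n267 = n267 := d22_1 D267 (iv D267) F1089
theorem F1334 : act 7 n267 = n267 := d31_2 F1091 D267 (iv D267)
theorem F1335 : act 8 n267 = n267 := d32_2 F1092 D267 (iv D267)
def n268 : Q := act 4 n218
theorem D268 : act 4 n218 = n268 := rfl
theorem F1336 : act 0 n268 = n235 := d3_1 D268 (iv D235) (iv F1093)
theorem F1337 : act 2 n268 = n268 := d16_1 D268 (iv D268) F1094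
theorem F1338 : act 3 n268 = n268 := d21_1 D268 (iv D268) F1095 F907 (iv F1095)
theorem F1339 : act 5 n268 = n268 := d26_2 D218 D268 (iv D268) (iv D218) F894
theorem F1340 : act 6 n268 = n268 := d27_2 F1096 D268 (iv D268)
def n269 : Q := act 7 n218
theorem D269 : act 7 n218 = n269 := rfl
theorem F1341 : act 0 n269 = n236 := d6_1 D269 (iv D236) (iv F1093)
theorem F1342 : act 2 n269 = n269 := d19_1 D269 (iv D269) F1094
theorem F1343 : act 3 n269 = n269 := d24_1 D269 (iv D269) F1095 F909 (iv F1095)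
theorem F1344 : act 5 n269 = n219 := d31_1 D269 (iv D219) D218
theorem F1345 : act 6 n269 = n269 := d33_1 D269 (iv D269) F1096
def n270 : Q := act 8 n218
theorem D270 : act 8 n218 = n270 := rfl
theorem F1346 : act 0 n270 = n237 := d7_1 D270 (iv D237) (iv F1093)
theorem F1347 : act 2 n270 = n270 := d20_1 D270 (iv D270) F1094
theorem F1348 : act 3 n270 = n223 := d25_1 D270 (iv D223) (iv F1095)
theorem F1349 : act 5 n270 = n220 := d32_1 D270 (iv D220) D218
theorem F1350 : act 6 n270 = n270 := d34_1 D270 (iv D270) F1096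
def n271 : Q := act 8 n219
theorem D271 : act 8 n219 = n271 := rfl
theorem F1351 : act 0 n271 = n238 := d7_1 D271 (iv D238) (iv F1097)
theorem F1352 : act 2 n271 = n271 := d20_1 D271 (iv D271) F1098
theorem F1353 : act 3 n271 = n271 := d25_1 D271 (iv D271) F1099
theorem F1354 : act 4 n271 = n271 := d29_1 D271 (iv D271) F1100
theorem F1355 : act 6 n271 = n221 := d34_1 D271 (iv D221) (iv F1101)
def n272 : Q := act 7 n220
theorem D272 : act 7 n220 = n272 := rfl
theorem F1356 : act 0 n272 = n239 := d6_1 D272 (iv D239) (iv F1102)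
theorem F1357 : act 2 n272 = n272 := d19_1 D272 (iv D272) F1103
theorem F1358 : act 4 n272 = n272 := d28_1 D272 (iv D272) F1105
theorem F1359 : act 6 n272 = n222 := d33_1 D272 (iv D222) (iv F1106)
def n273 : Q := act 7 n221
theorem D273 : act 7 n221 = n273 := rfl
theorem F1360 : act 0 n273 = n240 := d6_1 D273 (iv D240) (iv F1107)
theorem F1361 : act 2 n273 = n273 := d19_1 D273 (iv D273) F1108
theorem F1362 : act 4 n273 = n273 := d28_1 D273 (iv D273) F1110
theorem F1363 : act 5 n273 = n273 := d31_1 D273 (iv D273) F1111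
theorem F1364 : act 8 n273 = n222 := d35_2 D221 D273 (iv D222) (iv D180) D179
def n274 : Q := act 3 n222
theorem D274 : act 3 n222 = n274 := rfl
theorem F1365 : act 0 n274 = n241 := d2_1 D274 (iv D241) (iv F1112)
theorem F1366 : act 5 n274 = n274 := d22_2 F1115 D274 (iv D274)
theorem F1367 : act 7 n274 = n225 := d24_2 D222 D274 (iv D225) (iv D183) (iv F902)
def n275 : Q := act 7 n223
theorem D275 : act 7 n223 = n275 := rfl
theorem F1368 : act 0 n275 = n242 := d6_1 D275 (iv D242) (iv F1116)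
theorem F1369 : act 2 n275 = n229 := d19_1 D275 (iv D229) (iv F1117)
theorem F1370 : act 4 n275 = n275 := d28_1 D275 (iv D275) F1118
theorem F1371 : act 5 n275 = n224 := d31_1 D275 (iv D224) (iv F1119)
theorem F1372 : act 6 n275 = n275 := d33_1 D275 (iv D275) F1120
theorem F1373 : act 8 n275 = n275 := d35_2 D223 D275 (iv D275) (iv D223) F909
def n276 : Q := act 3 n224
theorem D276 : act 3 n224 = n276 := rfl
theorem F1374 : act 0 n276 = n243 := d2_1 D276 (iv D243) (iv F1121)
theorem F1375 : act 6 n276 = n225 := d23_2 (iv F1124) D276 (iv D225)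
theorem F1376 : act 8 n276 = n276 := d25_2 F1125 D276 (iv D276)
def n277 : Q := act 2 n225
theorem D277 : act 2 n225 = n277 := rfl
theorem F1377 : act 0 n277 = n244 := d1_1 D277 (iv D244) (iv F1126)
theorem F1378 : act 3 n277 = n231 := d15_2 D225 D277 (iv D231) (iv D189) (iv F915)
theorem F1379 : act 5 n277 = n277 := d17_2 F1127 D277 (iv D277)
theorem F1380 : act 8 n277 = n277 := d20_2 F1128 D277 (iv D277)
def n278 : Q := act 4 n225
theorem D278 : act 4 n225 = n278 := rfl
theorem F1381 : act 0 n278 = n245 := d3_1 D278 (iv D245) (iv F1126)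
theorem F1382 : act 3 n278 = n227 := d21_1 D278 (iv D227) (iv D185) (iv F916) D225
theorem F1383 : act 8 n278 = n278 := d29_2 F1128 D278 (iv D278)
def n279 : Q := act 4 n226
theorem D279 : act 4 n226 = n279 := rfl
theorem F1384 : act 0 n279 = n246 := d3_1 D279 (iv D246) (iv F1129)
theorem F1385 : act 2 n279 = n279 := d16_1 D279 (iv D279) F1130
theorem F1386 : act 6 n279 = n227 := d27_2 (iv F1132) D279 (iv D227)
theorem F1387 : act 7 n279 = n279 := d28_2 F1133 D279 (iv D279)
theorem F1388 : act 8 n279 = n279 := d29_2 F1134 D279 (iv D279)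
def n280 : Q := act 5 n227
theorem D280 : act 5 n227 = n280 := rfl
theorem F1389 : act 0 n280 = n247 := d4_1 D280 (iv D247) (iv F1135)
theorem F1390 : act 2 n280 = n280 := d17_1 D280 (iv D280) F1136
theorem F1391 : act 4 n280 = n228 := d26_1 D280 (iv D228) (iv D186) (iv F926) D227
theorem F1392 : act 7 n280 = n280 := d31_2 F1137 D280 (iv D280)
theorem F1393 : act 8 n280 = n280 := d32_2 F1138 D280 (iv D280)
def n281 : Q := act 6 n228
theorem D281 : act 6 n228 = n281 := rfl
theorem F1394 : act 0 n281 = n248 := d5_1 D281 (iv D248) (iv F1139)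
theorem F1395 : act 2 n281 = n281 := d18_1 D281 (iv D281) F1140
theorem F1396 : act 3 n281 = n281 := d23_1 D281 (iv D281) F1141
theorem F1397 : act 5 n281 = n281 := d30_1 D281 (iv D281) (iv D228) F932 D228
theorem F1398 : act 7 n281 = n281 := d33_2 F1142 D281 (iv D281)
theorem F1399 : act 8 n281 = n281 := d34_2 F1143 D281 (iv D281)
def n282 : Q := act 3 n229
theorem D282 : act 3 n229 = n282 := rfl
theorem F1400 : act 0 n282 = n249 := d2_1 D282 (iv D249) (iv F1144)
theorem F1401 : act 1 n282 = n282 := d9_1 D282 (iv D282) F1145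
theorem F1402 : act 5 n282 = n230 := d22_2 (iv F1147) D282 (iv D230)
theorem F1403 : act 6 n282 = n282 := d23_2 F1148 D282 (iv D282)
theorem F1404 : act 7 n282 = n282 := d24_2 D229 D282 (iv D282) (iv D229) F937
theorem F1405 : act 8 n282 = n282 := d25_2 F1149 D282 (iv D282)
def n283 : Q := act 2 n230
theorem D283 : act 2 n230 = n283 := rfl
theorem F1406 : act 0 n283 = n250 := d1_1 D283 (iv D250) (iv F1150)
theorem F1407 : act 4 n283 = n283 := d16_2 F1152 D283 (iv D283)
theorem F1408 : act 6 n283 = n231 := d18_2 (iv F1153) D283 (iv D231)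
theorem F1409 : act 7 n283 = n283 := d19_2 F1154 D283 (iv D283)
theorem F1410 : act 8 n283 = n283 := d20_2 F1155 D283 (iv D283)
def n284 : Q := act 1 n231
theorem D284 : act 1 n231 = n284 := rfl
theorem F1411 : act 2 n284 = n284 := d8_2 D231 D284 (iv D284) (iv D231) F947
theorem F1412 : act 4 n284 = n284 := d10_2 F1157 D284 (iv D284)
theorem F1413 : act 5 n284 = n284 := d11_2 F1158 D284 (iv D284)
theorem F1414 : act 7 n284 = n284 := d13_2 F1159 D284 (iv D284)
theorem F1415 : act 8 n284 = n284 := d14_2 F1160 D284 (iv D284)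
def n285 : Q := act 2 n232
theorem D285 : act 2 n232 = n285 := rfl
theorem F1416 : act 0 n285 = n285 := d1_1 D285 (iv D285) F1161
theorem F1417 : act 3 n285 = n285 := d15_2 D232 D285 (iv D285) (iv D232) F953
theorem F1418 : act 5 n285 = n233 := d17_2 (iv F1162) D285 (iv D233)
theorem F1419 : act 6 n285 = n285 := d18_2 F1163 D285 (iv D285)
theorem F1420 : act 7 n285 = n285 := d19_2 F1164 D285 (iv D285)
theorem F1421 : act 8 n285 = n285 := d20_2 F1165 D285 (iv D285)
def n286 : Q := act 4 n232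
theorem D286 : act 4 n232 = n286 := rfl
theorem F1422 : act 0 n286 = n286 := d3_1 D286 (iv D286) F1161
theorem F1423 : act 3 n286 = n286 := d21_1 D286 (iv D286) (iv D232) F954 D232
theorem F1424 : act 5 n286 = n286 := d26_2 (iv F1162) D286 (iv D286) F1162 F959
theorem F1425 : act 6 n286 = n286 := d27_2 F1163 D286 (iv D286)
theorem F1426 : act 7 n286 = n286 := d28_2 F1164 D286 (iv D286)
theorem F1427 : act 8 n286 = n286 := d29_2 F1165 D286 (iv D286)
def n287 : Q := act 1 n233
theorem D287 : act 1 n233 = n287 := rfl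
theorem F1428 : act 3 n287 = n287 := d9_2 F1167 D287 (iv D287)
theorem F1429 : act 4 n287 = n287 := d10_2 F1168 D287 (iv D287)
theorem F1430 : act 6 n287 = n234 := d12_2 (iv F1169) D287 (iv D234)
theorem F1431 : act 7 n287 = n287 := d13_2 F1170 D287 (iv D287)
theorem F1432 : act 8 n287 = n287 := d14_2 F1171 D287 (iv D287)
def n288 : Q := act 0 n234
theorem D288 : act 0 n234 = n288 := rfl
theorem F1433 : act 1 n288 = n288 := d0_2 D234 D288 (iv D288) (iv D234) F963
theorem F1434 : act 3 n288 = n288 := d2_2 F1172 D288 (iv D288)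
theorem F1435 : act 4 n288 = n288 := d3_2 F1173 D288 (iv D288)
theorem F1436 : act 5 n288 = n288 := d4_2 F1174 D288 (iv D288)
theorem F1437 : act 7 n288 = n288 := d6_2 F1175 D288 (iv D288)
theorem F1438 : act 8 n288 = n288 := d7_2 F1176 D288 (iv D288)
def n289 : Q := act 7 n235
theorem D289 : act 7 n235 = n289 := rfl
theorem F1439 : act 1 n289 = n289 := d13_1 D289 (iv D289) F1177
theorem F1440 : act 2 n289 = n289 := d19_1 D289 (iv D289) F1178
theorem F1441 : act 4 n289 = n236 := d28_1 D289 (iv D236) D235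
theorem F1442 : act 5 n289 = n289 := d31_1 D289 (iv D289) F1180
theorem F1443 : act 6 n289 = n289 := d33_1 D289 (iv D289) F1181
def n290 : Q := act 8 n235
theorem D290 : act 8 n235 = n290 := rfl
theorem F1444 : act 1 n290 = n290 := d14_1 D290 (iv D290) F1177
theorem F1445 : act 2 n290 = n290 := d20_1 D290 (iv D290) F1178
theorem F1446 : act 3 n290 = n290 := d25_1 D290 (iv D290) F1179
theorem F1447 : act 4 n290 = n237 := d29_1 D290 (iv D237) D235
theorem F1448 : act 5 n290 = n290 := d32_1 D290 (iv D290) F1180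
theorem F1449 : act 6 n290 = n290 := d34_1 D290 (iv D290) F1181
def n291 : Q := act 8 n236
theorem D291 : act 8 n236 = n291 := rfl
theorem F1450 : act 1 n291 = n291 := d14_1 D291 (iv D291) F1182
theorem F1451 : act 2 n291 = n291 := d20_1 D291 (iv D291) F1183
theorem F1452 : act 3 n291 = n291 := d25_1 D291 (iv D291) F1184
theorem F1453 : act 5 n291 = n238 := d32_1 D291 (iv D238) (iv F1185)
theorem F1454 : act 6 n291 = n291 := d34_1 D291 (iv D291) F1186
def n292 : Q := act 7 n237
theorem D292 : act 7 n237 = n292 := rfl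
theorem F1455 : act 1 n292 = n292 := d13_1 D292 (iv D292) F1187
theorem F1456 : act 2 n292 = n292 := d19_1 D292 (iv D292) F1188
theorem F1457 : act 5 n292 = n239 := d31_1 D292 (iv D239) (iv F1190)
theorem F1458 : act 6 n292 = n292 := d33_1 D292 (iv D292) F1191
def n293 : Q := act 7 n238
theorem D293 : act 7 n238 = n293 := rfl
theorem F1459 : act 1 n293 = n293 := d13_1 D293 (iv D293) F1192
theorem F1460 : act 2 n293 = n293 := d19_1 D293 (iv D293) F1193
theorem F1461 : act 4 n293 = n293 := d28_1 D293 (iv D293) F1195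
theorem F1462 : act 6 n293 = n240 := d33_1 D293 (iv D240) (iv F1196)
theorem F1463 : act 8 n293 = n239 := d35_2 D238 D293 (iv D239) (iv D195) D194
def n294 : Q := act 3 n239
theorem D294 : act 3 n239 = n294 := rfl
theorem F1464 : act 1 n294 = n294 := d9_1 D294 (iv D294) F1197
theorem F1465 : act 6 n294 = n241 := d23_2 (iv F1200) D294 (iv D241)
theorem F1466 : act 7 n294 = n243 := d24_2 D239 D294 (iv D243) (iv D199) (iv F980)
def n295 : Q := act 3 n240
theorem D295 : act 3 n240 = n295 := rfl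
theorem F1467 : act 1 n295 = n295 := d9_1 D295 (iv D295) F1201
theorem F1468 : act 5 n295 = n295 := d22_2 F1204 D295 (iv D295)
theorem F1469 : act 7 n295 = n295 := d24_2 D240 D295 (iv D295) (iv D240) F985
theorem F1470 : act 8 n295 = n241 := d25_2 (iv F1205) D295 (iv D241)
def n296 : Q := act 2 n241
theorem D296 : act 2 n241 = n296 := rfl
theorem F1471 : act 3 n296 = n296 := d15_2 D241 D296 (iv D296) (iv D241) F989
theorem F1472 : act 5 n296 = n296 := d17_2 F1207 D296 (iv D296)
theorem F1473 : act 7 n296 = n244 := d19_2 (iv F1208) D296 (iv D244)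
def n297 : Q := act 4 n241
theorem D297 : act 4 n241 = n297 := rfl
theorem F1474 : act 1 n297 = n297 := d10_1 D297 (iv D297) F1206
theorem F1475 : act 3 n297 = n297 := d21_1 D297 (iv D297) (iv D241) F990 D241
theorem F1476 : act 7 n297 = n245 := d28_2 (iv F1208) D297 (iv D245)
def n298 : Q := act 3 n242
theorem D298 : act 3 n242 = n298 := rfl
theorem F1477 : act 1 n298 = n298 := d9_1 D298 (iv D298) F1209
theorem F1478 : act 5 n298 = n243 := d22_2 (iv F1212) D298 (iv D243)
theorem F1479 : act 6 n298 = n298 := d23_2 F1213 D298 (iv D298)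
theorem F1480 : act 8 n298 = n298 := d25_2 F1214 D298 (iv D298)
def n299 : Q := act 2 n243
theorem D299 : act 2 n243 = n299 := rfl
theorem F1481 : act 3 n299 = n250 := d15_2 D243 D299 (iv D250) (iv D205) (iv F998)
theorem F1482 : act 6 n299 = n244 := d18_2 (iv F1216) D299 (iv D244)
theorem F1483 : act 8 n299 = n299 := d20_2 F1217 D299 (iv D299)
def n300 : Q := act 4 n243
theorem D300 : act 4 n243 = n300 := rfl
theorem F1484 : act 1 n300 = n300 := d10_1 D300 (iv D300) F1215
theorem F1485 : act 3 n300 = n246 := d21_1 D300 (iv D246) (iv D201) (iv F999) D243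
theorem F1486 : act 6 n300 = n245 := d27_2 (iv F1216) D300 (iv D245)
theorem F1487 : act 8 n300 = n300 := d29_2 F1217 D300 (iv D300)
def n301 : Q := act 1 n244
theorem D301 : act 1 n244 = n301 := rfl
theorem F1488 : act 2 n301 = n301 := d8_2 D244 D301 (iv D301) (iv D244) F1002
theorem F1489 : act 3 n301 = n251 := d9_2 (iv F1218) D301 (iv D251)
theorem F1490 : act 5 n301 = n301 := d11_2 F1219 D301 (iv D301)
theorem F1491 : act 8 n301 = n301 := d14_2 F1220 D301 (iv D301)
def n302 : Q := act 4 n244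
theorem D302 : act 4 n244 = n302 := rfl
theorem F1492 : act 2 n302 = n245 := d16_1 D302 (iv D245) D244
theorem F1493 : act 3 n302 = n302 := d21_1 D302 (iv D302) F1218 F1030 (iv F1218)
theorem F1494 : act 8 n302 = n302 := d29_2 F1220 D302 (iv D302)
def n303 : Q := act 5 n245
theorem D303 : act 5 n245 = n303 := rfl
theorem F1495 : act 1 n303 = n303 := d11_1 D303 (iv D303) F1221
theorem F1496 : act 3 n303 = n247 := d22_1 D303 (iv D247) (iv F1222)
theorem F1497 : act 4 n303 = n303 := d26_1 D303 (iv D303) (iv D245) F1003 D245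
theorem F1498 : act 8 n303 = n303 := d32_2 F1223 D303 (iv D303)
def n304 : Q := act 5 n246
theorem D304 : act 5 n246 = n304 := rfl
theorem F1499 : act 1 n304 = n304 := d11_1 D304 (iv D304) F1224
theorem F1500 : act 2 n304 = n304 := d17_1 D304 (iv D304) F1225
theorem F1501 : act 4 n304 = n304 := d26_1 D304 (iv D304) (iv D246) F1007 D246
theorem F1502 : act 7 n304 = n304 := d31_2 F1227 D304 (iv D304)
theorem F1503 : act 8 n304 = n304 := d32_2 F1228 D304 (iv D304)
def n305 : Q := act 6 n247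
theorem D305 : act 6 n247 = n305 := rfl
theorem F1504 : act 1 n305 = n305 := d12_1 D305 (iv D305) F1229
theorem F1505 : act 2 n305 = n305 := d18_1 D305 (iv D305) F1230
theorem F1506 : act 4 n305 = n248 := d27_1 D305 (iv D248) (iv F1231)
theorem F1507 : act 7 n305 = n305 := d33_2 F1232 D305 (iv D305)
theorem F1508 : act 8 n305 = n305 := d34_2 F1233 D305 (iv D305)
def n306 : Q := act 2 n249
theorem D306 : act 2 n249 = n306 := rfl
theorem F1509 : act 5 n306 = n250 := d17_2 (iv F1241) D306 (iv D250)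
theorem F1510 : act 6 n306 = n306 := d18_2 F1242 D306 (iv D306)
theorem F1511 : act 7 n306 = n306 := d19_2 F1243 D306 (iv D306)
theorem F1512 : act 8 n306 = n306 := d20_2 F1244 D306 (iv D306)
def n307 : Q := act 4 n249
theorem D307 : act 4 n249 = n307 := rfl
theorem F1513 : act 1 n307 = n286 := d10_1 D307 (iv D286) (iv F1240)
theorem F1514 : act 3 n307 = n307 := d21_1 D307 (iv D307) (iv D249) F1021 D249
theorem F1515 : act 5 n307 = n307 := d26_2 (iv F1241) D307 (iv D307) F1241 F1026
theorem F1516 : act 6 n307 = n307 := d27_2 F1242 D307 (iv D307)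
theorem F1517 : act 7 n307 = n307 := d28_2 F1243 D307 (iv D307)
theorem F1518 : act 8 n307 = n307 := d29_2 F1244 D307 (iv D307)
def n308 : Q := act 1 n250
theorem D308 : act 1 n250 = n308 := rfl
theorem F1519 : act 2 n308 = n287 := d8_2 D250 D308 (iv D287) (iv D233) (iv F1025)
theorem F1520 : act 4 n308 = n308 := d10_2 F1245 D308 (iv D308)
theorem F1521 : act 6 n308 = n251 := d12_2 (iv F1246) D308 (iv D251)
theorem F1522 : act 7 n308 = n308 := d13_2 F1247 D308 (iv D308)
theorem F1523 : act 8 n308 = n308 := d14_2 F1248 D308 (iv D308)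
def n309 : Q := act 0 n251
theorem D309 : act 0 n251 = n309 := rfl
theorem F1524 : act 2 n309 = n288 := d1_2 (iv F1249) D309 (iv D288)
theorem F1525 : act 4 n309 = n309 := d3_2 F1250 D309 (iv D309)
theorem F1526 : act 5 n309 = n309 := d4_2 F1251 D309 (iv D309)
theorem F1527 : act 7 n309 = n309 := d6_2 F1252 D309 (iv D309)
theorem F1528 : act 8 n309 = n309 := d7_2 F1253 D309 (iv D309)
def n310 : Q := act 5 n252
theorem D310 : act 5 n252 = n310 := rfl
theorem F1529 : act 0 n310 = n310 := d4_1 D310 (iv D310) F1254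
theorem F1530 : act 1 n310 = n310 := d11_1 D310 (iv D310) F1255
theorem F1531 : act 2 n310 = n255 := d17_1 D310 (iv D255) (iv F1256)
theorem F1532 : act 3 n310 = n310 := d22_1 D310 (iv D310) F1257
theorem F1533 : act 6 n310 = n310 := d30_2 D252 D310 (iv D310) (iv D252) F1038
def n311 : Q := act 7 n252
theorem D311 : act 7 n252 = n311 := rfl
theorem F1534 : act 0 n311 = n311 := d6_1 D311 (iv D311) F1254
theorem F1535 : act 1 n311 = n311 := d13_1 D311 (iv D311) F1255
theorem F1536 : act 2 n311 = n256 := d19_1 D311 (iv D256) (iv F1256)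
theorem F1537 : act 4 n311 = n311 := d28_1 D311 (iv D311) F1258
theorem F1538 : act 6 n311 = n253 := d33_1 D311 (iv D253) D252
def n312 : Q := act 8 n252
theorem D312 : act 8 n252 = n312 := rfl
theorem F1539 : act 0 n312 = n312 := d7_1 D312 (iv D312) F1254
theorem F1540 : act 1 n312 = n312 := d14_1 D312 (iv D312) F1255
theorem F1541 : act 2 n312 = n257 := d20_1 D312 (iv D257) (iv F1256)
theorem F1542 : act 3 n312 = n312 := d25_1 D312 (iv D312) F1257
theorem F1543 : act 4 n312 = n312 := d29_1 D312 (iv D312) F1258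
theorem F1544 : act 6 n312 = n254 := d34_1 D312 (iv D254) D252
def n313 : Q := act 3 n253
theorem D313 : act 3 n253 = n313 := rfl
theorem F1545 : act 0 n313 = n313 := d2_1 D313 (iv D313) F1259
theorem F1546 : act 1 n313 = n313 := d9_1 D313 (iv D313) F1260
theorem F1547 : act 2 n313 = n313 := d15_1 D313 (iv D313) F1261 F1045 (iv F1261)
theorem F1548 : act 5 n313 = n313 := d22_2 F1263 D313 (iv D313)
theorem F1549 : act 7 n313 = n313 := d24_2 D253 D313 (iv D313) (iv D253) F1036
def n314 : Q := act 8 n253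
theorem D314 : act 8 n253 = n314 := rfl
theorem F1550 : act 0 n314 = n314 := d7_1 D314 (iv D314) F1259
theorem F1551 : act 1 n314 = n314 := d14_1 D314 (iv D314) F1260
theorem F1552 : act 2 n314 = n258 := d20_1 D314 (iv D258) (iv F1261)
theorem F1553 : act 4 n314 = n314 := d29_1 D314 (iv D314) F1262
theorem F1554 : act 5 n314 = n314 := d32_1 D314 (iv D314) F1263
def n315 : Q := act 7 n254
theorem D315 : act 7 n254 = n315 := rfl
theorem F1555 : act 0 n315 = n315 := d6_1 D315 (iv D315) F1264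
theorem F1556 : act 1 n315 = n315 := d13_1 D315 (iv D315) F1265
theorem F1557 : act 2 n315 = n259 := d19_1 D315 (iv D259) (iv F1266)
theorem F1558 : act 4 n315 = n315 := d28_1 D315 (iv D315) F1268
theorem F1559 : act 5 n315 = n315 := d31_1 D315 (iv D315) F1269
def n316 : Q := act 4 n255
theorem D316 : act 4 n255 = n316 := rfl
theorem F1560 : act 0 n316 = n316 := d3_1 D316 (iv D316) F1270
theorem F1561 : act 1 n316 = n268 := d10_1 D316 (iv D268) (iv F1271)
theorem F1562 : act 3 n316 = n316 := d21_1 D316 (iv D316) F1272 F1056 (iv F1272)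
theorem F1563 : act 5 n316 = n316 := d26_2 D255 D316 (iv D316) (iv D255) F1042
theorem F1564 : act 6 n316 = n316 := d27_2 F1273 D316 (iv D316)
def n317 : Q := act 7 n255
theorem D317 : act 7 n255 = n317 := rfl
theorem F1565 : act 0 n317 = n317 := d6_1 D317 (iv D317) F1270
theorem F1566 : act 1 n317 = n269 := d13_1 D317 (iv D269) (iv F1271)
theorem F1567 : act 3 n317 = n317 := d24_1 D317 (iv D317) F1272 F1058 (iv F1272)
theorem F1568 : act 5 n317 = n256 := d31_1 D317 (iv D256) D255
theorem F1569 : act 6 n317 = n317 := d33_1 D317 (iv D317) F1273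
def n318 : Q := act 8 n255
theorem D318 : act 8 n255 = n318 := rfl
theorem F1570 : act 0 n318 = n318 := d7_1 D318 (iv D318) F1270
theorem F1571 : act 1 n318 = n270 := d14_1 D318 (iv D270) (iv F1271)
theorem F1572 : act 3 n318 = n260 := d25_1 D318 (iv D260) (iv F1272)
theorem F1573 : act 5 n318 = n257 := d32_1 D318 (iv D257) D255
theorem F1574 : act 6 n318 = n318 := d34_1 D318 (iv D318) F1273
def n319 : Q := act 8 n256
theorem D319 : act 8 n256 = n319 := rfl
theorem F1575 : act 0 n319 = n319 := d7_1 D319 (iv D319) F1274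
theorem F1576 : act 1 n319 = n271 := d14_1 D319 (iv D271) (iv F1275)
theorem F1577 : act 3 n319 = n319 := d25_1 D319 (iv D319) F1276
theorem F1578 : act 4 n319 = n319 := d29_1 D319 (iv D319) F1277
theorem F1579 : act 6 n319 = n258 := d34_1 D319 (iv D258) (iv F1278)
def n320 : Q := act 7 n257
theorem D320 : act 7 n257 = n320 := rfl
theorem F1580 : act 0 n320 = n320 := d6_1 D320 (iv D320) F1279
theorem F1581 : act 1 n320 = n272 := d13_1 D320 (iv D272) (iv F1280)
theorem F1582 : act 4 n320 = n320 := d28_1 D320 (iv D320) F1282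
theorem F1583 : act 6 n320 = n259 := d33_1 D320 (iv D259) (iv F1283)
def n321 : Q := act 7 n258
theorem D321 : act 7 n258 = n321 := rfl
theorem F1584 : act 0 n321 = n321 := d6_1 D321 (iv D321) F1284
theorem F1585 : act 1 n321 = n273 := d13_1 D321 (iv D273) (iv F1285)
theorem F1586 : act 4 n321 = n321 := d28_1 D321 (iv D321) F1287
theorem F1587 : act 5 n321 = n321 := d31_1 D321 (iv D321) F1288
theorem F1588 : act 8 n321 = n259 := d35_2 D258 D321 (iv D259) (iv D210) D209
def n322 : Q := act 3 n259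
theorem D322 : act 3 n259 = n322 := rfl
theorem F1589 : act 0 n322 = n322 := d2_1 D322 (iv D322) F1289
theorem F1590 : act 1 n322 = n274 := d9_1 D322 (iv D274) (iv F1290)
theorem F1591 : act 5 n322 = n322 := d22_2 F1292 D322 (iv D322)
theorem F1592 : act 7 n322 = n262 := d24_2 D259 D322 (iv D262) (iv D213) (iv F1050)
def n323 : Q := act 7 n260
theorem D323 : act 7 n260 = n323 := rfl
theorem F1593 : act 0 n323 = n323 := d6_1 D323 (iv D323) F1293
theorem F1594 : act 1 n323 = n275 := d13_1 D323 (iv D275) (iv F1294)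
theorem F1595 : act 2 n323 = n323 := d19_1 D323 (iv D323) F1295
theorem F1596 : act 4 n323 = n323 := d28_1 D323 (iv D323) F1296
theorem F1597 : act 5 n323 = n261 := d31_1 D323 (iv D261) (iv F1297)
theorem F1598 : act 6 n323 = n323 := d33_1 D323 (iv D323) F1298
theorem F1599 : act 8 n323 = n323 := d35_2 D260 D323 (iv D323) (iv D260) F1058
def n324 : Q := act 3 n261
theorem D324 : act 3 n261 = n324 := rfl
theorem F1600 : act 0 n324 = n324 := d2_1 D324 (iv D324) F1299
theorem F1601 : act 1 n324 = n276 := d9_1 D324 (iv D276) (iv F1300)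
theorem F1602 : act 6 n324 = n262 := d23_2 (iv F1303) D324 (iv D262)
theorem F1603 : act 8 n324 = n324 := d25_2 F1304 D324 (iv D324)
def n325 : Q := act 2 n262
theorem D325 : act 2 n262 = n325 := rfl
theorem F1604 : act 0 n325 = n325 := d1_1 D325 (iv D325) F1305
theorem F1605 : act 3 n325 = n325 := d15_2 D262 D325 (iv D325) (iv D262) F1066
theorem F1606 : act 5 n325 = n325 := d17_2 F1307 D325 (iv D325)
theorem F1607 : act 8 n325 = n325 := d20_2 F1308 D325 (iv D325)
def n326 : Q := act 4 n262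
theorem D326 : act 4 n262 = n326 := rfl
theorem F1608 : act 0 n326 = n326 := d3_1 D326 (iv D326) F1305
theorem F1609 : act 1 n326 = n278 := d10_1 D326 (iv D278) (iv F1306)
theorem F1610 : act 3 n326 = n265 := d21_1 D326 (iv D265) (iv D215) (iv F1067) D262
theorem F1611 : act 8 n326 = n326 := d29_2 F1308 D326 (iv D326)
def n327 : Q := act 2 n263
theorem D327 : act 2 n263 = n327 := rfl
theorem F1612 : act 0 n327 = n327 := d1_1 D327 (iv D327) F1309
theorem F1613 : act 1 n327 = n327 := d8_1 D327 (iv D327) F1310 F1130 (iv F1310)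
theorem F1614 : act 3 n327 = n327 := d15_2 D263 D327 (iv D327) (iv D263) F1072
theorem F1615 : act 5 n327 = n327 := d17_2 F1311 D327 (iv D327)
theorem F1616 : act 6 n327 = n264 := d18_2 (iv F1312) D327 (iv D264)
theorem F1617 : act 7 n327 = n327 := d19_2 F1313 D327 (iv D327)
theorem F1618 : act 8 n327 = n327 := d20_2 F1314 D327 (iv D327)
def n328 : Q := act 4 n263
theorem D328 : act 4 n263 = n328 := rfl
theorem F1619 : act 0 n328 = n328 := d3_1 D328 (iv D328) F1309
theorem F1620 : act 1 n328 = n279 := d10_1 D328 (iv D279) (iv F1310)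
theorem F1621 : act 6 n328 = n265 := d27_2 (iv F1312) D328 (iv D265)
theorem F1622 : act 7 n328 = n328 := d28_2 F1313 D328 (iv D328)
theorem F1623 : act 8 n328 = n328 := d29_2 F1314 D328 (iv D328)
def n329 : Q := act 4 n264
theorem D329 : act 4 n264 = n329 := rfl
theorem F1624 : act 0 n329 = n329 := d3_1 D329 (iv D329) F1315
theorem F1625 : act 1 n329 = n329 := d10_1 D329 (iv D329) F1316
theorem F1626 : act 2 n329 = n265 := d16_1 D329 (iv D265) D264
theorem F1627 : act 7 n329 = n329 := d28_2 F1319 D329 (iv D329)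
theorem F1628 : act 8 n329 = n329 := d29_2 F1320 D329 (iv D329)
def n330 : Q := act 5 n265
theorem D330 : act 5 n265 = n330 := rfl
theorem F1629 : act 0 n330 = n330 := d4_1 D330 (iv D330) F1321
theorem F1630 : act 1 n330 = n280 := d11_1 D330 (iv D280) (iv F1322)
theorem F1631 : act 4 n330 = n267 := d26_1 D330 (iv D267) (iv D217) (iv F1078) D265
theorem F1632 : act 7 n330 = n330 := d31_2 F1323 D330 (iv D330)
theorem F1633 : act 8 n330 = n330 := d32_2 F1324 D330 (iv D330)
def n331 : Q := act 3 n266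
theorem D331 : act 3 n266 = n331 := rfl
theorem F1634 : act 0 n331 = n331 := d2_1 D331 (iv D331) F1325
theorem F1635 : act 1 n331 = n331 := d9_1 D331 (iv D331) F1326
theorem F1636 : act 2 n331 = n331 := d15_1 D331 (iv D331) F1327 F1089 (iv F1327)
theorem F1637 : act 4 n331 = n331 := d21_2 D266 D331 (iv D331) (iv D266) F1083
theorem F1638 : act 6 n331 = n331 := d23_2 F1328 D331 (iv D331)
theorem F1639 : act 8 n331 = n331 := d25_2 F1330 D331 (iv D331)
def n332 : Q := act 5 n266
theorem D332 : act 5 n266 = n332 := rfl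
theorem F1640 : act 0 n332 = n332 := d4_1 D332 (iv D332) F1325
theorem F1641 : act 1 n332 = n332 := d11_1 D332 (iv D332) F1326
theorem F1642 : act 2 n332 = n267 := d17_1 D332 (iv D267) (iv F1327)
theorem F1643 : act 7 n332 = n332 := d31_2 F1329 D332 (iv D332)
theorem F1644 : act 8 n332 = n332 := d32_2 F1330 D332 (iv D332)
def n333 : Q := act 6 n267
theorem D333 : act 6 n267 = n333 := rfl
theorem F1645 : act 0 n333 = n333 := d5_1 D333 (iv D333) F1331
theorem F1646 : act 1 n333 = n281 := d12_1 D333 (iv D281) (iv F1332)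
theorem F1647 : act 3 n333 = n333 := d23_1 D333 (iv D333) F1333
theorem F1648 : act 5 n333 = n333 := d30_1 D333 (iv D333) (iv D267) F1090 D267
theorem F1649 : act 7 n333 = n333 := d33_2 F1334 D333 (iv D333)
theorem F1650 : act 8 n333 = n333 := d34_2 F1335 D333 (iv D333)
def n334 : Q := act 7 n268
theorem D334 : act 7 n268 = n334 := rfl
theorem F1651 : act 0 n334 = n289 := d6_1 D334 (iv D289) (iv F1336)
theorem F1652 : act 2 n334 = n334 := d19_1 D334 (iv D334) F1337
theorem F1653 : act 4 n334 = n269 := d28_1 D334 (iv D269) D268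
theorem F1654 : act 5 n334 = n334 := d31_1 D334 (iv D334) F1339
theorem F1655 : act 6 n334 = n334 := d33_1 D334 (iv D334) F1340
def n335 : Q := act 8 n268
theorem D335 : act 8 n268 = n335 := rfl
theorem F1656 : act 0 n335 = n290 := d7_1 D335 (iv D290) (iv F1336)
theorem F1657 : act 2 n335 = n335 := d20_1 D335 (iv D335) F1337
theorem F1658 : act 3 n335 = n335 := d25_1 D335 (iv D335) F1338
theorem F1659 : act 4 n335 = n270 := d29_1 D335 (iv D270) D268
theorem F1660 : act 5 n335 = n335 := d32_1 D335 (iv D335) F1339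
theorem F1661 : act 6 n335 = n335 := d34_1 D335 (iv D335) F1340
def n336 : Q := act 8 n269
theorem D336 : act 8 n269 = n336 := rfl
theorem F1662 : act 0 n336 = n291 := d7_1 D336 (iv D291) (iv F1341)
theorem F1663 : act 2 n336 = n336 := d20_1 D336 (iv D336) F1342
theorem F1664 : act 3 n336 = n336 := d25_1 D336 (iv D336) F1343
theorem F1665 : act 5 n336 = n271 := d32_1 D336 (iv D271) (iv F1344)
theorem F1666 : act 6 n336 = n336 := d34_1 D336 (iv D336) F1345
def n337 : Q := act 7 n270
theorem D337 : act 7 n270 = n337 := rfl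
theorem F1667 : act 0 n337 = n292 := d6_1 D337 (iv D292) (iv F1346)
theorem F1668 : act 2 n337 = n337 := d19_1 D337 (iv D337) F1347
theorem F1669 : act 5 n337 = n272 := d31_1 D337 (iv D272) (iv F1349)
theorem F1670 : act 6 n337 = n337 := d33_1 D337 (iv D337) F1350
def n338 : Q := act 7 n271
theorem D338 : act 7 n271 = n338 := rfl
theorem F1671 : act 0 n338 = n293 := d6_1 D338 (iv D293) (iv F1351)
theorem F1672 : act 2 n338 = n338 := d19_1 D338 (iv D338) F1352
theorem F1673 : act 4 n338 = n338 := d28_1 D338 (iv D338) F1354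
theorem F1674 : act 6 n338 = n273 := d33_1 D338 (iv D273) (iv F1355)
theorem F1675 : act 8 n338 = n272 := d35_2 D271 D338 (iv D272) (iv D220) D219
def n339 : Q := act 3 n272
theorem D339 : act 3 n272 = n339 := rfl
theorem F1676 : act 0 n339 = n294 := d2_1 D339 (iv D294) (iv F1356)
theorem F1677 : act 6 n339 = n274 := d23_2 (iv F1359) D339 (iv D274)
theorem F1678 : act 7 n339 = n276 := d24_2 D272 D339 (iv D276) (iv D224) (iv F1104)
def n340 : Q := act 3 n273
theorem D340 : act 3 n273 = n340 := rfl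
theorem F1679 : act 0 n340 = n295 := d2_1 D340 (iv D295) (iv F1360)
theorem F1680 : act 5 n340 = n340 := d22_2 F1363 D340 (iv D340)
theorem F1681 : act 7 n340 = n340 := d24_2 D273 D340 (iv D340) (iv D273) F1109
theorem F1682 : act 8 n340 = n274 := d25_2 (iv F1364) D340 (iv D274)
def n341 : Q := act 2 n274
theorem D341 : act 2 n274 = n341 := rfl
theorem F1683 : act 0 n341 = n296 := d1_1 D341 (iv D296) (iv F1365)
theorem F1684 : act 3 n341 = n341 := d15_2 D274 D341 (iv D341) (iv D274) F1113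
theorem F1685 : act 5 n341 = n341 := d17_2 F1366 D341 (iv D341)
theorem F1686 : act 7 n341 = n277 := d19_2 (iv F1367) D341 (iv D277)
def n342 : Q := act 4 n274
theorem D342 : act 4 n274 = n342 := rfl
theorem F1687 : act 0 n342 = n297 := d3_1 D342 (iv D297) (iv F1365)
theorem F1688 : act 3 n342 = n342 := d21_1 D342 (iv D342) (iv D274) F1114 D274
theorem F1689 : act 7 n342 = n278 := d28_2 (iv F1367) D342 (iv D278)
def n343 : Q := act 3 n275
theorem D343 : act 3 n275 = n343 := rfl
theorem F1690 : act 0 n343 = n298 := d2_1 D343 (iv D298) (iv F1368)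
theorem F1691 : act 5 n343 = n276 := d22_2 (iv F1371) D343 (iv D276)
theorem F1692 : act 6 n343 = n343 := d23_2 F1372 D343 (iv D343)
theorem F1693 : act 8 n343 = n343 := d25_2 F1373 D343 (iv D343)
def n344 : Q := act 2 n276
theorem D344 : act 2 n276 = n344 := rfl
theorem F1694 : act 0 n344 = n299 := d1_1 D344 (iv D299) (iv F1374)
theorem F1695 : act 3 n344 = n283 := d15_2 D276 D344 (iv D283) (iv D230) (iv F1122)
theorem F1696 : act 6 n344 = n277 := d18_2 (iv F1375) D344 (iv D277)
theorem F1697 : act 8 n344 = n344 := d20_2 F1376 D344 (iv D344)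
def n345 : Q := act 4 n276
theorem D345 : act 4 n276 = n345 := rfl
theorem F1698 : act 0 n345 = n300 := d3_1 D345 (iv D300) (iv F1374)
theorem F1699 : act 3 n345 = n279 := d21_1 D345 (iv D279) (iv D226) (iv F1123) D276
theorem F1700 : act 6 n345 = n278 := d27_2 (iv F1375) D345 (iv D278)
theorem F1701 : act 8 n345 = n345 := d29_2 F1376 D345 (iv D345)
def n346 : Q := act 1 n277
theorem D346 : act 1 n277 = n346 := rfl
theorem F1702 : act 3 n346 = n284 := d9_2 (iv F1378) D346 (iv D284)
theorem F1703 : act 5 n346 = n346 := d11_2 F1379 D346 (iv D346)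
theorem F1704 : act 8 n346 = n346 := d14_2 F1380 D346 (iv D346)
def n347 : Q := act 4 n277
theorem D347 : act 4 n277 = n347 := rfl
theorem F1705 : act 0 n347 = n302 := d3_1 D347 (iv D302) (iv F1377)
theorem F1706 : act 2 n347 = n278 := d16_1 D347 (iv D278) D277
theorem F1707 : act 3 n347 = n347 := d21_1 D347 (iv D347) F1378 F1157 (iv F1378)
theorem F1708 : act 8 n347 = n347 := d29_2 F1380 D347 (iv D347)
def n348 : Q := act 5 n278
theorem D348 : act 5 n278 = n348 := rfl
theorem F1709 : act 0 n348 = n303 := d4_1 D348 (iv D303) (iv F1381)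
theorem F1710 : act 3 n348 = n280 := d22_1 D348 (iv D280) (iv F1382)
theorem F1711 : act 4 n348 = n348 := d26_1 D348 (iv D348) (iv D278) F1127 D278
theorem F1712 : act 8 n348 = n348 := d32_2 F1383 D348 (iv D348)
def n349 : Q := act 5 n279
theorem D349 : act 5 n279 = n349 := rfl
theorem F1713 : act 0 n349 = n304 := d4_1 D349 (iv D304) (iv F1384)
theorem F1714 : act 2 n349 = n349 := d17_1 D349 (iv D349) F1385
theorem F1715 : act 4 n349 = n349 := d26_1 D349 (iv D349) (iv D279) F1131 D279
theorem F1716 : act 7 n349 = n349 := d31_2 F1387 D349 (iv D349)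
theorem F1717 : act 8 n349 = n349 := d32_2 F1388 D349 (iv D349)
def n350 : Q := act 6 n280
theorem D350 : act 6 n280 = n350 := rfl
theorem F1718 : act 0 n350 = n305 := d5_1 D350 (iv D305) (iv F1389)
theorem F1719 : act 2 n350 = n350 := d18_1 D350 (iv D350) F1390
theorem F1720 : act 4 n350 = n281 := d27_1 D350 (iv D281) (iv F1391)
theorem F1721 : act 7 n350 = n350 := d33_2 F1392 D350 (iv D350)
theorem F1722 : act 8 n350 = n350 := d34_2 F1393 D350 (iv D350)
def n351 : Q := act 2 n282
theorem D351 : act 2 n282 = n351 := rfl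
theorem F1723 : act 0 n351 = n306 := d1_1 D351 (iv D306) (iv F1400)
theorem F1724 : act 5 n351 = n283 := d17_2 (iv F1402) D351 (iv D283)
theorem F1725 : act 6 n351 = n351 := d18_2 F1403 D351 (iv D351)
theorem F1726 : act 7 n351 = n351 := d19_2 F1404 D351 (iv D351)
theorem F1727 : act 8 n351 = n351 := d20_2 F1405 D351 (iv D351)
def n352 : Q := act 4 n282
theorem D352 : act 4 n282 = n352 := rfl
theorem F1728 : act 0 n352 = n307 := d3_1 D352 (iv D307) (iv F1400)
theorem F1729 : act 1 n352 = n352 := d10_1 D352 (iv D352) F1401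
theorem F1730 : act 3 n352 = n352 := d21_1 D352 (iv D352) (iv D282) F1146 D282
theorem F1731 : act 5 n352 = n352 := d26_2 (iv F1402) D352 (iv D352) F1402 F1152
theorem F1732 : act 6 n352 = n352 := d27_2 F1403 D352 (iv D352)
theorem F1733 : act 7 n352 = n352 := d28_2 F1404 D352 (iv D352)
theorem F1734 : act 8 n352 = n352 := d29_2 F1405 D352 (iv D352)
def n353 : Q := act 1 n283
theorem D353 : act 1 n283 = n353 := rfl
theorem F1735 : act 2 n353 = n353 := d8_2 D283 D353 (iv D353) (iv D283) F1151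
theorem F1736 : act 4 n353 = n353 := d10_2 F1407 D353 (iv D353)
theorem F1737 : act 6 n353 = n284 := d12_2 (iv F1408) D353 (iv D284)
theorem F1738 : act 7 n353 = n353 := d13_2 F1409 D353 (iv D353)
theorem F1739 : act 8 n353 = n353 := d14_2 F1410 D353 (iv D353)
def n354 : Q := act 0 n284
theorem D354 : act 0 n284 = n354 := rfl
theorem F1740 : act 1 n354 = n309 := d0_2 D284 D354 (iv D309) (iv D251) (iv F1156)
theorem F1741 : act 2 n354 = n354 := d1_2 F1411 D354 (iv D354)
theorem F1742 : act 4 n354 = n354 := d3_2 F1412 D354 (iv D354)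
theorem F1743 : act 5 n354 = n354 := d4_2 F1413 D354 (iv D354)
theorem F1744 : act 7 n354 = n354 := d6_2 F1414 D354 (iv D354)
theorem F1745 : act 8 n354 = n354 := d7_2 F1415 D354 (iv D354)
def n355 : Q := act 1 n285
theorem D355 : act 1 n285 = n355 := rfl
theorem F1746 : act 3 n355 = n355 := d9_2 F1417 D355 (iv D355)
theorem F1747 : act 5 n355 = n287 := d11_2 (iv F1418) D355 (iv D287)
theorem F1748 : act 6 n355 = n355 := d12_2 F1419 D355 (iv D355)
theorem F1749 : act 7 n355 = n355 := d13_2 F1420 D355 (iv D355)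
theorem F1750 : act 8 n355 = n355 := d14_2 F1421 D355 (iv D355)
def n356 : Q := act 4 n285
theorem D356 : act 4 n285 = n356 := rfl
theorem F1751 : act 0 n356 = n356 := d3_1 D356 (iv D356) F1416
theorem F1752 : act 2 n356 = n286 := d16_1 D356 (iv D286) D285
theorem F1753 : act 5 n356 = n356 := d26_2 (iv F1418) D356 (iv D356) F1418 F1168
theorem F1754 : act 6 n356 = n356 := d27_2 F1419 D356 (iv D356)
theorem F1755 : act 7 n356 = n356 := d28_2 F1420 D356 (iv D356)
theorem F1756 : act 8 n356 = n356 := d29_2 F1421 D356 (iv D356)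
def n357 : Q := act 0 n287
theorem D357 : act 0 n287 = n357 := rfl
theorem F1757 : act 1 n357 = n357 := d0_2 D287 D357 (iv D357) (iv D287) F1166
theorem F1758 : act 3 n357 = n357 := d2_2 F1428 D357 (iv D357)
theorem F1759 : act 4 n357 = n357 := d3_2 F1429 D357 (iv D357)
theorem F1760 : act 6 n357 = n288 := d5_2 (iv F1430) D357 (iv D288)
theorem F1761 : act 7 n357 = n357 := d6_2 F1431 D357 (iv D357)
theorem F1762 : act 8 n357 = n357 := d7_2 F1432 D357 (iv D357)
def n358 : Q := act 3 n289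
theorem D358 : act 3 n289 = n358 := rfl
theorem F1763 : act 1 n358 = n358 := d9_1 D358 (iv D358) F1439
theorem F1764 : act 4 n358 = n358 := d21_2 (iv F1441) D358 (iv D358) F1441 F1184
theorem F1765 : act 5 n358 = n358 := d22_2 F1442 D358 (iv D358)
theorem F1766 : act 6 n358 = n358 := d23_2 F1443 D358 (iv D358)
theorem F1767 : act 7 n358 = n358 := d24_2 D289 D358 (iv D358) (iv D289) F1179
def n359 : Q := act 8 n289
theorem D359 : act 8 n289 = n359 := rfl
theorem F1768 : act 1 n359 = n359 := d14_1 D359 (iv D359) F1439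
theorem F1769 : act 2 n359 = n359 := d20_1 D359 (iv D359) F1440
theorem F1770 : act 4 n359 = n291 := d29_1 D359 (iv D291) (iv F1441)
theorem F1771 : act 5 n359 = n359 := d32_1 D359 (iv D359) F1442
theorem F1772 : act 6 n359 = n359 := d34_1 D359 (iv D359) F1443
def n360 : Q := act 7 n290
theorem D360 : act 7 n290 = n360 := rfl
theorem F1773 : act 1 n360 = n360 := d13_1 D360 (iv D360) F1444
theorem F1774 : act 2 n360 = n360 := d19_1 D360 (iv D360) F1445
theorem F1775 : act 4 n360 = n292 := d28_1 D360 (iv D292) (iv F1447)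
theorem F1776 : act 5 n360 = n360 := d31_1 D360 (iv D360) F1448
theorem F1777 : act 6 n360 = n360 := d33_1 D360 (iv D360) F1449
def n361 : Q := act 7 n291
theorem D361 : act 7 n291 = n361 := rfl
theorem F1778 : act 1 n361 = n361 := d13_1 D361 (iv D361) F1450
theorem F1779 : act 2 n361 = n361 := d19_1 D361 (iv D361) F1451
theorem F1780 : act 5 n361 = n293 := d31_1 D361 (iv D293) (iv F1453)
theorem F1781 : act 6 n361 = n361 := d33_1 D361 (iv D361) F1454
theorem F1782 : act 8 n361 = n292 := d35_2 D291 D361 (iv D292) (iv D237) D236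
def n362 : Q := act 3 n292
theorem D362 : act 3 n292 = n362 := rfl
theorem F1783 : act 1 n362 = n362 := d9_1 D362 (iv D362) F1455
theorem F1784 : act 5 n362 = n294 := d22_2 (iv F1457) D362 (iv D294)
theorem F1785 : act 6 n362 = n362 := d23_2 F1458 D362 (iv D362)
theorem F1786 : act 7 n362 = n298 := d24_2 D292 D362 (iv D298) (iv D242) (iv F1189)
def n363 : Q := act 3 n293
theorem D363 : act 3 n293 = n363 := rfl
theorem F1787 : act 1 n363 = n363 := d9_1 D363 (iv D363) F1459
theorem F1788 : act 6 n363 = n295 := d23_2 (iv F1462) D363 (iv D295)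
theorem F1789 : act 7 n363 = n363 := d24_2 D293 D363 (iv D363) (iv D293) F1194
theorem F1790 : act 8 n363 = n294 := d25_2 (iv F1463) D363 (iv D294)
def n364 : Q := act 2 n294
theorem D364 : act 2 n294 = n364 := rfl
theorem F1791 : act 3 n364 = n364 := d15_2 D294 D364 (iv D364) (iv D294) F1198
theorem F1792 : act 6 n364 = n296 := d18_2 (iv F1465) D364 (iv D296)
theorem F1793 : act 7 n364 = n299 := d19_2 (iv F1466) D364 (iv D299)
def n365 : Q := act 4 n294
theorem D365 : act 4 n294 = n365 := rfl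
theorem F1794 : act 1 n365 = n365 := d10_1 D365 (iv D365) F1464
theorem F1795 : act 3 n365 = n365 := d21_1 D365 (iv D365) (iv D294) F1199 D294
theorem F1796 : act 6 n365 = n297 := d27_2 (iv F1465) D365 (iv D297)
theorem F1797 : act 7 n365 = n300 := d28_2 (iv F1466) D365 (iv D300)
def n366 : Q := act 2 n295
theorem D366 : act 2 n295 = n366 := rfl
theorem F1798 : act 3 n366 = n366 := d15_2 D295 D366 (iv D366) (iv D295) F1202
theorem F1799 : act 5 n366 = n366 := d17_2 F1468 D366 (iv D366)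
theorem F1800 : act 7 n366 = n366 := d19_2 F1469 D366 (iv D366)
theorem F1801 : act 8 n366 = n296 := d20_2 (iv F1470) D366 (iv D296)
def n367 : Q := act 4 n295
theorem D367 : act 4 n295 = n367 := rfl
theorem F1802 : act 1 n367 = n367 := d10_1 D367 (iv D367) F1467
theorem F1803 : act 3 n367 = n367 := d21_1 D367 (iv D367) (iv D295) F1203 D295
theorem F1804 : act 7 n367 = n367 := d28_2 F1469 D367 (iv D367)
theorem F1805 : act 8 n367 = n297 := d29_2 (iv F1470) D367 (iv D297)
def n368 : Q := act 1 n296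
theorem D368 : act 1 n296 = n368 := rfl
theorem F1806 : act 2 n368 = n368 := d8_2 D296 D368 (iv D368) (iv D296) F1206
theorem F1807 : act 3 n368 = n368 := d9_2 F1471 D368 (iv D368)
theorem F1808 : act 5 n368 = n368 := d11_2 F1472 D368 (iv D368)
theorem F1809 : act 7 n368 = n301 := d13_2 (iv F1473) D368 (iv D301)
def n369 : Q := act 4 n296
theorem D369 : act 4 n296 = n369 := rfl
theorem F1810 : act 2 n369 = n297 := d16_1 D369 (iv D297) D296
theorem F1811 : act 7 n369 = n302 := d28_2 (iv F1473) D369 (iv D302)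
def n370 : Q := act 5 n297
theorem D370 : act 5 n297 = n370 := rfl
theorem F1812 : act 1 n370 = n370 := d11_1 D370 (iv D370) F1474
theorem F1813 : act 3 n370 = n370 := d22_1 D370 (iv D370) F1475
theorem F1814 : act 4 n370 = n370 := d26_1 D370 (iv D370) (iv D297) F1207 D297
theorem F1815 : act 7 n370 = n303 := d31_2 (iv F1476) D370 (iv D303)
def n371 : Q := act 2 n298
theorem D371 : act 2 n298 = n371 := rfl
theorem F1816 : act 3 n371 = n306 := d15_2 D298 D371 (iv D306) (iv D249) (iv F1210)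
theorem F1817 : act 5 n371 = n299 := d17_2 (iv F1478) D371 (iv D299)
theorem F1818 : act 6 n371 = n371 := d18_2 F1479 D371 (iv D371)
theorem F1819 : act 8 n371 = n371 := d20_2 F1480 D371 (iv D371)
def n372 : Q := act 4 n298
theorem D372 : act 4 n298 = n372 := rfl
theorem F1820 : act 1 n372 = n372 := d10_1 D372 (iv D372) F1477
theorem F1821 : act 3 n372 = n372 := d21_1 D372 (iv D372) (iv D298) F1211 D298
theorem F1822 : act 6 n372 = n372 := d27_2 F1479 D372 (iv D372)
theorem F1823 : act 8 n372 = n372 := d29_2 F1480 D372 (iv D372)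
def n373 : Q := act 1 n299
theorem D373 : act 1 n299 = n373 := rfl
theorem F1824 : act 2 n373 = n373 := d8_2 D299 D373 (iv D373) (iv D299) F1215
theorem F1825 : act 3 n373 = n308 := d9_2 (iv F1481) D373 (iv D308)
theorem F1826 : act 6 n373 = n301 := d12_2 (iv F1482) D373 (iv D301)
theorem F1827 : act 8 n373 = n373 := d14_2 F1483 D373 (iv D373)
def n374 : Q := act 4 n299
theorem D374 : act 4 n299 = n374 := rfl
theorem F1828 : act 2 n374 = n300 := d16_1 D374 (iv D300) D299
theorem F1829 : act 3 n374 = n374 := d21_1 D374 (iv D374) F1481 F1245 (iv F1481)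
theorem F1830 : act 6 n374 = n302 := d27_2 (iv F1482) D374 (iv D302)
theorem F1831 : act 8 n374 = n374 := d29_2 F1483 D374 (iv D374)
def n375 : Q := act 5 n300
theorem D375 : act 5 n300 = n375 := rfl
theorem F1832 : act 1 n375 = n375 := d11_1 D375 (iv D375) F1484
theorem F1833 : act 3 n375 = n304 := d22_1 D375 (iv D304) (iv F1485)
theorem F1834 : act 8 n375 = n375 := d32_2 F1487 D375 (iv D375)
def n376 : Q := act 0 n301
theorem D376 : act 0 n301 = n376 := rfl
theorem F1835 : act 2 n376 = n376 := d1_2 F1488 D376 (iv D376)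
theorem F1836 : act 3 n376 = n309 := d2_2 (iv F1489) D376 (iv D309)
theorem F1837 : act 5 n376 = n376 := d4_2 F1490 D376 (iv D376)
theorem F1838 : act 8 n376 = n376 := d7_2 F1491 D376 (iv D376)
def n377 : Q := act 4 n301
theorem D377 : act 4 n301 = n377 := rfl
theorem F1839 : act 1 n377 = n302 := d10_1 D377 (iv D302) D301
theorem F1840 : act 2 n377 = n377 := d16_1 D377 (iv D377) F1488
theorem F1841 : act 3 n377 = n377 := d21_1 D377 (iv D377) F1489 F1250 (iv F1489)
theorem F1842 : act 8 n377 = n377 := d29_2 F1491 D377 (iv D377)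
def n378 : Q := act 5 n302
theorem D378 : act 5 n302 = n378 := rfl
theorem F1843 : act 2 n378 = n303 := d17_1 D378 (iv D303) (iv F1492)
theorem F1844 : act 3 n378 = n378 := d22_1 D378 (iv D378) F1493
theorem F1845 : act 4 n378 = n378 := d26_1 D378 (iv D378) (iv D302) F1219 D302
theorem F1846 : act 8 n378 = n378 := d32_2 F1494 D378 (iv D378)
def n379 : Q := act 6 n303
theorem D379 : act 6 n303 = n379 := rfl
theorem F1847 : act 1 n379 = n379 := d12_1 D379 (iv D379) F1495
theorem F1848 : act 3 n379 = n305 := d23_1 D379 (iv D305) (iv F1496)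
theorem F1849 : act 4 n379 = n379 := d27_1 D379 (iv D379) F1497
theorem F1850 : act 8 n379 = n379 := d34_2 F1498 D379 (iv D379)
def n380 : Q := act 6 n304
theorem D380 : act 6 n304 = n380 := rfl
theorem F1851 : act 1 n380 = n380 := d12_1 D380 (iv D380) F1499
theorem F1852 : act 2 n380 = n380 := d18_1 D380 (iv D380) F1500
theorem F1853 : act 4 n380 = n380 := d27_1 D380 (iv D380) F1501
theorem F1854 : act 5 n380 = n305 := d30_1 D380 (iv D305) (iv D247) (iv F1226) D304
theorem F1855 : act 7 n380 = n380 := d33_2 F1502 D380 (iv D380)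
theorem F1856 : act 8 n380 = n380 := d34_2 F1503 D380 (iv D380)
def n381 : Q := act 1 n306
theorem D381 : act 1 n306 = n381 := rfl
theorem F1857 : act 2 n381 = n355 := d8_2 D306 D381 (iv D355) (iv D285) (iv F1240)
theorem F1858 : act 5 n381 = n308 := d11_2 (iv F1509) D381 (iv D308)
theorem F1859 : act 6 n381 = n381 := d12_2 F1510 D381 (iv D381)
theorem F1860 : act 7 n381 = n381 := d13_2 F1511 D381 (iv D381)
theorem F1861 : act 8 n381 = n381 := d14_2 F1512 D381 (iv D381)
def n382 : Q := act 4 n306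
theorem D382 : act 4 n306 = n382 := rfl
theorem F1862 : act 2 n382 = n307 := d16_1 D382 (iv D307) D306
theorem F1863 : act 5 n382 = n382 := d26_2 (iv F1509) D382 (iv D382) F1509 F1245
theorem F1864 : act 6 n382 = n382 := d27_2 F1510 D382 (iv D382)
theorem F1865 : act 7 n382 = n382 := d28_2 F1511 D382 (iv D382)
theorem F1866 : act 8 n382 = n382 := d29_2 F1512 D382 (iv D382)
def n383 : Q := act 0 n308
theorem D383 : act 0 n308 = n383 := rfl
theorem F1867 : act 2 n383 = n357 := d1_2 (iv F1519) D383 (iv D357)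
theorem F1868 : act 4 n383 = n383 := d3_2 F1520 D383 (iv D383)
theorem F1869 : act 6 n383 = n309 := d5_2 (iv F1521) D383 (iv D309)
theorem F1870 : act 7 n383 = n383 := d6_2 F1522 D383 (iv D383)
theorem F1871 : act 8 n383 = n383 := d7_2 F1523 D383 (iv D383)
def n384 : Q := act 4 n310
theorem D384 : act 4 n310 = n384 := rfl
theorem F1872 : act 0 n384 = n384 := d3_1 D384 (iv D384) F1529
theorem F1873 : act 1 n384 = n384 := d10_1 D384 (iv D384) F1530
theorem F1874 : act 2 n384 = n316 := d16_1 D384 (iv D316) (iv F1531)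
theorem F1875 : act 5 n384 = n384 := d26_2 D310 D384 (iv D384) (iv D310) F1258
theorem F1876 : act 6 n384 = n384 := d27_2 F1533 D384 (iv D384)
def n385 : Q := act 7 n310
theorem D385 : act 7 n310 = n385 := rfl
theorem F1877 : act 0 n385 = n385 := d6_1 D385 (iv D385) F1529
theorem F1878 : act 1 n385 = n385 := d13_1 D385 (iv D385) F1530
theorem F1879 : act 2 n385 = n317 := d19_1 D385 (iv D317) (iv F1531)
theorem F1880 : act 5 n385 = n311 := d31_1 D385 (iv D311) D310
theorem F1881 : act 6 n385 = n385 := d33_1 D385 (iv D385) F1533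
def n386 : Q := act 8 n310
theorem D386 : act 8 n310 = n386 := rfl
theorem F1882 : act 0 n386 = n386 := d7_1 D386 (iv D386) F1529
theorem F1883 : act 1 n386 = n386 := d14_1 D386 (iv D386) F1530
theorem F1884 : act 2 n386 = n318 := d20_1 D386 (iv D318) (iv F1531)
theorem F1885 : act 3 n386 = n386 := d25_1 D386 (iv D386) F1532
theorem F1886 : act 5 n386 = n312 := d32_1 D386 (iv D312) D310
theorem F1887 : act 6 n386 = n386 := d34_1 D386 (iv D386) F1533
def n387 : Q := act 3 n311
theorem D387 : act 3 n311 = n387 := rfl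
theorem F1888 : act 0 n387 = n387 := d2_1 D387 (iv D387) F1534
theorem F1889 : act 1 n387 = n387 := d9_1 D387 (iv D387) F1535
theorem F1890 : act 2 n387 = n387 := d15_1 D387 (iv D387) F1536 F1276 (iv F1536)
theorem F1891 : act 6 n387 = n313 := d23_2 (iv F1538) D387 (iv D313)
theorem F1892 : act 7 n387 = n387 := d24_2 D311 D387 (iv D387) (iv D311) F1257
def n388 : Q := act 8 n311
theorem D388 : act 8 n311 = n388 := rfl
theorem F1893 : act 0 n388 = n388 := d7_1 D388 (iv D388) F1534
theorem F1894 : act 1 n388 = n388 := d14_1 D388 (iv D388) F1535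
theorem F1895 : act 2 n388 = n319 := d20_1 D388 (iv D319) (iv F1536)
theorem F1896 : act 4 n388 = n388 := d29_1 D388 (iv D388) F1537
theorem F1897 : act 6 n388 = n314 := d34_1 D388 (iv D314) (iv F1538)
def n389 : Q := act 7 n312
theorem D389 : act 7 n312 = n389 := rfl
theorem F1898 : act 0 n389 = n389 := d6_1 D389 (iv D389) F1539
theorem F1899 : act 1 n389 = n389 := d13_1 D389 (iv D389) F1540
theorem F1900 : act 2 n389 = n320 := d19_1 D389 (iv D320) (iv F1541)
theorem F1901 : act 4 n389 = n389 := d28_1 D389 (iv D389) F1543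
theorem F1902 : act 6 n389 = n315 := d33_1 D389 (iv D315) (iv F1544)
def n390 : Q := act 4 n313
theorem D390 : act 4 n313 = n390 := rfl
theorem F1903 : act 0 n390 = n390 := d3_1 D390 (iv D390) F1545
theorem F1904 : act 1 n390 = n390 := d10_1 D390 (iv D390) F1546
theorem F1905 : act 2 n390 = n390 := d16_1 D390 (iv D390) F1547
theorem F1906 : act 3 n390 = n390 := d21_1 D390 (iv D390) (iv D313) F1262 D313
theorem F1907 : act 7 n390 = n390 := d28_2 F1549 D390 (iv D390)
def n391 : Q := act 8 n313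
theorem D391 : act 8 n313 = n391 := rfl
theorem F1908 : act 0 n391 = n391 := d7_1 D391 (iv D391) F1545
theorem F1909 : act 1 n391 = n391 := d14_1 D391 (iv D391) F1546
theorem F1910 : act 2 n391 = n391 := d20_1 D391 (iv D391) F1547
theorem F1911 : act 3 n391 = n314 := d25_1 D391 (iv D314) D313
theorem F1912 : act 5 n391 = n391 := d32_1 D391 (iv D391) F1548
def n392 : Q := act 7 n314
theorem D392 : act 7 n314 = n392 := rfl
theorem F1913 : act 0 n392 = n392 := d6_1 D392 (iv D392) F1550
theorem F1914 : act 1 n392 = n392 := d13_1 D392 (iv D392) F1551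
theorem F1915 : act 2 n392 = n321 := d19_1 D392 (iv D321) (iv F1552)
theorem F1916 : act 4 n392 = n392 := d28_1 D392 (iv D392) F1553
theorem F1917 : act 5 n392 = n392 := d31_1 D392 (iv D392) F1554
theorem F1918 : act 8 n392 = n315 := d35_2 D314 D392 (iv D315) (iv D254) D253
def n393 : Q := act 3 n315
theorem D393 : act 3 n315 = n393 := rfl
theorem F1919 : act 0 n393 = n393 := d2_1 D393 (iv D393) F1555
theorem F1920 : act 1 n393 = n393 := d9_1 D393 (iv D393) F1556
theorem F1921 : act 5 n393 = n393 := d22_2 F1559 D393 (iv D393)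
theorem F1922 : act 7 n393 = n393 := d24_2 D315 D393 (iv D393) (iv D315) F1267
def n394 : Q := act 7 n316
theorem D394 : act 7 n316 = n394 := rfl
theorem F1923 : act 0 n394 = n394 := d6_1 D394 (iv D394) F1560
theorem F1924 : act 1 n394 = n334 := d13_1 D394 (iv D334) (iv F1561)
theorem F1925 : act 4 n394 = n317 := d28_1 D394 (iv D317) D316
theorem F1926 : act 5 n394 = n394 := d31_1 D394 (iv D394) F1563
theorem F1927 : act 6 n394 = n394 := d33_1 D394 (iv D394) F1564
def n395 : Q := act 8 n316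
theorem D395 : act 8 n316 = n395 := rfl
theorem F1928 : act 0 n395 = n395 := d7_1 D395 (iv D395) F1560
theorem F1929 : act 1 n395 = n335 := d14_1 D395 (iv D335) (iv F1561)
theorem F1930 : act 3 n395 = n395 := d25_1 D395 (iv D395) F1562
theorem F1931 : act 4 n395 = n318 := d29_1 D395 (iv D318) D316
theorem F1932 : act 5 n395 = n395 := d32_1 D395 (iv D395) F1563
theorem F1933 : act 6 n395 = n395 := d34_1 D395 (iv D395) F1564
def n396 : Q := act 8 n317
theorem D396 : act 8 n317 = n396 := rfl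
theorem F1934 : act 0 n396 = n396 := d7_1 D396 (iv D396) F1565
theorem F1935 : act 1 n396 = n336 := d14_1 D396 (iv D336) (iv F1566)
theorem F1936 : act 3 n396 = n396 := d25_1 D396 (iv D396) F1567
theorem F1937 : act 5 n396 = n319 := d32_1 D396 (iv D319) (iv F1568)
theorem F1938 : act 6 n396 = n396 := d34_1 D396 (iv D396) F1569
def n397 : Q := act 7 n318
theorem D397 : act 7 n318 = n397 := rfl
theorem F1939 : act 0 n397 = n397 := d6_1 D397 (iv D397) F1570
theorem F1940 : act 1 n397 = n337 := d13_1 D397 (iv D337) (iv F1571)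
theorem F1941 : act 5 n397 = n320 := d31_1 D397 (iv D320) (iv F1573)
theorem F1942 : act 6 n397 = n397 := d33_1 D397 (iv D397) F1574
def n398 : Q := act 7 n319
theorem D398 : act 7 n319 = n398 := rfl
theorem F1943 : act 0 n398 = n398 := d6_1 D398 (iv D398) F1575
theorem F1944 : act 1 n398 = n338 := d13_1 D398 (iv D338) (iv F1576)
theorem F1945 : act 4 n398 = n398 := d28_1 D398 (iv D398) F1578
theorem F1946 : act 6 n398 = n321 := d33_1 D398 (iv D321) (iv F1579)
theorem F1947 : act 8 n398 = n320 := d35_2 D319 D398 (iv D320) (iv D257) D256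
def n399 : Q := act 3 n320
theorem D399 : act 3 n320 = n399 := rfl
theorem F1948 : act 0 n399 = n399 := d2_1 D399 (iv D399) F1580
theorem F1949 : act 1 n399 = n339 := d9_1 D399 (iv D339) (iv F1581)
theorem F1950 : act 6 n399 = n322 := d23_2 (iv F1583) D399 (iv D322)
theorem F1951 : act 7 n399 = n324 := d24_2 D320 D399 (iv D324) (iv D261) (iv F1281)
def n400 : Q := act 3 n321
theorem D400 : act 3 n321 = n400 := rfl
theorem F1952 : act 0 n400 = n400 := d2_1 D400 (iv D400) F1584
theorem F1953 : act 1 n400 = n340 := d9_1 D400 (iv D340) (iv F1585)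
theorem F1954 : act 5 n400 = n400 := d22_2 F1587 D400 (iv D400)
theorem F1955 : act 7 n400 = n400 := d24_2 D321 D400 (iv D400) (iv D321) F1286
theorem F1956 : act 8 n400 = n322 := d25_2 (iv F1588) D400 (iv D322)
def n401 : Q := act 2 n322
theorem D401 : act 2 n322 = n401 := rfl
theorem F1957 : act 0 n401 = n401 := d1_1 D401 (iv D401) F1589
theorem F1958 : act 5 n401 = n401 := d17_2 F1591 D401 (iv D401)
theorem F1959 : act 7 n401 = n325 := d19_2 (iv F1592) D401 (iv D325)
def n402 : Q := act 4 n322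
theorem D402 : act 4 n322 = n402 := rfl
theorem F1960 : act 0 n402 = n402 := d3_1 D402 (iv D402) F1589
theorem F1961 : act 1 n402 = n342 := d10_1 D402 (iv D342) (iv F1590)
theorem F1962 : act 3 n402 = n402 := d21_1 D402 (iv D402) (iv D322) F1291 D322
theorem F1963 : act 7 n402 = n326 := d28_2 (iv F1592) D402 (iv D326)
def n403 : Q := act 3 n323
theorem D403 : act 3 n323 = n403 := rfl
theorem F1964 : act 0 n403 = n403 := d2_1 D403 (iv D403) F1593
theorem F1965 : act 1 n403 = n343 := d9_1 D403 (iv D343) (iv F1594)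
theorem F1966 : act 5 n403 = n324 := d22_2 (iv F1597) D403 (iv D324)
theorem F1967 : act 6 n403 = n403 := d23_2 F1598 D403 (iv D403)
theorem F1968 : act 8 n403 = n403 := d25_2 F1599 D403 (iv D403)
def n404 : Q := act 2 n324
theorem D404 : act 2 n324 = n404 := rfl
theorem F1969 : act 0 n404 = n404 := d1_1 D404 (iv D404) F1600
theorem F1970 : act 3 n404 = n404 := d15_2 D324 D404 (iv D404) (iv D324) F1301
theorem F1971 : act 6 n404 = n325 := d18_2 (iv F1602) D404 (iv D325)
theorem F1972 : act 8 n404 = n404 := d20_2 F1603 D404 (iv D404)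
def n405 : Q := act 4 n324
theorem D405 : act 4 n324 = n405 := rfl
theorem F1973 : act 0 n405 = n405 := d3_1 D405 (iv D405) F1600
theorem F1974 : act 1 n405 = n345 := d10_1 D405 (iv D345) (iv F1601)
theorem F1975 : act 3 n405 = n328 := d21_1 D405 (iv D328) (iv D263) (iv F1302) D324
theorem F1976 : act 6 n405 = n326 := d27_2 (iv F1602) D405 (iv D326)
theorem F1977 : act 8 n405 = n405 := d29_2 F1603 D405 (iv D405)
def n406 : Q := act 1 n325
theorem D406 : act 1 n325 = n406 := rfl
theorem F1978 : act 2 n406 = n346 := d8_2 D325 D406 (iv D346) (iv D277) (iv F1306)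
theorem F1979 : act 3 n406 = n406 := d9_2 F1605 D406 (iv D406)
theorem F1980 : act 5 n406 = n406 := d11_2 F1606 D406 (iv D406)
theorem F1981 : act 8 n406 = n406 := d14_2 F1607 D406 (iv D406)
def n407 : Q := act 4 n325
theorem D407 : act 4 n325 = n407 := rfl
theorem F1982 : act 0 n407 = n407 := d3_1 D407 (iv D407) F1604
theorem F1983 : act 2 n407 = n326 := d16_1 D407 (iv D326) D325
theorem F1984 : act 8 n407 = n407 := d29_2 F1607 D407 (iv D407)
def n408 : Q := act 5 n326
theorem D408 : act 5 n326 = n408 := rfl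
theorem F1985 : act 0 n408 = n408 := d4_1 D408 (iv D408) F1608
theorem F1986 : act 1 n408 = n348 := d11_1 D408 (iv D348) (iv F1609)
theorem F1987 : act 3 n408 = n330 := d22_1 D408 (iv D330) (iv F1610)
theorem F1988 : act 4 n408 = n408 := d26_1 D408 (iv D408) (iv D326) F1307 D326
theorem F1989 : act 8 n408 = n408 := d32_2 F1611 D408 (iv D408)
def n409 : Q := act 4 n327
theorem D409 : act 4 n327 = n409 := rfl
theorem F1990 : act 0 n409 = n409 := d3_1 D409 (iv D409) F1612
theorem F1991 : act 1 n409 = n409 := d10_1 D409 (iv D409) F1613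
theorem F1992 : act 2 n409 = n328 := d16_1 D409 (iv D328) D327
theorem F1993 : act 6 n409 = n329 := d27_2 (iv F1616) D409 (iv D329)
theorem F1994 : act 7 n409 = n409 := d28_2 F1617 D409 (iv D409)
theorem F1995 : act 8 n409 = n409 := d29_2 F1618 D409 (iv D409)
def n410 : Q := act 5 n328
theorem D410 : act 5 n328 = n410 := rfl
theorem F1996 : act 0 n410 = n410 := d4_1 D410 (iv D410) F1619
theorem F1997 : act 1 n410 = n349 := d11_1 D410 (iv D349) (iv F1620)
theorem F1998 : act 4 n410 = n410 := d26_1 D410 (iv D410) (iv D328) F1311 D328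
theorem F1999 : act 7 n410 = n410 := d31_2 F1622 D410 (iv D410)
theorem F2000 : act 8 n410 = n410 := d32_2 F1623 D410 (iv D410)
def n411 : Q := act 3 n329
theorem D411 : act 3 n329 = n411 := rfl
theorem F2001 : act 0 n411 = n411 := d2_1 D411 (iv D411) F1624
theorem F2002 : act 1 n411 = n411 := d9_1 D411 (iv D411) F1625
theorem F2003 : act 4 n411 = n411 := d21_2 D329 D411 (iv D411) (iv D329) F1317
theorem F2004 : act 8 n411 = n411 := d25_2 F1628 D411 (iv D411)
def n412 : Q := act 5 n329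
theorem D412 : act 5 n329 = n412 := rfl
theorem F2005 : act 0 n412 = n412 := d4_1 D412 (iv D412) F1624
theorem F2006 : act 1 n412 = n412 := d11_1 D412 (iv D412) F1625
theorem F2007 : act 2 n412 = n330 := d17_1 D412 (iv D330) (iv F1626)
theorem F2008 : act 4 n412 = n332 := d26_1 D412 (iv D332) (iv D266) (iv F1318) D329
theorem F2009 : act 7 n412 = n412 := d31_2 F1627 D412 (iv D412)
theorem F2010 : act 8 n412 = n412 := d32_2 F1628 D412 (iv D412)
def n413 : Q := act 6 n330
theorem D413 : act 6 n330 = n413 := rfl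
theorem F2011 : act 0 n413 = n413 := d5_1 D413 (iv D413) F1629
theorem F2012 : act 1 n413 = n350 := d12_1 D413 (iv D350) (iv F1630)
theorem F2013 : act 4 n413 = n333 := d27_1 D413 (iv D333) (iv F1631)
theorem F2014 : act 7 n413 = n413 := d33_2 F1632 D413 (iv D413)
theorem F2015 : act 8 n413 = n413 := d34_2 F1633 D413 (iv D413)
def n414 : Q := act 5 n331
theorem D414 : act 5 n331 = n414 := rfl
theorem F2016 : act 0 n414 = n414 := d4_1 D414 (iv D414) F1634
theorem F2017 : act 1 n414 = n414 := d11_1 D414 (iv D414) F1635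
theorem F2018 : act 2 n414 = n414 := d17_1 D414 (iv D414) F1636
theorem F2019 : act 3 n414 = n332 := d22_1 D414 (iv D332) D331
theorem F2020 : act 8 n414 = n414 := d32_2 F1639 D414 (iv D414)
def n415 : Q := act 7 n331
theorem D415 : act 7 n331 = n415 := rfl
theorem F2021 : act 0 n415 = n415 := d6_1 D415 (iv D415) F1634
theorem F2022 : act 1 n415 = n415 := d13_1 D415 (iv D415) F1635
theorem F2023 : act 2 n415 = n415 := d19_1 D415 (iv D415) F1636
theorem F2024 : act 3 n415 = n415 := d24_1 D415 (iv D415) (iv D331) F1329 D331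
theorem F2025 : act 4 n415 = n415 := d28_1 D415 (iv D415) F1637
theorem F2026 : act 6 n415 = n415 := d33_1 D415 (iv D415) F1638
def n416 : Q := act 6 n332
theorem D416 : act 6 n332 = n416 := rfl
theorem F2027 : act 0 n416 = n416 := d5_1 D416 (iv D416) F1640
theorem F2028 : act 1 n416 = n416 := d12_1 D416 (iv D416) F1641
theorem F2029 : act 2 n416 = n333 := d18_1 D416 (iv D333) (iv F1642)
theorem F2030 : act 5 n416 = n416 := d30_1 D416 (iv D416) (iv D332) F1328 D332
theorem F2031 : act 7 n416 = n416 := d33_2 F1643 D416 (iv D416)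
theorem F2032 : act 8 n416 = n416 := d34_2 F1644 D416 (iv D416)
def n417 : Q := act 3 n334
theorem D417 : act 3 n334 = n417 := rfl
theorem F2033 : act 0 n417 = n358 := d2_1 D417 (iv D358) (iv F1651)
theorem F2034 : act 4 n417 = n417 := d21_2 (iv F1653) D417 (iv D417) F1653 F1343
theorem F2035 : act 5 n417 = n417 := d22_2 F1654 D417 (iv D417)
theorem F2036 : act 6 n417 = n417 := d23_2 F1655 D417 (iv D417)
theorem F2037 : act 7 n417 = n417 := d24_2 D334 D417 (iv D417) (iv D334) F1338
def n418 : Q := act 8 n334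
theorem D418 : act 8 n334 = n418 := rfl
theorem F2038 : act 0 n418 = n359 := d7_1 D418 (iv D359) (iv F1651)
theorem F2039 : act 2 n418 = n418 := d20_1 D418 (iv D418) F1652
theorem F2040 : act 4 n418 = n336 := d29_1 D418 (iv D336) (iv F1653)
theorem F2041 : act 5 n418 = n418 := d32_1 D418 (iv D418) F1654
theorem F2042 : act 6 n418 = n418 := d34_1 D418 (iv D418) F1655
def n419 : Q := act 7 n335
theorem D419 : act 7 n335 = n419 := rfl
theorem F2043 : act 0 n419 = n360 := d6_1 D419 (iv D360) (iv F1656)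
theorem F2044 : act 2 n419 = n419 := d19_1 D419 (iv D419) F1657
theorem F2045 : act 4 n419 = n337 := d28_1 D419 (iv D337) (iv F1659)
theorem F2046 : act 5 n419 = n419 := d31_1 D419 (iv D419) F1660
theorem F2047 : act 6 n419 = n419 := d33_1 D419 (iv D419) F1661
def n420 : Q := act 7 n336
theorem D420 : act 7 n336 = n420 := rfl
theorem F2048 : act 0 n420 = n361 := d6_1 D420 (iv D361) (iv F1662)
theorem F2049 : act 2 n420 = n420 := d19_1 D420 (iv D420) F1663
theorem F2050 : act 5 n420 = n338 := d31_1 D420 (iv D338) (iv F1665)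
theorem F2051 : act 6 n420 = n420 := d33_1 D420 (iv D420) F1666
theorem F2052 : act 8 n420 = n337 := d35_2 D336 D420 (iv D337) (iv D270) D269
def n421 : Q := act 3 n337
theorem D421 : act 3 n337 = n421 := rfl
theorem F2053 : act 0 n421 = n362 := d2_1 D421 (iv D362) (iv F1667)
theorem F2054 : act 5 n421 = n339 := d22_2 (iv F1669) D421 (iv D339)
theorem F2055 : act 6 n421 = n421 := d23_2 F1670 D421 (iv D421)
theorem F2056 : act 7 n421 = n343 := d24_2 D337 D421 (iv D343) (iv D275) (iv F1348)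
def n422 : Q := act 3 n338
theorem D422 : act 3 n338 = n422 := rfl
theorem F2057 : act 0 n422 = n363 := d2_1 D422 (iv D363) (iv F1671)
theorem F2058 : act 6 n422 = n340 := d23_2 (iv F1674) D422 (iv D340)
theorem F2059 : act 7 n422 = n422 := d24_2 D338 D422 (iv D422) (iv D338) F1353
theorem F2060 : act 8 n422 = n339 := d25_2 (iv F1675) D422 (iv D339)
def n423 : Q := act 2 n339
theorem D423 : act 2 n339 = n423 := rfl
theorem F2061 : act 0 n423 = n364 := d1_1 D423 (iv D364) (iv F1676)
theorem F2062 : act 3 n423 = n423 := d15_2 D339 D423 (iv D423) (iv D339) F1357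
theorem F2063 : act 6 n423 = n341 := d18_2 (iv F1677) D423 (iv D341)
theorem F2064 : act 7 n423 = n344 := d19_2 (iv F1678) D423 (iv D344)
def n424 : Q := act 4 n339
theorem D424 : act 4 n339 = n424 := rfl
theorem F2065 : act 0 n424 = n365 := d3_1 D424 (iv D365) (iv F1676)
theorem F2066 : act 3 n424 = n424 := d21_1 D424 (iv D424) (iv D339) F1358 D339
theorem F2067 : act 6 n424 = n342 := d27_2 (iv F1677) D424 (iv D342)
theorem F2068 : act 7 n424 = n345 := d28_2 (iv F1678) D424 (iv D345)
def n425 : Q := act 2 n340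
theorem D425 : act 2 n340 = n425 := rfl
theorem F2069 : act 0 n425 = n366 := d1_1 D425 (iv D366) (iv F1679)
theorem F2070 : act 3 n425 = n425 := d15_2 D340 D425 (iv D425) (iv D340) F1361
theorem F2071 : act 5 n425 = n425 := d17_2 F1680 D425 (iv D425)
theorem F2072 : act 7 n425 = n425 := d19_2 F1681 D425 (iv D425)
theorem F2073 : act 8 n425 = n341 := d20_2 (iv F1682) D425 (iv D341)
def n426 : Q := act 4 n340
theorem D426 : act 4 n340 = n426 := rfl
theorem F2074 : act 0 n426 = n367 := d3_1 D426 (iv D367) (iv F1679)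
theorem F2075 : act 3 n426 = n426 := d21_1 D426 (iv D426) (iv D340) F1362 D340
theorem F2076 : act 7 n426 = n426 := d28_2 F1681 D426 (iv D426)
theorem F2077 : act 8 n426 = n342 := d29_2 (iv F1682) D426 (iv D342)
def n427 : Q := act 1 n341
theorem D427 : act 1 n341 = n427 := rfl
theorem F2078 : act 3 n427 = n427 := d9_2 F1684 D427 (iv D427)
theorem F2079 : act 5 n427 = n427 := d11_2 F1685 D427 (iv D427)
theorem F2080 : act 7 n427 = n346 := d13_2 (iv F1686) D427 (iv D346)
def n428 : Q := act 4 n341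
theorem D428 : act 4 n341 = n428 := rfl
theorem F2081 : act 0 n428 = n369 := d3_1 D428 (iv D369) (iv F1683)
theorem F2082 : act 2 n428 = n342 := d16_1 D428 (iv D342) D341
theorem F2083 : act 7 n428 = n347 := d28_2 (iv F1686) D428 (iv D347)
def n429 : Q := act 5 n342
theorem D429 : act 5 n342 = n429 := rfl
theorem F2084 : act 0 n429 = n370 := d4_1 D429 (iv D370) (iv F1687)
theorem F2085 : act 3 n429 = n429 := d22_1 D429 (iv D429) F1688
theorem F2086 : act 4 n429 = n429 := d26_1 D429 (iv D429) (iv D342) F1366 D342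
theorem F2087 : act 7 n429 = n348 := d31_2 (iv F1689) D429 (iv D348)
def n430 : Q := act 2 n343
theorem D430 : act 2 n343 = n430 := rfl
theorem F2088 : act 0 n430 = n371 := d1_1 D430 (iv D371) (iv F1690)
theorem F2089 : act 3 n430 = n351 := d15_2 D343 D430 (iv D351) (iv D282) (iv F1369)
theorem F2090 : act 5 n430 = n344 := d17_2 (iv F1691) D430 (iv D344)
theorem F2091 : act 6 n430 = n430 := d18_2 F1692 D430 (iv D430)
theorem F2092 : act 8 n430 = n430 := d20_2 F1693 D430 (iv D430)
def n431 : Q := act 4 n343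
theorem D431 : act 4 n343 = n431 := rfl
theorem F2093 : act 0 n431 = n372 := d3_1 D431 (iv D372) (iv F1690)
theorem F2094 : act 3 n431 = n431 := d21_1 D431 (iv D431) (iv D343) F1370 D343
theorem F2095 : act 6 n431 = n431 := d27_2 F1692 D431 (iv D431)
theorem F2096 : act 8 n431 = n431 := d29_2 F1693 D431 (iv D431)
def n432 : Q := act 1 n344
theorem D432 : act 1 n344 = n432 := rfl
theorem F2097 : act 3 n432 = n353 := d9_2 (iv F1695) D432 (iv D353)
theorem F2098 : act 6 n432 = n346 := d12_2 (iv F1696) D432 (iv D346)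
theorem F2099 : act 8 n432 = n432 := d14_2 F1697 D432 (iv D432)
def n433 : Q := act 4 n344
theorem D433 : act 4 n344 = n433 := rfl
theorem F2100 : act 0 n433 = n374 := d3_1 D433 (iv D374) (iv F1694)
theorem F2101 : act 2 n433 = n345 := d16_1 D433 (iv D345) D344
theorem F2102 : act 3 n433 = n433 := d21_1 D433 (iv D433) F1695 F1407 (iv F1695)
theorem F2103 : act 6 n433 = n347 := d27_2 (iv F1696) D433 (iv D347)
theorem F2104 : act 8 n433 = n433 := d29_2 F1697 D433 (iv D433)
def n434 : Q := act 5 n345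
theorem D434 : act 5 n345 = n434 := rfl
theorem F2105 : act 0 n434 = n375 := d4_1 D434 (iv D375) (iv F1698)
theorem F2106 : act 3 n434 = n349 := d22_1 D434 (iv D349) (iv F1699)
theorem F2107 : act 8 n434 = n434 := d32_2 F1701 D434 (iv D434)
def n435 : Q := act 0 n346
theorem D435 : act 0 n346 = n435 := rfl
theorem F2108 : act 1 n435 = n376 := d0_2 D346 D435 (iv D376) (iv D301) (iv F1377)
theorem F2109 : act 3 n435 = n354 := d2_2 (iv F1702) D435 (iv D354)
theorem F2110 : act 5 n435 = n435 := d4_2 F1703 D435 (iv D435)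
theorem F2111 : act 8 n435 = n435 := d7_2 F1704 D435 (iv D435)
def n436 : Q := act 4 n346
theorem D436 : act 4 n346 = n436 := rfl
theorem F2112 : act 1 n436 = n347 := d10_1 D436 (iv D347) D346
theorem F2113 : act 3 n436 = n436 := d21_1 D436 (iv D436) F1702 F1412 (iv F1702)
theorem F2114 : act 8 n436 = n436 := d29_2 F1704 D436 (iv D436)
def n437 : Q := act 5 n347
theorem D437 : act 5 n347 = n437 := rfl
theorem F2115 : act 0 n437 = n378 := d4_1 D437 (iv D378) (iv F1705)
theorem F2116 : act 2 n437 = n348 := d17_1 D437 (iv D348) (iv F1706)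
theorem F2117 : act 3 n437 = n437 := d22_1 D437 (iv D437) F1707
theorem F2118 : act 4 n437 = n437 := d26_1 D437 (iv D437) (iv D347) F1379 D347
theorem F2119 : act 8 n437 = n437 := d32_2 F1708 D437 (iv D437)
def n438 : Q := act 6 n348
theorem D438 : act 6 n348 = n438 := rfl
theorem F2120 : act 0 n438 = n379 := d5_1 D438 (iv D379) (iv F1709)
theorem F2121 : act 3 n438 = n350 := d23_1 D438 (iv D350) (iv F1710)
theorem F2122 : act 4 n438 = n438 := d27_1 D438 (iv D438) F1711
theorem F2123 : act 8 n438 = n438 := d34_2 F1712 D438 (iv D438)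
def n439 : Q := act 6 n349
theorem D439 : act 6 n349 = n439 := rfl
theorem F2124 : act 0 n439 = n380 := d5_1 D439 (iv D380) (iv F1713)
theorem F2125 : act 2 n439 = n439 := d18_1 D439 (iv D439) F1714
theorem F2126 : act 4 n439 = n439 := d27_1 D439 (iv D439) F1715
theorem F2127 : act 5 n439 = n350 := d30_1 D439 (iv D350) (iv D280) (iv F1386) D349
theorem F2128 : act 7 n439 = n439 := d33_2 F1716 D439 (iv D439)
theorem F2129 : act 8 n439 = n439 := d34_2 F1717 D439 (iv D439)
def n440 : Q := act 1 n351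
theorem D440 : act 1 n351 = n440 := rfl
theorem F2130 : act 2 n440 = n440 := d8_2 D351 D440 (iv D440) (iv D351) F1401
theorem F2131 : act 5 n440 = n353 := d11_2 (iv F1724) D440 (iv D353)
theorem F2132 : act 6 n440 = n440 := d12_2 F1725 D440 (iv D440)
theorem F2133 : act 7 n440 = n440 := d13_2 F1726 D440 (iv D440)
theorem F2134 : act 8 n440 = n440 := d14_2 F1727 D440 (iv D440)
def n441 : Q := act 4 n351
theorem D441 : act 4 n351 = n441 := rfl
theorem F2135 : act 0 n441 = n382 := d3_1 D441 (iv D382) (iv F1723)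
theorem F2136 : act 2 n441 = n352 := d16_1 D441 (iv D352) D351
theorem F2137 : act 5 n441 = n441 := d26_2 (iv F1724) D441 (iv D441) F1724 F1407
theorem F2138 : act 6 n441 = n441 := d27_2 F1725 D441 (iv D441)
theorem F2139 : act 7 n441 = n441 := d28_2 F1726 D441 (iv D441)
theorem F2140 : act 8 n441 = n441 := d29_2 F1727 D441 (iv D441)
def n442 : Q := act 0 n353
theorem D442 : act 0 n353 = n442 := rfl
theorem F2141 : act 1 n442 = n383 := d0_2 D353 D442 (iv D383) (iv D308) (iv F1406)
theorem F2142 : act 2 n442 = n442 := d1_2 F1735 D442 (iv D442)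
theorem F2143 : act 4 n442 = n442 := d3_2 F1736 D442 (iv D442)
theorem F2144 : act 6 n442 = n354 := d5_2 (iv F1737) D442 (iv D354)
theorem F2145 : act 7 n442 = n442 := d6_2 F1738 D442 (iv D442)
theorem F2146 : act 8 n442 = n442 := d7_2 F1739 D442 (iv D442)
def n443 : Q := act 0 n355
theorem D443 : act 0 n355 = n443 := rfl
theorem F2147 : act 1 n443 = n443 := d0_2 D355 D443 (iv D443) (iv D355) F1416
theorem F2148 : act 3 n443 = n443 := d2_2 F1746 D443 (iv D443)
theorem F2149 : act 5 n443 = n357 := d4_2 (iv F1747) D443 (iv D357)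
theorem F2150 : act 6 n443 = n443 := d5_2 F1748 D443 (iv D443)
theorem F2151 : act 7 n443 = n443 := d6_2 F1749 D443 (iv D443)
theorem F2152 : act 8 n443 = n443 := d7_2 F1750 D443 (iv D443)
def n444 : Q := act 4 n355
theorem D444 : act 4 n355 = n444 := rfl
theorem F2153 : act 1 n444 = n356 := d10_1 D444 (iv D356) D355
theorem F2154 : act 5 n444 = n444 := d26_2 (iv F1747) D444 (iv D444) F1747 F1429
theorem F2155 : act 6 n444 = n444 := d27_2 F1748 D444 (iv D444)
theorem F2156 : act 7 n444 = n444 := d28_2 F1749 D444 (iv D444)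
theorem F2157 : act 8 n444 = n444 := d29_2 F1750 D444 (iv D444)
def n445 : Q := act 3 n356
theorem D445 : act 3 n356 = n445 := rfl
theorem F2158 : act 0 n445 = n445 := d2_1 D445 (iv D445) F1751
theorem F2159 : act 2 n445 = n445 := d15_1 D445 (iv D445) F1752 F1423 (iv F1752)
theorem F2160 : act 4 n445 = n445 := d21_2 D356 D445 (iv D445) (iv D356) F1417
theorem F2161 : act 5 n445 = n445 := d22_2 F1753 D445 (iv D445)
theorem F2162 : act 6 n445 = n445 := d23_2 F1754 D445 (iv D445)
theorem F2163 : act 8 n445 = n445 := d25_2 F1756 D445 (iv D445)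
def n446 : Q := act 2 n358
theorem D446 : act 2 n358 = n446 := rfl
theorem F2164 : act 3 n446 = n446 := d15_2 D358 D446 (iv D446) (iv D358) F1440
theorem F2165 : act 4 n446 = n446 := d16_2 F1764 D446 (iv D446)
theorem F2166 : act 5 n446 = n446 := d17_2 F1765 D446 (iv D446)
theorem F2167 : act 6 n446 = n446 := d18_2 F1766 D446 (iv D446)
theorem F2168 : act 7 n446 = n446 := d19_2 F1767 D446 (iv D446)
def n447 : Q := act 8 n358
theorem D447 : act 8 n358 = n447 := rfl
theorem F2169 : act 1 n447 = n447 := d14_1 D447 (iv D447) F1763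
theorem F2170 : act 3 n447 = n359 := d25_1 D447 (iv D359) D358
theorem F2171 : act 4 n447 = n447 := d29_1 D447 (iv D447) F1764
theorem F2172 : act 5 n447 = n447 := d32_1 D447 (iv D447) F1765
theorem F2173 : act 6 n447 = n447 := d34_1 D447 (iv D447) F1766
def n448 : Q := act 7 n359
theorem D448 : act 7 n359 = n448 := rfl
theorem F2174 : act 1 n448 = n448 := d13_1 D448 (iv D448) F1768
theorem F2175 : act 2 n448 = n448 := d19_1 D448 (iv D448) F1769
theorem F2176 : act 4 n448 = n361 := d28_1 D448 (iv D361) (iv F1770)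
theorem F2177 : act 5 n448 = n448 := d31_1 D448 (iv D448) F1771
theorem F2178 : act 6 n448 = n448 := d33_1 D448 (iv D448) F1772
theorem F2179 : act 8 n448 = n360 := d35_2 D359 D448 (iv D360) (iv D290) D289
def n449 : Q := act 3 n360
theorem D449 : act 3 n360 = n449 := rfl
theorem F2180 : act 1 n449 = n449 := d9_1 D449 (iv D449) F1773
theorem F2181 : act 5 n449 = n449 := d22_2 F1776 D449 (iv D449)
theorem F2182 : act 6 n449 = n449 := d23_2 F1777 D449 (iv D449)
theorem F2183 : act 7 n449 = n449 := d24_2 D360 D449 (iv D449) (iv D360) F1446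
def n450 : Q := act 3 n361
theorem D450 : act 3 n361 = n450 := rfl
theorem F2184 : act 1 n450 = n450 := d9_1 D450 (iv D450) F1778
theorem F2185 : act 5 n450 = n363 := d22_2 (iv F1780) D450 (iv D363)
theorem F2186 : act 6 n450 = n450 := d23_2 F1781 D450 (iv D450)
theorem F2187 : act 7 n450 = n450 := d24_2 D361 D450 (iv D450) (iv D361) F1452
theorem F2188 : act 8 n450 = n362 := d25_2 (iv F1782) D450 (iv D362)
def n451 : Q := act 2 n362
theorem D451 : act 2 n362 = n451 := rfl
theorem F2189 : act 3 n451 = n451 := d15_2 D362 D451 (iv D451) (iv D362) F1456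
theorem F2190 : act 5 n451 = n364 := d17_2 (iv F1784) D451 (iv D364)
theorem F2191 : act 6 n451 = n451 := d18_2 F1785 D451 (iv D451)
theorem F2192 : act 7 n451 = n371 := d19_2 (iv F1786) D451 (iv D371)
def n452 : Q := act 4 n362
theorem D452 : act 4 n362 = n452 := rfl
theorem F2193 : act 1 n452 = n452 := d10_1 D452 (iv D452) F1783
theorem F2194 : act 6 n452 = n452 := d27_2 F1785 D452 (iv D452)
theorem F2195 : act 7 n452 = n372 := d28_2 (iv F1786) D452 (iv D372)
def n453 : Q := act 2 n363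
theorem D453 : act 2 n363 = n453 := rfl
theorem F2196 : act 3 n453 = n453 := d15_2 D363 D453 (iv D453) (iv D363) F1460
theorem F2197 : act 6 n453 = n366 := d18_2 (iv F1788) D453 (iv D366)
theorem F2198 : act 7 n453 = n453 := d19_2 F1789 D453 (iv D453)
theorem F2199 : act 8 n453 = n364 := d20_2 (iv F1790) D453 (iv D364)
def n454 : Q := act 4 n363
theorem D454 : act 4 n363 = n454 := rfl
theorem F2200 : act 1 n454 = n454 := d10_1 D454 (iv D454) F1787
theorem F2201 : act 3 n454 = n454 := d21_1 D454 (iv D454) (iv D363) F1461 D363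
theorem F2202 : act 6 n454 = n367 := d27_2 (iv F1788) D454 (iv D367)
theorem F2203 : act 7 n454 = n454 := d28_2 F1789 D454 (iv D454)
theorem F2204 : act 8 n454 = n365 := d29_2 (iv F1790) D454 (iv D365)
def n455 : Q := act 1 n364
theorem D455 : act 1 n364 = n455 := rfl
theorem F2205 : act 2 n455 = n455 := d8_2 D364 D455 (iv D455) (iv D364) F1464
theorem F2206 : act 3 n455 = n455 := d9_2 F1791 D455 (iv D455)
theorem F2207 : act 6 n455 = n368 := d12_2 (iv F1792) D455 (iv D368)
theorem F2208 : act 7 n455 = n373 := d13_2 (iv F1793) D455 (iv D373)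
def n456 : Q := act 4 n364
theorem D456 : act 4 n364 = n456 := rfl
theorem F2209 : act 2 n456 = n365 := d16_1 D456 (iv D365) D364
theorem F2210 : act 6 n456 = n369 := d27_2 (iv F1792) D456 (iv D369)
theorem F2211 : act 7 n456 = n374 := d28_2 (iv F1793) D456 (iv D374)
def n457 : Q := act 5 n365
theorem D457 : act 5 n365 = n457 := rfl
theorem F2212 : act 1 n457 = n457 := d11_1 D457 (iv D457) F1794
theorem F2213 : act 3 n457 = n457 := d22_1 D457 (iv D457) F1795
theorem F2214 : act 7 n457 = n375 := d31_2 (iv F1797) D457 (iv D375)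
def n458 : Q := act 1 n366
theorem D458 : act 1 n366 = n458 := rfl
theorem F2215 : act 2 n458 = n458 := d8_2 D366 D458 (iv D458) (iv D366) F1467
theorem F2216 : act 3 n458 = n458 := d9_2 F1798 D458 (iv D458)
theorem F2217 : act 5 n458 = n458 := d11_2 F1799 D458 (iv D458)
theorem F2218 : act 7 n458 = n458 := d13_2 F1800 D458 (iv D458)
theorem F2219 : act 8 n458 = n368 := d14_2 (iv F1801) D458 (iv D368)
def n459 : Q := act 4 n366
theorem D459 : act 4 n366 = n459 := rfl
theorem F2220 : act 2 n459 = n367 := d16_1 D459 (iv D367) D366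
theorem F2221 : act 7 n459 = n459 := d28_2 F1800 D459 (iv D459)
theorem F2222 : act 8 n459 = n369 := d29_2 (iv F1801) D459 (iv D369)
def n460 : Q := act 5 n367
theorem D460 : act 5 n367 = n460 := rfl
theorem F2223 : act 1 n460 = n460 := d11_1 D460 (iv D460) F1802
theorem F2224 : act 3 n460 = n460 := d22_1 D460 (iv D460) F1803
theorem F2225 : act 4 n460 = n460 := d26_1 D460 (iv D460) (iv D367) F1468 D367
theorem F2226 : act 7 n460 = n460 := d31_2 F1804 D460 (iv D460)
theorem F2227 : act 8 n460 = n370 := d32_2 (iv F1805) D460 (iv D370)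
def n461 : Q := act 0 n368
theorem D461 : act 0 n368 = n461 := rfl
theorem F2228 : act 2 n461 = n461 := d1_2 F1806 D461 (iv D461)
theorem F2229 : act 3 n461 = n461 := d2_2 F1807 D461 (iv D461)
theorem F2230 : act 5 n461 = n461 := d4_2 F1808 D461 (iv D461)
theorem F2231 : act 7 n461 = n376 := d6_2 (iv F1809) D461 (iv D376)
def n462 : Q := act 4 n368
theorem D462 : act 4 n368 = n462 := rfl
theorem F2232 : act 1 n462 = n369 := d10_1 D462 (iv D369) D368
theorem F2233 : act 2 n462 = n462 := d16_1 D462 (iv D462) F1806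
theorem F2234 : act 7 n462 = n377 := d28_2 (iv F1809) D462 (iv D377)
def n463 : Q := act 3 n369
theorem D463 : act 3 n369 = n463 := rfl
theorem F2235 : act 2 n463 = n463 := d15_1 D463 (iv D463) F1810 F1475 (iv F1810)
theorem F2236 : act 4 n463 = n463 := d21_2 D369 D463 (iv D463) (iv D369) F1471
theorem F2237 : act 7 n463 = n463 := d24_2 (iv F1811) D463 (iv D463) F1811 F1493
def n464 : Q := act 5 n369
theorem D464 : act 5 n369 = n464 := rfl
theorem F2238 : act 2 n464 = n370 := d17_1 D464 (iv D370) (iv F1810)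
theorem F2239 : act 4 n464 = n464 := d26_1 D464 (iv D464) (iv D369) F1472 D369
theorem F2240 : act 7 n464 = n378 := d31_2 (iv F1811) D464 (iv D378)
def n465 : Q := act 6 n370
theorem D465 : act 6 n370 = n465 := rfl
theorem F2241 : act 1 n465 = n465 := d12_1 D465 (iv D465) F1812
theorem F2242 : act 3 n465 = n465 := d23_1 D465 (iv D465) F1813
theorem F2243 : act 4 n465 = n465 := d27_1 D465 (iv D465) F1814
theorem F2244 : act 7 n465 = n379 := d33_2 (iv F1815) D465 (iv D379)
def n466 : Q := act 1 n371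
theorem D466 : act 1 n371 = n466 := rfl
theorem F2245 : act 2 n466 = n466 := d8_2 D371 D466 (iv D466) (iv D371) F1477
theorem F2246 : act 3 n466 = n381 := d9_2 (iv F1816) D466 (iv D381)
theorem F2247 : act 5 n466 = n373 := d11_2 (iv F1817) D466 (iv D373)
theorem F2248 : act 6 n466 = n466 := d12_2 F1818 D466 (iv D466)
theorem F2249 : act 8 n466 = n466 := d14_2 F1819 D466 (iv D466)
def n467 : Q := act 4 n371
theorem D467 : act 4 n371 = n467 := rfl
theorem F2250 : act 2 n467 = n372 := d16_1 D467 (iv D372) D371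
theorem F2251 : act 6 n467 = n467 := d27_2 F1818 D467 (iv D467)
theorem F2252 : act 8 n467 = n467 := d29_2 F1819 D467 (iv D467)
def n468 : Q := act 5 n372
theorem D468 : act 5 n372 = n468 := rfl
theorem F2253 : act 1 n468 = n468 := d11_1 D468 (iv D468) F1820
theorem F2254 : act 3 n468 = n468 := d22_1 D468 (iv D468) F1821
theorem F2255 : act 4 n468 = n375 := d26_1 D468 (iv D375) (iv D300) (iv F1478) D372
theorem F2256 : act 8 n468 = n468 := d32_2 F1823 D468 (iv D468)
def n469 : Q := act 0 n373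
theorem D469 : act 0 n373 = n469 := rfl
theorem F2257 : act 2 n469 = n469 := d1_2 F1824 D469 (iv D469)
theorem F2258 : act 3 n469 = n383 := d2_2 (iv F1825) D469 (iv D383)
theorem F2259 : act 6 n469 = n376 := d5_2 (iv F1826) D469 (iv D376)
theorem F2260 : act 8 n469 = n469 := d7_2 F1827 D469 (iv D469)
def n470 : Q := act 4 n373
theorem D470 : act 4 n373 = n470 := rfl
theorem F2261 : act 1 n470 = n374 := d10_1 D470 (iv D374) D373
theorem F2262 : act 2 n470 = n470 := d16_1 D470 (iv D470) F1824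
theorem F2263 : act 3 n470 = n470 := d21_1 D470 (iv D470) F1825 F1520 (iv F1825)
theorem F2264 : act 6 n470 = n377 := d27_2 (iv F1826) D470 (iv D377)
theorem F2265 : act 8 n470 = n470 := d29_2 F1827 D470 (iv D470)
def n471 : Q := act 5 n374
theorem D471 : act 5 n374 = n471 := rfl
theorem F2266 : act 2 n471 = n375 := d17_1 D471 (iv D375) (iv F1828)
theorem F2267 : act 3 n471 = n471 := d22_1 D471 (iv D471) F1829
theorem F2268 : act 8 n471 = n471 := d32_2 F1831 D471 (iv D471)
def n472 : Q := act 6 n375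
theorem D472 : act 6 n375 = n472 := rfl
theorem F2269 : act 1 n472 = n472 := d12_1 D472 (iv D472) F1832
theorem F2270 : act 3 n472 = n380 := d23_1 D472 (iv D380) (iv F1833)
theorem F2271 : act 5 n472 = n379 := d30_1 D472 (iv D379) (iv D303) (iv F1486) D375
theorem F2272 : act 8 n472 = n472 := d34_2 F1834 D472 (iv D472)
def n473 : Q := act 4 n376
theorem D473 : act 4 n376 = n473 := rfl
theorem F2273 : act 0 n473 = n377 := d3_1 D473 (iv D377) D376
theorem F2274 : act 2 n473 = n473 := d16_1 D473 (iv D473) F1835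
theorem F2275 : act 3 n473 = n473 := d21_1 D473 (iv D473) F1836 F1525 (iv F1836)
theorem F2276 : act 8 n473 = n473 := d29_2 F1838 D473 (iv D473)
def n474 : Q := act 5 n377
theorem D474 : act 5 n377 = n474 := rfl
theorem F2277 : act 1 n474 = n378 := d11_1 D474 (iv D378) (iv F1839)
theorem F2278 : act 2 n474 = n474 := d17_1 D474 (iv D474) F1840
theorem F2279 : act 3 n474 = n474 := d22_1 D474 (iv D474) F1841
theorem F2280 : act 4 n474 = n474 := d26_1 D474 (iv D474) (iv D377) F1490 D377
theorem F2281 : act 8 n474 = n474 := d32_2 F1842 D474 (iv D474)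
def n475 : Q := act 6 n378
theorem D475 : act 6 n378 = n475 := rfl
theorem F2282 : act 2 n475 = n379 := d18_1 D475 (iv D379) (iv F1843)
theorem F2283 : act 3 n475 = n475 := d23_1 D475 (iv D475) F1844
theorem F2284 : act 4 n475 = n475 := d27_1 D475 (iv D475) F1845
theorem F2285 : act 8 n475 = n475 := d34_2 F1846 D475 (iv D475)
def n476 : Q := act 0 n381
theorem D476 : act 0 n381 = n476 := rfl
theorem F2286 : act 2 n476 = n443 := d1_2 (iv F1857) D476 (iv D443)
theorem F2287 : act 5 n476 = n383 := d4_2 (iv F1858) D476 (iv D383)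
theorem F2288 : act 6 n476 = n476 := d5_2 F1859 D476 (iv D476)
theorem F2289 : act 7 n476 = n476 := d6_2 F1860 D476 (iv D476)
theorem F2290 : act 8 n476 = n476 := d7_2 F1861 D476 (iv D476)
def n477 : Q := act 4 n381
theorem D477 : act 4 n381 = n477 := rfl
theorem F2291 : act 1 n477 = n382 := d10_1 D477 (iv D382) D381
theorem F2292 : act 2 n477 = n444 := d16_1 D477 (iv D444) (iv F1857)
theorem F2293 : act 5 n477 = n477 := d26_2 (iv F1858) D477 (iv D477) F1858 F1520
theorem F2294 : act 6 n477 = n477 := d27_2 F1859 D477 (iv D477)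
theorem F2295 : act 7 n477 = n477 := d28_2 F1860 D477 (iv D477)
theorem F2296 : act 8 n477 = n477 := d29_2 F1861 D477 (iv D477)
def n478 : Q := act 3 n382
theorem D478 : act 3 n382 = n478 := rfl
theorem F2297 : act 2 n478 = n478 := d15_1 D478 (iv D478) F1862 F1514 (iv F1862)
theorem F2298 : act 5 n478 = n478 := d22_2 F1863 D478 (iv D478)
theorem F2299 : act 6 n478 = n478 := d23_2 F1864 D478 (iv D478)
theorem F2300 : act 8 n478 = n478 := d25_2 F1866 D478 (iv D478)
def n479 : Q := act 3 n384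
theorem D479 : act 3 n384 = n479 := rfl
theorem F2301 : act 0 n479 = n479 := d2_1 D479 (iv D479) F1872
theorem F2302 : act 1 n479 = n479 := d9_1 D479 (iv D479) F1873
theorem F2303 : act 2 n479 = n479 := d15_1 D479 (iv D479) F1874 F1562 (iv F1874)
theorem F2304 : act 4 n479 = n479 := d21_2 D384 D479 (iv D479) (iv D384) F1532
theorem F2305 : act 5 n479 = n479 := d22_2 F1875 D479 (iv D479)
theorem F2306 : act 6 n479 = n479 := d23_2 F1876 D479 (iv D479)
theorem F2307 : act 7 n479 = n479 := d37_7 (iv D311) D310 D384 D479 F2303 F2302 F2301 F2305 F2304 (iv D479) F1874 F1561 F1336 D289 F1442 F1441 F1184 F1183 F1182 (iv F1341) (iv D269) (iv D218) F894 F893 F736 F617 F616 F574 D138 F693 F692 (iv F818) F817 (iv F905) F909 (iv D181) F737 F604 F603 F498 F497 F454 F453 (iv F573) F572 (iv F670) F669 (iv F735) F738 D181 F907 (iv F1095) F1094 (iv F1271) F1270 D317 F1568 F1277 F1276 (iv F1536) F1535 F1534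
def n480 : Q := act 7 n384
theorem D480 : act 7 n384 = n480 := rfl
theorem F2308 : act 0 n480 = n480 := d6_1 D480 (iv D480) F1872
theorem F2309 : act 1 n480 = n480 := d13_1 D480 (iv D480) F1873
theorem F2310 : act 2 n480 = n394 := d19_1 D480 (iv D394) (iv F1874)
theorem F2311 : act 3 n480 = n480 := d24_1 D480 (iv D480) D479 F2307 (iv D479)
theorem F2312 : act 4 n480 = n385 := d28_1 D480 (iv D385) D384
theorem F2313 : act 5 n480 = n480 := d31_1 D480 (iv D480) F1875
theorem F2314 : act 6 n480 = n480 := d33_1 D480 (iv D480) F1876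
def n481 : Q := act 8 n384
theorem D481 : act 8 n384 = n481 := rfl
theorem F2315 : act 0 n481 = n481 := d7_1 D481 (iv D481) F1872
theorem F2316 : act 1 n481 = n481 := d14_1 D481 (iv D481) F1873
theorem F2317 : act 2 n481 = n395 := d20_1 D481 (iv D395) (iv F1874)
theorem F2318 : act 4 n481 = n386 := d29_1 D481 (iv D386) D384
theorem F2319 : act 5 n481 = n481 := d32_1 D481 (iv D481) F1875
theorem F2320 : act 6 n481 = n481 := d34_1 D481 (iv D481) F1876
def n482 : Q := act 3 n385
theorem D482 : act 3 n385 = n482 := rfl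
theorem F2321 : act 0 n482 = n482 := d2_1 D482 (iv D482) F1877
theorem F2322 : act 1 n482 = n482 := d9_1 D482 (iv D482) F1878
theorem F2323 : act 2 n482 = n482 := d15_1 D482 (iv D482) F1879 F1567 (iv F1879)
theorem F2324 : act 4 n482 = n482 := d21_2 F2312 D482 (iv D482) (iv F2312) F2311
theorem F2325 : act 5 n482 = n387 := d22_2 (iv F1880) D482 (iv D387)
theorem F2326 : act 6 n482 = n482 := d23_2 F1881 D482 (iv D482)
theorem F2327 : act 7 n482 = n482 := d24_2 D385 D482 (iv D482) (iv D385) F1532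
def n483 : Q := act 8 n385
theorem D483 : act 8 n385 = n483 := rfl
theorem F2328 : act 0 n483 = n483 := d7_1 D483 (iv D483) F1877
theorem F2329 : act 1 n483 = n483 := d14_1 D483 (iv D483) F1878
theorem F2330 : act 2 n483 = n396 := d20_1 D483 (iv D396) (iv F1879)
theorem F2331 : act 5 n483 = n388 := d32_1 D483 (iv D388) (iv F1880)
theorem F2332 : act 6 n483 = n483 := d34_1 D483 (iv D483) F1881
def n484 : Q := act 7 n386
theorem D484 : act 7 n386 = n484 := rfl
theorem F2333 : act 0 n484 = n484 := d6_1 D484 (iv D484) F1882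
theorem F2334 : act 1 n484 = n484 := d13_1 D484 (iv D484) F1883
theorem F2335 : act 2 n484 = n397 := d19_1 D484 (iv D397) (iv F1884)
theorem F2336 : act 5 n484 = n389 := d31_1 D484 (iv D389) (iv F1886)
theorem F2337 : act 6 n484 = n484 := d33_1 D484 (iv D484) F1887
def n485 : Q := act 4 n387
theorem D485 : act 4 n387 = n485 := rfl
theorem F2338 : act 0 n485 = n485 := d3_1 D485 (iv D485) F1888
theorem F2339 : act 1 n485 = n485 := d10_1 D485 (iv D485) F1889
theorem F2340 : act 2 n485 = n485 := d16_1 D485 (iv D485) F1890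
theorem F2341 : act 3 n485 = n485 := d21_1 D485 (iv D485) (iv D387) F1537 D387
theorem F2342 : act 5 n485 = n485 := d26_2 F2325 D485 (iv D485) (iv F2325) F2324
theorem F2343 : act 6 n485 = n390 := d27_2 (iv F1891) D485 (iv D390)
theorem F2344 : act 7 n485 = n485 := d28_2 F1892 D485 (iv D485)
def n486 : Q := act 8 n387
theorem D486 : act 8 n387 = n486 := rfl
theorem F2345 : act 0 n486 = n486 := d7_1 D486 (iv D486) F1888
theorem F2346 : act 1 n486 = n486 := d14_1 D486 (iv D486) F1889
theorem F2347 : act 2 n486 = n486 := d20_1 D486 (iv D486) F1890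
theorem F2348 : act 3 n486 = n388 := d25_1 D486 (iv D388) D387
theorem F2349 : act 6 n486 = n391 := d34_1 D486 (iv D391) (iv F1891)
def n487 : Q := act 7 n388
theorem D487 : act 7 n388 = n487 := rfl
theorem F2350 : act 0 n487 = n487 := d6_1 D487 (iv D487) F1893
theorem F2351 : act 1 n487 = n487 := d13_1 D487 (iv D487) F1894
theorem F2352 : act 2 n487 = n398 := d19_1 D487 (iv D398) (iv F1895)
theorem F2353 : act 4 n487 = n487 := d28_1 D487 (iv D487) F1896
theorem F2354 : act 6 n487 = n392 := d33_1 D487 (iv D392) (iv F1897)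
theorem F2355 : act 8 n487 = n389 := d35_2 D388 D487 (iv D389) (iv D312) D311
def n488 : Q := act 3 n389
theorem D488 : act 3 n389 = n488 := rfl
theorem F2356 : act 0 n488 = n488 := d2_1 D488 (iv D488) F1898
theorem F2357 : act 1 n488 = n488 := d9_1 D488 (iv D488) F1899
theorem F2358 : act 6 n488 = n393 := d23_2 (iv F1902) D488 (iv D393)
theorem F2359 : act 7 n488 = n488 := d24_2 D389 D488 (iv D488) (iv D389) F1542
def n489 : Q := act 5 n390
theorem D489 : act 5 n390 = n489 := rfl
theorem F2360 : act 0 n489 = n489 := d4_1 D489 (iv D489) F1903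
theorem F2361 : act 1 n489 = n489 := d11_1 D489 (iv D489) F1904
theorem F2362 : act 2 n489 = n489 := d17_1 D489 (iv D489) F1905
theorem F2363 : act 3 n489 = n489 := d22_1 D489 (iv D489) F1906
theorem F2364 : act 4 n489 = n489 := d26_1 D489 (iv D489) (iv D390) F1548 D390
theorem F2365 : act 6 n489 = n489 := d30_2 F2343 D489 (iv D489) (iv F2343) F2342
theorem F2366 : act 7 n489 = n489 := d31_2 F1907 D489 (iv D489)
def n490 : Q := act 8 n390
theorem D490 : act 8 n390 = n490 := rfl
theorem F2367 : act 0 n490 = n490 := d7_1 D490 (iv D490) F1903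
theorem F2368 : act 1 n490 = n490 := d14_1 D490 (iv D490) F1904
theorem F2369 : act 2 n490 = n490 := d20_1 D490 (iv D490) F1905
theorem F2370 : act 3 n490 = n490 := d25_1 D490 (iv D490) F1906
theorem F2371 : act 4 n490 = n391 := d29_1 D490 (iv D391) D390
def n491 : Q := act 7 n391
theorem D491 : act 7 n391 = n491 := rfl
theorem F2372 : act 0 n491 = n491 := d6_1 D491 (iv D491) F1908
theorem F2373 : act 1 n491 = n491 := d13_1 D491 (iv D491) F1909
theorem F2374 : act 2 n491 = n491 := d19_1 D491 (iv D491) F1910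
theorem F2375 : act 5 n491 = n491 := d31_1 D491 (iv D491) F1912
theorem F2376 : act 8 n491 = n491 := d35_2 D391 D491 (iv D491) (iv D391) F1549
def n492 : Q := act 3 n392
theorem D492 : act 3 n392 = n492 := rfl
theorem F2377 : act 0 n492 = n492 := d2_1 D492 (iv D492) F1913
theorem F2378 : act 1 n492 = n492 := d9_1 D492 (iv D492) F1914
theorem F2379 : act 5 n492 = n492 := d22_2 F1917 D492 (iv D492)
theorem F2380 : act 8 n492 = n393 := d25_2 (iv F1918) D492 (iv D393)
def n493 : Q := act 2 n393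
theorem D493 : act 2 n393 = n493 := rfl
theorem F2381 : act 0 n493 = n493 := d1_1 D493 (iv D493) F1919
theorem F2382 : act 3 n493 = n401 := d15_2 D393 D493 (iv D401) (iv D322) (iv F1557)
theorem F2383 : act 5 n493 = n493 := d17_2 F1921 D493 (iv D493)
theorem F2384 : act 7 n493 = n493 := d19_2 F1922 D493 (iv D493)
def n494 : Q := act 4 n393
theorem D494 : act 4 n393 = n494 := rfl
theorem F2385 : act 0 n494 = n494 := d3_1 D494 (iv D494) F1919
theorem F2386 : act 1 n494 = n494 := d10_1 D494 (iv D494) F1920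
theorem F2387 : act 3 n494 = n494 := d21_1 D494 (iv D494) (iv D393) F1558 D393
theorem F2388 : act 7 n494 = n494 := d28_2 F1922 D494 (iv D494)
def n495 : Q := act 3 n394
theorem D495 : act 3 n394 = n495 := rfl
theorem F2389 : act 0 n495 = n495 := d2_1 D495 (iv D495) F1923
theorem F2390 : act 1 n495 = n417 := d9_1 D495 (iv D417) (iv F1924)
theorem F2391 : act 2 n495 = n495 := d15_1 D495 (iv D495) (iv F2310) F2311 F2310
theorem F2392 : act 4 n495 = n495 := d21_2 (iv F1925) D495 (iv D495) F1925 F1567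
theorem F2393 : act 5 n495 = n495 := d22_2 F1926 D495 (iv D495)
theorem F2394 : act 6 n495 = n495 := d23_2 F1927 D495 (iv D495)
theorem F2395 : act 7 n495 = n495 := d24_2 D394 D495 (iv D495) (iv D394) F1562
def n496 : Q := act 8 n394
theorem D496 : act 8 n394 = n496 := rfl
theorem F2396 : act 0 n496 = n496 := d7_1 D496 (iv D496) F1923
theorem F2397 : act 1 n496 = n418 := d14_1 D496 (iv D418) (iv F1924)
theorem F2398 : act 4 n496 = n396 := d29_1 D496 (iv D396) (iv F1925)
theorem F2399 : act 5 n496 = n496 := d32_1 D496 (iv D496) F1926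
theorem F2400 : act 6 n496 = n496 := d34_1 D496 (iv D496) F1927
def n497 : Q := act 7 n395
theorem D497 : act 7 n395 = n497 := rfl
theorem F2401 : act 0 n497 = n497 := d6_1 D497 (iv D497) F1928
theorem F2402 : act 1 n497 = n419 := d13_1 D497 (iv D419) (iv F1929)
theorem F2403 : act 4 n497 = n397 := d28_1 D497 (iv D397) (iv F1931)
theorem F2404 : act 5 n497 = n497 := d31_1 D497 (iv D497) F1932
theorem F2405 : act 6 n497 = n497 := d33_1 D497 (iv D497) F1933
def n498 : Q := act 7 n396
theorem D498 : act 7 n396 = n498 := rfl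
theorem F2406 : act 0 n498 = n498 := d6_1 D498 (iv D498) F1934
theorem F2407 : act 1 n498 = n420 := d13_1 D498 (iv D420) (iv F1935)
theorem F2408 : act 5 n498 = n398 := d31_1 D498 (iv D398) (iv F1937)
theorem F2409 : act 6 n498 = n498 := d33_1 D498 (iv D498) F1938
theorem F2410 : act 8 n498 = n397 := d35_2 D396 D498 (iv D397) (iv D318) D317
def n499 : Q := act 3 n397
theorem D499 : act 3 n397 = n499 := rfl
theorem F2411 : act 0 n499 = n499 := d2_1 D499 (iv D499) F1939
theorem F2412 : act 1 n499 = n421 := d9_1 D499 (iv D421) (iv F1940)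
theorem F2413 : act 5 n499 = n399 := d22_2 (iv F1941) D499 (iv D399)
theorem F2414 : act 6 n499 = n499 := d23_2 F1942 D499 (iv D499)
theorem F2415 : act 7 n499 = n403 := d24_2 D397 D499 (iv D403) (iv D323) (iv F1572)
def n500 : Q := act 3 n398
theorem D500 : act 3 n398 = n500 := rfl
theorem F2416 : act 0 n500 = n500 := d2_1 D500 (iv D500) F1943
theorem F2417 : act 1 n500 = n422 := d9_1 D500 (iv D422) (iv F1944)
theorem F2418 : act 6 n500 = n400 := d23_2 (iv F1946) D500 (iv D400)
theorem F2419 : act 7 n500 = n500 := d24_2 D398 D500 (iv D500) (iv D398) F1577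
theorem F2420 : act 8 n500 = n399 := d25_2 (iv F1947) D500 (iv D399)
def n501 : Q := act 2 n399
theorem D501 : act 2 n399 = n501 := rfl
theorem F2421 : act 0 n501 = n501 := d1_1 D501 (iv D501) F1948
theorem F2422 : act 6 n501 = n401 := d18_2 (iv F1950) D501 (iv D401)
theorem F2423 : act 7 n501 = n404 := d19_2 (iv F1951) D501 (iv D404)
def n502 : Q := act 4 n399
theorem D502 : act 4 n399 = n502 := rfl
theorem F2424 : act 0 n502 = n502 := d3_1 D502 (iv D502) F1948
theorem F2425 : act 1 n502 = n424 := d10_1 D502 (iv D424) (iv F1949)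
theorem F2426 : act 3 n502 = n502 := d21_1 D502 (iv D502) (iv D399) F1582 D399
theorem F2427 : act 6 n502 = n402 := d27_2 (iv F1950) D502 (iv D402)
theorem F2428 : act 7 n502 = n405 := d28_2 (iv F1951) D502 (iv D405)
def n503 : Q := act 2 n400
theorem D503 : act 2 n400 = n503 := rfl
theorem F2429 : act 0 n503 = n503 := d1_1 D503 (iv D503) F1952
theorem F2430 : act 5 n503 = n503 := d17_2 F1954 D503 (iv D503)
theorem F2431 : act 7 n503 = n503 := d19_2 F1955 D503 (iv D503)
theorem F2432 : act 8 n503 = n401 := d20_2 (iv F1956) D503 (iv D401)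
def n504 : Q := act 4 n400
theorem D504 : act 4 n400 = n504 := rfl
theorem F2433 : act 0 n504 = n504 := d3_1 D504 (iv D504) F1952
theorem F2434 : act 1 n504 = n426 := d10_1 D504 (iv D426) (iv F1953)
theorem F2435 : act 3 n504 = n504 := d21_1 D504 (iv D504) (iv D400) F1586 D400
theorem F2436 : act 7 n504 = n504 := d28_2 F1955 D504 (iv D504)
theorem F2437 : act 8 n504 = n402 := d29_2 (iv F1956) D504 (iv D402)
def n505 : Q := act 1 n401
theorem D505 : act 1 n401 = n505 := rfl
theorem F2438 : act 2 n505 = n427 := d8_2 D401 D505 (iv D427) (iv D341) (iv F1590)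
theorem F2439 : act 5 n505 = n505 := d11_2 F1958 D505 (iv D505)
theorem F2440 : act 7 n505 = n406 := d13_2 (iv F1959) D505 (iv D406)
def n506 : Q := act 4 n401
theorem D506 : act 4 n401 = n506 := rfl
theorem F2441 : act 0 n506 = n506 := d3_1 D506 (iv D506) F1957
theorem F2442 : act 2 n506 = n402 := d16_1 D506 (iv D402) D401
theorem F2443 : act 7 n506 = n407 := d28_2 (iv F1959) D506 (iv D407)
def n507 : Q := act 5 n402
theorem D507 : act 5 n402 = n507 := rfl
theorem F2444 : act 0 n507 = n507 := d4_1 D507 (iv D507) F1960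
theorem F2445 : act 1 n507 = n429 := d11_1 D507 (iv D429) (iv F1961)
theorem F2446 : act 3 n507 = n507 := d22_1 D507 (iv D507) F1962
theorem F2447 : act 4 n507 = n507 := d26_1 D507 (iv D507) (iv D402) F1591 D402
theorem F2448 : act 7 n507 = n408 := d31_2 (iv F1963) D507 (iv D408)
def n508 : Q := act 2 n403
theorem D508 : act 2 n403 = n508 := rfl
theorem F2449 : act 0 n508 = n508 := d1_1 D508 (iv D508) F1964
theorem F2450 : act 3 n508 = n508 := d15_2 D403 D508 (iv D508) (iv D403) F1595
theorem F2451 : act 5 n508 = n404 := d17_2 (iv F1966) D508 (iv D404)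
theorem F2452 : act 6 n508 = n508 := d18_2 F1967 D508 (iv D508)
theorem F2453 : act 8 n508 = n508 := d20_2 F1968 D508 (iv D508)
def n509 : Q := act 4 n403
theorem D509 : act 4 n403 = n509 := rfl
theorem F2454 : act 0 n509 = n509 := d3_1 D509 (iv D509) F1964
theorem F2455 : act 1 n509 = n431 := d10_1 D509 (iv D431) (iv F1965)
theorem F2456 : act 3 n509 = n509 := d21_1 D509 (iv D509) (iv D403) F1596 D403
theorem F2457 : act 6 n509 = n509 := d27_2 F1967 D509 (iv D509)
theorem F2458 : act 8 n509 = n509 := d29_2 F1968 D509 (iv D509)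
def n510 : Q := act 1 n404
theorem D510 : act 1 n404 = n510 := rfl
theorem F2459 : act 2 n510 = n432 := d8_2 D404 D510 (iv D432) (iv D344) (iv F1601)
theorem F2460 : act 3 n510 = n510 := d9_2 F1970 D510 (iv D510)
theorem F2461 : act 6 n510 = n406 := d12_2 (iv F1971) D510 (iv D406)
theorem F2462 : act 8 n510 = n510 := d14_2 F1972 D510 (iv D510)
def n511 : Q := act 4 n404
theorem D511 : act 4 n404 = n511 := rfl
theorem F2463 : act 0 n511 = n511 := d3_1 D511 (iv D511) F1969
theorem F2464 : act 2 n511 = n405 := d16_1 D511 (iv D405) D404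
theorem F2465 : act 6 n511 = n407 := d27_2 (iv F1971) D511 (iv D407)
theorem F2466 : act 8 n511 = n511 := d29_2 F1972 D511 (iv D511)
def n512 : Q := act 5 n405
theorem D512 : act 5 n405 = n512 := rfl
theorem F2467 : act 0 n512 = n512 := d4_1 D512 (iv D512) F1973
theorem F2468 : act 1 n512 = n434 := d11_1 D512 (iv D434) (iv F1974)
theorem F2469 : act 3 n512 = n410 := d22_1 D512 (iv D410) (iv F1975)
theorem F2470 : act 8 n512 = n512 := d32_2 F1977 D512 (iv D512)
def n513 : Q := act 0 n406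
theorem D513 : act 0 n406 = n513 := rfl
theorem F2471 : act 1 n513 = n513 := d0_2 D406 D513 (iv D513) (iv D406) F1604
theorem F2472 : act 2 n513 = n435 := d1_2 (iv F1978) D513 (iv D435)
theorem F2473 : act 3 n513 = n513 := d2_2 F1979 D513 (iv D513)
theorem F2474 : act 5 n513 = n513 := d4_2 F1980 D513 (iv D513)
theorem F2475 : act 8 n513 = n513 := d7_2 F1981 D513 (iv D513)
def n514 : Q := act 4 n406
theorem D514 : act 4 n406 = n514 := rfl
theorem F2476 : act 1 n514 = n407 := d10_1 D514 (iv D407) D406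
theorem F2477 : act 2 n514 = n436 := d16_1 D514 (iv D436) (iv F1978)
theorem F2478 : act 8 n514 = n514 := d29_2 F1981 D514 (iv D514)
def n515 : Q := act 3 n407
theorem D515 : act 3 n407 = n515 := rfl
theorem F2479 : act 0 n515 = n515 := d2_1 D515 (iv D515) F1982
theorem F2480 : act 2 n515 = n411 := d15_1 D515 (iv D411) F1626 (iv F1610) (iv F1983)
theorem F2481 : act 4 n515 = n515 := d21_2 D407 D515 (iv D515) (iv D407) F1605
theorem F2482 : act 8 n515 = n515 := d25_2 F1984 D515 (iv D515)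
def n516 : Q := act 5 n407
theorem D516 : act 5 n407 = n516 := rfl
theorem F2483 : act 0 n516 = n516 := d4_1 D516 (iv D516) F1982
theorem F2484 : act 2 n516 = n408 := d17_1 D516 (iv D408) (iv F1983)
theorem F2485 : act 4 n516 = n516 := d26_1 D516 (iv D516) (iv D407) F1606 D407
theorem F2486 : act 8 n516 = n516 := d32_2 F1984 D516 (iv D516)
def n517 : Q := act 6 n408
theorem D517 : act 6 n408 = n517 := rfl
theorem F2487 : act 0 n517 = n517 := d5_1 D517 (iv D517) F1985
theorem F2488 : act 1 n517 = n438 := d12_1 D517 (iv D438) (iv F1986)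
theorem F2489 : act 3 n517 = n413 := d23_1 D517 (iv D413) (iv F1987)
theorem F2490 : act 4 n517 = n517 := d27_1 D517 (iv D517) F1988
theorem F2491 : act 8 n517 = n517 := d34_2 F1989 D517 (iv D517)
def n518 : Q := act 3 n409
theorem D518 : act 3 n409 = n518 := rfl
theorem F2492 : act 0 n518 = n518 := d2_1 D518 (iv D518) F1990
theorem F2493 : act 1 n518 = n518 := d9_1 D518 (iv D518) F1991
theorem F2494 : act 4 n518 = n518 := d21_2 D409 D518 (iv D518) (iv D409) F1614
theorem F2495 : act 6 n518 = n411 := d23_2 (iv F1993) D518 (iv D411)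
theorem F2496 : act 8 n518 = n518 := d25_2 F1995 D518 (iv D518)
def n519 : Q := act 5 n409
theorem D519 : act 5 n409 = n519 := rfl
theorem F2497 : act 0 n519 = n519 := d4_1 D519 (iv D519) F1990
theorem F2498 : act 1 n519 = n519 := d11_1 D519 (iv D519) F1991
theorem F2499 : act 2 n519 = n410 := d17_1 D519 (iv D410) (iv F1992)
theorem F2500 : act 4 n519 = n519 := d26_1 D519 (iv D519) (iv D409) F1615 D409
theorem F2501 : act 7 n519 = n519 := d31_2 F1994 D519 (iv D519)
theorem F2502 : act 8 n519 = n519 := d32_2 F1995 D519 (iv D519)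
def n520 : Q := act 6 n410
theorem D520 : act 6 n410 = n520 := rfl
theorem F2503 : act 0 n520 = n520 := d5_1 D520 (iv D520) F1996
theorem F2504 : act 1 n520 = n439 := d12_1 D520 (iv D439) (iv F1997)
theorem F2505 : act 4 n520 = n520 := d27_1 D520 (iv D520) F1998
theorem F2506 : act 5 n520 = n413 := d30_1 D520 (iv D413) (iv D330) (iv F1621) D410
theorem F2507 : act 7 n520 = n520 := d33_2 F1999 D520 (iv D520)
theorem F2508 : act 8 n520 = n520 := d34_2 F2000 D520 (iv D520)
def n521 : Q := act 5 n411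
theorem D521 : act 5 n411 = n521 := rfl
theorem F2509 : act 0 n521 = n521 := d4_1 D521 (iv D521) F2001
theorem F2510 : act 1 n521 = n521 := d11_1 D521 (iv D521) F2002
theorem F2511 : act 3 n521 = n412 := d22_1 D521 (iv D412) D411
theorem F2512 : act 8 n521 = n521 := d32_2 F2004 D521 (iv D521)
def n522 : Q := act 7 n411
theorem D522 : act 7 n411 = n522 := rfl
theorem F2513 : act 0 n522 = n522 := d6_1 D522 (iv D522) F2001
theorem F2514 : act 1 n522 = n522 := d13_1 D522 (iv D522) F2002
theorem F2515 : act 3 n522 = n522 := d24_1 D522 (iv D522) (iv D411) F1627 D411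
theorem F2516 : act 4 n522 = n522 := d28_1 D522 (iv D522) F2003
def n523 : Q := act 6 n412
theorem D523 : act 6 n412 = n523 := rfl
theorem F2517 : act 0 n523 = n523 := d5_1 D523 (iv D523) F2005
theorem F2518 : act 1 n523 = n523 := d12_1 D523 (iv D523) F2006
theorem F2519 : act 2 n523 = n413 := d18_1 D523 (iv D413) (iv F2007)
theorem F2520 : act 4 n523 = n416 := d27_1 D523 (iv D416) (iv F2008)
theorem F2521 : act 7 n523 = n523 := d33_2 F2009 D523 (iv D523)
theorem F2522 : act 8 n523 = n523 := d34_2 F2010 D523 (iv D523)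
def n524 : Q := act 4 n414
theorem D524 : act 4 n414 = n524 := rfl
def n525 : Q := act 6 n414
theorem D525 : act 6 n414 = n525 := rfl
theorem F2528 : act 0 n525 = n525 := d5_1 D525 (iv D525) F2016
theorem F2529 : act 1 n525 = n525 := d12_1 D525 (iv D525) F2017
theorem F2530 : act 2 n525 = n525 := d18_1 D525 (iv D525) F2018
theorem F2531 : act 3 n525 = n416 := d23_1 D525 (iv D416) (iv F2019)
theorem F2532 : act 5 n525 = n525 := d30_1 D525 (iv D525) (iv D414) F1638 D414
theorem F2533 : act 8 n525 = n525 := d34_2 F2020 D525 (iv D525)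
def n526 : Q := act 7 n414
theorem D526 : act 7 n414 = n526 := rfl
theorem F2538 : act 5 n526 = n415 := d31_1 D526 (iv D415) D414
def n527 : Q := act 8 n415
theorem D527 : act 8 n415 = n527 := rfl
def n528 : Q := act 2 n417
theorem D528 : act 2 n417 = n528 := rfl
theorem F2546 : act 0 n528 = n446 := d1_1 D528 (iv D446) (iv F2033)
theorem F2547 : act 1 n528 = n528 := d8_1 D528 (iv D528) (iv F2390) F2391 F2390
theorem F2548 : act 3 n528 = n528 := d15_2 D417 D528 (iv D528) (iv D417) F1652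
theorem F2549 : act 4 n528 = n528 := d16_2 F2034 D528 (iv D528)
theorem F2550 : act 5 n528 = n528 := d17_2 F2035 D528 (iv D528)
theorem F2551 : act 6 n528 = n528 := d18_2 F2036 D528 (iv D528)
theorem F2552 : act 7 n528 = n528 := d19_2 F2037 D528 (iv D528)
def n529 : Q := act 8 n417
theorem D529 : act 8 n417 = n529 := rfl
theorem F2553 : act 0 n529 = n447 := d7_1 D529 (iv D447) (iv F2033)
theorem F2554 : act 3 n529 = n418 := d25_1 D529 (iv D418) D417
theorem F2555 : act 4 n529 = n529 := d29_1 D529 (iv D529) F2034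
theorem F2556 : act 5 n529 = n529 := d32_1 D529 (iv D529) F2035
theorem F2557 : act 6 n529 = n529 := d34_1 D529 (iv D529) F2036
def n530 : Q := act 7 n418
theorem D530 : act 7 n418 = n530 := rfl
theorem F2558 : act 0 n530 = n448 := d6_1 D530 (iv D448) (iv F2038)
theorem F2559 : act 2 n530 = n530 := d19_1 D530 (iv D530) F2039
theorem F2560 : act 4 n530 = n420 := d28_1 D530 (iv D420) (iv F2040)
theorem F2561 : act 5 n530 = n530 := d31_1 D530 (iv D530) F2041
theorem F2562 : act 6 n530 = n530 := d33_1 D530 (iv D530) F2042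
theorem F2563 : act 8 n530 = n419 := d35_2 D418 D530 (iv D419) (iv D335) D334
def n531 : Q := act 3 n419
theorem D531 : act 3 n419 = n531 := rfl
theorem F2564 : act 0 n531 = n449 := d2_1 D531 (iv D449) (iv F2043)
theorem F2565 : act 5 n531 = n531 := d22_2 F2046 D531 (iv D531)
theorem F2566 : act 6 n531 = n531 := d23_2 F2047 D531 (iv D531)
theorem F2567 : act 7 n531 = n531 := d24_2 D419 D531 (iv D531) (iv D419) F1658
def n532 : Q := act 3 n420
theorem D532 : act 3 n420 = n532 := rfl
theorem F2568 : act 0 n532 = n450 := d2_1 D532 (iv D450) (iv F2048)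
theorem F2569 : act 5 n532 = n422 := d22_2 (iv F2050) D532 (iv D422)
theorem F2570 : act 6 n532 = n532 := d23_2 F2051 D532 (iv D532)
theorem F2571 : act 7 n532 = n532 := d24_2 D420 D532 (iv D532) (iv D420) F1664
theorem F2572 : act 8 n532 = n421 := d25_2 (iv F2052) D532 (iv D421)
def n533 : Q := act 2 n421
theorem D533 : act 2 n421 = n533 := rfl
theorem F2573 : act 0 n533 = n451 := d1_1 D533 (iv D451) (iv F2053)
theorem F2574 : act 3 n533 = n533 := d15_2 D421 D533 (iv D533) (iv D421) F1668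
theorem F2575 : act 5 n533 = n423 := d17_2 (iv F2054) D533 (iv D423)
theorem F2576 : act 6 n533 = n533 := d18_2 F2055 D533 (iv D533)
theorem F2577 : act 7 n533 = n430 := d19_2 (iv F2056) D533 (iv D430)
def n534 : Q := act 4 n421
theorem D534 : act 4 n421 = n534 := rfl
theorem F2578 : act 0 n534 = n452 := d3_1 D534 (iv D452) (iv F2053)
theorem F2579 : act 6 n534 = n534 := d27_2 F2055 D534 (iv D534)
theorem F2580 : act 7 n534 = n431 := d28_2 (iv F2056) D534 (iv D431)
def n535 : Q := act 2 n422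
theorem D535 : act 2 n422 = n535 := rfl
theorem F2581 : act 0 n535 = n453 := d1_1 D535 (iv D453) (iv F2057)
theorem F2582 : act 3 n535 = n535 := d15_2 D422 D535 (iv D535) (iv D422) F1672
theorem F2583 : act 6 n535 = n425 := d18_2 (iv F2058) D535 (iv D425)
theorem F2584 : act 7 n535 = n535 := d19_2 F2059 D535 (iv D535)
theorem F2585 : act 8 n535 = n423 := d20_2 (iv F2060) D535 (iv D423)
def n536 : Q := act 4 n422
theorem D536 : act 4 n422 = n536 := rfl
theorem F2586 : act 0 n536 = n454 := d3_1 D536 (iv D454) (iv F2057)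
theorem F2587 : act 3 n536 = n536 := d21_1 D536 (iv D536) (iv D422) F1673 D422
theorem F2588 : act 6 n536 = n426 := d27_2 (iv F2058) D536 (iv D426)
theorem F2589 : act 7 n536 = n536 := d28_2 F2059 D536 (iv D536)
theorem F2590 : act 8 n536 = n424 := d29_2 (iv F2060) D536 (iv D424)
def n537 : Q := act 1 n423
theorem D537 : act 1 n423 = n537 := rfl
theorem F2591 : act 3 n537 = n537 := d9_2 F2062 D537 (iv D537)
theorem F2592 : act 6 n537 = n427 := d12_2 (iv F2063) D537 (iv D427)
theorem F2593 : act 7 n537 = n432 := d13_2 (iv F2064) D537 (iv D432)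
def n538 : Q := act 4 n423
theorem D538 : act 4 n423 = n538 := rfl
theorem F2594 : act 0 n538 = n456 := d3_1 D538 (iv D456) (iv F2061)
theorem F2595 : act 2 n538 = n424 := d16_1 D538 (iv D424) D423
theorem F2596 : act 6 n538 = n428 := d27_2 (iv F2063) D538 (iv D428)
theorem F2597 : act 7 n538 = n433 := d28_2 (iv F2064) D538 (iv D433)
def n539 : Q := act 5 n424
theorem D539 : act 5 n424 = n539 := rfl
theorem F2598 : act 0 n539 = n457 := d4_1 D539 (iv D457) (iv F2065)
theorem F2599 : act 3 n539 = n539 := d22_1 D539 (iv D539) F2066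
theorem F2600 : act 7 n539 = n434 := d31_2 (iv F2068) D539 (iv D434)
def n540 : Q := act 1 n425
theorem D540 : act 1 n425 = n540 := rfl
theorem F2601 : act 3 n540 = n540 := d9_2 F2070 D540 (iv D540)
theorem F2602 : act 5 n540 = n540 := d11_2 F2071 D540 (iv D540)
theorem F2603 : act 7 n540 = n540 := d13_2 F2072 D540 (iv D540)
theorem F2604 : act 8 n540 = n427 := d14_2 (iv F2073) D540 (iv D427)
def n541 : Q := act 4 n425
theorem D541 : act 4 n425 = n541 := rfl
theorem F2605 : act 0 n541 = n459 := d3_1 D541 (iv D459) (iv F2069)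
theorem F2606 : act 2 n541 = n426 := d16_1 D541 (iv D426) D425
theorem F2607 : act 7 n541 = n541 := d28_2 F2072 D541 (iv D541)
theorem F2608 : act 8 n541 = n428 := d29_2 (iv F2073) D541 (iv D428)
def n542 : Q := act 5 n426
theorem D542 : act 5 n426 = n542 := rfl
theorem F2609 : act 0 n542 = n460 := d4_1 D542 (iv D460) (iv F2074)
theorem F2610 : act 3 n542 = n542 := d22_1 D542 (iv D542) F2075
theorem F2611 : act 4 n542 = n542 := d26_1 D542 (iv D542) (iv D426) F1680 D426
theorem F2612 : act 7 n542 = n542 := d31_2 F2076 D542 (iv D542)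
theorem F2613 : act 8 n542 = n429 := d32_2 (iv F2077) D542 (iv D429)
def n543 : Q := act 0 n427
theorem D543 : act 0 n427 = n543 := rfl
theorem F2614 : act 1 n543 = n461 := d0_2 D427 D543 (iv D461) (iv D368) (iv F1683)
theorem F2615 : act 3 n543 = n543 := d2_2 F2078 D543 (iv D543)
theorem F2616 : act 5 n543 = n543 := d4_2 F2079 D543 (iv D543)
theorem F2617 : act 7 n543 = n435 := d6_2 (iv F2080) D543 (iv D435)
def n544 : Q := act 4 n427
theorem D544 : act 4 n427 = n544 := rfl
theorem F2618 : act 1 n544 = n428 := d10_1 D544 (iv D428) D427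
theorem F2619 : act 7 n544 = n436 := d28_2 (iv F2080) D544 (iv D436)
def n545 : Q := act 3 n428
theorem D545 : act 3 n428 = n545 := rfl
theorem F2620 : act 0 n545 = n463 := d2_1 D545 (iv D463) (iv F2081)
theorem F2621 : act 2 n545 = n545 := d15_1 D545 (iv D545) F2082 F1688 (iv F2082)
theorem F2622 : act 4 n545 = n545 := d21_2 D428 D545 (iv D545) (iv D428) F1684
theorem F2623 : act 7 n545 = n545 := d24_2 (iv F2083) D545 (iv D545) F2083 F1707
def n546 : Q := act 5 n428
theorem D546 : act 5 n428 = n546 := rfl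
theorem F2624 : act 0 n546 = n464 := d4_1 D546 (iv D464) (iv F2081)
theorem F2625 : act 2 n546 = n429 := d17_1 D546 (iv D429) (iv F2082)
theorem F2626 : act 4 n546 = n546 := d26_1 D546 (iv D546) (iv D428) F1685 D428
theorem F2627 : act 7 n546 = n437 := d31_2 (iv F2083) D546 (iv D437)
def n547 : Q := act 6 n429
theorem D547 : act 6 n429 = n547 := rfl
theorem F2628 : act 0 n547 = n465 := d5_1 D547 (iv D465) (iv F2084)
theorem F2629 : act 3 n547 = n547 := d23_1 D547 (iv D547) F2085
theorem F2630 : act 4 n547 = n547 := d27_1 D547 (iv D547) F2086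
theorem F2631 : act 7 n547 = n438 := d33_2 (iv F2087) D547 (iv D438)
def n548 : Q := act 1 n430
theorem D548 : act 1 n430 = n548 := rfl
theorem F2632 : act 3 n548 = n440 := d9_2 (iv F2089) D548 (iv D440)
theorem F2633 : act 5 n548 = n432 := d11_2 (iv F2090) D548 (iv D432)
theorem F2634 : act 6 n548 = n548 := d12_2 F2091 D548 (iv D548)
theorem F2635 : act 8 n548 = n548 := d14_2 F2092 D548 (iv D548)
def n549 : Q := act 4 n430
theorem D549 : act 4 n430 = n549 := rfl
theorem F2636 : act 0 n549 = n467 := d3_1 D549 (iv D467) (iv F2088)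
theorem F2637 : act 2 n549 = n431 := d16_1 D549 (iv D431) D430
theorem F2638 : act 6 n549 = n549 := d27_2 F2091 D549 (iv D549)
theorem F2639 : act 8 n549 = n549 := d29_2 F2092 D549 (iv D549)
def n550 : Q := act 5 n431
theorem D550 : act 5 n431 = n550 := rfl
theorem F2640 : act 0 n550 = n468 := d4_1 D550 (iv D468) (iv F2093)
theorem F2641 : act 3 n550 = n550 := d22_1 D550 (iv D550) F2094
theorem F2642 : act 4 n550 = n434 := d26_1 D550 (iv D434) (iv D345) (iv F1691) D431
theorem F2643 : act 8 n550 = n550 := d32_2 F2096 D550 (iv D550)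
def n551 : Q := act 0 n432
theorem D551 : act 0 n432 = n551 := rfl
theorem F2644 : act 1 n551 = n469 := d0_2 D432 D551 (iv D469) (iv D373) (iv F1694)
theorem F2645 : act 3 n551 = n442 := d2_2 (iv F2097) D551 (iv D442)
theorem F2646 : act 6 n551 = n435 := d5_2 (iv F2098) D551 (iv D435)
theorem F2647 : act 8 n551 = n551 := d7_2 F2099 D551 (iv D551)
def n552 : Q := act 4 n432
theorem D552 : act 4 n432 = n552 := rfl
theorem F2648 : act 1 n552 = n433 := d10_1 D552 (iv D433) D432
theorem F2649 : act 3 n552 = n552 := d21_1 D552 (iv D552) F2097 F1736 (iv F2097)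
theorem F2650 : act 6 n552 = n436 := d27_2 (iv F2098) D552 (iv D436)
theorem F2651 : act 8 n552 = n552 := d29_2 F2099 D552 (iv D552)
def n553 : Q := act 5 n433
theorem D553 : act 5 n433 = n553 := rfl
theorem F2652 : act 0 n553 = n471 := d4_1 D553 (iv D471) (iv F2100)
theorem F2653 : act 2 n553 = n434 := d17_1 D553 (iv D434) (iv F2101)
theorem F2654 : act 3 n553 = n553 := d22_1 D553 (iv D553) F2102
theorem F2655 : act 8 n553 = n553 := d32_2 F2104 D553 (iv D553)
def n554 : Q := act 6 n434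
theorem D554 : act 6 n434 = n554 := rfl
theorem F2656 : act 0 n554 = n472 := d5_1 D554 (iv D472) (iv F2105)
theorem F2657 : act 3 n554 = n439 := d23_1 D554 (iv D439) (iv F2106)
theorem F2658 : act 5 n554 = n438 := d30_1 D554 (iv D438) (iv D348) (iv F1700) D434
theorem F2659 : act 8 n554 = n554 := d34_2 F2107 D554 (iv D554)
def n555 : Q := act 4 n435
theorem D555 : act 4 n435 = n555 := rfl
theorem F2660 : act 0 n555 = n436 := d3_1 D555 (iv D436) D435
theorem F2661 : act 1 n555 = n473 := d10_1 D555 (iv D473) (iv F2108)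
theorem F2662 : act 3 n555 = n555 := d21_1 D555 (iv D555) F2109 F1742 (iv F2109)
theorem F2663 : act 8 n555 = n555 := d29_2 F2111 D555 (iv D555)
def n556 : Q := act 5 n436
theorem D556 : act 5 n436 = n556 := rfl
theorem F2664 : act 1 n556 = n437 := d11_1 D556 (iv D437) (iv F2112)
theorem F2665 : act 3 n556 = n556 := d22_1 D556 (iv D556) F2113
theorem F2666 : act 4 n556 = n556 := d26_1 D556 (iv D556) (iv D436) F1703 D436
theorem F2667 : act 8 n556 = n556 := d32_2 F2114 D556 (iv D556)
def n557 : Q := act 6 n437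
theorem D557 : act 6 n437 = n557 := rfl
theorem F2668 : act 0 n557 = n475 := d5_1 D557 (iv D475) (iv F2115)
theorem F2669 : act 2 n557 = n438 := d18_1 D557 (iv D438) (iv F2116)
theorem F2670 : act 3 n557 = n557 := d23_1 D557 (iv D557) F2117
theorem F2671 : act 4 n557 = n557 := d27_1 D557 (iv D557) F2118
theorem F2672 : act 8 n557 = n557 := d34_2 F2119 D557 (iv D557)
def n558 : Q := act 0 n440
theorem D558 : act 0 n440 = n558 := rfl
theorem F2673 : act 1 n558 = n476 := d0_2 D440 D558 (iv D476) (iv D381) (iv F1723)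
theorem F2674 : act 2 n558 = n558 := d1_2 F2130 D558 (iv D558)
theorem F2675 : act 5 n558 = n442 := d4_2 (iv F2131) D558 (iv D442)
theorem F2676 : act 6 n558 = n558 := d5_2 F2132 D558 (iv D558)
theorem F2677 : act 7 n558 = n558 := d6_2 F2133 D558 (iv D558)
theorem F2678 : act 8 n558 = n558 := d7_2 F2134 D558 (iv D558)
def n559 : Q := act 4 n440
theorem D559 : act 4 n440 = n559 := rfl
theorem F2679 : act 1 n559 = n441 := d10_1 D559 (iv D441) D440
theorem F2680 : act 2 n559 = n559 := d16_1 D559 (iv D559) F2130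
theorem F2681 : act 5 n559 = n559 := d26_2 (iv F2131) D559 (iv D559) F2131 F1736
theorem F2682 : act 6 n559 = n559 := d27_2 F2132 D559 (iv D559)
theorem F2683 : act 7 n559 = n559 := d28_2 F2133 D559 (iv D559)
theorem F2684 : act 8 n559 = n559 := d29_2 F2134 D559 (iv D559)
def n560 : Q := act 3 n441
theorem D560 : act 3 n441 = n560 := rfl
theorem F2685 : act 0 n560 = n478 := d2_1 D560 (iv D478) (iv F2135)
theorem F2686 : act 2 n560 = n560 := d15_1 D560 (iv D560) F2136 F1730 (iv F2136)
theorem F2687 : act 5 n560 = n560 := d22_2 F2137 D560 (iv D560)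
theorem F2688 : act 6 n560 = n560 := d23_2 F2138 D560 (iv D560)
theorem F2689 : act 8 n560 = n560 := d25_2 F2140 D560 (iv D560)
def n561 : Q := act 4 n443
theorem D561 : act 4 n443 = n561 := rfl
theorem F2690 : act 0 n561 = n444 := d3_1 D561 (iv D444) D443
theorem F2691 : act 1 n561 = n561 := d10_1 D561 (iv D561) F2147
theorem F2692 : act 5 n561 = n561 := d26_2 (iv F2149) D561 (iv D561) F2149 F1759
theorem F2693 : act 6 n561 = n561 := d27_2 F2150 D561 (iv D561)
theorem F2694 : act 7 n561 = n561 := d28_2 F2151 D561 (iv D561)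
theorem F2695 : act 8 n561 = n561 := d29_2 F2152 D561 (iv D561)
def n562 : Q := act 3 n444
theorem D562 : act 3 n444 = n562 := rfl
theorem F2696 : act 1 n562 = n445 := d9_1 D562 (iv D445) (iv F2153)
theorem F2697 : act 4 n562 = n562 := d21_2 D444 D562 (iv D562) (iv D444) F1746
theorem F2698 : act 5 n562 = n562 := d22_2 F2154 D562 (iv D562)
theorem F2699 : act 6 n562 = n562 := d23_2 F2155 D562 (iv D562)
theorem F2700 : act 8 n562 = n562 := d25_2 F2157 D562 (iv D562)
def n563 : Q := act 7 n445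
theorem D563 : act 7 n445 = n563 := rfl
theorem F2701 : act 0 n563 = n563 := d6_1 D563 (iv D563) F2158
theorem F2702 : act 2 n563 = n563 := d19_1 D563 (iv D563) F2159
theorem F2703 : act 3 n563 = n563 := d24_1 D563 (iv D563) (iv D445) F1755 D445
theorem F2704 : act 4 n563 = n563 := d28_1 D563 (iv D563) F2160
theorem F2705 : act 5 n563 = n563 := d31_1 D563 (iv D563) F2161
theorem F2706 : act 6 n563 = n563 := d33_1 D563 (iv D563) F2162
def n564 : Q := act 1 n446
theorem D564 : act 1 n446 = n564 := rfl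
theorem F2707 : act 0 n564 = n564 := d0_1 D564 (iv D564) (iv F2546) F2547 F2546
theorem F2708 : act 2 n564 = n564 := d8_2 D446 D564 (iv D564) (iv D446) F1763
theorem F2709 : act 3 n564 = n564 := d9_2 F2164 D564 (iv D564)
theorem F2710 : act 4 n564 = n564 := d10_2 F2165 D564 (iv D564)
theorem F2711 : act 5 n564 = n564 := d11_2 F2166 D564 (iv D564)
theorem F2712 : act 6 n564 = n564 := d12_2 F2167 D564 (iv D564)
theorem F2713 : act 7 n564 = n564 := d13_2 F2168 D564 (iv D564)
def n565 : Q := act 8 n446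
theorem D565 : act 8 n446 = n565 := rfl
theorem F2714 : act 2 n565 = n447 := d20_1 D565 (iv D447) D446
theorem F2715 : act 3 n565 = n565 := d25_1 D565 (iv D565) F2164
theorem F2716 : act 4 n565 = n565 := d29_1 D565 (iv D565) F2165
theorem F2717 : act 5 n565 = n565 := d32_1 D565 (iv D565) F2166
theorem F2718 : act 6 n565 = n565 := d34_1 D565 (iv D565) F2167
def n566 : Q := act 7 n447
theorem D566 : act 7 n447 = n566 := rfl
theorem F2719 : act 1 n566 = n566 := d13_1 D566 (iv D566) F2169
theorem F2720 : act 4 n566 = n566 := d28_1 D566 (iv D566) F2171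
theorem F2721 : act 5 n566 = n566 := d31_1 D566 (iv D566) F2172
theorem F2722 : act 6 n566 = n566 := d33_1 D566 (iv D566) F2173
theorem F2723 : act 8 n566 = n566 := d35_2 D447 D566 (iv D566) (iv D447) F1767
def n567 : Q := act 3 n448
theorem D567 : act 3 n448 = n567 := rfl
theorem F2724 : act 1 n567 = n567 := d9_1 D567 (iv D567) F2174
theorem F2725 : act 5 n567 = n567 := d22_2 F2177 D567 (iv D567)
theorem F2726 : act 6 n567 = n567 := d23_2 F2178 D567 (iv D567)
theorem F2727 : act 8 n567 = n449 := d25_2 (iv F2179) D567 (iv D449)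
def n568 : Q := act 2 n449
theorem D568 : act 2 n449 = n568 := rfl
theorem F2728 : act 3 n568 = n568 := d15_2 D449 D568 (iv D568) (iv D449) F1774
theorem F2729 : act 5 n568 = n568 := d17_2 F2181 D568 (iv D568)
theorem F2730 : act 6 n568 = n568 := d18_2 F2182 D568 (iv D568)
theorem F2731 : act 7 n568 = n568 := d19_2 F2183 D568 (iv D568)
def n569 : Q := act 4 n449
theorem D569 : act 4 n449 = n569 := rfl
theorem F2732 : act 1 n569 = n569 := d10_1 D569 (iv D569) F2180
theorem F2733 : act 3 n569 = n452 := d21_1 D569 (iv D452) (iv D362) (iv F1775) D449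
theorem F2734 : act 6 n569 = n569 := d27_2 F2182 D569 (iv D569)
theorem F2735 : act 7 n569 = n569 := d28_2 F2183 D569 (iv D569)
def n570 : Q := act 2 n450
theorem D570 : act 2 n450 = n570 := rfl
theorem F2736 : act 3 n570 = n570 := d15_2 D450 D570 (iv D570) (iv D450) F1779
theorem F2737 : act 5 n570 = n453 := d17_2 (iv F2185) D570 (iv D453)
theorem F2738 : act 6 n570 = n570 := d18_2 F2186 D570 (iv D570)
theorem F2739 : act 7 n570 = n570 := d19_2 F2187 D570 (iv D570)
theorem F2740 : act 8 n570 = n451 := d20_2 (iv F2188) D570 (iv D451)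
def n571 : Q := act 4 n450
theorem D571 : act 4 n450 = n571 := rfl
theorem F2741 : act 1 n571 = n571 := d10_1 D571 (iv D571) F2184
theorem F2742 : act 6 n571 = n571 := d27_2 F2186 D571 (iv D571)
theorem F2743 : act 7 n571 = n571 := d28_2 F2187 D571 (iv D571)
theorem F2744 : act 8 n571 = n452 := d29_2 (iv F2188) D571 (iv D452)
def n572 : Q := act 1 n451
theorem D572 : act 1 n451 = n572 := rfl
theorem F2745 : act 2 n572 = n572 := d8_2 D451 D572 (iv D572) (iv D451) F1783
theorem F2746 : act 3 n572 = n572 := d9_2 F2189 D572 (iv D572)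
theorem F2747 : act 5 n572 = n455 := d11_2 (iv F2190) D572 (iv D455)
theorem F2748 : act 6 n572 = n572 := d12_2 F2191 D572 (iv D572)
theorem F2749 : act 7 n572 = n466 := d13_2 (iv F2192) D572 (iv D466)
def n573 : Q := act 4 n451
theorem D573 : act 4 n451 = n573 := rfl
theorem F2750 : act 2 n573 = n452 := d16_1 D573 (iv D452) D451
theorem F2751 : act 6 n573 = n573 := d27_2 F2191 D573 (iv D573)
theorem F2752 : act 7 n573 = n467 := d28_2 (iv F2192) D573 (iv D467)
def n574 : Q := act 5 n452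
theorem D574 : act 5 n452 = n574 := rfl
theorem F2753 : act 1 n574 = n574 := d11_1 D574 (iv D574) F2193
theorem F2754 : act 4 n574 = n457 := d26_1 D574 (iv D457) (iv D365) (iv F1784) D452
theorem F2755 : act 7 n574 = n468 := d31_2 (iv F2195) D574 (iv D468)
def n575 : Q := act 1 n453
theorem D575 : act 1 n453 = n575 := rfl
theorem F2756 : act 2 n575 = n575 := d8_2 D453 D575 (iv D575) (iv D453) F1787
theorem F2757 : act 3 n575 = n575 := d9_2 F2196 D575 (iv D575)
theorem F2758 : act 6 n575 = n458 := d12_2 (iv F2197) D575 (iv D458)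
theorem F2759 : act 7 n575 = n575 := d13_2 F2198 D575 (iv D575)
theorem F2760 : act 8 n575 = n455 := d14_2 (iv F2199) D575 (iv D455)
def n576 : Q := act 4 n453
theorem D576 : act 4 n453 = n576 := rfl
theorem F2761 : act 2 n576 = n454 := d16_1 D576 (iv D454) D453
theorem F2762 : act 6 n576 = n459 := d27_2 (iv F2197) D576 (iv D459)
theorem F2763 : act 7 n576 = n576 := d28_2 F2198 D576 (iv D576)
theorem F2764 : act 8 n576 = n456 := d29_2 (iv F2199) D576 (iv D456)
def n577 : Q := act 5 n454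
theorem D577 : act 5 n454 = n577 := rfl
theorem F2765 : act 1 n577 = n577 := d11_1 D577 (iv D577) F2200
theorem F2766 : act 3 n577 = n577 := d22_1 D577 (iv D577) F2201
theorem F2767 : act 7 n577 = n577 := d31_2 F2203 D577 (iv D577)
theorem F2768 : act 8 n577 = n457 := d32_2 (iv F2204) D577 (iv D457)
def n578 : Q := act 0 n455
theorem D578 : act 0 n455 = n578 := rfl
theorem F2769 : act 2 n578 = n578 := d1_2 F2205 D578 (iv D578)
theorem F2770 : act 3 n578 = n578 := d2_2 F2206 D578 (iv D578)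
theorem F2771 : act 6 n578 = n461 := d5_2 (iv F2207) D578 (iv D461)
theorem F2772 : act 7 n578 = n469 := d6_2 (iv F2208) D578 (iv D469)
def n579 : Q := act 4 n455
theorem D579 : act 4 n455 = n579 := rfl
theorem F2773 : act 1 n579 = n456 := d10_1 D579 (iv D456) D455
theorem F2774 : act 2 n579 = n579 := d16_1 D579 (iv D579) F2205
theorem F2775 : act 6 n579 = n462 := d27_2 (iv F2207) D579 (iv D462)
theorem F2776 : act 7 n579 = n470 := d28_2 (iv F2208) D579 (iv D470)
def n580 : Q := act 3 n456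
theorem D580 : act 3 n456 = n580 := rfl
theorem F2777 : act 2 n580 = n580 := d15_1 D580 (iv D580) F2209 F1795 (iv F2209)
theorem F2778 : act 4 n580 = n580 := d21_2 D456 D580 (iv D580) (iv D456) F1791
theorem F2779 : act 6 n580 = n463 := d23_2 (iv F2210) D580 (iv D463)
theorem F2780 : act 7 n580 = n580 := d24_2 (iv F2211) D580 (iv D580) F2211 F1829
def n581 : Q := act 5 n456
theorem D581 : act 5 n456 = n581 := rfl
theorem F2781 : act 2 n581 = n457 := d17_1 D581 (iv D457) (iv F2209)
theorem F2782 : act 7 n581 = n471 := d31_2 (iv F2211) D581 (iv D471)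
def n582 : Q := act 6 n457
theorem D582 : act 6 n457 = n582 := rfl
theorem F2783 : act 1 n582 = n582 := d12_1 D582 (iv D582) F2212
theorem F2784 : act 3 n582 = n582 := d23_1 D582 (iv D582) F2213
theorem F2785 : act 5 n582 = n465 := d30_1 D582 (iv D465) (iv D370) (iv F1796) D457
theorem F2786 : act 7 n582 = n472 := d33_2 (iv F2214) D582 (iv D472)
def n583 : Q := act 0 n458
theorem D583 : act 0 n458 = n583 := rfl
theorem F2787 : act 2 n583 = n583 := d1_2 F2215 D583 (iv D583)
theorem F2788 : act 3 n583 = n583 := d2_2 F2216 D583 (iv D583)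
theorem F2789 : act 5 n583 = n583 := d4_2 F2217 D583 (iv D583)
theorem F2790 : act 7 n583 = n583 := d6_2 F2218 D583 (iv D583)
theorem F2791 : act 8 n583 = n461 := d7_2 (iv F2219) D583 (iv D461)
def n584 : Q := act 4 n458
theorem D584 : act 4 n458 = n584 := rfl
theorem F2792 : act 1 n584 = n459 := d10_1 D584 (iv D459) D458
theorem F2793 : act 2 n584 = n584 := d16_1 D584 (iv D584) F2215
theorem F2794 : act 7 n584 = n584 := d28_2 F2218 D584 (iv D584)
theorem F2795 : act 8 n584 = n462 := d29_2 (iv F2219) D584 (iv D462)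
theorem F2796 : act 3 n464 = n584 := d36_89 F2795 F2234 F1841 D474 F2280 F2279 F2277 F1843 F1496 F1233 F1232 (iv F1496) (iv D303) (iv D245) (iv D200) F826 F827 D171 F860 F859 (iv D171) F702 F701 F584 F583 F549 F550 F552 (iv D108) F424 F301 (iv F250) F249 (iv F315) F316 F317 (iv D66) F208 (iv D24) F96 F49 D24 F103 D12 F28 F60 F72 D28 F126 F210 (iv D28) F73 (iv F113) F114 D53 F253 F249 F251 F250 (iv F291) (iv F311) (iv F443) F444 (iv D88) F307 F304 D87 D109 D132 F665 F666 (iv D132) D134 D165 D200 F1003 D245 F1222 F1011 F1012 (iv F1222) F1223 (iv F1476) F1475 D370 F1814 F1813 F1812 (iv F2238)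
theorem F2797 : act 5 n584 = n463 := d22_2 D464 F2796 (iv D463)
def n585 : Q := act 3 n459
theorem D585 : act 3 n459 = n585 := rfl
theorem F2798 : act 1 n585 = n464 := d9_1 D585 F2796 F2792
theorem F2799 : act 2 n585 = n585 := d15_1 D585 (iv D585) F2220 F1803 (iv F2220)
theorem F2800 : act 4 n585 = n585 := d21_2 D459 D585 (iv D585) (iv D459) F1798
theorem F2801 : act 8 n585 = n463 := d25_2 (iv F2222) D585 (iv D463)
theorem F2802 : act 5 n462 = n585 := d32_3 F2801 (iv F2797) F2795
theorem F2803 : act 7 n585 = n474 := d31_2 (iv F2234) F2802 (iv D474)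
def n586 : Q := act 5 n459
theorem D586 : act 5 n459 = n586 := rfl
theorem F2804 : act 1 n586 = n463 := d11_1 D586 (iv F2797) F2792
theorem F2805 : act 2 n586 = n460 := d17_1 D586 (iv D460) (iv F2220)
theorem F2806 : act 3 n586 = n462 := d22_1 D586 F2802 (iv D585)
theorem F2807 : act 4 n586 = n586 := d26_1 D586 (iv D586) (iv D459) F1799 D459
theorem F2808 : act 7 n586 = n586 := d31_2 F2221 D586 (iv D586)
theorem F2809 : act 8 n586 = n464 := d32_2 (iv F2222) D586 (iv D464)
def n587 : Q := act 6 n460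
theorem D587 : act 6 n460 = n587 := rfl
theorem F2810 : act 1 n587 = n587 := d12_1 D587 (iv D587) F2223
theorem F2811 : act 3 n587 = n587 := d23_1 D587 (iv D587) F2224
theorem F2812 : act 4 n587 = n587 := d27_1 D587 (iv D587) F2225
theorem F2813 : act 7 n587 = n587 := d33_2 F2226 D587 (iv D587)
theorem F2814 : act 8 n587 = n465 := d34_2 (iv F2227) D587 (iv D465)
def n588 : Q := act 4 n461
theorem D588 : act 4 n461 = n588 := rfl
theorem F2815 : act 0 n588 = n462 := d3_1 D588 (iv D462) D461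
theorem F2816 : act 2 n588 = n588 := d16_1 D588 (iv D588) F2228
theorem F2817 : act 7 n588 = n473 := d28_2 (iv F2231) D588 (iv D473)
def n589 : Q := act 6 n464
theorem D589 : act 6 n464 = n589 := rfl
theorem F2818 : act 2 n589 = n465 := d18_1 D589 (iv D465) (iv F2238)
theorem F2819 : act 4 n589 = n589 := d27_1 D589 (iv D589) F2239
theorem F2820 : act 7 n589 = n475 := d33_2 (iv F2240) D589 (iv D475)
def n590 : Q := act 0 n466
theorem D590 : act 0 n466 = n590 := rfl
theorem F2821 : act 2 n590 = n590 := d1_2 F2245 D590 (iv D590)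
theorem F2822 : act 3 n590 = n476 := d2_2 (iv F2246) D590 (iv D476)
theorem F2823 : act 5 n590 = n469 := d4_2 (iv F2247) D590 (iv D469)
theorem F2824 : act 6 n590 = n590 := d5_2 F2248 D590 (iv D590)
theorem F2825 : act 8 n590 = n590 := d7_2 F2249 D590 (iv D590)
def n591 : Q := act 4 n466
theorem D591 : act 4 n466 = n591 := rfl
theorem F2826 : act 1 n591 = n467 := d10_1 D591 (iv D467) D466
theorem F2827 : act 2 n591 = n591 := d16_1 D591 (iv D591) F2245
theorem F2828 : act 6 n591 = n591 := d27_2 F2248 D591 (iv D591)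
theorem F2829 : act 8 n591 = n591 := d29_2 F2249 D591 (iv D591)
def n592 : Q := act 3 n467
theorem D592 : act 3 n467 = n592 := rfl
theorem F2830 : act 2 n592 = n592 := d15_1 D592 (iv D592) F2250 F1821 (iv F2250)
theorem F2831 : act 4 n592 = n478 := d21_2 D467 D592 (iv D478) (iv D382) (iv F1816)
theorem F2832 : act 6 n592 = n592 := d23_2 F2251 D592 (iv D592)
theorem F2833 : act 8 n592 = n592 := d25_2 F2252 D592 (iv D592)
def n593 : Q := act 5 n467
theorem D593 : act 5 n467 = n593 := rfl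
theorem F2834 : act 2 n593 = n468 := d17_1 D593 (iv D468) (iv F2250)
theorem F2835 : act 4 n593 = n471 := d26_1 D593 (iv D471) (iv D374) (iv F1817) D467
theorem F2836 : act 8 n593 = n593 := d32_2 F2252 D593 (iv D593)
def n594 : Q := act 6 n468
theorem D594 : act 6 n468 = n594 := rfl
theorem F2837 : act 1 n594 = n594 := d12_1 D594 (iv D594) F2253
theorem F2838 : act 3 n594 = n594 := d23_1 D594 (iv D594) F2254
theorem F2839 : act 4 n594 = n472 := d27_1 D594 (iv D472) (iv F2255)
theorem F2840 : act 5 n594 = n594 := d30_1 D594 (iv D594) (iv D468) F1822 D468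
theorem F2841 : act 8 n594 = n594 := d34_2 F2256 D594 (iv D594)
def n595 : Q := act 4 n469
theorem D595 : act 4 n469 = n595 := rfl
theorem F2842 : act 0 n595 = n470 := d3_1 D595 (iv D470) D469
theorem F2843 : act 2 n595 = n595 := d16_1 D595 (iv D595) F2257
theorem F2844 : act 3 n595 = n595 := d21_1 D595 (iv D595) F2258 F1868 (iv F2258)
theorem F2845 : act 6 n595 = n473 := d27_2 (iv F2259) D595 (iv D473)
theorem F2846 : act 8 n595 = n595 := d29_2 F2260 D595 (iv D595)
def n596 : Q := act 5 n470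
theorem D596 : act 5 n470 = n596 := rfl
theorem F2847 : act 1 n596 = n471 := d11_1 D596 (iv D471) (iv F2261)
theorem F2848 : act 2 n596 = n596 := d17_1 D596 (iv D596) F2262
theorem F2849 : act 3 n596 = n596 := d22_1 D596 (iv D596) F2263
theorem F2850 : act 8 n596 = n596 := d32_2 F2265 D596 (iv D596)
def n597 : Q := act 6 n471
theorem D597 : act 6 n471 = n597 := rfl
theorem F2851 : act 2 n597 = n472 := d18_1 D597 (iv D472) (iv F2266)
theorem F2852 : act 3 n597 = n597 := d23_1 D597 (iv D597) F2267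
theorem F2853 : act 5 n597 = n475 := d30_1 D597 (iv D475) (iv D378) (iv F1830) D471
theorem F2854 : act 8 n597 = n597 := d34_2 F2268 D597 (iv D597)
def n598 : Q := act 5 n473
theorem D598 : act 5 n473 = n598 := rfl
theorem F2855 : act 0 n598 = n474 := d4_1 D598 (iv D474) (iv F2273)
theorem F2856 : act 2 n598 = n598 := d17_1 D598 (iv D598) F2274
theorem F2857 : act 3 n598 = n598 := d22_1 D598 (iv D598) F2275
theorem F2858 : act 4 n598 = n598 := d26_1 D598 (iv D598) (iv D473) F1837 D473
theorem F2859 : act 8 n598 = n598 := d32_2 F2276 D598 (iv D598)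
def n599 : Q := act 6 n474
theorem D599 : act 6 n474 = n599 := rfl
theorem F2860 : act 1 n599 = n475 := d12_1 D599 (iv D475) (iv F2277)
theorem F2861 : act 2 n599 = n599 := d18_1 D599 (iv D599) F2278
theorem F2862 : act 3 n599 = n599 := d23_1 D599 (iv D599) F2279
theorem F2863 : act 4 n599 = n599 := d27_1 D599 (iv D599) F2280
theorem F2864 : act 8 n599 = n599 := d34_2 F2281 D599 (iv D599)
def n600 : Q := act 4 n476
theorem D600 : act 4 n476 = n600 := rfl
theorem F2865 : act 0 n600 = n477 := d3_1 D600 (iv D477) D476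
theorem F2866 : act 2 n600 = n561 := d16_1 D600 (iv D561) (iv F2286)
theorem F2867 : act 5 n600 = n600 := d26_2 (iv F2287) D600 (iv D600) F2287 F1868
theorem F2868 : act 6 n600 = n600 := d27_2 F2288 D600 (iv D600)
theorem F2869 : act 7 n600 = n600 := d28_2 F2289 D600 (iv D600)
theorem F2870 : act 8 n600 = n600 := d29_2 F2290 D600 (iv D600)
def n601 : Q := act 3 n477
theorem D601 : act 3 n477 = n601 := rfl
theorem F2871 : act 1 n601 = n478 := d9_1 D601 (iv D478) (iv F2291)
theorem F2872 : act 5 n601 = n601 := d22_2 F2293 D601 (iv D601)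
theorem F2873 : act 6 n601 = n601 := d23_2 F2294 D601 (iv D601)
theorem F2874 : act 8 n601 = n601 := d25_2 F2296 D601 (iv D601)
def n602 : Q := act 7 n478
theorem D602 : act 7 n478 = n602 := rfl
theorem F2875 : act 2 n602 = n602 := d19_1 D602 (iv D602) F2297
theorem F2876 : act 3 n602 = n602 := d24_1 D602 (iv D602) (iv D478) F1865 D478
theorem F2877 : act 5 n602 = n602 := d31_1 D602 (iv D602) F2298
theorem F2878 : act 6 n602 = n602 := d33_1 D602 (iv D602) F2299
def n603 : Q := act 8 n479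
theorem D603 : act 8 n479 = n603 := rfl
theorem F2879 : act 0 n603 = n603 := d7_1 D603 (iv D603) F2301
theorem F2880 : act 1 n603 = n603 := d14_1 D603 (iv D603) F2302
theorem F2881 : act 2 n603 = n603 := d20_1 D603 (iv D603) F2303
theorem F2882 : act 3 n603 = n481 := d25_1 D603 (iv D481) D479
theorem F2883 : act 4 n603 = n603 := d29_1 D603 (iv D603) F2304
theorem F2884 : act 5 n603 = n603 := d32_1 D603 (iv D603) F2305
theorem F2885 : act 6 n603 = n603 := d34_1 D603 (iv D603) F2306
def n604 : Q := act 8 n480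
theorem D604 : act 8 n480 = n604 := rfl
theorem F2886 : act 0 n604 = n604 := d7_1 D604 (iv D604) F2308
theorem F2887 : act 1 n604 = n604 := d14_1 D604 (iv D604) F2309
theorem F2888 : act 2 n604 = n496 := d20_1 D604 (iv D496) (iv F2310)
theorem F2889 : act 3 n604 = n604 := d25_1 D604 (iv D604) F2311
theorem F2890 : act 4 n604 = n483 := d29_1 D604 (iv D483) (iv F2312)
theorem F2891 : act 5 n604 = n604 := d32_1 D604 (iv D604) F2313
theorem F2892 : act 6 n604 = n604 := d34_1 D604 (iv D604) F2314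
def n605 : Q := act 7 n481
theorem D605 : act 7 n481 = n605 := rfl
theorem F2893 : act 0 n605 = n605 := d6_1 D605 (iv D605) F2315
theorem F2894 : act 1 n605 = n605 := d13_1 D605 (iv D605) F2316
theorem F2895 : act 2 n605 = n497 := d19_1 D605 (iv D497) (iv F2317)
theorem F2896 : act 4 n605 = n484 := d28_1 D605 (iv D484) (iv F2318)
theorem F2897 : act 5 n605 = n605 := d31_1 D605 (iv D605) F2319
theorem F2898 : act 6 n605 = n605 := d33_1 D605 (iv D605) F2320
def n606 : Q := act 8 n482
theorem D606 : act 8 n482 = n606 := rfl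
theorem F2899 : act 0 n606 = n606 := d7_1 D606 (iv D606) F2321
theorem F2900 : act 1 n606 = n606 := d14_1 D606 (iv D606) F2322
theorem F2901 : act 2 n606 = n606 := d20_1 D606 (iv D606) F2323
theorem F2902 : act 3 n606 = n483 := d25_1 D606 (iv D483) D482
theorem F2903 : act 4 n606 = n606 := d29_1 D606 (iv D606) F2324
theorem F2904 : act 5 n606 = n486 := d32_1 D606 (iv D486) (iv F2325)
theorem F2905 : act 6 n606 = n606 := d34_1 D606 (iv D606) F2326
def n607 : Q := act 7 n483
theorem D607 : act 7 n483 = n607 := rfl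
theorem F2906 : act 0 n607 = n607 := d6_1 D607 (iv D607) F2328
theorem F2907 : act 1 n607 = n607 := d13_1 D607 (iv D607) F2329
theorem F2908 : act 2 n607 = n498 := d19_1 D607 (iv D498) (iv F2330)
theorem F2909 : act 5 n607 = n487 := d31_1 D607 (iv D487) (iv F2331)
theorem F2910 : act 6 n607 = n607 := d33_1 D607 (iv D607) F2332
theorem F2911 : act 8 n607 = n484 := d35_2 D483 D607 (iv D484) (iv D386) D385
def n608 : Q := act 3 n484
theorem D608 : act 3 n484 = n608 := rfl
theorem F2912 : act 0 n608 = n608 := d2_1 D608 (iv D608) F2333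
theorem F2913 : act 1 n608 = n608 := d9_1 D608 (iv D608) F2334
theorem F2914 : act 5 n608 = n488 := d22_2 (iv F2336) D608 (iv D488)
theorem F2915 : act 6 n608 = n608 := d23_2 F2337 D608 (iv D608)
theorem F2916 : act 7 n608 = n608 := d24_2 D484 D608 (iv D608) (iv D484) F1885
def n609 : Q := act 8 n485
theorem D609 : act 8 n485 = n609 := rfl
theorem F2917 : act 0 n609 = n609 := d7_1 D609 (iv D609) F2338
theorem F2918 : act 1 n609 = n609 := d14_1 D609 (iv D609) F2339
theorem F2919 : act 2 n609 = n609 := d20_1 D609 (iv D609) F2340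
theorem F2920 : act 3 n609 = n609 := d25_1 D609 (iv D609) F2341
theorem F2921 : act 4 n609 = n486 := d29_1 D609 (iv D486) D485
theorem F2922 : act 5 n609 = n609 := d32_1 D609 (iv D609) F2342
theorem F2923 : act 6 n609 = n490 := d34_1 D609 (iv D490) (iv F2343)
def n610 : Q := act 7 n486
theorem D610 : act 7 n486 = n610 := rfl
theorem F2924 : act 0 n610 = n610 := d6_1 D610 (iv D610) F2345
theorem F2925 : act 1 n610 = n610 := d13_1 D610 (iv D610) F2346
theorem F2926 : act 2 n610 = n610 := d19_1 D610 (iv D610) F2347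
theorem F2927 : act 6 n610 = n491 := d33_1 D610 (iv D491) (iv F2349)
theorem F2928 : act 8 n610 = n610 := d35_2 D486 D610 (iv D610) (iv D486) F1892
def n611 : Q := act 3 n487
theorem D611 : act 3 n487 = n611 := rfl
theorem F2929 : act 0 n611 = n611 := d2_1 D611 (iv D611) F2350
theorem F2930 : act 1 n611 = n611 := d9_1 D611 (iv D611) F2351
theorem F2931 : act 6 n611 = n492 := d23_2 (iv F2354) D611 (iv D492)
theorem F2932 : act 8 n611 = n488 := d25_2 (iv F2355) D611 (iv D488)
def n612 : Q := act 2 n488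
theorem D612 : act 2 n488 = n612 := rfl
theorem F2933 : act 0 n612 = n612 := d1_1 D612 (iv D612) F2356
theorem F2934 : act 3 n612 = n501 := d15_2 D488 D612 (iv D501) (iv D399) (iv F1900)
theorem F2935 : act 6 n612 = n493 := d18_2 (iv F2358) D612 (iv D493)
theorem F2936 : act 7 n612 = n612 := d19_2 F2359 D612 (iv D612)
def n613 : Q := act 4 n488
theorem D613 : act 4 n488 = n613 := rfl
theorem F2937 : act 0 n613 = n613 := d3_1 D613 (iv D613) F2356
theorem F2938 : act 1 n613 = n613 := d10_1 D613 (iv D613) F2357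
theorem F2939 : act 3 n613 = n613 := d21_1 D613 (iv D613) (iv D488) F1901 D488
theorem F2940 : act 6 n613 = n494 := d27_2 (iv F2358) D613 (iv D494)
theorem F2941 : act 7 n613 = n613 := d28_2 F2359 D613 (iv D613)
def n614 : Q := act 8 n489
theorem D614 : act 8 n489 = n614 := rfl
theorem F2947 : act 5 n614 = n490 := d32_1 D614 (iv D490) D489
def n615 : Q := act 7 n490
theorem D615 : act 7 n490 = n615 := rfl
theorem F2952 : act 4 n615 = n491 := d28_1 D615 (iv D491) (iv F2371)
def n616 : Q := act 3 n491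
theorem D616 : act 3 n491 = n616 := rfl
theorem F2954 : act 0 n616 = n616 := d2_1 D616 (iv D616) F2372
theorem F2955 : act 1 n616 = n616 := d9_1 D616 (iv D616) F2373
theorem F2956 : act 5 n616 = n616 := d22_2 F2375 D616 (iv D616)
theorem F2957 : act 7 n616 = n492 := d24_2 D491 D616 (iv D492) (iv D392) (iv F1911)
theorem F2958 : act 8 n616 = n616 := d25_2 F2376 D616 (iv D616)
def n617 : Q := act 2 n492
theorem D617 : act 2 n492 = n617 := rfl
theorem F2959 : act 0 n617 = n617 := d1_1 D617 (iv D617) F2377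
theorem F2960 : act 3 n617 = n503 := d15_2 D492 D617 (iv D503) (iv D400) (iv F1915)
theorem F2961 : act 5 n617 = n617 := d17_2 F2379 D617 (iv D617)
theorem F2962 : act 8 n617 = n493 := d20_2 (iv F2380) D617 (iv D493)
def n618 : Q := act 4 n492
theorem D618 : act 4 n492 = n618 := rfl
theorem F2963 : act 0 n618 = n618 := d3_1 D618 (iv D618) F2377
theorem F2964 : act 1 n618 = n618 := d10_1 D618 (iv D618) F2378
theorem F2965 : act 3 n618 = n618 := d21_1 D618 (iv D618) (iv D492) F1916 D492
theorem F2966 : act 8 n618 = n494 := d29_2 (iv F2380) D618 (iv D494)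
def n619 : Q := act 1 n493
theorem D619 : act 1 n493 = n619 := rfl
theorem F2967 : act 2 n619 = n619 := d8_2 D493 D619 (iv D619) (iv D493) F1920
theorem F2968 : act 3 n619 = n505 := d9_2 (iv F2382) D619 (iv D505)
theorem F2969 : act 5 n619 = n619 := d11_2 F2383 D619 (iv D619)
theorem F2970 : act 7 n619 = n619 := d13_2 F2384 D619 (iv D619)
def n620 : Q := act 4 n493
theorem D620 : act 4 n493 = n620 := rfl
theorem F2971 : act 0 n620 = n620 := d3_1 D620 (iv D620) F2381
theorem F2972 : act 2 n620 = n494 := d16_1 D620 (iv D494) D493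
theorem F2973 : act 7 n620 = n620 := d28_2 F2384 D620 (iv D620)
def n621 : Q := act 5 n494
theorem D621 : act 5 n494 = n621 := rfl
theorem F2974 : act 0 n621 = n621 := d4_1 D621 (iv D621) F2385
theorem F2975 : act 1 n621 = n621 := d11_1 D621 (iv D621) F2386
theorem F2976 : act 3 n621 = n621 := d22_1 D621 (iv D621) F2387
theorem F2977 : act 4 n621 = n621 := d26_1 D621 (iv D621) (iv D494) F1921 D494
theorem F2978 : act 7 n621 = n621 := d31_2 F2388 D621 (iv D621)
def n622 : Q := act 8 n495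
theorem D622 : act 8 n495 = n622 := rfl
theorem F2979 : act 0 n622 = n622 := d7_1 D622 (iv D622) F2389
theorem F2980 : act 1 n622 = n529 := d14_1 D622 (iv D529) (iv F2390)
theorem F2981 : act 2 n622 = n622 := d20_1 D622 (iv D622) F2391
theorem F2982 : act 3 n622 = n496 := d25_1 D622 (iv D496) D495
theorem F2983 : act 4 n622 = n622 := d29_1 D622 (iv D622) F2392
theorem F2984 : act 5 n622 = n622 := d32_1 D622 (iv D622) F2393
theorem F2985 : act 6 n622 = n622 := d34_1 D622 (iv D622) F2394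
def n623 : Q := act 7 n496
theorem D623 : act 7 n496 = n623 := rfl
theorem F2986 : act 0 n623 = n623 := d6_1 D623 (iv D623) F2396
theorem F2987 : act 1 n623 = n530 := d13_1 D623 (iv D530) (iv F2397)
theorem F2988 : act 4 n623 = n498 := d28_1 D623 (iv D498) (iv F2398)
theorem F2989 : act 5 n623 = n623 := d31_1 D623 (iv D623) F2399
theorem F2990 : act 6 n623 = n623 := d33_1 D623 (iv D623) F2400
theorem F2991 : act 8 n623 = n497 := d35_2 D496 D623 (iv D497) (iv D395) D394
def n624 : Q := act 3 n497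
theorem D624 : act 3 n497 = n624 := rfl
theorem F2992 : act 0 n624 = n624 := d2_1 D624 (iv D624) F2401
theorem F2993 : act 1 n624 = n531 := d9_1 D624 (iv D531) (iv F2402)
theorem F2994 : act 5 n624 = n624 := d22_2 F2404 D624 (iv D624)
theorem F2995 : act 6 n624 = n624 := d23_2 F2405 D624 (iv D624)
theorem F2996 : act 7 n624 = n624 := d24_2 D497 D624 (iv D624) (iv D497) F1930
def n625 : Q := act 3 n498
theorem D625 : act 3 n498 = n625 := rfl
theorem F2997 : act 0 n625 = n625 := d2_1 D625 (iv D625) F2406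
theorem F2998 : act 1 n625 = n532 := d9_1 D625 (iv D532) (iv F2407)
theorem F2999 : act 5 n625 = n500 := d22_2 (iv F2408) D625 (iv D500)
theorem F3000 : act 6 n625 = n625 := d23_2 F2409 D625 (iv D625)
theorem F3001 : act 7 n625 = n625 := d24_2 D498 D625 (iv D625) (iv D498) F1936
theorem F3002 : act 8 n625 = n499 := d25_2 (iv F2410) D625 (iv D499)
def n626 : Q := act 2 n499
theorem D626 : act 2 n499 = n626 := rfl
theorem F3003 : act 0 n626 = n626 := d1_1 D626 (iv D626) F2411
theorem F3004 : act 5 n626 = n501 := d17_2 (iv F2413) D626 (iv D501)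
theorem F3005 : act 6 n626 = n626 := d18_2 F2414 D626 (iv D626)
theorem F3006 : act 7 n626 = n508 := d19_2 (iv F2415) D626 (iv D508)
def n627 : Q := act 4 n499
theorem D627 : act 4 n499 = n627 := rfl
theorem F3007 : act 0 n627 = n627 := d3_1 D627 (iv D627) F2411
theorem F3008 : act 1 n627 = n534 := d10_1 D627 (iv D534) (iv F2412)
theorem F3009 : act 6 n627 = n627 := d27_2 F2414 D627 (iv D627)
theorem F3010 : act 7 n627 = n509 := d28_2 (iv F2415) D627 (iv D509)
def n628 : Q := act 2 n500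
theorem D628 : act 2 n500 = n628 := rfl
theorem F3011 : act 0 n628 = n628 := d1_1 D628 (iv D628) F2416
theorem F3012 : act 6 n628 = n503 := d18_2 (iv F2418) D628 (iv D503)
theorem F3013 : act 7 n628 = n628 := d19_2 F2419 D628 (iv D628)
theorem F3014 : act 8 n628 = n501 := d20_2 (iv F2420) D628 (iv D501)
def n629 : Q := act 4 n500
theorem D629 : act 4 n500 = n629 := rfl
theorem F3015 : act 0 n629 = n629 := d3_1 D629 (iv D629) F2416
theorem F3016 : act 1 n629 = n536 := d10_1 D629 (iv D536) (iv F2417)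
theorem F3017 : act 3 n629 = n629 := d21_1 D629 (iv D629) (iv D500) F1945 D500
theorem F3018 : act 6 n629 = n504 := d27_2 (iv F2418) D629 (iv D504)
theorem F3019 : act 7 n629 = n629 := d28_2 F2419 D629 (iv D629)
theorem F3020 : act 8 n629 = n502 := d29_2 (iv F2420) D629 (iv D502)
def n630 : Q := act 1 n501
theorem D630 : act 1 n501 = n630 := rfl
theorem F3021 : act 2 n630 = n537 := d8_2 D501 D630 (iv D537) (iv D423) (iv F1949)
theorem F3022 : act 6 n630 = n505 := d12_2 (iv F2422) D630 (iv D505)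
theorem F3023 : act 7 n630 = n510 := d13_2 (iv F2423) D630 (iv D510)
def n631 : Q := act 4 n501
theorem D631 : act 4 n501 = n631 := rfl
theorem F3024 : act 0 n631 = n631 := d3_1 D631 (iv D631) F2421
theorem F3025 : act 2 n631 = n502 := d16_1 D631 (iv D502) D501
theorem F3026 : act 6 n631 = n506 := d27_2 (iv F2422) D631 (iv D506)
theorem F3027 : act 7 n631 = n511 := d28_2 (iv F2423) D631 (iv D511)
def n632 : Q := act 5 n502
theorem D632 : act 5 n502 = n632 := rfl
theorem F3028 : act 0 n632 = n632 := d4_1 D632 (iv D632) F2424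
theorem F3029 : act 1 n632 = n539 := d11_1 D632 (iv D539) (iv F2425)
theorem F3030 : act 3 n632 = n632 := d22_1 D632 (iv D632) F2426
theorem F3031 : act 7 n632 = n512 := d31_2 (iv F2428) D632 (iv D512)
def n633 : Q := act 1 n503
theorem D633 : act 1 n503 = n633 := rfl
theorem F3032 : act 2 n633 = n540 := d8_2 D503 D633 (iv D540) (iv D425) (iv F1953)
theorem F3033 : act 5 n633 = n633 := d11_2 F2430 D633 (iv D633)
theorem F3034 : act 7 n633 = n633 := d13_2 F2431 D633 (iv D633)
theorem F3035 : act 8 n633 = n505 := d14_2 (iv F2432) D633 (iv D505)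
def n634 : Q := act 4 n503
theorem D634 : act 4 n503 = n634 := rfl
theorem F3036 : act 0 n634 = n634 := d3_1 D634 (iv D634) F2429
theorem F3037 : act 2 n634 = n504 := d16_1 D634 (iv D504) D503
theorem F3038 : act 7 n634 = n634 := d28_2 F2431 D634 (iv D634)
theorem F3039 : act 8 n634 = n506 := d29_2 (iv F2432) D634 (iv D506)
def n635 : Q := act 5 n504
theorem D635 : act 5 n504 = n635 := rfl
theorem F3040 : act 0 n635 = n635 := d4_1 D635 (iv D635) F2433
theorem F3041 : act 1 n635 = n542 := d11_1 D635 (iv D542) (iv F2434)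
theorem F3042 : act 3 n635 = n635 := d22_1 D635 (iv D635) F2435
theorem F3043 : act 4 n635 = n635 := d26_1 D635 (iv D635) (iv D504) F1954 D504
theorem F3044 : act 7 n635 = n635 := d31_2 F2436 D635 (iv D635)
theorem F3045 : act 8 n635 = n507 := d32_2 (iv F2437) D635 (iv D507)
def n636 : Q := act 0 n505
theorem D636 : act 0 n505 = n636 := rfl
theorem F3046 : act 1 n636 = n636 := d0_2 D505 D636 (iv D636) (iv D505) F1957
theorem F3047 : act 2 n636 = n543 := d1_2 (iv F2438) D636 (iv D543)
theorem F3048 : act 5 n636 = n636 := d4_2 F2439 D636 (iv D636)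
theorem F3049 : act 7 n636 = n513 := d6_2 (iv F2440) D636 (iv D513)
def n637 : Q := act 4 n505
theorem D637 : act 4 n505 = n637 := rfl
theorem F3050 : act 1 n637 = n506 := d10_1 D637 (iv D506) D505
theorem F3051 : act 2 n637 = n544 := d16_1 D637 (iv D544) (iv F2438)
theorem F3052 : act 7 n637 = n514 := d28_2 (iv F2440) D637 (iv D514)
def n638 : Q := act 3 n506
theorem D638 : act 3 n506 = n638 := rfl
theorem F3053 : act 0 n638 = n638 := d2_1 D638 (iv D638) F2441
theorem F3054 : act 2 n638 = n638 := d15_1 D638 (iv D638) F2442 F1962 (iv F2442)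
def n639 : Q := act 5 n506
theorem D639 : act 5 n506 = n639 := rfl
theorem F3055 : act 0 n639 = n639 := d4_1 D639 (iv D639) F2441
theorem F3056 : act 2 n639 = n507 := d17_1 D639 (iv D507) (iv F2442)
theorem F3057 : act 4 n639 = n639 := d26_1 D639 (iv D639) (iv D506) F1958 D506
theorem F3058 : act 7 n639 = n516 := d31_2 (iv F2443) D639 (iv D516)
def n640 : Q := act 6 n507
theorem D640 : act 6 n507 = n640 := rfl
theorem F3059 : act 0 n640 = n640 := d5_1 D640 (iv D640) F2444
theorem F3060 : act 1 n640 = n547 := d12_1 D640 (iv D547) (iv F2445)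
theorem F3061 : act 3 n640 = n640 := d23_1 D640 (iv D640) F2446
theorem F3062 : act 4 n640 = n640 := d27_1 D640 (iv D640) F2447
theorem F3063 : act 7 n640 = n517 := d33_2 (iv F2448) D640 (iv D517)
def n641 : Q := act 1 n508
theorem D641 : act 1 n508 = n641 := rfl
theorem F3064 : act 2 n641 = n548 := d8_2 D508 D641 (iv D548) (iv D430) (iv F1965)
theorem F3065 : act 3 n641 = n641 := d9_2 F2450 D641 (iv D641)
theorem F3066 : act 5 n641 = n510 := d11_2 (iv F2451) D641 (iv D510)
theorem F3067 : act 6 n641 = n641 := d12_2 F2452 D641 (iv D641)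
theorem F3068 : act 8 n641 = n641 := d14_2 F2453 D641 (iv D641)
def n642 : Q := act 4 n508
theorem D642 : act 4 n508 = n642 := rfl
theorem F3069 : act 0 n642 = n642 := d3_1 D642 (iv D642) F2449
theorem F3070 : act 2 n642 = n509 := d16_1 D642 (iv D509) D508
theorem F3071 : act 6 n642 = n642 := d27_2 F2452 D642 (iv D642)
theorem F3072 : act 8 n642 = n642 := d29_2 F2453 D642 (iv D642)
def n643 : Q := act 5 n509
theorem D643 : act 5 n509 = n643 := rfl
theorem F3073 : act 0 n643 = n643 := d4_1 D643 (iv D643) F2454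
theorem F3074 : act 1 n643 = n550 := d11_1 D643 (iv D550) (iv F2455)
theorem F3075 : act 3 n643 = n643 := d22_1 D643 (iv D643) F2456
theorem F3076 : act 4 n643 = n512 := d26_1 D643 (iv D512) (iv D405) (iv F1966) D509
theorem F3077 : act 8 n643 = n643 := d32_2 F2458 D643 (iv D643)
def n644 : Q := act 0 n510
theorem D644 : act 0 n510 = n644 := rfl
theorem F3078 : act 1 n644 = n644 := d0_2 D510 D644 (iv D644) (iv D510) F1969
theorem F3079 : act 2 n644 = n551 := d1_2 (iv F2459) D644 (iv D551)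
theorem F3080 : act 3 n644 = n644 := d2_2 F2460 D644 (iv D644)
theorem F3081 : act 6 n644 = n513 := d5_2 (iv F2461) D644 (iv D513)
theorem F3082 : act 8 n644 = n644 := d7_2 F2462 D644 (iv D644)
def n645 : Q := act 4 n510
theorem D645 : act 4 n510 = n645 := rfl
theorem F3083 : act 1 n645 = n511 := d10_1 D645 (iv D511) D510
theorem F3084 : act 2 n645 = n552 := d16_1 D645 (iv D552) (iv F2459)
theorem F3085 : act 6 n645 = n514 := d27_2 (iv F2461) D645 (iv D514)
theorem F3086 : act 8 n645 = n645 := d29_2 F2462 D645 (iv D645)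
def n646 : Q := act 3 n511
theorem D646 : act 3 n511 = n646 := rfl
theorem F3087 : act 0 n646 = n646 := d2_1 D646 (iv D646) F2463
theorem F3088 : act 2 n646 = n518 := d15_1 D646 (iv D518) F1992 (iv F1975) (iv F2464)
theorem F3089 : act 4 n646 = n646 := d21_2 D511 D646 (iv D646) (iv D511) F1970
theorem F3090 : act 6 n646 = n515 := d23_2 (iv F2465) D646 (iv D515)
theorem F3091 : act 8 n646 = n646 := d25_2 F2466 D646 (iv D646)
def n647 : Q := act 5 n511
theorem D647 : act 5 n511 = n647 := rfl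
theorem F3092 : act 0 n647 = n647 := d4_1 D647 (iv D647) F2463
theorem F3093 : act 2 n647 = n512 := d17_1 D647 (iv D512) (iv F2464)
theorem F3094 : act 8 n647 = n647 := d32_2 F2466 D647 (iv D647)
def n648 : Q := act 6 n512
theorem D648 : act 6 n512 = n648 := rfl
theorem F3095 : act 0 n648 = n648 := d5_1 D648 (iv D648) F2467
theorem F3096 : act 1 n648 = n554 := d12_1 D648 (iv D554) (iv F2468)
theorem F3097 : act 3 n648 = n520 := d23_1 D648 (iv D520) (iv F2469)
theorem F3098 : act 5 n648 = n517 := d30_1 D648 (iv D517) (iv D408) (iv F1976) D512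
theorem F3099 : act 8 n648 = n648 := d34_2 F2470 D648 (iv D648)
def n649 : Q := act 4 n513
theorem D649 : act 4 n513 = n649 := rfl
theorem F3100 : act 0 n649 = n514 := d3_1 D649 (iv D514) D513
theorem F3101 : act 1 n649 = n649 := d10_1 D649 (iv D649) F2471
theorem F3102 : act 2 n649 = n555 := d16_1 D649 (iv D555) (iv F2472)
theorem F3103 : act 8 n649 = n649 := d29_2 F2475 D649 (iv D649)
def n650 : Q := act 3 n514
theorem D650 : act 3 n514 = n650 := rfl
theorem F3104 : act 1 n650 = n515 := d9_1 D650 (iv D515) (iv F2476)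
theorem F3105 : act 2 n650 = n650 := d15_1 D650 (iv D650) F2477 F2113 (iv F2477)
theorem F3106 : act 4 n650 = n650 := d21_2 D514 D650 (iv D650) (iv D514) F1979
theorem F3107 : act 8 n650 = n650 := d25_2 F2478 D650 (iv D650)
def n651 : Q := act 5 n514
theorem D651 : act 5 n514 = n651 := rfl
theorem F3108 : act 1 n651 = n516 := d11_1 D651 (iv D516) (iv F2476)
theorem F3109 : act 2 n651 = n556 := d17_1 D651 (iv D556) (iv F2477)
theorem F3110 : act 4 n651 = n651 := d26_1 D651 (iv D651) (iv D514) F1980 D514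
theorem F3111 : act 8 n651 = n651 := d32_2 F2478 D651 (iv D651)
def n652 : Q := act 5 n515
theorem D652 : act 5 n515 = n652 := rfl
theorem F3112 : act 0 n652 = n652 := d4_1 D652 (iv D652) F2479
theorem F3113 : act 2 n652 = n521 := d17_1 D652 (iv D521) (iv F2480)
theorem F3114 : act 3 n652 = n516 := d22_1 D652 (iv D516) D515
theorem F3115 : act 8 n652 = n652 := d32_2 F2482 D652 (iv D652)
def n653 : Q := act 7 n515
theorem D653 : act 7 n515 = n653 := rfl
theorem F3116 : act 0 n653 = n653 := d6_1 D653 (iv D653) F2479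
theorem F3117 : act 2 n653 = n522 := d19_1 D653 (iv D522) (iv F2480)
theorem F3118 : act 4 n653 = n653 := d28_1 D653 (iv D653) F2481
def n654 : Q := act 6 n516
theorem D654 : act 6 n516 = n654 := rfl
theorem F3119 : act 0 n654 = n654 := d5_1 D654 (iv D654) F2483
theorem F3120 : act 2 n654 = n517 := d18_1 D654 (iv D517) (iv F2484)
theorem F3121 : act 4 n654 = n654 := d27_1 D654 (iv D654) F2485
theorem F3122 : act 8 n654 = n654 := d34_2 F2486 D654 (iv D654)
def n655 : Q := act 5 n518
theorem D655 : act 5 n518 = n655 := rfl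
theorem F3123 : act 0 n655 = n655 := d4_1 D655 (iv D655) F2492
theorem F3124 : act 1 n655 = n655 := d11_1 D655 (iv D655) F2493
theorem F3125 : act 3 n655 = n519 := d22_1 D655 (iv D519) D518
theorem F3126 : act 8 n655 = n655 := d32_2 F2496 D655 (iv D655)
def n656 : Q := act 7 n518
theorem D656 : act 7 n518 = n656 := rfl
theorem F3127 : act 0 n656 = n656 := d6_1 D656 (iv D656) F2492
theorem F3128 : act 1 n656 = n656 := d13_1 D656 (iv D656) F2493
theorem F3129 : act 3 n656 = n656 := d24_1 D656 (iv D656) (iv D518) F1994 D518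
theorem F3130 : act 4 n656 = n656 := d28_1 D656 (iv D656) F2494
theorem F3131 : act 6 n656 = n522 := d33_1 D656 (iv D522) (iv F2495)
def n657 : Q := act 6 n519
theorem D657 : act 6 n519 = n657 := rfl
theorem F3132 : act 0 n657 = n657 := d5_1 D657 (iv D657) F2497
theorem F3133 : act 1 n657 = n657 := d12_1 D657 (iv D657) F2498
theorem F3134 : act 2 n657 = n520 := d18_1 D657 (iv D520) (iv F2499)
theorem F3135 : act 4 n657 = n657 := d27_1 D657 (iv D657) F2500
theorem F3136 : act 5 n657 = n523 := d30_1 D657 (iv D523) (iv D412) (iv F1993) D519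
theorem F3137 : act 7 n657 = n657 := d33_2 F2501 D657 (iv D657)
theorem F3138 : act 8 n657 = n657 := d34_2 F2502 D657 (iv D657)
def n658 : Q := act 4 n521
theorem D658 : act 4 n521 = n658 := rfl
theorem F3141 : act 3 n658 = n524 := d21_1 D658 (iv D524) F2019 (iv F2008) (iv F2511)
def n659 : Q := act 6 n521
theorem D659 : act 6 n521 = n659 := rfl
theorem F3144 : act 0 n659 = n659 := d5_1 D659 (iv D659) F2509
theorem F3145 : act 1 n659 = n659 := d12_1 D659 (iv D659) F2510
theorem F3146 : act 3 n659 = n523 := d23_1 D659 (iv D523) (iv F2511)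
theorem F3147 : act 8 n659 = n659 := d34_2 F2512 D659 (iv D659)
def n660 : Q := act 7 n521
theorem D660 : act 7 n521 = n660 := rfl
theorem F3151 : act 5 n660 = n522 := d31_1 D660 (iv D522) D521
def n661 : Q := act 8 n522
theorem D661 : act 8 n522 = n661 := rfl
def n662 : Q := act 6 n524
theorem D662 : act 6 n524 = n662 := rfl
theorem F3160 : act 4 n662 = n525 := d27_1 D662 (iv D525) D524
def n664 : Q := act 7 n525
theorem D664 : act 7 n525 = n664 := rfl
theorem F3172 : act 6 n664 = n526 := d33_1 D664 (iv D526) D525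
def n666 : Q := act 8 n528
theorem D666 : act 8 n528 = n666 := rfl
theorem F3179 : act 0 n666 = n565 := d7_1 D666 (iv D565) (iv F2546)
theorem F3180 : act 1 n666 = n666 := d14_1 D666 (iv D666) F2547
theorem F3181 : act 2 n666 = n529 := d20_1 D666 (iv D529) D528
theorem F3182 : act 3 n666 = n666 := d25_1 D666 (iv D666) F2548
theorem F3183 : act 4 n666 = n666 := d29_1 D666 (iv D666) F2549
theorem F3184 : act 5 n666 = n666 := d32_1 D666 (iv D666) F2550
theorem F3185 : act 6 n666 = n666 := d34_1 D666 (iv D666) F2551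
def n667 : Q := act 7 n529
theorem D667 : act 7 n529 = n667 := rfl
theorem F3186 : act 0 n667 = n566 := d6_1 D667 (iv D566) (iv F2553)
theorem F3187 : act 4 n667 = n667 := d28_1 D667 (iv D667) F2555
theorem F3188 : act 5 n667 = n667 := d31_1 D667 (iv D667) F2556
theorem F3189 : act 6 n667 = n667 := d33_1 D667 (iv D667) F2557
theorem F3190 : act 8 n667 = n667 := d35_2 D529 D667 (iv D667) (iv D529) F2037
def n668 : Q := act 3 n530
theorem D668 : act 3 n530 = n668 := rfl
theorem F3191 : act 0 n668 = n567 := d2_1 D668 (iv D567) (iv F2558)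
theorem F3192 : act 5 n668 = n668 := d22_2 F2561 D668 (iv D668)
theorem F3193 : act 6 n668 = n668 := d23_2 F2562 D668 (iv D668)
theorem F3194 : act 8 n668 = n531 := d25_2 (iv F2563) D668 (iv D531)
def n669 : Q := act 2 n531
theorem D669 : act 2 n531 = n669 := rfl
theorem F3195 : act 0 n669 = n568 := d1_1 D669 (iv D568) (iv F2564)
theorem F3196 : act 3 n669 = n669 := d15_2 D531 D669 (iv D669) (iv D531) F2044
theorem F3197 : act 5 n669 = n669 := d17_2 F2565 D669 (iv D669)
theorem F3198 : act 6 n669 = n669 := d18_2 F2566 D669 (iv D669)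
theorem F3199 : act 7 n669 = n669 := d19_2 F2567 D669 (iv D669)
def n670 : Q := act 4 n531
theorem D670 : act 4 n531 = n670 := rfl
theorem F3200 : act 0 n670 = n569 := d3_1 D670 (iv D569) (iv F2564)
theorem F3201 : act 3 n670 = n534 := d21_1 D670 (iv D534) (iv D421) (iv F2045) D531
theorem F3202 : act 6 n670 = n670 := d27_2 F2566 D670 (iv D670)
theorem F3203 : act 7 n670 = n670 := d28_2 F2567 D670 (iv D670)
def n671 : Q := act 2 n532
theorem D671 : act 2 n532 = n671 := rfl
theorem F3204 : act 0 n671 = n570 := d1_1 D671 (iv D570) (iv F2568)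
theorem F3205 : act 3 n671 = n671 := d15_2 D532 D671 (iv D671) (iv D532) F2049
theorem F3206 : act 5 n671 = n535 := d17_2 (iv F2569) D671 (iv D535)
theorem F3207 : act 6 n671 = n671 := d18_2 F2570 D671 (iv D671)
theorem F3208 : act 7 n671 = n671 := d19_2 F2571 D671 (iv D671)
theorem F3209 : act 8 n671 = n533 := d20_2 (iv F2572) D671 (iv D533)
def n672 : Q := act 4 n532
theorem D672 : act 4 n532 = n672 := rfl
theorem F3210 : act 0 n672 = n571 := d3_1 D672 (iv D571) (iv F2568)
theorem F3211 : act 6 n672 = n672 := d27_2 F2570 D672 (iv D672)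
theorem F3212 : act 7 n672 = n672 := d28_2 F2571 D672 (iv D672)
theorem F3213 : act 8 n672 = n534 := d29_2 (iv F2572) D672 (iv D534)
def n673 : Q := act 1 n533
theorem D673 : act 1 n533 = n673 := rfl
theorem F3214 : act 3 n673 = n673 := d9_2 F2574 D673 (iv D673)
theorem F3215 : act 5 n673 = n537 := d11_2 (iv F2575) D673 (iv D537)
theorem F3216 : act 6 n673 = n673 := d12_2 F2576 D673 (iv D673)
theorem F3217 : act 7 n673 = n548 := d13_2 (iv F2577) D673 (iv D548)
def n674 : Q := act 4 n533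
theorem D674 : act 4 n533 = n674 := rfl
theorem F3218 : act 0 n674 = n573 := d3_1 D674 (iv D573) (iv F2573)
theorem F3219 : act 2 n674 = n534 := d16_1 D674 (iv D534) D533
theorem F3220 : act 6 n674 = n674 := d27_2 F2576 D674 (iv D674)
theorem F3221 : act 7 n674 = n549 := d28_2 (iv F2577) D674 (iv D549)
def n675 : Q := act 5 n534
theorem D675 : act 5 n534 = n675 := rfl
theorem F3222 : act 0 n675 = n574 := d4_1 D675 (iv D574) (iv F2578)
theorem F3223 : act 4 n675 = n539 := d26_1 D675 (iv D539) (iv D424) (iv F2054) D534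
theorem F3224 : act 7 n675 = n550 := d31_2 (iv F2580) D675 (iv D550)
def n676 : Q := act 1 n535
theorem D676 : act 1 n535 = n676 := rfl
theorem F3225 : act 3 n676 = n676 := d9_2 F2582 D676 (iv D676)
theorem F3226 : act 6 n676 = n540 := d12_2 (iv F2583) D676 (iv D540)
theorem F3227 : act 7 n676 = n676 := d13_2 F2584 D676 (iv D676)
theorem F3228 : act 8 n676 = n537 := d14_2 (iv F2585) D676 (iv D537)
def n677 : Q := act 4 n535
theorem D677 : act 4 n535 = n677 := rfl
theorem F3229 : act 0 n677 = n576 := d3_1 D677 (iv D576) (iv F2581)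
theorem F3230 : act 2 n677 = n536 := d16_1 D677 (iv D536) D535
theorem F3231 : act 6 n677 = n541 := d27_2 (iv F2583) D677 (iv D541)
theorem F3232 : act 7 n677 = n677 := d28_2 F2584 D677 (iv D677)
theorem F3233 : act 8 n677 = n538 := d29_2 (iv F2585) D677 (iv D538)
def n678 : Q := act 5 n536
theorem D678 : act 5 n536 = n678 := rfl
theorem F3234 : act 0 n678 = n577 := d4_1 D678 (iv D577) (iv F2586)
theorem F3235 : act 3 n678 = n678 := d22_1 D678 (iv D678) F2587
theorem F3236 : act 7 n678 = n678 := d31_2 F2589 D678 (iv D678)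
theorem F3237 : act 8 n678 = n539 := d32_2 (iv F2590) D678 (iv D539)
def n679 : Q := act 0 n537
theorem D679 : act 0 n537 = n679 := rfl
theorem F3238 : act 1 n679 = n578 := d0_2 D537 D679 (iv D578) (iv D455) (iv F2061)
theorem F3239 : act 3 n679 = n679 := d2_2 F2591 D679 (iv D679)
theorem F3240 : act 6 n679 = n543 := d5_2 (iv F2592) D679 (iv D543)
theorem F3241 : act 7 n679 = n551 := d6_2 (iv F2593) D679 (iv D551)
def n680 : Q := act 4 n537
theorem D680 : act 4 n537 = n680 := rfl
theorem F3242 : act 1 n680 = n538 := d10_1 D680 (iv D538) D537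
theorem F3243 : act 6 n680 = n544 := d27_2 (iv F2592) D680 (iv D544)
theorem F3244 : act 7 n680 = n552 := d28_2 (iv F2593) D680 (iv D552)
def n681 : Q := act 3 n538
theorem D681 : act 3 n538 = n681 := rfl
theorem F3245 : act 0 n681 = n580 := d2_1 D681 (iv D580) (iv F2594)
theorem F3246 : act 2 n681 = n681 := d15_1 D681 (iv D681) F2595 F2066 (iv F2595)
theorem F3247 : act 4 n681 = n681 := d21_2 D538 D681 (iv D681) (iv D538) F2062
theorem F3248 : act 6 n681 = n545 := d23_2 (iv F2596) D681 (iv D545)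
theorem F3249 : act 7 n681 = n681 := d24_2 (iv F2597) D681 (iv D681) F2597 F2102
def n682 : Q := act 5 n538
theorem D682 : act 5 n538 = n682 := rfl
theorem F3250 : act 0 n682 = n581 := d4_1 D682 (iv D581) (iv F2594)
theorem F3251 : act 2 n682 = n539 := d17_1 D682 (iv D539) (iv F2595)
theorem F3252 : act 7 n682 = n553 := d31_2 (iv F2597) D682 (iv D553)
def n683 : Q := act 6 n539
theorem D683 : act 6 n539 = n683 := rfl
theorem F3253 : act 0 n683 = n582 := d5_1 D683 (iv D582) (iv F2598)
theorem F3254 : act 3 n683 = n683 := d23_1 D683 (iv D683) F2599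
theorem F3255 : act 5 n683 = n547 := d30_1 D683 (iv D547) (iv D429) (iv F2067) D539
theorem F3256 : act 7 n683 = n554 := d33_2 (iv F2600) D683 (iv D554)
def n684 : Q := act 0 n540
theorem D684 : act 0 n540 = n684 := rfl
theorem F3257 : act 1 n684 = n583 := d0_2 D540 D684 (iv D583) (iv D458) (iv F2069)
theorem F3258 : act 3 n684 = n684 := d2_2 F2601 D684 (iv D684)
theorem F3259 : act 5 n684 = n684 := d4_2 F2602 D684 (iv D684)
theorem F3260 : act 7 n684 = n684 := d6_2 F2603 D684 (iv D684)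
theorem F3261 : act 8 n684 = n543 := d7_2 (iv F2604) D684 (iv D543)
def n685 : Q := act 4 n540
theorem D685 : act 4 n540 = n685 := rfl
theorem F3262 : act 1 n685 = n541 := d10_1 D685 (iv D541) D540
theorem F3263 : act 7 n685 = n685 := d28_2 F2603 D685 (iv D685)
theorem F3264 : act 8 n685 = n544 := d29_2 (iv F2604) D685 (iv D544)
def n686 : Q := act 3 n541
theorem D686 : act 3 n541 = n686 := rfl
theorem F3265 : act 0 n686 = n585 := d2_1 D686 (iv D585) (iv F2605)
theorem F3266 : act 2 n686 = n686 := d15_1 D686 (iv D686) F2606 F2075 (iv F2606)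
theorem F3267 : act 4 n686 = n686 := d21_2 D541 D686 (iv D686) (iv D541) F2070
theorem F3268 : act 8 n686 = n545 := d25_2 (iv F2608) D686 (iv D545)
theorem F3269 : act 5 n588 = n686 := d4_0 F3265 (iv F2802) (iv F2815)
theorem F3270 : act 7 n598 = n686 := d6_0 F3265 F2803 (iv F2855)
def n687 : Q := act 5 n541
theorem D687 : act 5 n541 = n687 := rfl
theorem F3271 : act 0 n687 = n586 := d4_1 D687 (iv D586) (iv F2605)
theorem F3272 : act 2 n687 = n542 := d17_1 D687 (iv D542) (iv F2606)
theorem F3273 : act 3 n687 = n588 := d22_1 D687 F3269 (iv D686)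
theorem F3274 : act 4 n687 = n687 := d26_1 D687 (iv D687) (iv D541) F2071 D541
theorem F3275 : act 7 n687 = n687 := d31_2 F2607 D687 (iv D687)
theorem F3276 : act 8 n687 = n546 := d32_2 (iv F2608) D687 (iv D546)
theorem E17 : n615 = n414 := (c37_24 (iv F2231) F2230 D588 (iv F3273) F3272 (iv F3041) F3040 F3044 (iv D635) (iv D504) (iv D400) (iv F1915) F1914 F1913 (iv D392) F1554 F1553 (iv F1911) F1910 F1909 F1908 D491 F2375 (iv F2952) F2019 F1642 F1332 F1139 F1018 (iv D203) (iv D168) (iv D137) F567 F458 F426 (iv D85) (iv F425) (iv F541) F540 F539 (iv F575) (iv F621) D154 F771 F770 F633 (iv F749) (iv F882) F881 (iv D176) F724 F596 F595 F594 F593 F487 D112 (iv F684) (iv F828) D200 D244 D301 D376)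
theorem E18 : n524 = n491 := ((D524).symm.trans (sb E17 F2952))
theorem E19 : n526 = n490 := ((D526).symm.trans (sb E17 (iv D615)))
theorem E20 : n658 = n616 := (((D616).symm.trans (sb E18 (iv F3141)))).symm
theorem F3277 : act 4 n491 = n414 := (sb E18 (iv D524))
theorem E21 : n662 = n610 := ((((iv F2927)).symm.trans (sb E18 D662))).symm
theorem E23 : n614 = n415 := (((iv F2947)).symm.trans (sb E19 F2538))
theorem E24 : n664 = n609 := ((((iv F2923)).symm.trans (sb E19 (iv F3172)))).symm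
theorem F3278 : act 7 n490 = n414 := (sb E19 (iv D526))
theorem F3279 : act 4 n616 = n521 := (sb E20 (iv D658))
theorem F3280 : act 4 n610 = n525 := (sb E21 F3160)
theorem F3281 : act 5 n415 = n490 := (sb E23 F2947)
theorem E26 : n527 = n489 := ((D527).symm.trans (sb E23 (iv D614)))
theorem F3282 : act 7 n609 = n525 := (sb E24 (iv D664))
theorem F3283 : act 8 n489 = n415 := (sb E26 (iv D527))
theorem E27 : n660 = n618 := (c28_3 (iv F2957) F3279 D660 (iv D618))
theorem F3284 : act 5 n618 = n522 := (sb E27 F3151)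
theorem F3285 : act 7 n618 = n521 := (sb E27 (iv D660))
theorem E28 : n661 = n621 := (c32_3 (iv F2966) F3284 D661 (iv D621))
theorem F3286 : act 8 n621 = n522 := (sb E28 (iv D661))
def n688 : Q := act 6 n542
theorem D688 : act 6 n542 = n688 := rfl
theorem F3287 : act 0 n688 = n587 := d5_1 D688 (iv D587) (iv F2609)
theorem F3288 : act 3 n688 = n688 := d23_1 D688 (iv D688) F2610
theorem F3289 : act 4 n688 = n688 := d27_1 D688 (iv D688) F2611
theorem F3290 : act 7 n688 = n688 := d33_2 F2612 D688 (iv D688)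
theorem F3291 : act 8 n688 = n547 := d34_2 (iv F2613) D688 (iv D547)
def n689 : Q := act 4 n543
theorem D689 : act 4 n543 = n689 := rfl
theorem F3292 : act 0 n689 = n544 := d3_1 D689 (iv D544) D543
theorem F3293 : act 1 n689 = n588 := d10_1 D689 (iv D588) (iv F2614)
theorem F3294 : act 7 n689 = n555 := d28_2 (iv F2617) D689 (iv D555)
def n690 : Q := act 3 n544
theorem D690 : act 3 n544 = n690 := rfl
theorem F3295 : act 1 n690 = n545 := d9_1 D690 (iv D545) (iv F2618)
theorem F3296 : act 4 n690 = n690 := d21_2 D544 D690 (iv D690) (iv D544) F2078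
theorem F3297 : act 7 n690 = n690 := d24_2 (iv F2619) D690 (iv D690) F2619 F2113
def n691 : Q := act 5 n544
theorem D691 : act 5 n544 = n691 := rfl
theorem F3298 : act 1 n691 = n546 := d11_1 D691 (iv D546) (iv F2618)
theorem F3299 : act 4 n691 = n691 := d26_1 D691 (iv D691) (iv D544) F2079 D544
theorem F3300 : act 7 n691 = n556 := d31_2 (iv F2619) D691 (iv D556)
def n692 : Q := act 5 n545
theorem D692 : act 5 n545 = n692 := rfl
theorem F3301 : act 0 n692 = n584 := d4_1 D692 F2797 (iv F2620)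
theorem F3302 : act 2 n692 = n692 := d17_1 D692 (iv D692) F2621
theorem F3303 : act 3 n692 = n546 := d22_1 D692 (iv D546) D545
theorem F3304 : act 7 n692 = n692 := d31_2 F2623 D692 (iv D692)
theorem F3305 : act 8 n692 = n588 := d32_2 F3268 D692 F3269
theorem F3306 : act 4 n583 = n692 := d29_3 F3305 (iv D588) (iv F2791)
def n693 : Q := act 6 n546
theorem D693 : act 6 n546 = n693 := rfl
theorem F3307 : act 0 n693 = n589 := d5_1 D693 (iv D589) (iv F2624)
theorem F3308 : act 2 n693 = n547 := d18_1 D693 (iv D547) (iv F2625)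
theorem F3309 : act 4 n693 = n693 := d27_1 D693 (iv D693) F2626
theorem F3310 : act 7 n693 = n557 := d33_2 (iv F2627) D693 (iv D557)
def n694 : Q := act 0 n548
theorem D694 : act 0 n548 = n694 := rfl
theorem F3311 : act 1 n694 = n590 := d0_2 D548 D694 (iv D590) (iv D466) (iv F2088)
theorem F3312 : act 3 n694 = n558 := d2_2 (iv F2632) D694 (iv D558)
theorem F3313 : act 5 n694 = n551 := d4_2 (iv F2633) D694 (iv D551)
theorem F3314 : act 6 n694 = n694 := d5_2 F2634 D694 (iv D694)
theorem F3315 : act 8 n694 = n694 := d7_2 F2635 D694 (iv D694)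
def n695 : Q := act 4 n548
theorem D695 : act 4 n548 = n695 := rfl
theorem F3316 : act 1 n695 = n549 := d10_1 D695 (iv D549) D548
theorem F3317 : act 6 n695 = n695 := d27_2 F2634 D695 (iv D695)
theorem F3318 : act 8 n695 = n695 := d29_2 F2635 D695 (iv D695)
def n696 : Q := act 3 n549
theorem D696 : act 3 n549 = n696 := rfl
theorem F3319 : act 0 n696 = n592 := d2_1 D696 (iv D592) (iv F2636)
theorem F3320 : act 2 n696 = n696 := d15_1 D696 (iv D696) F2637 F2094 (iv F2637)
theorem F3321 : act 4 n696 = n560 := d21_2 D549 D696 (iv D560) (iv D441) (iv F2089)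
theorem F3322 : act 6 n696 = n696 := d23_2 F2638 D696 (iv D696)
theorem F3323 : act 8 n696 = n696 := d25_2 F2639 D696 (iv D696)
def n697 : Q := act 5 n549
theorem D697 : act 5 n549 = n697 := rfl
theorem F3324 : act 0 n697 = n593 := d4_1 D697 (iv D593) (iv F2636)
theorem F3325 : act 2 n697 = n550 := d17_1 D697 (iv D550) (iv F2637)
theorem F3326 : act 4 n697 = n553 := d26_1 D697 (iv D553) (iv D433) (iv F2090) D549
theorem F3327 : act 8 n697 = n697 := d32_2 F2639 D697 (iv D697)
def n698 : Q := act 6 n550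
theorem D698 : act 6 n550 = n698 := rfl
theorem F3328 : act 0 n698 = n594 := d5_1 D698 (iv D594) (iv F2640)
theorem F3329 : act 3 n698 = n698 := d23_1 D698 (iv D698) F2641
theorem F3330 : act 4 n698 = n554 := d27_1 D698 (iv D554) (iv F2642)
theorem F3331 : act 5 n698 = n698 := d30_1 D698 (iv D698) (iv D550) F2095 D550
theorem F3332 : act 8 n698 = n698 := d34_2 F2643 D698 (iv D698)
def n699 : Q := act 4 n551
theorem D699 : act 4 n551 = n699 := rfl
theorem F3333 : act 0 n699 = n552 := d3_1 D699 (iv D552) D551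
theorem F3334 : act 1 n699 = n595 := d10_1 D699 (iv D595) (iv F2644)
theorem F3335 : act 3 n699 = n699 := d21_1 D699 (iv D699) F2645 F2143 (iv F2645)
theorem F3336 : act 6 n699 = n555 := d27_2 (iv F2646) D699 (iv D555)
theorem F3337 : act 8 n699 = n699 := d29_2 F2647 D699 (iv D699)
def n700 : Q := act 5 n552
theorem D700 : act 5 n552 = n700 := rfl
theorem F3338 : act 1 n700 = n553 := d11_1 D700 (iv D553) (iv F2648)
theorem F3339 : act 3 n700 = n700 := d22_1 D700 (iv D700) F2649
theorem F3340 : act 8 n700 = n700 := d32_2 F2651 D700 (iv D700)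
def n701 : Q := act 6 n553
theorem D701 : act 6 n553 = n701 := rfl
theorem F3341 : act 0 n701 = n597 := d5_1 D701 (iv D597) (iv F2652)
theorem F3342 : act 2 n701 = n554 := d18_1 D701 (iv D554) (iv F2653)
theorem F3343 : act 3 n701 = n701 := d23_1 D701 (iv D701) F2654
theorem F3344 : act 5 n701 = n557 := d30_1 D701 (iv D557) (iv D437) (iv F2103) D553
theorem F3345 : act 8 n701 = n701 := d34_2 F2655 D701 (iv D701)
def n702 : Q := act 5 n555
theorem D702 : act 5 n555 = n702 := rfl
theorem F3346 : act 0 n702 = n556 := d4_1 D702 (iv D556) (iv F2660)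
theorem F3347 : act 1 n702 = n598 := d11_1 D702 (iv D598) (iv F2661)
theorem F3348 : act 3 n702 = n702 := d22_1 D702 (iv D702) F2662
theorem F3349 : act 4 n702 = n702 := d26_1 D702 (iv D702) (iv D555) F2110 D555
theorem F3350 : act 8 n702 = n702 := d32_2 F2663 D702 (iv D702)
def n703 : Q := act 6 n556
theorem D703 : act 6 n556 = n703 := rfl
theorem F3351 : act 1 n703 = n557 := d12_1 D703 (iv D557) (iv F2664)
theorem F3352 : act 3 n703 = n703 := d23_1 D703 (iv D703) F2665
theorem F3353 : act 4 n703 = n703 := d27_1 D703 (iv D703) F2666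
theorem F3354 : act 8 n703 = n703 := d34_2 F2667 D703 (iv D703)
def n704 : Q := act 4 n558
theorem D704 : act 4 n558 = n704 := rfl
theorem F3355 : act 0 n704 = n559 := d3_1 D704 (iv D559) D558
theorem F3356 : act 1 n704 = n600 := d10_1 D704 (iv D600) (iv F2673)
theorem F3357 : act 2 n704 = n704 := d16_1 D704 (iv D704) F2674
theorem F3358 : act 5 n704 = n704 := d26_2 (iv F2675) D704 (iv D704) F2675 F2143
theorem F3359 : act 6 n704 = n704 := d27_2 F2676 D704 (iv D704)
theorem F3360 : act 7 n704 = n704 := d28_2 F2677 D704 (iv D704)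
theorem F3361 : act 8 n704 = n704 := d29_2 F2678 D704 (iv D704)
def n705 : Q := act 3 n559
theorem D705 : act 3 n559 = n705 := rfl
theorem F3362 : act 1 n705 = n560 := d9_1 D705 (iv D560) (iv F2679)
theorem F3363 : act 5 n705 = n705 := d22_2 F2681 D705 (iv D705)
theorem F3364 : act 6 n705 = n705 := d23_2 F2682 D705 (iv D705)
theorem F3365 : act 8 n705 = n705 := d25_2 F2684 D705 (iv D705)
def n706 : Q := act 7 n560
theorem D706 : act 7 n560 = n706 := rfl
theorem F3366 : act 0 n706 = n602 := d6_1 D706 (iv D602) (iv F2685)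
theorem F3367 : act 2 n706 = n706 := d19_1 D706 (iv D706) F2686
theorem F3368 : act 3 n706 = n706 := d24_1 D706 (iv D706) (iv D560) F2139 D560
theorem F3369 : act 5 n706 = n706 := d31_1 D706 (iv D706) F2687
theorem F3370 : act 6 n706 = n706 := d33_1 D706 (iv D706) F2688
def n707 : Q := act 3 n561
theorem D707 : act 3 n561 = n707 := rfl
theorem F3371 : act 0 n707 = n562 := d2_1 D707 (iv D562) (iv F2690)
theorem F3372 : act 1 n707 = n707 := d9_1 D707 (iv D707) F2691
theorem F3373 : act 4 n707 = n707 := d21_2 D561 D707 (iv D707) (iv D561) F2148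
theorem F3374 : act 5 n707 = n707 := d22_2 F2692 D707 (iv D707)
theorem F3375 : act 6 n707 = n707 := d23_2 F2693 D707 (iv D707)
theorem F3376 : act 8 n707 = n707 := d25_2 F2695 D707 (iv D707)
def n708 : Q := act 2 n562
theorem D708 : act 2 n562 = n708 := rfl
theorem F3377 : act 1 n708 = n708 := d8_1 D708 (iv D708) F2696 F2159 (iv F2696)
def n709 : Q := act 7 n562
theorem D709 : act 7 n562 = n709 := rfl
theorem F3382 : act 1 n709 = n563 := d13_1 D709 (iv D563) (iv F2696)
def n710 : Q := act 8 n563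
theorem D710 : act 8 n563 = n710 := rfl
def n711 : Q := act 8 n564
theorem D711 : act 8 n564 = n711 := rfl
theorem F3395 : act 1 n711 = n565 := d14_1 D711 (iv D565) D564
def n712 : Q := act 7 n565
theorem D712 : act 7 n565 = n712 := rfl
theorem F3401 : act 2 n712 = n566 := d19_1 D712 (iv D566) (iv F2714)
def n713 : Q := act 3 n566
theorem D713 : act 3 n566 = n713 := rfl
theorem F3406 : act 1 n713 = n713 := d9_1 D713 (iv D713) F2719
theorem F3407 : act 5 n713 = n713 := d22_2 F2721 D713 (iv D713)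
theorem F3408 : act 6 n713 = n713 := d23_2 F2722 D713 (iv D713)
theorem F3409 : act 7 n713 = n567 := d24_2 D566 D713 (iv D567) (iv D448) (iv F2170)
theorem F3410 : act 8 n713 = n713 := d25_2 F2723 D713 (iv D713)
def n714 : Q := act 2 n567
theorem D714 : act 2 n567 = n714 := rfl
theorem F3411 : act 3 n714 = n714 := d15_2 D567 D714 (iv D714) (iv D567) F2175
theorem F3412 : act 5 n714 = n714 := d17_2 F2725 D714 (iv D714)
theorem F3413 : act 6 n714 = n714 := d18_2 F2726 D714 (iv D714)
theorem F3414 : act 8 n714 = n568 := d20_2 (iv F2727) D714 (iv D568)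
def n715 : Q := act 4 n567
theorem D715 : act 4 n567 = n715 := rfl
theorem F3415 : act 1 n715 = n715 := d10_1 D715 (iv D715) F2724
theorem F3416 : act 3 n715 = n571 := d21_1 D715 (iv D571) (iv D450) (iv F2176) D567
theorem F3417 : act 6 n715 = n715 := d27_2 F2726 D715 (iv D715)
theorem F3418 : act 8 n715 = n569 := d29_2 (iv F2727) D715 (iv D569)
def n716 : Q := act 1 n568
theorem D716 : act 1 n568 = n716 := rfl
theorem F3419 : act 2 n716 = n716 := d8_2 D568 D716 (iv D716) (iv D568) F2180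
theorem F3420 : act 3 n716 = n716 := d9_2 F2728 D716 (iv D716)
theorem F3421 : act 5 n716 = n716 := d11_2 F2729 D716 (iv D716)
theorem F3422 : act 6 n716 = n716 := d12_2 F2730 D716 (iv D716)
theorem F3423 : act 7 n716 = n716 := d13_2 F2731 D716 (iv D716)
def n717 : Q := act 4 n568
theorem D717 : act 4 n568 = n717 := rfl
theorem F3424 : act 2 n717 = n569 := d16_1 D717 (iv D569) D568
theorem F3425 : act 6 n717 = n717 := d27_2 F2730 D717 (iv D717)
theorem F3426 : act 7 n717 = n717 := d28_2 F2731 D717 (iv D717)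
def n718 : Q := act 5 n569
theorem D718 : act 5 n569 = n718 := rfl
theorem F3427 : act 1 n718 = n718 := d11_1 D718 (iv D718) F2732
theorem F3428 : act 3 n718 = n574 := d22_1 D718 (iv D574) (iv F2733)
theorem F3429 : act 4 n718 = n718 := d26_1 D718 (iv D718) (iv D569) F2181 D569
theorem F3430 : act 7 n718 = n718 := d31_2 F2735 D718 (iv D718)
def n719 : Q := act 1 n570
theorem D719 : act 1 n570 = n719 := rfl
theorem F3431 : act 2 n719 = n719 := d8_2 D570 D719 (iv D719) (iv D570) F2184
theorem F3432 : act 3 n719 = n719 := d9_2 F2736 D719 (iv D719)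
theorem F3433 : act 5 n719 = n575 := d11_2 (iv F2737) D719 (iv D575)
theorem F3434 : act 6 n719 = n719 := d12_2 F2738 D719 (iv D719)
theorem F3435 : act 7 n719 = n719 := d13_2 F2739 D719 (iv D719)
theorem F3436 : act 8 n719 = n572 := d14_2 (iv F2740) D719 (iv D572)
def n720 : Q := act 4 n570
theorem D720 : act 4 n570 = n720 := rfl
theorem F3437 : act 2 n720 = n571 := d16_1 D720 (iv D571) D570
theorem F3438 : act 6 n720 = n720 := d27_2 F2738 D720 (iv D720)
theorem F3439 : act 7 n720 = n720 := d28_2 F2739 D720 (iv D720)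
theorem F3440 : act 8 n720 = n573 := d29_2 (iv F2740) D720 (iv D573)
def n721 : Q := act 5 n571
theorem D721 : act 5 n571 = n721 := rfl
theorem F3441 : act 1 n721 = n721 := d11_1 D721 (iv D721) F2741
theorem F3442 : act 4 n721 = n577 := d26_1 D721 (iv D577) (iv D454) (iv F2185) D571
theorem F3443 : act 7 n721 = n721 := d31_2 F2743 D721 (iv D721)
theorem F3444 : act 8 n721 = n574 := d32_2 (iv F2744) D721 (iv D574)
def n722 : Q := act 0 n572
theorem D722 : act 0 n572 = n722 := rfl
theorem F3445 : act 2 n722 = n722 := d1_2 F2745 D722 (iv D722)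
theorem F3446 : act 3 n722 = n722 := d2_2 F2746 D722 (iv D722)
theorem F3447 : act 5 n722 = n578 := d4_2 (iv F2747) D722 (iv D578)
theorem F3448 : act 6 n722 = n722 := d5_2 F2748 D722 (iv D722)
theorem F3449 : act 7 n722 = n590 := d6_2 (iv F2749) D722 (iv D590)
def n723 : Q := act 4 n572
theorem D723 : act 4 n572 = n723 := rfl
theorem F3450 : act 1 n723 = n573 := d10_1 D723 (iv D573) D572
theorem F3451 : act 2 n723 = n723 := d16_1 D723 (iv D723) F2745
theorem F3452 : act 6 n723 = n723 := d27_2 F2748 D723 (iv D723)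
theorem F3453 : act 7 n723 = n591 := d28_2 (iv F2749) D723 (iv D591)
def n724 : Q := act 3 n573
theorem D724 : act 3 n573 = n724 := rfl
theorem F3454 : act 4 n724 = n724 := d21_2 D573 D724 (iv D724) (iv D573) F2189
theorem F3455 : act 6 n724 = n724 := d23_2 F2751 D724 (iv D724)
def n725 : Q := act 5 n573
theorem D725 : act 5 n573 = n725 := rfl
theorem F3456 : act 2 n725 = n574 := d17_1 D725 (iv D574) (iv F2750)
theorem F3457 : act 4 n725 = n581 := d26_1 D725 (iv D581) (iv D456) (iv F2190) D573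
theorem F3458 : act 7 n725 = n593 := d31_2 (iv F2752) D725 (iv D593)
def n726 : Q := act 6 n574
theorem D726 : act 6 n574 = n726 := rfl
theorem F3459 : act 1 n726 = n726 := d12_1 D726 (iv D726) F2753
theorem F3460 : act 4 n726 = n582 := d27_1 D726 (iv D582) (iv F2754)
theorem F3461 : act 5 n726 = n726 := d30_1 D726 (iv D726) (iv D574) F2194 D574
theorem F3462 : act 7 n726 = n594 := d33_2 (iv F2755) D726 (iv D594)
def n727 : Q := act 0 n575
theorem D727 : act 0 n575 = n727 := rfl
theorem F3463 : act 2 n727 = n727 := d1_2 F2756 D727 (iv D727)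
theorem F3464 : act 3 n727 = n727 := d2_2 F2757 D727 (iv D727)
theorem F3465 : act 6 n727 = n583 := d5_2 (iv F2758) D727 (iv D583)
theorem F3466 : act 7 n727 = n727 := d6_2 F2759 D727 (iv D727)
theorem F3467 : act 8 n727 = n578 := d7_2 (iv F2760) D727 (iv D578)
def n728 : Q := act 4 n575
theorem D728 : act 4 n575 = n728 := rfl
theorem F3468 : act 1 n728 = n576 := d10_1 D728 (iv D576) D575
theorem F3469 : act 2 n728 = n728 := d16_1 D728 (iv D728) F2756
theorem F3470 : act 6 n728 = n584 := d27_2 (iv F2758) D728 (iv D584)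
theorem F3471 : act 7 n728 = n728 := d28_2 F2759 D728 (iv D728)
theorem F3472 : act 8 n728 = n579 := d29_2 (iv F2760) D728 (iv D579)
theorem F3473 : act 3 n589 = n728 := d23_3 F3470 (iv F2796) D589
theorem E29 : n708 = n566 := (c38_49 F3435 F3434 F3433 D728 (iv F3473) F2818 F2241 F2244 (iv D379) (iv D303) (iv D245) (iv D200) F827 F700 (iv D130) (iv F653) (iv F791) F790 F789 F788 (iv F847) D204 F1023 F1022 F853 F705 (iv F832) F831 (iv D166) F681 F565 F445 F444 F443 F311 D85 F430 (iv F551) (iv F656) D159 D192 D234 F1175 (iv F1430) (iv F1747) D444 D562 D708 F3377 (iv D566) F2173 F2172 F2171 F2170 F1769 F1768 D448 F2178 F2177 F2176 D450 D570 D719)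
theorem E30 : n712 = n562 := (((iv F3401)).symm.trans (sb E29 (iv D708)))
theorem F3474 : act 2 n562 = n566 := (sb E30 F3401)
theorem E31 : n709 = n565 := ((D709).symm.trans (sb E30 (iv D712)))
theorem E32 : n711 = n563 := (((iv F3395)).symm.trans (sb E31 F3382))
theorem F3475 : act 7 n565 = n562 := (sb E31 (iv D709))
theorem F3476 : act 1 n563 = n565 := (sb E32 F3395)
theorem E33 : n710 = n564 := ((D710).symm.trans (sb E32 (iv D711)))
theorem F3477 : act 8 n564 = n563 := (sb E33 (iv D710))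
theorem F3478 : act 7 n707 = n666 := d6_2 F3475 (iv F3371) F3179
theorem F3479 : act 2 n667 = n707 := d19_3 F3478 F3181 D667
theorem F3480 : act 2 n713 = n601 := d15_3 D562 F3474 D713 (iv D601) F2292
theorem F3481 : act 7 n601 = n714 := d19_2 (iv F3409) F3480 (iv D714)
theorem F3482 : act 1 n714 = n602 := d13_1 F3481 (iv D602) (iv F2871)
theorem F3483 : act 8 n602 = n716 := d14_2 (iv F3414) F3482 (iv D716)
def n729 : Q := act 3 n576
theorem D729 : act 3 n576 = n729 := rfl
theorem F3484 : act 1 n729 = n589 := d9_1 D729 F3473 F3468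
theorem F3485 : act 2 n729 = n729 := d15_1 D729 (iv D729) F2761 F2201 (iv F2761)
theorem F3486 : act 4 n729 = n729 := d21_2 D576 D729 (iv D729) (iv D576) F2196
theorem F3487 : act 6 n729 = n585 := d23_2 (iv F2762) D729 (iv D585)
theorem F3488 : act 8 n729 = n580 := d25_2 (iv F2764) D729 (iv D580)
theorem F3489 : act 7 n599 = n729 := d33_0 F3487 F2803 D599
def n730 : Q := act 5 n576
theorem D730 : act 5 n576 = n730 := rfl
theorem F3490 : act 2 n730 = n577 := d17_1 D730 (iv D577) (iv F2761)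
theorem F3491 : act 7 n730 = n730 := d31_2 F2763 D730 (iv D730)
theorem F3492 : act 8 n730 = n581 := d32_2 (iv F2764) D730 (iv D581)
def n731 : Q := act 6 n577
theorem D731 : act 6 n577 = n731 := rfl
theorem F3493 : act 1 n731 = n731 := d12_1 D731 (iv D731) F2765
theorem F3494 : act 3 n731 = n731 := d23_1 D731 (iv D731) F2766
theorem F3495 : act 5 n731 = n587 := d30_1 D731 (iv D587) (iv D460) (iv F2202) D577
theorem F3496 : act 7 n731 = n731 := d33_2 F2767 D731 (iv D731)
theorem F3497 : act 8 n731 = n582 := d34_2 (iv F2768) D731 (iv D582)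
def n732 : Q := act 4 n578
theorem D732 : act 4 n578 = n732 := rfl
theorem F3498 : act 0 n732 = n579 := d3_1 D732 (iv D579) D578
theorem F3499 : act 2 n732 = n732 := d16_1 D732 (iv D732) F2769
theorem F3500 : act 6 n732 = n588 := d27_2 (iv F2771) D732 (iv D588)
theorem F3501 : act 7 n732 = n595 := d28_2 (iv F2772) D732 (iv D595)
def n733 : Q := act 3 n579
theorem D733 : act 3 n579 = n733 := rfl
theorem F3502 : act 1 n733 = n580 := d9_1 D733 (iv D580) (iv F2773)
theorem F3503 : act 4 n733 = n733 := d21_2 D579 D733 (iv D733) (iv D579) F2206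
theorem F3504 : act 6 n733 = n586 := d23_2 (iv F2775) D733 F2806
theorem F3505 : act 7 n733 = n733 := d24_2 (iv F2776) D733 (iv D733) F2776 F2263
theorem F3506 : act 8 n733 = n589 := d25_2 F3472 D733 F3473
theorem F3507 : act 2 n733 = n587 := d38_5 (iv F2749) F2748 F2747 D579 D733 F2810 F2813 (iv D587) (iv D460) (iv D367) (iv D295) F1202 F1201 (iv D240) (iv F1196) (iv F1453) (iv F1770) (iv F2170) (iv F2714) (iv F3476) (iv D563) F2162 F2161 F2160 (iv D445) F1752 (iv F1513) F1517 F1516 F1515 (iv D307) (iv D249) (iv F1210) F1209 (iv D242) F996 F995 F824 F679 F678 F579 D131 F663 F551 F429 F428 F427 (iv F458) (iv D92) F314 (iv F457) (iv F577) F576 (iv F674) F673 D165 (iv F1000) (iv F1212) F1211 D298 D371 D466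
def n734 : Q := act 5 n579
theorem D734 : act 5 n579 = n734 := rfl
theorem F3508 : act 1 n734 = n581 := d11_1 D734 (iv D581) (iv F2773)
theorem F3509 : act 2 n734 = n734 := d17_1 D734 (iv D734) F2774
theorem F3510 : act 7 n734 = n596 := d31_2 (iv F2776) D734 (iv D596)
def n735 : Q := act 5 n580
theorem D735 : act 5 n580 = n735 := rfl
theorem F3511 : act 2 n735 = n735 := d17_1 D735 (iv D735) F2777
theorem F3512 : act 3 n735 = n581 := d22_1 D735 (iv D581) D580
theorem F3513 : act 7 n735 = n735 := d31_2 F2780 D735 (iv D735)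
def n736 : Q := act 6 n581
theorem D736 : act 6 n581 = n736 := rfl
theorem F3514 : act 2 n736 = n582 := d18_1 D736 (iv D582) (iv F2781)
theorem F3515 : act 5 n736 = n589 := d30_1 D736 (iv D589) (iv D464) (iv F2210) D581
theorem F3516 : act 7 n736 = n597 := d33_2 (iv F2782) D736 (iv D597)
def n737 : Q := act 4 n590
theorem D737 : act 4 n590 = n737 := rfl
theorem F3517 : act 0 n737 = n591 := d3_1 D737 (iv D591) D590
theorem F3518 : act 2 n737 = n737 := d16_1 D737 (iv D737) F2821
theorem F3519 : act 6 n737 = n737 := d27_2 F2824 D737 (iv D737)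
theorem F3520 : act 8 n737 = n737 := d29_2 F2825 D737 (iv D737)
def n738 : Q := act 3 n591
theorem D738 : act 3 n591 = n738 := rfl
theorem F3521 : act 1 n738 = n592 := d9_1 D738 (iv D592) (iv F2826)
theorem F3522 : act 4 n738 = n601 := d21_2 D591 D738 (iv D601) (iv D477) (iv F2246)
theorem F3523 : act 6 n738 = n738 := d23_2 F2828 D738 (iv D738)
theorem F3524 : act 8 n738 = n738 := d25_2 F2829 D738 (iv D738)
def n739 : Q := act 5 n591
theorem D739 : act 5 n591 = n739 := rfl
theorem F3525 : act 1 n739 = n593 := d11_1 D739 (iv D593) (iv F2826)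
theorem F3526 : act 2 n739 = n739 := d17_1 D739 (iv D739) F2827
theorem F3527 : act 4 n739 = n596 := d26_1 D739 (iv D596) (iv D470) (iv F2247) D591
theorem F3528 : act 8 n739 = n739 := d32_2 F2829 D739 (iv D739)
def n740 : Q := act 5 n592
theorem D740 : act 5 n592 = n740 := rfl
theorem F3529 : act 2 n740 = n740 := d17_1 D740 (iv D740) F2830
theorem F3530 : act 3 n740 = n593 := d22_1 D740 (iv D593) D592
theorem F3531 : act 4 n740 = n740 := d26_1 D740 (iv D740) F2831 F2298 (iv F2831)
theorem F3532 : act 8 n740 = n740 := d32_2 F2833 D740 (iv D740)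
def n741 : Q := act 7 n592
theorem D741 : act 7 n592 = n741 := rfl
theorem F3533 : act 2 n741 = n741 := d19_1 D741 (iv D741) F2830
theorem F3534 : act 4 n741 = n602 := d28_1 D741 (iv D602) (iv F2831)
theorem F3535 : act 6 n741 = n741 := d33_1 D741 (iv D741) F2832
def n742 : Q := act 6 n593
theorem D742 : act 6 n593 = n742 := rfl
theorem F3536 : act 2 n742 = n594 := d18_1 D742 (iv D594) (iv F2834)
theorem F3537 : act 4 n742 = n597 := d27_1 D742 (iv D597) (iv F2835)
theorem F3538 : act 5 n742 = n742 := d30_1 D742 (iv D742) (iv D593) F2251 D593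
theorem F3539 : act 8 n742 = n742 := d34_2 F2836 D742 (iv D742)
def n743 : Q := act 5 n595
theorem D743 : act 5 n595 = n743 := rfl
theorem F3540 : act 0 n743 = n596 := d4_1 D743 (iv D596) (iv F2842)
theorem F3541 : act 2 n743 = n743 := d17_1 D743 (iv D743) F2843
theorem F3542 : act 3 n743 = n743 := d22_1 D743 (iv D743) F2844
theorem F3543 : act 8 n743 = n743 := d32_2 F2846 D743 (iv D743)
def n744 : Q := act 6 n596
theorem D744 : act 6 n596 = n744 := rfl
theorem F3544 : act 1 n744 = n597 := d12_1 D744 (iv D597) (iv F2847)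
theorem F3545 : act 2 n744 = n744 := d18_1 D744 (iv D744) F2848
theorem F3546 : act 3 n744 = n744 := d23_1 D744 (iv D744) F2849
theorem F3547 : act 5 n744 = n599 := d30_1 D744 (iv D599) (iv D474) (iv F2264) D596
theorem F3548 : act 8 n744 = n744 := d34_2 F2850 D744 (iv D744)
def n745 : Q := act 6 n598
theorem D745 : act 6 n598 = n745 := rfl
theorem F3549 : act 0 n745 = n599 := d5_1 D745 (iv D599) (iv F2855)
theorem F3550 : act 2 n745 = n745 := d18_1 D745 (iv D745) F2856
theorem F3551 : act 3 n745 = n745 := d23_1 D745 (iv D745) F2857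
theorem F3552 : act 4 n745 = n745 := d27_1 D745 (iv D745) F2858
theorem F3553 : act 8 n745 = n745 := d34_2 F2859 D745 (iv D745)
def n746 : Q := act 3 n600
theorem D746 : act 3 n600 = n746 := rfl
theorem F3554 : act 0 n746 = n601 := d2_1 D746 (iv D601) (iv F2865)
theorem F3555 : act 5 n746 = n746 := d22_2 F2867 D746 (iv D746)
theorem F3556 : act 6 n746 = n746 := d23_2 F2868 D746 (iv D746)
theorem F3557 : act 8 n746 = n746 := d25_2 F2870 D746 (iv D746)
def n747 : Q := act 7 n603
theorem D747 : act 7 n603 = n747 := rfl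
theorem F3558 : act 0 n747 = n747 := d6_1 D747 (iv D747) F2879
theorem F3559 : act 1 n747 = n747 := d13_1 D747 (iv D747) F2880
theorem F3560 : act 2 n747 = n747 := d19_1 D747 (iv D747) F2881
theorem F3561 : act 4 n747 = n747 := d28_1 D747 (iv D747) F2883
theorem F3562 : act 5 n747 = n747 := d31_1 D747 (iv D747) F2884
theorem F3563 : act 6 n747 = n747 := d33_1 D747 (iv D747) F2885
theorem F3564 : act 8 n747 = n747 := d35_2 D603 D747 (iv D747) (iv D603) F2307
def n748 : Q := act 7 n604
theorem D748 : act 7 n604 = n748 := rfl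
theorem F3565 : act 0 n748 = n748 := d6_1 D748 (iv D748) F2886
theorem F3566 : act 1 n748 = n748 := d13_1 D748 (iv D748) F2887
theorem F3567 : act 2 n748 = n623 := d19_1 D748 (iv D623) (iv F2888)
theorem F3568 : act 4 n748 = n607 := d28_1 D748 (iv D607) (iv F2890)
theorem F3569 : act 5 n748 = n748 := d31_1 D748 (iv D748) F2891
theorem F3570 : act 6 n748 = n748 := d33_1 D748 (iv D748) F2892
theorem F3571 : act 8 n748 = n605 := d35_2 D604 D748 (iv D605) (iv D481) D480
def n749 : Q := act 3 n605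
theorem D749 : act 3 n605 = n749 := rfl
theorem F3572 : act 0 n749 = n749 := d2_1 D749 (iv D749) F2893
theorem F3573 : act 1 n749 = n749 := d9_1 D749 (iv D749) F2894
theorem F3574 : act 5 n749 = n749 := d22_2 F2897 D749 (iv D749)
theorem F3575 : act 6 n749 = n749 := d23_2 F2898 D749 (iv D749)
def n750 : Q := act 7 n606
theorem D750 : act 7 n606 = n750 := rfl
theorem F3576 : act 0 n750 = n750 := d6_1 D750 (iv D750) F2899
theorem F3577 : act 1 n750 = n750 := d13_1 D750 (iv D750) F2900
theorem F3578 : act 2 n750 = n750 := d19_1 D750 (iv D750) F2901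
theorem F3579 : act 4 n750 = n750 := d28_1 D750 (iv D750) F2903
theorem F3580 : act 5 n750 = n610 := d31_1 D750 (iv D610) (iv F2904)
theorem F3581 : act 6 n750 = n750 := d33_1 D750 (iv D750) F2905
theorem F3582 : act 8 n750 = n750 := d35_2 D606 D750 (iv D750) (iv D606) F2327
def n751 : Q := act 3 n607
theorem D751 : act 3 n607 = n751 := rfl
theorem F3583 : act 0 n751 = n751 := d2_1 D751 (iv D751) F2906
theorem F3584 : act 1 n751 = n751 := d9_1 D751 (iv D751) F2907
theorem F3585 : act 5 n751 = n611 := d22_2 (iv F2909) D751 (iv D611)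
theorem F3586 : act 6 n751 = n751 := d23_2 F2910 D751 (iv D751)
theorem F3587 : act 8 n751 = n608 := d25_2 (iv F2911) D751 (iv D608)
def n752 : Q := act 2 n608
theorem D752 : act 2 n608 = n752 := rfl
theorem F3588 : act 0 n752 = n752 := d1_1 D752 (iv D752) F2912
theorem F3589 : act 3 n752 = n626 := d15_2 D608 D752 (iv D626) (iv D499) (iv F2335)
theorem F3590 : act 5 n752 = n612 := d17_2 (iv F2914) D752 (iv D612)
theorem F3591 : act 6 n752 = n752 := d18_2 F2915 D752 (iv D752)
theorem F3592 : act 7 n752 = n752 := d19_2 F2916 D752 (iv D752)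
def n753 : Q := act 4 n608
theorem D753 : act 4 n608 = n753 := rfl
theorem F3593 : act 0 n753 = n753 := d3_1 D753 (iv D753) F2912
theorem F3594 : act 1 n753 = n753 := d10_1 D753 (iv D753) F2913
theorem F3595 : act 6 n753 = n753 := d27_2 F2915 D753 (iv D753)
theorem F3596 : act 7 n753 = n753 := d28_2 F2916 D753 (iv D753)
def n754 : Q := act 3 n610
theorem D754 : act 3 n610 = n754 := rfl
theorem F3597 : act 0 n754 = n754 := d2_1 D754 (iv D754) F2924
theorem F3598 : act 1 n754 = n754 := d9_1 D754 (iv D754) F2925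
theorem F3599 : act 4 n754 = n659 := d21_2 (iv F3280) D754 F3146 F2520 (iv F2531)
theorem F3600 : act 6 n754 = n616 := d23_2 (iv F2927) D754 (iv D616)
theorem F3601 : act 7 n754 = n611 := d24_2 D610 D754 (iv D611) (iv D487) (iv F2348)
theorem F3602 : act 8 n754 = n754 := d25_2 F2928 D754 (iv D754)
def n755 : Q := act 2 n611
theorem D755 : act 2 n611 = n755 := rfl
theorem F3603 : act 0 n755 = n755 := d1_1 D755 (iv D755) F2929
theorem F3604 : act 3 n755 = n628 := d15_2 D611 D755 (iv D628) (iv D500) (iv F2352)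
theorem F3605 : act 6 n755 = n617 := d18_2 (iv F2931) D755 (iv D617)
theorem F3606 : act 8 n755 = n612 := d20_2 (iv F2932) D755 (iv D612)
def n756 : Q := act 4 n611
theorem D756 : act 4 n611 = n756 := rfl
theorem F3607 : act 0 n756 = n756 := d3_1 D756 (iv D756) F2929
theorem F3608 : act 1 n756 = n756 := d10_1 D756 (iv D756) F2930
theorem F3609 : act 3 n756 = n756 := d21_1 D756 (iv D756) (iv D611) F2353 D611
theorem F3610 : act 6 n756 = n618 := d27_2 (iv F2931) D756 (iv D618)
theorem F3611 : act 7 n756 = n659 := d28_2 F3601 D756 (iv F3599)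
theorem F3612 : act 8 n756 = n613 := d29_2 (iv F2932) D756 (iv D613)
def n757 : Q := act 1 n612
theorem D757 : act 1 n612 = n757 := rfl
theorem F3613 : act 2 n757 = n757 := d8_2 D612 D757 (iv D757) (iv D612) F2357
theorem F3614 : act 3 n757 = n630 := d9_2 (iv F2934) D757 (iv D630)
theorem F3615 : act 6 n757 = n619 := d12_2 (iv F2935) D757 (iv D619)
theorem F3616 : act 7 n757 = n757 := d13_2 F2936 D757 (iv D757)
def n758 : Q := act 4 n612
theorem D758 : act 4 n612 = n758 := rfl
theorem F3617 : act 0 n758 = n758 := d3_1 D758 (iv D758) F2933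
theorem F3618 : act 2 n758 = n613 := d16_1 D758 (iv D613) D612
theorem F3619 : act 6 n758 = n620 := d27_2 (iv F2935) D758 (iv D620)
theorem F3620 : act 7 n758 = n758 := d28_2 F2936 D758 (iv D758)
def n759 : Q := act 5 n613
theorem D759 : act 5 n613 = n759 := rfl
theorem F3621 : act 0 n759 = n759 := d4_1 D759 (iv D759) F2937
theorem F3622 : act 1 n759 = n759 := d11_1 D759 (iv D759) F2938
theorem F3623 : act 3 n759 = n759 := d22_1 D759 (iv D759) F2939
theorem F3624 : act 7 n759 = n759 := d31_2 F2941 D759 (iv D759)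
def n760 : Q := act 2 n616
theorem D760 : act 2 n616 = n760 := rfl
theorem F3625 : act 0 n760 = n760 := d1_1 D760 (iv D760) F2954
theorem F3626 : act 3 n760 = n760 := d15_2 D616 D760 (iv D760) (iv D616) F2374
theorem F3627 : act 4 n760 = n652 := d16_2 (iv F3279) D760 F3113
theorem F3628 : act 5 n760 = n760 := d17_2 F2956 D760 (iv D760)
theorem F3629 : act 7 n760 = n617 := d19_2 (iv F2957) D760 (iv D617)
theorem F3630 : act 8 n760 = n760 := d20_2 F2958 D760 (iv D760)
def n761 : Q := act 1 n617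
theorem D761 : act 1 n617 = n761 := rfl
theorem F3631 : act 2 n761 = n761 := d8_2 D617 D761 (iv D761) (iv D617) F2378
theorem F3632 : act 3 n761 = n633 := d9_2 (iv F2960) D761 (iv D633)
theorem F3633 : act 5 n761 = n761 := d11_2 F2961 D761 (iv D761)
theorem F3634 : act 8 n761 = n619 := d14_2 (iv F2962) D761 (iv D619)
def n762 : Q := act 4 n617
theorem D762 : act 4 n617 = n762 := rfl
theorem F3635 : act 0 n762 = n762 := d3_1 D762 (iv D762) F2959
theorem F3636 : act 2 n762 = n618 := d16_1 D762 (iv D618) D617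
theorem F3637 : act 7 n762 = n652 := d28_2 F3629 D762 (iv F3627)
theorem F3638 : act 8 n762 = n620 := d29_2 (iv F2962) D762 (iv D620)
theorem F3639 : act 5 n653 = n762 := d31_3 F3637 (iv D652) D653
def n763 : Q := act 0 n619
theorem D763 : act 0 n619 = n763 := rfl
theorem F3640 : act 1 n763 = n763 := d0_2 D619 D763 (iv D763) (iv D619) F2381
theorem F3641 : act 2 n763 = n763 := d1_2 F2967 D763 (iv D763)
theorem F3642 : act 3 n763 = n636 := d2_2 (iv F2968) D763 (iv D636)
theorem F3643 : act 5 n763 = n763 := d4_2 F2969 D763 (iv D763)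
theorem F3644 : act 7 n763 = n763 := d6_2 F2970 D763 (iv D763)
def n764 : Q := act 4 n619
theorem D764 : act 4 n619 = n764 := rfl
theorem F3645 : act 1 n764 = n620 := d10_1 D764 (iv D620) D619
theorem F3646 : act 2 n764 = n764 := d16_1 D764 (iv D764) F2967
theorem F3647 : act 7 n764 = n764 := d28_2 F2970 D764 (iv D764)
def n765 : Q := act 3 n620
theorem D765 : act 3 n620 = n765 := rfl
theorem F3648 : act 0 n765 = n765 := d2_1 D765 (iv D765) F2971
theorem F3649 : act 2 n765 = n765 := d15_1 D765 (iv D765) F2972 F2387 (iv F2972)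
theorem F3650 : act 4 n765 = n638 := d21_2 D620 D765 (iv D638) (iv D506) (iv F2382)
def n766 : Q := act 5 n620
theorem D766 : act 5 n620 = n766 := rfl
theorem F3651 : act 0 n766 = n766 := d4_1 D766 (iv D766) F2971
theorem F3652 : act 2 n766 = n621 := d17_1 D766 (iv D621) (iv F2972)
theorem F3653 : act 4 n766 = n766 := d26_1 D766 (iv D766) (iv D620) F2383 D620
theorem F3654 : act 7 n766 = n766 := d31_2 F2973 D766 (iv D766)
theorem F3655 : act 8 n766 = n653 := d32_2 F3638 D766 F3639
def n767 : Q := act 6 n621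
theorem D767 : act 6 n621 = n767 := rfl
theorem F3656 : act 0 n767 = n767 := d5_1 D767 (iv D767) F2974
theorem F3657 : act 1 n767 = n767 := d12_1 D767 (iv D767) F2975
theorem F3658 : act 3 n767 = n767 := d23_1 D767 (iv D767) F2976
theorem F3659 : act 4 n767 = n767 := d27_1 D767 (iv D767) F2977
theorem F3660 : act 7 n767 = n767 := d33_2 F2978 D767 (iv D767)
theorem F3661 : act 8 n767 = n656 := d34_2 (iv F3286) D767 F3131
def n768 : Q := act 7 n622
theorem D768 : act 7 n622 = n768 := rfl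
theorem F3662 : act 0 n768 = n768 := d6_1 D768 (iv D768) F2979
theorem F3663 : act 1 n768 = n667 := d13_1 D768 (iv D667) (iv F2980)
theorem F3664 : act 2 n768 = n768 := d19_1 D768 (iv D768) F2981
theorem F3665 : act 4 n768 = n768 := d28_1 D768 (iv D768) F2983
theorem F3666 : act 5 n768 = n768 := d31_1 D768 (iv D768) F2984
theorem F3667 : act 6 n768 = n768 := d33_1 D768 (iv D768) F2985
theorem F3668 : act 8 n768 = n768 := d35_2 D622 D768 (iv D768) (iv D622) F2395
def n769 : Q := act 3 n623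
theorem D769 : act 3 n623 = n769 := rfl
theorem F3669 : act 0 n769 = n769 := d2_1 D769 (iv D769) F2986
theorem F3670 : act 1 n769 = n668 := d9_1 D769 (iv D668) (iv F2987)
theorem F3671 : act 5 n769 = n769 := d22_2 F2989 D769 (iv D769)
theorem F3672 : act 6 n769 = n769 := d23_2 F2990 D769 (iv D769)
theorem F3673 : act 8 n769 = n624 := d25_2 (iv F2991) D769 (iv D624)
def n770 : Q := act 2 n624
theorem D770 : act 2 n624 = n770 := rfl
theorem F3674 : act 0 n770 = n770 := d1_1 D770 (iv D770) F2992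
theorem F3675 : act 5 n770 = n770 := d17_2 F2994 D770 (iv D770)
theorem F3676 : act 6 n770 = n770 := d18_2 F2995 D770 (iv D770)
theorem F3677 : act 7 n770 = n770 := d19_2 F2996 D770 (iv D770)
def n771 : Q := act 4 n624
theorem D771 : act 4 n624 = n771 := rfl
theorem F3678 : act 0 n771 = n771 := d3_1 D771 (iv D771) F2992
theorem F3679 : act 1 n771 = n670 := d10_1 D771 (iv D670) (iv F2993)
theorem F3680 : act 3 n771 = n627 := d21_1 D771 (iv D627) (iv D499) (iv F2403) D624
theorem F3681 : act 6 n771 = n771 := d27_2 F2995 D771 (iv D771)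
theorem F3682 : act 7 n771 = n771 := d28_2 F2996 D771 (iv D771)
def n772 : Q := act 2 n625
theorem D772 : act 2 n625 = n772 := rfl
theorem F3683 : act 0 n772 = n772 := d1_1 D772 (iv D772) F2997
theorem F3684 : act 5 n772 = n628 := d17_2 (iv F2999) D772 (iv D628)
theorem F3685 : act 6 n772 = n772 := d18_2 F3000 D772 (iv D772)
theorem F3686 : act 7 n772 = n772 := d19_2 F3001 D772 (iv D772)
theorem F3687 : act 8 n772 = n626 := d20_2 (iv F3002) D772 (iv D626)
def n773 : Q := act 4 n625
theorem D773 : act 4 n625 = n773 := rfl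
theorem F3688 : act 0 n773 = n773 := d3_1 D773 (iv D773) F2997
theorem F3689 : act 1 n773 = n672 := d10_1 D773 (iv D672) (iv F2998)
theorem F3690 : act 6 n773 = n773 := d27_2 F3000 D773 (iv D773)
theorem F3691 : act 7 n773 = n773 := d28_2 F3001 D773 (iv D773)
theorem F3692 : act 8 n773 = n627 := d29_2 (iv F3002) D773 (iv D627)
def n774 : Q := act 1 n626
theorem D774 : act 1 n626 = n774 := rfl
theorem F3693 : act 2 n774 = n673 := d8_2 D626 D774 (iv D673) (iv D533) (iv F2412)
theorem F3694 : act 5 n774 = n630 := d11_2 (iv F3004) D774 (iv D630)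
theorem F3695 : act 6 n774 = n774 := d12_2 F3005 D774 (iv D774)
theorem F3696 : act 7 n774 = n641 := d13_2 (iv F3006) D774 (iv D641)
def n775 : Q := act 4 n626
theorem D775 : act 4 n626 = n775 := rfl
theorem F3697 : act 0 n775 = n775 := d3_1 D775 (iv D775) F3003
theorem F3698 : act 2 n775 = n627 := d16_1 D775 (iv D627) D626
theorem F3699 : act 6 n775 = n775 := d27_2 F3005 D775 (iv D775)
theorem F3700 : act 7 n775 = n642 := d28_2 (iv F3006) D775 (iv D642)
def n776 : Q := act 5 n627
theorem D776 : act 5 n627 = n776 := rfl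
theorem F3701 : act 0 n776 = n776 := d4_1 D776 (iv D776) F3007
theorem F3702 : act 1 n776 = n675 := d11_1 D776 (iv D675) (iv F3008)
theorem F3703 : act 4 n776 = n632 := d26_1 D776 (iv D632) (iv D502) (iv F2413) D627
theorem F3704 : act 7 n776 = n643 := d31_2 (iv F3010) D776 (iv D643)
def n777 : Q := act 1 n628
theorem D777 : act 1 n628 = n777 := rfl
theorem F3705 : act 2 n777 = n676 := d8_2 D628 D777 (iv D676) (iv D535) (iv F2417)
theorem F3706 : act 6 n777 = n633 := d12_2 (iv F3012) D777 (iv D633)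
theorem F3707 : act 7 n777 = n777 := d13_2 F3013 D777 (iv D777)
theorem F3708 : act 8 n777 = n630 := d14_2 (iv F3014) D777 (iv D630)
def n778 : Q := act 4 n628
theorem D778 : act 4 n628 = n778 := rfl
theorem F3709 : act 0 n778 = n778 := d3_1 D778 (iv D778) F3011
theorem F3710 : act 2 n778 = n629 := d16_1 D778 (iv D629) D628
theorem F3711 : act 6 n778 = n634 := d27_2 (iv F3012) D778 (iv D634)
theorem F3712 : act 7 n778 = n778 := d28_2 F3013 D778 (iv D778)
theorem F3713 : act 8 n778 = n631 := d29_2 (iv F3014) D778 (iv D631)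
def n779 : Q := act 5 n629
theorem D779 : act 5 n629 = n779 := rfl
theorem F3714 : act 0 n779 = n779 := d4_1 D779 (iv D779) F3015
theorem F3715 : act 1 n779 = n678 := d11_1 D779 (iv D678) (iv F3016)
theorem F3716 : act 3 n779 = n779 := d22_1 D779 (iv D779) F3017
theorem F3717 : act 7 n779 = n779 := d31_2 F3019 D779 (iv D779)
theorem F3718 : act 8 n779 = n632 := d32_2 (iv F3020) D779 (iv D632)
def n780 : Q := act 0 n630
theorem D780 : act 0 n630 = n780 := rfl
theorem F3719 : act 1 n780 = n780 := d0_2 D630 D780 (iv D780) (iv D630) F2421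
theorem F3720 : act 2 n780 = n679 := d1_2 (iv F3021) D780 (iv D679)
theorem F3721 : act 6 n780 = n636 := d5_2 (iv F3022) D780 (iv D636)
theorem F3722 : act 7 n780 = n644 := d6_2 (iv F3023) D780 (iv D644)
def n781 : Q := act 4 n630
theorem D781 : act 4 n630 = n781 := rfl
theorem F3723 : act 1 n781 = n631 := d10_1 D781 (iv D631) D630
theorem F3724 : act 2 n781 = n680 := d16_1 D781 (iv D680) (iv F3021)
theorem F3725 : act 6 n781 = n637 := d27_2 (iv F3022) D781 (iv D637)
theorem F3726 : act 7 n781 = n645 := d28_2 (iv F3023) D781 (iv D645)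
def n782 : Q := act 3 n631
theorem D782 : act 3 n631 = n782 := rfl
theorem F3727 : act 0 n782 = n782 := d2_1 D782 (iv D782) F3024
theorem F3728 : act 2 n782 = n782 := d15_1 D782 (iv D782) F3025 F2426 (iv F3025)
theorem F3729 : act 6 n782 = n638 := d23_2 (iv F3026) D782 (iv D638)
def n783 : Q := act 5 n631
theorem D783 : act 5 n631 = n783 := rfl
theorem F3730 : act 0 n783 = n783 := d4_1 D783 (iv D783) F3024
theorem F3731 : act 2 n783 = n632 := d17_1 D783 (iv D632) (iv F3025)
theorem F3732 : act 7 n783 = n647 := d31_2 (iv F3027) D783 (iv D647)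
def n784 : Q := act 6 n632
theorem D784 : act 6 n632 = n784 := rfl
theorem F3733 : act 0 n784 = n784 := d5_1 D784 (iv D784) F3028
theorem F3734 : act 1 n784 = n683 := d12_1 D784 (iv D683) (iv F3029)
theorem F3735 : act 3 n784 = n784 := d23_1 D784 (iv D784) F3030
theorem F3736 : act 5 n784 = n640 := d30_1 D784 (iv D640) (iv D507) (iv F2427) D632
theorem F3737 : act 7 n784 = n648 := d33_2 (iv F3031) D784 (iv D648)
def n785 : Q := act 0 n633
theorem D785 : act 0 n633 = n785 := rfl
theorem F3738 : act 1 n785 = n785 := d0_2 D633 D785 (iv D785) (iv D633) F2429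
theorem F3739 : act 2 n785 = n684 := d1_2 (iv F3032) D785 (iv D684)
theorem F3740 : act 5 n785 = n785 := d4_2 F3033 D785 (iv D785)
theorem F3741 : act 7 n785 = n785 := d6_2 F3034 D785 (iv D785)
theorem F3742 : act 8 n785 = n636 := d7_2 (iv F3035) D785 (iv D636)
def n786 : Q := act 4 n633
theorem D786 : act 4 n633 = n786 := rfl
theorem F3743 : act 1 n786 = n634 := d10_1 D786 (iv D634) D633
theorem F3744 : act 2 n786 = n685 := d16_1 D786 (iv D685) (iv F3032)
theorem F3745 : act 7 n786 = n786 := d28_2 F3034 D786 (iv D786)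
theorem F3746 : act 8 n786 = n637 := d29_2 (iv F3035) D786 (iv D637)
def n787 : Q := act 3 n634
theorem D787 : act 3 n634 = n787 := rfl
theorem F3747 : act 0 n787 = n787 := d2_1 D787 (iv D787) F3036
theorem F3748 : act 2 n787 = n787 := d15_1 D787 (iv D787) F3037 F2435 (iv F3037)
theorem F3749 : act 8 n787 = n638 := d25_2 (iv F3039) D787 (iv D638)
def n788 : Q := act 5 n634
theorem D788 : act 5 n634 = n788 := rfl
theorem F3750 : act 0 n788 = n788 := d4_1 D788 (iv D788) F3036
theorem F3751 : act 2 n788 = n635 := d17_1 D788 (iv D635) (iv F3037)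
theorem F3752 : act 4 n788 = n788 := d26_1 D788 (iv D788) (iv D634) F2430 D634
theorem F3753 : act 7 n788 = n788 := d31_2 F3038 D788 (iv D788)
theorem F3754 : act 8 n788 = n639 := d32_2 (iv F3039) D788 (iv D639)
def n789 : Q := act 6 n635
theorem D789 : act 6 n635 = n789 := rfl
theorem F3755 : act 0 n789 = n789 := d5_1 D789 (iv D789) F3040
theorem F3756 : act 1 n789 = n688 := d12_1 D789 (iv D688) (iv F3041)
theorem F3757 : act 3 n789 = n789 := d23_1 D789 (iv D789) F3042
theorem F3758 : act 4 n789 = n789 := d27_1 D789 (iv D789) F3043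
theorem F3759 : act 7 n789 = n789 := d33_2 F3044 D789 (iv D789)
theorem F3760 : act 8 n789 = n640 := d34_2 (iv F3045) D789 (iv D640)
def n790 : Q := act 4 n636
theorem D790 : act 4 n636 = n790 := rfl
theorem F3761 : act 0 n790 = n637 := d3_1 D790 (iv D637) D636
theorem F3762 : act 1 n790 = n790 := d10_1 D790 (iv D790) F3046
theorem F3763 : act 2 n790 = n689 := d16_1 D790 (iv D689) (iv F3047)
theorem F3764 : act 7 n790 = n649 := d28_2 (iv F3049) D790 (iv D649)
def n791 : Q := act 3 n637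
theorem D791 : act 3 n637 = n791 := rfl
theorem F3765 : act 1 n791 = n638 := d9_1 D791 (iv D638) (iv F3050)
def n792 : Q := act 5 n637
theorem D792 : act 5 n637 = n792 := rfl
theorem F3766 : act 1 n792 = n639 := d11_1 D792 (iv D639) (iv F3050)
theorem F3767 : act 2 n792 = n691 := d17_1 D792 (iv D691) (iv F3051)
theorem F3768 : act 4 n792 = n792 := d26_1 D792 (iv D792) (iv D637) F2439 D637
theorem F3769 : act 7 n792 = n651 := d31_2 (iv F3052) D792 (iv D651)
def n793 : Q := act 5 n638
theorem D793 : act 5 n638 = n793 := rfl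
theorem F3770 : act 0 n793 = n793 := d4_1 D793 (iv D793) F3053
theorem F3771 : act 2 n793 = n793 := d17_1 D793 (iv D793) F3054
theorem F3772 : act 3 n793 = n639 := d22_1 D793 (iv D639) D638
def n794 : Q := act 7 n638
theorem D794 : act 7 n638 = n794 := rfl
theorem F3773 : act 0 n794 = n794 := d6_1 D794 (iv D794) F3053
theorem F3774 : act 2 n794 = n794 := d19_1 D794 (iv D794) F3054
theorem F3775 : act 3 n794 = n653 := d24_1 D794 (iv D653) (iv D515) (iv F2443) D638
def n795 : Q := act 6 n639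
theorem D795 : act 6 n639 = n795 := rfl
theorem F3776 : act 0 n795 = n795 := d5_1 D795 (iv D795) F3055
theorem F3777 : act 2 n795 = n640 := d18_1 D795 (iv D640) (iv F3056)
theorem F3778 : act 4 n795 = n795 := d27_1 D795 (iv D795) F3057
theorem F3779 : act 7 n795 = n654 := d33_2 (iv F3058) D795 (iv D654)
def n796 : Q := act 0 n641
theorem D796 : act 0 n641 = n796 := rfl
theorem F3780 : act 1 n796 = n796 := d0_2 D641 D796 (iv D796) (iv D641) F2449
theorem F3781 : act 2 n796 = n694 := d1_2 (iv F3064) D796 (iv D694)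
theorem F3782 : act 3 n796 = n796 := d2_2 F3065 D796 (iv D796)
theorem F3783 : act 5 n796 = n644 := d4_2 (iv F3066) D796 (iv D644)
theorem F3784 : act 6 n796 = n796 := d5_2 F3067 D796 (iv D796)
theorem F3785 : act 8 n796 = n796 := d7_2 F3068 D796 (iv D796)
def n797 : Q := act 4 n641
theorem D797 : act 4 n641 = n797 := rfl
theorem F3786 : act 1 n797 = n642 := d10_1 D797 (iv D642) D641
theorem F3787 : act 2 n797 = n695 := d16_1 D797 (iv D695) (iv F3064)
theorem F3788 : act 6 n797 = n797 := d27_2 F3067 D797 (iv D797)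
theorem F3789 : act 8 n797 = n797 := d29_2 F3068 D797 (iv D797)
def n798 : Q := act 3 n642
theorem D798 : act 3 n642 = n798 := rfl
theorem F3790 : act 0 n798 = n798 := d2_1 D798 (iv D798) F3069
theorem F3791 : act 2 n798 = n798 := d15_1 D798 (iv D798) F3070 F2456 (iv F3070)
theorem F3792 : act 4 n798 = n798 := d21_2 D642 D798 (iv D798) (iv D642) F2450
theorem F3793 : act 6 n798 = n798 := d23_2 F3071 D798 (iv D798)
theorem F3794 : act 8 n798 = n798 := d25_2 F3072 D798 (iv D798)
def n799 : Q := act 5 n642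
theorem D799 : act 5 n642 = n799 := rfl
theorem F3795 : act 0 n799 = n799 := d4_1 D799 (iv D799) F3069
theorem F3796 : act 2 n799 = n643 := d17_1 D799 (iv D643) (iv F3070)
theorem F3797 : act 4 n799 = n647 := d26_1 D799 (iv D647) (iv D511) (iv F2451) D642
theorem F3798 : act 8 n799 = n799 := d32_2 F3072 D799 (iv D799)
def n800 : Q := act 6 n643
theorem D800 : act 6 n643 = n800 := rfl
theorem F3799 : act 0 n800 = n800 := d5_1 D800 (iv D800) F3073
theorem F3800 : act 1 n800 = n698 := d12_1 D800 (iv D698) (iv F3074)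
theorem F3801 : act 3 n800 = n800 := d23_1 D800 (iv D800) F3075
theorem F3802 : act 4 n800 = n648 := d27_1 D800 (iv D648) (iv F3076)
theorem F3803 : act 5 n800 = n800 := d30_1 D800 (iv D800) (iv D643) F2457 D643
theorem F3804 : act 8 n800 = n800 := d34_2 F3077 D800 (iv D800)
def n801 : Q := act 4 n644
theorem D801 : act 4 n644 = n801 := rfl
theorem F3805 : act 0 n801 = n645 := d3_1 D801 (iv D645) D644
theorem F3806 : act 1 n801 = n801 := d10_1 D801 (iv D801) F3078
theorem F3807 : act 2 n801 = n699 := d16_1 D801 (iv D699) (iv F3079)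
theorem F3808 : act 6 n801 = n649 := d27_2 (iv F3081) D801 (iv D649)
theorem F3809 : act 8 n801 = n801 := d29_2 F3082 D801 (iv D801)
def n802 : Q := act 3 n645
theorem D802 : act 3 n645 = n802 := rfl
theorem F3810 : act 1 n802 = n646 := d9_1 D802 (iv D646) (iv F3083)
theorem F3811 : act 2 n802 = n802 := d15_1 D802 (iv D802) F3084 F2649 (iv F3084)
theorem F3812 : act 4 n802 = n802 := d21_2 D645 D802 (iv D802) (iv D645) F2460
theorem F3813 : act 6 n802 = n650 := d23_2 (iv F3085) D802 (iv D650)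
theorem F3814 : act 8 n802 = n802 := d25_2 F3086 D802 (iv D802)
def n803 : Q := act 5 n645
theorem D803 : act 5 n645 = n803 := rfl
theorem F3815 : act 1 n803 = n647 := d11_1 D803 (iv D647) (iv F3083)
theorem F3816 : act 2 n803 = n700 := d17_1 D803 (iv D700) (iv F3084)
theorem F3817 : act 8 n803 = n803 := d32_2 F3086 D803 (iv D803)
def n804 : Q := act 5 n646
theorem D804 : act 5 n646 = n804 := rfl
theorem F3818 : act 0 n804 = n804 := d4_1 D804 (iv D804) F3087
theorem F3819 : act 2 n804 = n655 := d17_1 D804 (iv D655) (iv F3088)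
theorem F3820 : act 3 n804 = n647 := d22_1 D804 (iv D647) D646
theorem F3821 : act 8 n804 = n804 := d32_2 F3091 D804 (iv D804)
def n805 : Q := act 7 n646
theorem D805 : act 7 n646 = n805 := rfl
theorem F3822 : act 0 n805 = n805 := d6_1 D805 (iv D805) F3087
theorem F3823 : act 2 n805 = n656 := d19_1 D805 (iv D656) (iv F3088)
theorem F3824 : act 4 n805 = n805 := d28_1 D805 (iv D805) F3089
theorem F3825 : act 6 n805 = n653 := d33_1 D805 (iv D653) (iv F3090)
def n806 : Q := act 6 n647
theorem D806 : act 6 n647 = n806 := rfl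
theorem F3826 : act 0 n806 = n806 := d5_1 D806 (iv D806) F3092
theorem F3827 : act 2 n806 = n648 := d18_1 D806 (iv D648) (iv F3093)
theorem F3828 : act 5 n806 = n654 := d30_1 D806 (iv D654) (iv D516) (iv F2465) D647
theorem F3829 : act 8 n806 = n806 := d34_2 F3094 D806 (iv D806)
def n807 : Q := act 3 n649
theorem D807 : act 3 n649 = n807 := rfl
theorem F3830 : act 0 n807 = n650 := d2_1 D807 (iv D650) (iv F3100)
theorem F3831 : act 1 n807 = n807 := d9_1 D807 (iv D807) F3101
theorem F3832 : act 2 n807 = n807 := d15_1 D807 (iv D807) F3102 F2662 (iv F3102)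
theorem F3833 : act 4 n807 = n807 := d21_2 D649 D807 (iv D807) (iv D649) F2473
theorem F3834 : act 8 n807 = n807 := d25_2 F3103 D807 (iv D807)
def n808 : Q := act 5 n649
theorem D808 : act 5 n649 = n808 := rfl
theorem F3835 : act 0 n808 = n651 := d4_1 D808 (iv D651) (iv F3100)
theorem F3836 : act 1 n808 = n808 := d11_1 D808 (iv D808) F3101
theorem F3837 : act 2 n808 = n702 := d17_1 D808 (iv D702) (iv F3102)
theorem F3838 : act 4 n808 = n808 := d26_1 D808 (iv D808) (iv D649) F2474 D649
theorem F3839 : act 8 n808 = n808 := d32_2 F3103 D808 (iv D808)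
def n809 : Q := act 5 n650
theorem D809 : act 5 n650 = n809 := rfl
theorem F3840 : act 1 n809 = n652 := d11_1 D809 (iv D652) (iv F3104)
theorem F3841 : act 2 n809 = n809 := d17_1 D809 (iv D809) F3105
theorem F3842 : act 3 n809 = n651 := d22_1 D809 (iv D651) D650
theorem F3843 : act 8 n809 = n809 := d32_2 F3107 D809 (iv D809)
def n810 : Q := act 7 n650
theorem D810 : act 7 n650 = n810 := rfl
theorem F3844 : act 1 n810 = n653 := d13_1 D810 (iv D653) (iv F3104)
theorem F3845 : act 2 n810 = n810 := d19_1 D810 (iv D810) F3105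
theorem F3846 : act 4 n810 = n810 := d28_1 D810 (iv D810) F3106
def n811 : Q := act 6 n651
theorem D811 : act 6 n651 = n811 := rfl
theorem F3847 : act 1 n811 = n654 := d12_1 D811 (iv D654) (iv F3108)
theorem F3848 : act 2 n811 = n703 := d18_1 D811 (iv D703) (iv F3109)
theorem F3849 : act 4 n811 = n811 := d27_1 D811 (iv D811) F3110
theorem F3850 : act 8 n811 = n811 := d34_2 F3111 D811 (iv D811)
def n812 : Q := act 6 n652
theorem D812 : act 6 n652 = n812 := rfl
theorem F3851 : act 0 n812 = n812 := d5_1 D812 (iv D812) F3112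
theorem F3852 : act 2 n812 = n659 := d18_1 D812 (iv D659) (iv F3113)
theorem F3853 : act 3 n812 = n654 := d23_1 D812 (iv D654) (iv F3114)
theorem F3854 : act 8 n812 = n812 := d34_2 F3115 D812 (iv D812)
def n813 : Q := act 4 n655
theorem D813 : act 4 n655 = n813 := rfl
theorem F3855 : act 0 n813 = n813 := d3_1 D813 (iv D813) F3123
theorem F3856 : act 1 n813 = n813 := d10_1 D813 (iv D813) F3124
theorem F3857 : act 3 n813 = n813 := d21_1 D813 (iv D813) F3125 F2500 (iv F3125)
theorem F3858 : act 5 n813 = n813 := d26_2 D655 D813 (iv D813) (iv D655) F2494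
theorem F3859 : act 8 n813 = n813 := d29_2 F3126 D813 (iv D813)
def n814 : Q := act 6 n655
theorem D814 : act 6 n655 = n814 := rfl
theorem F3860 : act 0 n814 = n814 := d5_1 D814 (iv D814) F3123
theorem F3861 : act 1 n814 = n814 := d12_1 D814 (iv D814) F3124
theorem F3862 : act 3 n814 = n657 := d23_1 D814 (iv D657) (iv F3125)
theorem F3863 : act 5 n814 = n659 := d30_1 D814 (iv D659) (iv D521) (iv F2495) D655
theorem F3864 : act 8 n814 = n814 := d34_2 F3126 D814 (iv D814)
def n815 : Q := act 7 n655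
theorem D815 : act 7 n655 = n815 := rfl
theorem F3865 : act 0 n815 = n815 := d6_1 D815 (iv D815) F3123
theorem F3866 : act 1 n815 = n815 := d13_1 D815 (iv D815) F3124
theorem F3867 : act 3 n815 = n815 := d24_1 D815 (iv D815) F3125 F2501 (iv F3125)
theorem F3868 : act 5 n815 = n656 := d31_1 D815 (iv D656) D655
def n816 : Q := act 3 n667
theorem D816 : act 3 n667 = n816 := rfl
theorem F3869 : act 0 n816 = n713 := d2_1 D816 (iv D713) (iv F3186)
theorem F3870 : act 2 n816 = n746 := d15_1 D816 (iv D746) F2866 D707 (iv F3479)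
theorem F3871 : act 5 n816 = n816 := d22_2 F3188 D816 (iv D816)
theorem F3872 : act 6 n816 = n816 := d23_2 F3189 D816 (iv D816)
theorem F3873 : act 7 n816 = n668 := d24_2 D667 D816 (iv D668) (iv D530) (iv F2554)
theorem F3874 : act 8 n816 = n816 := d25_2 F3190 D816 (iv D816)
def n817 : Q := act 2 n668
theorem D817 : act 2 n668 = n817 := rfl
theorem F3875 : act 0 n817 = n714 := d1_1 D817 (iv D714) (iv F3191)
theorem F3876 : act 3 n817 = n817 := d15_2 D668 D817 (iv D817) (iv D668) F2559
theorem F3877 : act 5 n817 = n817 := d17_2 F3192 D817 (iv D817)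
theorem F3878 : act 6 n817 = n817 := d18_2 F3193 D817 (iv D817)
theorem F3879 : act 7 n817 = n746 := d19_2 F3873 D817 (iv F3870)
theorem F3880 : act 8 n817 = n669 := d20_2 (iv F3194) D817 (iv D669)
def n818 : Q := act 4 n668
theorem D818 : act 4 n668 = n818 := rfl
theorem F3881 : act 0 n818 = n715 := d3_1 D818 (iv D715) (iv F3191)
theorem F3882 : act 3 n818 = n672 := d21_1 D818 (iv D672) (iv D532) (iv F2560) D668
theorem F3883 : act 6 n818 = n818 := d27_2 F3193 D818 (iv D818)
theorem F3884 : act 8 n818 = n670 := d29_2 (iv F3194) D818 (iv D670)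
def n819 : Q := act 1 n669
theorem D819 : act 1 n669 = n819 := rfl
theorem F3885 : act 3 n819 = n819 := d9_2 F3196 D819 (iv D819)
theorem F3886 : act 5 n819 = n819 := d11_2 F3197 D819 (iv D819)
theorem F3887 : act 6 n819 = n819 := d12_2 F3198 D819 (iv D819)
theorem F3888 : act 7 n819 = n819 := d13_2 F3199 D819 (iv D819)
def n820 : Q := act 4 n669
theorem D820 : act 4 n669 = n820 := rfl
theorem F3889 : act 0 n820 = n717 := d3_1 D820 (iv D717) (iv F3195)
theorem F3890 : act 2 n820 = n670 := d16_1 D820 (iv D670) D669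
theorem F3891 : act 6 n820 = n820 := d27_2 F3198 D820 (iv D820)
theorem F3892 : act 7 n820 = n820 := d28_2 F3199 D820 (iv D820)
def n821 : Q := act 5 n670
theorem D821 : act 5 n670 = n821 := rfl
theorem F3893 : act 0 n821 = n718 := d4_1 D821 (iv D718) (iv F3200)
theorem F3894 : act 3 n821 = n675 := d22_1 D821 (iv D675) (iv F3201)
theorem F3895 : act 4 n821 = n821 := d26_1 D821 (iv D821) (iv D670) F2565 D670
theorem F3896 : act 7 n821 = n821 := d31_2 F3203 D821 (iv D821)
def n822 : Q := act 1 n671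
theorem D822 : act 1 n671 = n822 := rfl
theorem F3897 : act 3 n822 = n822 := d9_2 F3205 D822 (iv D822)
theorem F3898 : act 5 n822 = n676 := d11_2 (iv F3206) D822 (iv D676)
theorem F3899 : act 6 n822 = n822 := d12_2 F3207 D822 (iv D822)
theorem F3900 : act 7 n822 = n822 := d13_2 F3208 D822 (iv D822)
theorem F3901 : act 8 n822 = n673 := d14_2 (iv F3209) D822 (iv D673)
def n823 : Q := act 4 n671
theorem D823 : act 4 n671 = n823 := rfl
theorem F3902 : act 0 n823 = n720 := d3_1 D823 (iv D720) (iv F3204)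
theorem F3903 : act 2 n823 = n672 := d16_1 D823 (iv D672) D671
theorem F3904 : act 6 n823 = n823 := d27_2 F3207 D823 (iv D823)
theorem F3905 : act 7 n823 = n823 := d28_2 F3208 D823 (iv D823)
theorem F3906 : act 8 n823 = n674 := d29_2 (iv F3209) D823 (iv D674)
def n824 : Q := act 5 n672
theorem D824 : act 5 n672 = n824 := rfl
theorem F3907 : act 0 n824 = n721 := d4_1 D824 (iv D721) (iv F3210)
theorem F3908 : act 4 n824 = n678 := d26_1 D824 (iv D678) (iv D536) (iv F2569) D672
theorem F3909 : act 7 n824 = n824 := d31_2 F3212 D824 (iv D824)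
theorem F3910 : act 8 n824 = n675 := d32_2 (iv F3213) D824 (iv D675)
def n825 : Q := act 0 n673
theorem D825 : act 0 n673 = n825 := rfl
theorem F3911 : act 1 n825 = n722 := d0_2 D673 D825 (iv D722) (iv D572) (iv F2573)
theorem F3912 : act 3 n825 = n825 := d2_2 F3214 D825 (iv D825)
theorem F3913 : act 5 n825 = n679 := d4_2 (iv F3215) D825 (iv D679)
theorem F3914 : act 6 n825 = n825 := d5_2 F3216 D825 (iv D825)
theorem F3915 : act 7 n825 = n694 := d6_2 (iv F3217) D825 (iv D694)
def n826 : Q := act 4 n673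
theorem D826 : act 4 n673 = n826 := rfl
theorem F3916 : act 1 n826 = n674 := d10_1 D826 (iv D674) D673
theorem F3917 : act 6 n826 = n826 := d27_2 F3216 D826 (iv D826)
theorem F3918 : act 7 n826 = n695 := d28_2 (iv F3217) D826 (iv D695)
def n827 : Q := act 3 n674
theorem D827 : act 3 n674 = n827 := rfl
theorem F3919 : act 0 n827 = n724 := d2_1 D827 (iv D724) (iv F3218)
theorem F3920 : act 4 n827 = n827 := d21_2 D674 D827 (iv D827) (iv D674) F2574
theorem F3921 : act 6 n827 = n827 := d23_2 F3220 D827 (iv D827)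
def n828 : Q := act 5 n674
theorem D828 : act 5 n674 = n828 := rfl
theorem F3922 : act 0 n828 = n725 := d4_1 D828 (iv D725) (iv F3218)
theorem F3923 : act 2 n828 = n675 := d17_1 D828 (iv D675) (iv F3219)
theorem F3924 : act 4 n828 = n682 := d26_1 D828 (iv D682) (iv D538) (iv F2575) D674
theorem F3925 : act 7 n828 = n697 := d31_2 (iv F3221) D828 (iv D697)
def n829 : Q := act 6 n675
theorem D829 : act 6 n675 = n829 := rfl
theorem F3926 : act 0 n829 = n726 := d5_1 D829 (iv D726) (iv F3222)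
theorem F3927 : act 4 n829 = n683 := d27_1 D829 (iv D683) (iv F3223)
theorem F3928 : act 5 n829 = n829 := d30_1 D829 (iv D829) (iv D675) F2579 D675
theorem F3929 : act 7 n829 = n698 := d33_2 (iv F3224) D829 (iv D698)
def n830 : Q := act 0 n676
theorem D830 : act 0 n676 = n830 := rfl
theorem F3930 : act 1 n830 = n727 := d0_2 D676 D830 (iv D727) (iv D575) (iv F2581)
theorem F3931 : act 3 n830 = n830 := d2_2 F3225 D830 (iv D830)
theorem F3932 : act 6 n830 = n684 := d5_2 (iv F3226) D830 (iv D684)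
theorem F3933 : act 7 n830 = n830 := d6_2 F3227 D830 (iv D830)
theorem F3934 : act 8 n830 = n679 := d7_2 (iv F3228) D830 (iv D679)
def n831 : Q := act 4 n676
theorem D831 : act 4 n676 = n831 := rfl
theorem F3935 : act 1 n831 = n677 := d10_1 D831 (iv D677) D676
theorem F3936 : act 6 n831 = n685 := d27_2 (iv F3226) D831 (iv D685)
theorem F3937 : act 7 n831 = n831 := d28_2 F3227 D831 (iv D831)
theorem F3938 : act 8 n831 = n680 := d29_2 (iv F3228) D831 (iv D680)
def n832 : Q := act 3 n677
theorem D832 : act 3 n677 = n832 := rfl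
theorem F3939 : act 0 n832 = n729 := d2_1 D832 (iv D729) (iv F3229)
theorem F3940 : act 2 n832 = n832 := d15_1 D832 (iv D832) F3230 F2587 (iv F3230)
theorem F3941 : act 4 n832 = n832 := d21_2 D677 D832 (iv D832) (iv D677) F2582
theorem F3942 : act 6 n832 = n686 := d23_2 (iv F3231) D832 (iv D686)
theorem F3943 : act 8 n832 = n681 := d25_2 (iv F3233) D832 (iv D681)
theorem F3944 : act 7 n745 = n832 := d33_0 F3942 (iv F3270) D745
def n833 : Q := act 5 n677
theorem D833 : act 5 n677 = n833 := rfl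
theorem F3945 : act 0 n833 = n730 := d4_1 D833 (iv D730) (iv F3229)
theorem F3946 : act 2 n833 = n678 := d17_1 D833 (iv D678) (iv F3230)
theorem F3947 : act 7 n833 = n833 := d31_2 F3232 D833 (iv D833)
theorem F3948 : act 8 n833 = n682 := d32_2 (iv F3233) D833 (iv D682)
def n834 : Q := act 6 n678
theorem D834 : act 6 n678 = n834 := rfl
theorem F3949 : act 0 n834 = n731 := d5_1 D834 (iv D731) (iv F3234)
theorem F3950 : act 3 n834 = n834 := d23_1 D834 (iv D834) F3235
theorem F3951 : act 5 n834 = n688 := d30_1 D834 (iv D688) (iv D542) (iv F2588) D678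
theorem F3952 : act 7 n834 = n834 := d33_2 F3236 D834 (iv D834)
theorem F3953 : act 8 n834 = n683 := d34_2 (iv F3237) D834 (iv D683)
def n835 : Q := act 4 n679
theorem D835 : act 4 n679 = n835 := rfl
theorem F3954 : act 0 n835 = n680 := d3_1 D835 (iv D680) D679
theorem F3955 : act 1 n835 = n732 := d10_1 D835 (iv D732) (iv F3238)
theorem F3956 : act 6 n835 = n689 := d27_2 (iv F3240) D835 (iv D689)
theorem F3957 : act 7 n835 = n699 := d28_2 (iv F3241) D835 (iv D699)
def n836 : Q := act 3 n680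
theorem D836 : act 3 n680 = n836 := rfl
theorem F3958 : act 1 n836 = n681 := d9_1 D836 (iv D681) (iv F3242)
theorem F3959 : act 4 n836 = n836 := d21_2 D680 D836 (iv D836) (iv D680) F2591
theorem F3960 : act 6 n836 = n690 := d23_2 (iv F3243) D836 (iv D690)
theorem F3961 : act 7 n836 = n836 := d24_2 (iv F3244) D836 (iv D836) F3244 F2649
def n837 : Q := act 5 n680
theorem D837 : act 5 n680 = n837 := rfl
theorem F3962 : act 1 n837 = n682 := d11_1 D837 (iv D682) (iv F3242)
theorem F3963 : act 7 n837 = n700 := d31_2 (iv F3244) D837 (iv D700)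
def n838 : Q := act 5 n681
theorem D838 : act 5 n681 = n838 := rfl
theorem F3964 : act 0 n838 = n735 := d4_1 D838 (iv D735) (iv F3245)
theorem F3965 : act 2 n838 = n838 := d17_1 D838 (iv D838) F3246
theorem F3966 : act 3 n838 = n682 := d22_1 D838 (iv D682) D681
theorem F3967 : act 7 n838 = n838 := d31_2 F3249 D838 (iv D838)
def n839 : Q := act 6 n682
theorem D839 : act 6 n682 = n839 := rfl
theorem F3968 : act 0 n839 = n736 := d5_1 D839 (iv D736) (iv F3250)
theorem F3969 : act 2 n839 = n683 := d18_1 D839 (iv D683) (iv F3251)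
theorem F3970 : act 5 n839 = n693 := d30_1 D839 (iv D693) (iv D546) (iv F2596) D682
theorem F3971 : act 7 n839 = n701 := d33_2 (iv F3252) D839 (iv D701)
def n840 : Q := act 4 n684
theorem D840 : act 4 n684 = n840 := rfl
theorem F3972 : act 0 n840 = n685 := d3_1 D840 (iv D685) D684
theorem F3973 : act 1 n840 = n692 := d10_1 D840 (iv F3306) (iv F3257)
theorem F3974 : act 7 n840 = n840 := d28_2 F3260 D840 (iv D840)
theorem F3975 : act 8 n840 = n689 := d29_2 (iv F3261) D840 (iv D689)
theorem F3976 : act 3 n840 = n691 := d37_3 F3260 F3259 D840 (iv F3767) F3766 F3055 F3058 (iv D516) (iv D407) F1605 (iv D325) F1306 F1126 (iv F1208) F1207 D297 F1475 (iv F1810) (iv F2232) (iv F2815) F2817 D598 F2858 F2857 F2856 (iv F3347) F3346 (iv F3300) (iv D691) (iv D544) F2078 (iv F2438) (iv D505) F1957 F1959 F1606 D407 D515 F2480 F2002 F2001 D522 (iv F3284) (iv D618) (iv D492) F1915 F1585 F1360 (iv D240) F987 F986 F985 F984 F983 (iv F1107) D273 F1363 F1362 D340 D425 D540 D684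
theorem F3977 : act 5 n690 = n840 := d22_0 F3976 (iv D691) D690
def n841 : Q := act 3 n685
theorem D841 : act 3 n685 = n841 := rfl
theorem F3978 : act 0 n841 = n691 := d2_1 D841 (iv F3976) F3972
theorem F3979 : act 1 n841 = n686 := d9_1 D841 (iv D686) (iv F3262)
theorem F3980 : act 4 n841 = n841 := d21_2 D685 D841 (iv D841) (iv D685) F2601
theorem F3981 : act 8 n841 = n690 := d25_2 (iv F3264) D841 (iv D690)
theorem F3982 : act 5 n689 = n841 := d32_3 F3981 F3977 F3975
theorem F3983 : act 7 n841 = n702 := d31_2 (iv F3294) F3982 (iv D702)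
def n842 : Q := act 5 n685
theorem D842 : act 5 n685 = n842 := rfl
theorem F3984 : act 0 n842 = n690 := d4_1 D842 F3977 F3972
theorem F3985 : act 1 n842 = n687 := d11_1 D842 (iv D687) (iv F3262)
theorem F3986 : act 3 n842 = n689 := d22_1 D842 F3982 (iv D841)
theorem F3987 : act 4 n842 = n842 := d26_1 D842 (iv D842) (iv D685) F2602 D685
theorem F3988 : act 7 n842 = n842 := d31_2 F3263 D842 (iv D842)
theorem F3989 : act 8 n842 = n691 := d32_2 (iv F3264) D842 (iv D691)
def n843 : Q := act 6 n687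
theorem D843 : act 6 n687 = n843 := rfl
theorem F3990 : act 0 n843 = n733 := d5_1 D843 F3504 (iv F3271)
theorem F3991 : act 2 n843 = n688 := d18_1 D843 (iv D688) (iv F3272)
theorem F3992 : act 3 n843 = n732 := d23_1 D843 F3500 (iv F3273)
theorem F3993 : act 4 n843 = n843 := d27_1 D843 (iv D843) F3274
theorem F3994 : act 7 n843 = n843 := d33_2 F3275 D843 (iv D843)
theorem F3995 : act 8 n843 = n693 := d34_2 (iv F3276) D843 (iv D693)
def n844 : Q := act 2 n690
theorem D844 : act 2 n690 = n844 := rfl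
theorem F3996 : act 1 n844 = n844 := d8_1 D844 (iv D844) F3295 F2621 (iv F3295)
theorem F3997 : act 4 n844 = n844 := d16_2 F3296 D844 (iv D844)
theorem F3998 : act 7 n844 = n844 := d19_2 F3297 D844 (iv D844)
def n845 : Q := act 6 n691
theorem D845 : act 6 n691 = n845 := rfl
theorem F3999 : act 1 n845 = n693 := d12_1 D845 (iv D693) (iv F3298)
theorem F4000 : act 4 n845 = n845 := d27_1 D845 (iv D845) F3299
theorem F4001 : act 7 n845 = n703 := d33_2 (iv F3300) D845 (iv D703)
def n846 : Q := act 6 n692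
theorem D846 : act 6 n692 = n846 := rfl
theorem F4002 : act 0 n846 = n728 := d5_1 D846 F3470 (iv F3301)
theorem F4003 : act 2 n846 = n846 := d18_1 D846 (iv D846) F3302
theorem F4004 : act 3 n846 = n693 := d23_1 D846 (iv D693) (iv F3303)
theorem F4005 : act 4 n846 = n727 := d27_1 D846 F3465 F3306
theorem F4006 : act 7 n846 = n846 := d33_2 F3304 D846 (iv D846)
theorem F4007 : act 8 n846 = n732 := d34_2 (iv F3305) D846 F3500
def n847 : Q := act 4 n694
theorem D847 : act 4 n694 = n847 := rfl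
theorem F4008 : act 0 n847 = n695 := d3_1 D847 (iv D695) D694
theorem F4009 : act 1 n847 = n737 := d10_1 D847 (iv D737) (iv F3311)
theorem F4010 : act 6 n847 = n847 := d27_2 F3314 D847 (iv D847)
theorem F4011 : act 8 n847 = n847 := d29_2 F3315 D847 (iv D847)
def n848 : Q := act 3 n695
theorem D848 : act 3 n695 = n848 := rfl
theorem F4012 : act 1 n848 = n696 := d9_1 D848 (iv D696) (iv F3316)
theorem F4013 : act 4 n848 = n705 := d21_2 D695 D848 (iv D705) (iv D559) (iv F2632)
theorem F4014 : act 6 n848 = n848 := d23_2 F3317 D848 (iv D848)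
theorem F4015 : act 8 n848 = n848 := d25_2 F3318 D848 (iv D848)
def n849 : Q := act 5 n695
theorem D849 : act 5 n695 = n849 := rfl
theorem F4016 : act 1 n849 = n697 := d11_1 D849 (iv D697) (iv F3316)
theorem F4017 : act 4 n849 = n700 := d26_1 D849 (iv D700) (iv D552) (iv F2633) D695
theorem F4018 : act 8 n849 = n849 := d32_2 F3318 D849 (iv D849)
def n850 : Q := act 5 n696
theorem D850 : act 5 n696 = n850 := rfl
theorem F4019 : act 0 n850 = n740 := d4_1 D850 (iv D740) (iv F3319)
theorem F4020 : act 2 n850 = n850 := d17_1 D850 (iv D850) F3320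
theorem F4021 : act 3 n850 = n697 := d22_1 D850 (iv D697) D696
theorem F4022 : act 4 n850 = n850 := d26_1 D850 (iv D850) F3321 F2687 (iv F3321)
theorem F4023 : act 8 n850 = n850 := d32_2 F3323 D850 (iv D850)
def n851 : Q := act 7 n696
theorem D851 : act 7 n696 = n851 := rfl
theorem F4024 : act 0 n851 = n741 := d6_1 D851 (iv D741) (iv F3319)
theorem F4025 : act 2 n851 = n851 := d19_1 D851 (iv D851) F3320
theorem F4026 : act 4 n851 = n706 := d28_1 D851 (iv D706) (iv F3321)
theorem F4027 : act 6 n851 = n851 := d33_1 D851 (iv D851) F3322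
def n852 : Q := act 6 n697
theorem D852 : act 6 n697 = n852 := rfl
theorem F4028 : act 0 n852 = n742 := d5_1 D852 (iv D742) (iv F3324)
theorem F4029 : act 2 n852 = n698 := d18_1 D852 (iv D698) (iv F3325)
theorem F4030 : act 4 n852 = n701 := d27_1 D852 (iv D701) (iv F3326)
theorem F4031 : act 5 n852 = n852 := d30_1 D852 (iv D852) (iv D697) F2638 D697
theorem F4032 : act 8 n852 = n852 := d34_2 F3327 D852 (iv D852)
def n853 : Q := act 5 n699
theorem D853 : act 5 n699 = n853 := rfl
theorem F4033 : act 0 n853 = n700 := d4_1 D853 (iv D700) (iv F3333)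
theorem F4034 : act 1 n853 = n743 := d11_1 D853 (iv D743) (iv F3334)
theorem F4035 : act 3 n853 = n853 := d22_1 D853 (iv D853) F3335
theorem F4036 : act 8 n853 = n853 := d32_2 F3337 D853 (iv D853)
def n854 : Q := act 6 n700
theorem D854 : act 6 n700 = n854 := rfl
theorem F4037 : act 1 n854 = n701 := d12_1 D854 (iv D701) (iv F3338)
theorem F4038 : act 3 n854 = n854 := d23_1 D854 (iv D854) F3339
theorem F4039 : act 5 n854 = n703 := d30_1 D854 (iv D703) (iv D556) (iv F2650) D700
theorem F4040 : act 8 n854 = n854 := d34_2 F3340 D854 (iv D854)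
def n855 : Q := act 6 n702
theorem D855 : act 6 n702 = n855 := rfl
theorem F4041 : act 0 n855 = n703 := d5_1 D855 (iv D703) (iv F3346)
theorem F4042 : act 1 n855 = n745 := d12_1 D855 (iv D745) (iv F3347)
theorem F4043 : act 3 n855 = n855 := d23_1 D855 (iv D855) F3348
theorem F4044 : act 4 n855 = n855 := d27_1 D855 (iv D855) F3349
theorem F4045 : act 8 n855 = n855 := d34_2 F3350 D855 (iv D855)
def n856 : Q := act 3 n704
theorem D856 : act 3 n704 = n856 := rfl
theorem F4046 : act 0 n856 = n705 := d2_1 D856 (iv D705) (iv F3355)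
theorem F4047 : act 1 n856 = n746 := d9_1 D856 (iv D746) (iv F3356)
theorem F4048 : act 5 n856 = n856 := d22_2 F3358 D856 (iv D856)
theorem F4049 : act 6 n856 = n856 := d23_2 F3359 D856 (iv D856)
theorem F4050 : act 8 n856 = n856 := d25_2 F3361 D856 (iv D856)
def n857 : Q := act 2 n705
theorem D857 : act 2 n705 = n857 := rfl
theorem F4051 : act 1 n857 = n857 := d8_1 D857 (iv D857) F3362 F2686 (iv F3362)
theorem F4052 : act 3 n857 = n857 := d15_2 D705 D857 (iv D857) (iv D705) F2680
theorem F4053 : act 5 n857 = n857 := d17_2 F3363 D857 (iv D857)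
theorem F4054 : act 6 n857 = n857 := d18_2 F3364 D857 (iv D857)
theorem F4055 : act 8 n857 = n857 := d20_2 F3365 D857 (iv D857)
def n858 : Q := act 7 n705
theorem D858 : act 7 n705 = n858 := rfl
theorem F4056 : act 1 n858 = n706 := d13_1 D858 (iv D706) (iv F3362)
theorem F4057 : act 3 n858 = n858 := d24_1 D858 (iv D858) (iv D705) F2683 D705
theorem F4058 : act 5 n858 = n858 := d31_1 D858 (iv D858) F3363
theorem F4059 : act 6 n858 = n858 := d33_1 D858 (iv D858) F3364
def n859 : Q := act 8 n706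
theorem D859 : act 8 n706 = n859 := rfl
theorem F4060 : act 0 n859 = n716 := d7_1 D859 (iv F3483) (iv F3366)
theorem F4061 : act 2 n859 = n859 := d20_1 D859 (iv D859) F3367
theorem F4062 : act 3 n859 = n859 := d25_1 D859 (iv D859) F3368
theorem F4063 : act 5 n859 = n859 := d32_1 D859 (iv D859) F3369
theorem F4064 : act 6 n859 = n859 := d34_1 D859 (iv D859) F3370
theorem F4065 : act 7 n859 = n859 := d35_1 D859 (iv D859) (iv D706) F2689 D706
def n860 : Q := act 4 n713
theorem D860 : act 4 n713 = n860 := rfl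
theorem F4066 : act 1 n860 = n860 := d10_1 D860 (iv D860) F3406
theorem F4067 : act 2 n860 = n738 := d16_1 D860 F3522 (iv F3480)
theorem F4068 : act 3 n860 = n860 := d21_1 D860 (iv D860) (iv D713) F2720 D713
theorem F4069 : act 6 n860 = n860 := d27_2 F3408 D860 (iv D860)
theorem F4070 : act 7 n860 = n715 := d28_2 (iv F3409) D860 (iv D715)
theorem F4071 : act 8 n860 = n860 := d29_2 F3410 D860 (iv D860)
def n861 : Q := act 4 n714
theorem D861 : act 4 n714 = n861 := rfl
theorem F4072 : act 1 n861 = n741 := d10_1 D861 F3534 (iv F3482)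
theorem F4073 : act 2 n861 = n715 := d16_1 D861 (iv D715) D714
theorem F4074 : act 6 n861 = n861 := d27_2 F3413 D861 (iv D861)
theorem F4075 : act 7 n861 = n738 := d28_2 F3481 D861 F3522
theorem F4076 : act 8 n861 = n717 := d29_2 (iv F3414) D861 (iv D717)
def n862 : Q := act 5 n715
theorem D862 : act 5 n715 = n862 := rfl
theorem F4077 : act 1 n862 = n862 := d11_1 D862 (iv D862) F3415
theorem F4078 : act 3 n862 = n721 := d22_1 D862 (iv D721) (iv F3416)
theorem F4079 : act 4 n862 = n862 := d26_1 D862 (iv D862) (iv D715) F2725 D715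
theorem F4080 : act 8 n862 = n718 := d32_2 (iv F3418) D862 (iv D718)
def n863 : Q := act 4 n716
theorem D863 : act 4 n716 = n863 := rfl
theorem F4081 : act 1 n863 = n717 := d10_1 D863 (iv D717) D716
theorem F4082 : act 2 n863 = n863 := d16_1 D863 (iv D863) F3419
theorem F4083 : act 6 n863 = n863 := d27_2 F3422 D863 (iv D863)
theorem F4084 : act 7 n863 = n863 := d28_2 F3423 D863 (iv D863)
theorem F4085 : act 8 n863 = n741 := d29_2 F3483 D863 F3534
def n864 : Q := act 3 n717
theorem D864 : act 3 n717 = n864 := rfl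
theorem F4086 : act 2 n864 = n724 := d15_1 D864 (iv D724) F2750 (iv F2733) (iv F3424)
theorem F4087 : act 4 n864 = n864 := d21_2 D717 D864 (iv D864) (iv D717) F2728
theorem F4088 : act 6 n864 = n864 := d23_2 F3425 D864 (iv D864)
def n865 : Q := act 5 n717
theorem D865 : act 5 n717 = n865 := rfl
theorem F4089 : act 2 n865 = n718 := d17_1 D865 (iv D718) (iv F3424)
theorem F4090 : act 4 n865 = n865 := d26_1 D865 (iv D865) (iv D717) F2729 D717
theorem F4091 : act 7 n865 = n865 := d31_2 F3426 D865 (iv D865)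
def n866 : Q := act 6 n718
theorem D866 : act 6 n718 = n866 := rfl
theorem F4092 : act 1 n866 = n866 := d12_1 D866 (iv D866) F3427
theorem F4093 : act 3 n866 = n726 := d23_1 D866 (iv D726) (iv F3428)
theorem F4094 : act 4 n866 = n866 := d27_1 D866 (iv D866) F3429
theorem F4095 : act 5 n866 = n866 := d30_1 D866 (iv D866) (iv D718) F2734 D718
theorem F4096 : act 7 n866 = n866 := d33_2 F3430 D866 (iv D866)
def n867 : Q := act 0 n719
theorem D867 : act 0 n719 = n867 := rfl
theorem F4097 : act 2 n867 = n867 := d1_2 F3431 D867 (iv D867)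
theorem F4098 : act 3 n867 = n867 := d2_2 F3432 D867 (iv D867)
theorem F4099 : act 5 n867 = n727 := d4_2 (iv F3433) D867 (iv D727)
theorem F4100 : act 6 n867 = n867 := d5_2 F3434 D867 (iv D867)
theorem F4101 : act 7 n867 = n867 := d6_2 F3435 D867 (iv D867)
theorem F4102 : act 8 n867 = n722 := d7_2 (iv F3436) D867 (iv D722)
def n868 : Q := act 4 n719
theorem D868 : act 4 n719 = n868 := rfl
theorem F4103 : act 1 n868 = n720 := d10_1 D868 (iv D720) D719
theorem F4104 : act 2 n868 = n868 := d16_1 D868 (iv D868) F3431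
theorem F4105 : act 6 n868 = n868 := d27_2 F3434 D868 (iv D868)
theorem F4106 : act 7 n868 = n868 := d28_2 F3435 D868 (iv D868)
theorem F4107 : act 8 n868 = n723 := d29_2 (iv F3436) D868 (iv D723)
def n869 : Q := act 3 n720
theorem D869 : act 3 n720 = n869 := rfl
theorem F4108 : act 4 n869 = n869 := d21_2 D720 D869 (iv D869) (iv D720) F2736
theorem F4109 : act 6 n869 = n869 := d23_2 F3438 D869 (iv D869)
theorem F4110 : act 8 n869 = n724 := d25_2 (iv F3440) D869 (iv D724)
def n870 : Q := act 5 n720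
theorem D870 : act 5 n720 = n870 := rfl
theorem F4111 : act 2 n870 = n721 := d17_1 D870 (iv D721) (iv F3437)
theorem F4112 : act 4 n870 = n730 := d26_1 D870 (iv D730) (iv D576) (iv F2737) D720
theorem F4113 : act 7 n870 = n870 := d31_2 F3439 D870 (iv D870)
theorem F4114 : act 8 n870 = n725 := d32_2 (iv F3440) D870 (iv D725)
def n871 : Q := act 6 n721
theorem D871 : act 6 n721 = n871 := rfl
theorem F4115 : act 1 n871 = n871 := d12_1 D871 (iv D871) F3441
theorem F4116 : act 4 n871 = n731 := d27_1 D871 (iv D731) (iv F3442)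
theorem F4117 : act 5 n871 = n871 := d30_1 D871 (iv D871) (iv D721) F2742 D721
theorem F4118 : act 7 n871 = n871 := d33_2 F3443 D871 (iv D871)
theorem F4119 : act 8 n871 = n726 := d34_2 (iv F3444) D871 (iv D726)
def n872 : Q := act 4 n722
theorem D872 : act 4 n722 = n872 := rfl
theorem F4120 : act 0 n872 = n723 := d3_1 D872 (iv D723) D722
theorem F4121 : act 2 n872 = n872 := d16_1 D872 (iv D872) F3445
theorem F4122 : act 6 n872 = n872 := d27_2 F3448 D872 (iv D872)
theorem F4123 : act 7 n872 = n737 := d28_2 (iv F3449) D872 (iv D737)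
def n873 : Q := act 3 n723
theorem D873 : act 3 n723 = n873 := rfl
theorem F4124 : act 1 n873 = n724 := d9_1 D873 (iv D724) (iv F3450)
theorem F4125 : act 4 n873 = n873 := d21_2 D723 D873 (iv D873) (iv D723) F2746
theorem F4126 : act 6 n873 = n873 := d23_2 F3452 D873 (iv D873)
def n874 : Q := act 5 n723
theorem D874 : act 5 n723 = n874 := rfl
theorem F4127 : act 1 n874 = n725 := d11_1 D874 (iv D725) (iv F3450)
theorem F4128 : act 2 n874 = n874 := d17_1 D874 (iv D874) F3451
theorem F4129 : act 4 n874 = n734 := d26_1 D874 (iv D734) (iv D579) (iv F2747) D723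
theorem F4130 : act 7 n874 = n739 := d31_2 (iv F3453) D874 (iv D739)
def n875 : Q := act 5 n724
theorem D875 : act 5 n724 = n875 := rfl
theorem F4131 : act 3 n875 = n725 := d22_1 D875 (iv D725) D724
def n876 : Q := act 7 n724
theorem D876 : act 7 n724 = n876 := rfl
theorem F4132 : act 3 n876 = n741 := d24_1 D876 (iv D741) (iv D592) (iv F2752) D724
theorem F4133 : act 4 n876 = n876 := d28_1 D876 (iv D876) F3454
theorem F4134 : act 6 n876 = n876 := d33_1 D876 (iv D876) F3455
def n877 : Q := act 6 n725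
theorem D877 : act 6 n725 = n877 := rfl
theorem F4135 : act 2 n877 = n726 := d18_1 D877 (iv D726) (iv F3456)
theorem F4136 : act 4 n877 = n736 := d27_1 D877 (iv D736) (iv F3457)
theorem F4137 : act 5 n877 = n877 := d30_1 D877 (iv D877) (iv D725) F2751 D725
theorem F4138 : act 7 n877 = n742 := d33_2 (iv F3458) D877 (iv D742)
def n878 : Q := act 5 n728
theorem D878 : act 5 n728 = n878 := rfl
theorem F4139 : act 1 n878 = n730 := d11_1 D878 (iv D730) (iv F3468)
theorem F4140 : act 2 n878 = n878 := d17_1 D878 (iv D878) F3469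
theorem F4141 : act 3 n878 = n736 := d22_1 D878 F3515 F3473
theorem F4142 : act 6 n878 = n735 := d30_2 (iv F3470) D878 (iv D735) F2779 (iv F2797)
theorem F4143 : act 7 n878 = n878 := d31_2 F3471 D878 (iv D878)
theorem F4144 : act 8 n878 = n734 := d32_2 (iv F3472) D878 (iv D734)
def n879 : Q := act 5 n729
theorem D879 : act 5 n729 = n879 := rfl
theorem F4145 : act 1 n879 = n736 := d11_1 D879 F3515 (iv F3484)
theorem F4146 : act 2 n879 = n879 := d17_1 D879 (iv D879) F3485
theorem F4147 : act 3 n879 = n730 := d22_1 D879 (iv D730) D729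
theorem F4148 : act 6 n879 = n734 := d30_2 (iv F3487) D879 (iv D734) F2775 F2802
theorem F4149 : act 7 n879 = n744 := d31_2 F3489 D879 F3547
theorem F4150 : act 8 n879 = n735 := d32_2 (iv F3488) D879 (iv D735)
def n880 : Q := act 6 n730
theorem D880 : act 6 n730 = n880 := rfl
theorem F4151 : act 1 n880 = n735 := d12_1 D880 (iv F4142) F4139
theorem F4152 : act 2 n880 = n731 := d18_1 D880 (iv D731) (iv F3490)
theorem F4153 : act 3 n880 = n734 := d23_1 D880 (iv F4148) F4147
theorem F4154 : act 5 n880 = n733 := d30_1 D880 F3504 (iv D586) (iv F2762) D730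
theorem F4155 : act 7 n880 = n880 := d33_2 F3491 D880 (iv D880)
theorem F4156 : act 8 n880 = n736 := d34_2 (iv F3492) D880 (iv D736)
def n881 : Q := act 5 n732
theorem D881 : act 5 n732 = n881 := rfl
theorem F4157 : act 0 n881 = n734 := d4_1 D881 (iv D734) (iv F3498)
theorem F4158 : act 2 n881 = n881 := d17_1 D881 (iv D881) F3499
theorem F4159 : act 7 n881 = n743 := d31_2 (iv F3501) D881 (iv D743)
def n882 : Q := act 4 n735
theorem D882 : act 4 n735 = n882 := rfl
theorem F4160 : act 2 n882 = n882 := d16_1 D882 (iv D882) F3511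
theorem F4161 : act 5 n882 = n882 := d26_2 D735 D882 (iv D882) (iv D735) F2778
theorem F4162 : act 7 n882 = n882 := d28_2 F3513 D882 (iv D882)
def n883 : Q := act 3 n737
theorem D883 : act 3 n737 = n883 := rfl
theorem F4163 : act 0 n883 = n738 := d2_1 D883 (iv D738) (iv F3517)
theorem F4164 : act 4 n883 = n746 := d21_2 D737 D883 (iv D746) (iv D600) (iv F2822)
theorem F4165 : act 6 n883 = n883 := d23_2 F3519 D883 (iv D883)
theorem F4166 : act 8 n883 = n883 := d25_2 F3520 D883 (iv D883)
def n884 : Q := act 5 n737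
theorem D884 : act 5 n737 = n884 := rfl
theorem F4167 : act 0 n884 = n739 := d4_1 D884 (iv D739) (iv F3517)
theorem F4168 : act 2 n884 = n884 := d17_1 D884 (iv D884) F3518
theorem F4169 : act 4 n884 = n743 := d26_1 D884 (iv D743) (iv D595) (iv F2823) D737
theorem F4170 : act 8 n884 = n884 := d32_2 F3520 D884 (iv D884)
def n885 : Q := act 5 n738
theorem D885 : act 5 n738 = n885 := rfl
theorem F4171 : act 1 n885 = n740 := d11_1 D885 (iv D740) (iv F3521)
theorem F4172 : act 3 n885 = n739 := d22_1 D885 (iv D739) D738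
theorem F4173 : act 4 n885 = n885 := d26_1 D885 (iv D885) F3522 F2872 (iv F3522)
theorem F4174 : act 8 n885 = n885 := d32_2 F3524 D885 (iv D885)
def n886 : Q := act 6 n739
theorem D886 : act 6 n739 = n886 := rfl
theorem F4175 : act 1 n886 = n742 := d12_1 D886 (iv D742) (iv F3525)
theorem F4176 : act 2 n886 = n886 := d18_1 D886 (iv D886) F3526
theorem F4177 : act 4 n886 = n744 := d27_1 D886 (iv D744) (iv F3527)
theorem F4178 : act 5 n886 = n886 := d30_1 D886 (iv D886) (iv D739) F2828 D739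
theorem F4179 : act 8 n886 = n886 := d34_2 F3528 D886 (iv D886)
def n887 : Q := act 6 n740
theorem D887 : act 6 n740 = n887 := rfl
theorem F4180 : act 2 n887 = n887 := d18_1 D887 (iv D887) F3529
theorem F4181 : act 3 n887 = n742 := d23_1 D887 (iv D742) (iv F3530)
theorem F4182 : act 4 n887 = n887 := d27_1 D887 (iv D887) F3531
theorem F4183 : act 5 n887 = n887 := d30_1 D887 (iv D887) (iv D740) F2832 D740
theorem F4184 : act 8 n887 = n887 := d34_2 F3532 D887 (iv D887)
def n888 : Q := act 7 n740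
theorem D888 : act 7 n740 = n888 := rfl
theorem F4185 : act 2 n888 = n888 := d19_1 D888 (iv D888) F3529
theorem F4186 : act 4 n888 = n888 := d28_1 D888 (iv D888) F3531
theorem F4187 : act 5 n888 = n741 := d31_1 D888 (iv D741) D740
def n889 : Q := act 6 n743
theorem D889 : act 6 n743 = n889 := rfl
theorem F4188 : act 0 n889 = n744 := d5_1 D889 (iv D744) (iv F3540)
theorem F4189 : act 2 n889 = n889 := d18_1 D889 (iv D889) F3541
theorem F4190 : act 3 n889 = n889 := d23_1 D889 (iv D889) F3542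
theorem F4191 : act 5 n889 = n745 := d30_1 D889 (iv D745) (iv D598) (iv F2845) D743
theorem F4192 : act 8 n889 = n889 := d34_2 F3543 D889 (iv D889)
def n890 : Q := act 3 n747
theorem D890 : act 3 n747 = n890 := rfl
theorem F4193 : act 0 n890 = n890 := d2_1 D890 (iv D890) F3558
theorem F4194 : act 1 n890 = n890 := d9_1 D890 (iv D890) F3559
theorem F4195 : act 5 n890 = n890 := d22_2 F3562 D890 (iv D890)
theorem F4196 : act 6 n890 = n890 := d23_2 F3563 D890 (iv D890)
theorem F4197 : act 7 n890 = n749 := d24_2 D747 D890 (iv D749) (iv D605) (iv F2882)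
theorem F4198 : act 8 n890 = n890 := d25_2 F3564 D890 (iv D890)
def n891 : Q := act 3 n748
theorem D891 : act 3 n748 = n891 := rfl
theorem F4199 : act 0 n891 = n891 := d2_1 D891 (iv D891) F3565
theorem F4200 : act 1 n891 = n891 := d9_1 D891 (iv D891) F3566
theorem F4201 : act 5 n891 = n891 := d22_2 F3569 D891 (iv D891)
theorem F4202 : act 6 n891 = n891 := d23_2 F3570 D891 (iv D891)
theorem F4203 : act 7 n891 = n891 := d24_2 D748 D891 (iv D891) (iv D748) F2889
theorem F4204 : act 8 n891 = n749 := d25_2 (iv F3571) D891 (iv D749)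
def n892 : Q := act 2 n749
theorem D892 : act 2 n749 = n892 := rfl
theorem F4205 : act 0 n892 = n892 := d1_1 D892 (iv D892) F3572
theorem F4206 : act 3 n892 = n770 := d15_2 D749 D892 (iv D770) (iv D624) (iv F2895)
theorem F4207 : act 5 n892 = n892 := d17_2 F3574 D892 (iv D892)
theorem F4208 : act 6 n892 = n892 := d18_2 F3575 D892 (iv D892)
def n893 : Q := act 4 n749
theorem D893 : act 4 n749 = n893 := rfl
theorem F4209 : act 0 n893 = n893 := d3_1 D893 (iv D893) F3572
theorem F4210 : act 1 n893 = n893 := d10_1 D893 (iv D893) F3573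
theorem F4211 : act 3 n893 = n753 := d21_1 D893 (iv D753) (iv D608) (iv F2896) D749
theorem F4212 : act 6 n893 = n893 := d27_2 F3575 D893 (iv D893)
def n894 : Q := act 3 n750
theorem D894 : act 3 n750 = n894 := rfl
theorem F4213 : act 0 n894 = n894 := d2_1 D894 (iv D894) F3576
theorem F4214 : act 1 n894 = n894 := d9_1 D894 (iv D894) F3577
theorem F4215 : act 5 n894 = n754 := d22_2 (iv F3580) D894 (iv D754)
theorem F4216 : act 6 n894 = n894 := d23_2 F3581 D894 (iv D894)
theorem F4217 : act 7 n894 = n751 := d24_2 D750 D894 (iv D751) (iv D607) (iv F2902)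
theorem F4218 : act 8 n894 = n894 := d25_2 F3582 D894 (iv D894)
def n895 : Q := act 2 n751
theorem D895 : act 2 n751 = n895 := rfl
theorem F4219 : act 0 n895 = n895 := d1_1 D895 (iv D895) F3583
theorem F4220 : act 3 n895 = n772 := d15_2 D751 D895 (iv D772) (iv D625) (iv F2908)
theorem F4221 : act 5 n895 = n755 := d17_2 (iv F3585) D895 (iv D755)
theorem F4222 : act 6 n895 = n895 := d18_2 F3586 D895 (iv D895)
theorem F4223 : act 8 n895 = n752 := d20_2 (iv F3587) D895 (iv D752)
def n896 : Q := act 4 n751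
theorem D896 : act 4 n751 = n896 := rfl
theorem F4224 : act 0 n896 = n896 := d3_1 D896 (iv D896) F3583
theorem F4225 : act 1 n896 = n896 := d10_1 D896 (iv D896) F3584
theorem F4226 : act 6 n896 = n896 := d27_2 F3586 D896 (iv D896)
theorem F4227 : act 8 n896 = n753 := d29_2 (iv F3587) D896 (iv D753)
def n897 : Q := act 1 n752
theorem D897 : act 1 n752 = n897 := rfl
theorem F4228 : act 2 n897 = n897 := d8_2 D752 D897 (iv D897) (iv D752) F2913
theorem F4229 : act 3 n897 = n774 := d9_2 (iv F3589) D897 (iv D774)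
theorem F4230 : act 5 n897 = n757 := d11_2 (iv F3590) D897 (iv D757)
theorem F4231 : act 6 n897 = n897 := d12_2 F3591 D897 (iv D897)
theorem F4232 : act 7 n897 = n897 := d13_2 F3592 D897 (iv D897)
def n898 : Q := act 4 n752
theorem D898 : act 4 n752 = n898 := rfl
theorem F4233 : act 0 n898 = n898 := d3_1 D898 (iv D898) F3588
theorem F4234 : act 2 n898 = n753 := d16_1 D898 (iv D753) D752
theorem F4235 : act 6 n898 = n898 := d27_2 F3591 D898 (iv D898)
theorem F4236 : act 7 n898 = n898 := d28_2 F3592 D898 (iv D898)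
def n899 : Q := act 5 n753
theorem D899 : act 5 n753 = n899 := rfl
theorem F4237 : act 0 n899 = n899 := d4_1 D899 (iv D899) F3593
theorem F4238 : act 1 n899 = n899 := d11_1 D899 (iv D899) F3594
theorem F4239 : act 4 n899 = n759 := d26_1 D899 (iv D759) (iv D613) (iv F2914) D753
theorem F4240 : act 7 n899 = n899 := d31_2 F3596 D899 (iv D899)
def n900 : Q := act 2 n754
theorem D900 : act 2 n754 = n900 := rfl
theorem F4241 : act 0 n900 = n900 := d1_1 D900 (iv D900) F3597
theorem F4242 : act 3 n900 = n900 := d15_2 D754 D900 (iv D900) (iv D754) F2926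
theorem F4243 : act 4 n900 = n812 := d16_2 (iv F3599) D900 F3852
theorem F4244 : act 6 n900 = n760 := d18_2 (iv F3600) D900 (iv D760)
theorem F4245 : act 7 n900 = n755 := d19_2 (iv F3601) D900 (iv D755)
theorem F4246 : act 8 n900 = n900 := d20_2 F3602 D900 (iv D900)
def n901 : Q := act 1 n755
theorem D901 : act 1 n755 = n901 := rfl
theorem F4247 : act 2 n901 = n901 := d8_2 D755 D901 (iv D901) (iv D755) F2930
theorem F4248 : act 3 n901 = n777 := d9_2 (iv F3604) D901 (iv D777)
theorem F4249 : act 6 n901 = n761 := d12_2 (iv F3605) D901 (iv D761)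
theorem F4250 : act 8 n901 = n757 := d14_2 (iv F3606) D901 (iv D757)
def n902 : Q := act 4 n755
theorem D902 : act 4 n755 = n902 := rfl
theorem F4251 : act 0 n902 = n902 := d3_1 D902 (iv D902) F3603
theorem F4252 : act 2 n902 = n756 := d16_1 D902 (iv D756) D755
theorem F4253 : act 6 n902 = n762 := d27_2 (iv F3605) D902 (iv D762)
theorem F4254 : act 7 n902 = n812 := d28_2 F4245 D902 (iv F4243)
theorem F4255 : act 8 n902 = n758 := d29_2 (iv F3606) D902 (iv D758)
def n903 : Q := act 5 n756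
theorem D903 : act 5 n756 = n903 := rfl
theorem F4256 : act 0 n903 = n903 := d4_1 D903 (iv D903) F3607
theorem F4257 : act 1 n903 = n903 := d11_1 D903 (iv D903) F3608
theorem F4258 : act 3 n903 = n903 := d22_1 D903 (iv D903) F3609
theorem F4259 : act 6 n903 = n815 := d30_2 (iv F3610) D903 F3868 F3131 (iv F3284)
theorem F4260 : act 7 n903 = n814 := d31_2 (iv F3611) D903 F3863
theorem F4261 : act 8 n903 = n759 := d32_2 (iv F3612) D903 (iv D759)
def n904 : Q := act 0 n757
theorem D904 : act 0 n757 = n904 := rfl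
theorem F4262 : act 1 n904 = n904 := d0_2 D757 D904 (iv D904) (iv D757) F2933
theorem F4263 : act 2 n904 = n904 := d1_2 F3613 D904 (iv D904)
theorem F4264 : act 3 n904 = n780 := d2_2 (iv F3614) D904 (iv D780)
theorem F4265 : act 6 n904 = n763 := d5_2 (iv F3615) D904 (iv D763)
theorem F4266 : act 7 n904 = n904 := d6_2 F3616 D904 (iv D904)
def n905 : Q := act 4 n757
theorem D905 : act 4 n757 = n905 := rfl
theorem F4267 : act 1 n905 = n758 := d10_1 D905 (iv D758) D757
theorem F4268 : act 2 n905 = n905 := d16_1 D905 (iv D905) F3613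
theorem F4269 : act 6 n905 = n764 := d27_2 (iv F3615) D905 (iv D764)
theorem F4270 : act 7 n905 = n905 := d28_2 F3616 D905 (iv D905)
def n906 : Q := act 3 n758
theorem D906 : act 3 n758 = n906 := rfl
theorem F4271 : act 0 n906 = n906 := d2_1 D906 (iv D906) F3617
theorem F4272 : act 2 n906 = n906 := d15_1 D906 (iv D906) F3618 F2939 (iv F3618)
theorem F4273 : act 4 n906 = n782 := d21_2 D758 D906 (iv D782) (iv D631) (iv F2934)
theorem F4274 : act 6 n906 = n765 := d23_2 (iv F3619) D906 (iv D765)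
def n907 : Q := act 5 n758
theorem D907 : act 5 n758 = n907 := rfl
theorem F4275 : act 0 n907 = n907 := d4_1 D907 (iv D907) F3617
theorem F4276 : act 2 n907 = n759 := d17_1 D907 (iv D759) (iv F3618)
theorem F4277 : act 7 n907 = n907 := d31_2 F3620 D907 (iv D907)
def n908 : Q := act 6 n759
theorem D908 : act 6 n759 = n908 := rfl
theorem F4278 : act 0 n908 = n908 := d5_1 D908 (iv D908) F3621
theorem F4279 : act 1 n908 = n908 := d12_1 D908 (iv D908) F3622
theorem F4280 : act 3 n908 = n908 := d23_1 D908 (iv D908) F3623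
theorem F4281 : act 5 n908 = n767 := d30_1 D908 (iv D767) (iv D621) (iv F2940) D759
theorem F4282 : act 7 n908 = n908 := d33_2 F3624 D908 (iv D908)
theorem F4283 : act 8 n908 = n815 := d34_2 F4261 D908 (iv F4259)
def n909 : Q := act 1 n760
theorem D909 : act 1 n760 = n909 := rfl
theorem F4284 : act 2 n909 = n909 := d8_2 D760 D909 (iv D909) (iv D760) F2955
theorem F4285 : act 3 n909 = n909 := d9_2 F3626 D909 (iv D909)
theorem F4286 : act 4 n909 = n809 := d10_2 (iv F3627) D909 F3840
theorem F4287 : act 5 n909 = n909 := d11_2 F3628 D909 (iv D909)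
theorem F4288 : act 7 n909 = n761 := d13_2 (iv F3629) D909 (iv D761)
theorem F4289 : act 8 n909 = n909 := d14_2 F3630 D909 (iv D909)
def n910 : Q := act 0 n761
theorem D910 : act 0 n761 = n910 := rfl
theorem F4290 : act 1 n910 = n910 := d0_2 D761 D910 (iv D910) (iv D761) F2959
theorem F4291 : act 2 n910 = n910 := d1_2 F3631 D910 (iv D910)
theorem F4292 : act 3 n910 = n785 := d2_2 (iv F3632) D910 (iv D785)
theorem F4293 : act 5 n910 = n910 := d4_2 F3633 D910 (iv D910)
theorem F4294 : act 8 n910 = n763 := d7_2 (iv F3634) D910 (iv D763)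
def n911 : Q := act 4 n761
theorem D911 : act 4 n761 = n911 := rfl
theorem F4295 : act 1 n911 = n762 := d10_1 D911 (iv D762) D761
theorem F4296 : act 2 n911 = n911 := d16_1 D911 (iv D911) F3631
theorem F4297 : act 7 n911 = n809 := d28_2 F4288 D911 (iv F4286)
theorem F4298 : act 8 n911 = n764 := d29_2 (iv F3634) D911 (iv D764)
theorem F4299 : act 5 n810 = n911 := d37_1 D810 (iv D911) F3632 F3032 (iv D540) F2069 F1800 F1799 D459 D585 F2799 F2798 (iv F2624) F2627 (iv D437) (iv D347) F1378 (iv D231) F947 F946 F859 F858 F857 (iv D171) (iv F827) F826 (iv F914) (iv D183) F742 F741 F609 F608 F503 F502 D116 F585 F460 F459 (iv F567) F566 (iv F611) (iv D122) (iv F610) (iv F741) (iv F902) F901 (iv F1049) F1048 D259 F1292 F1291 D322 D401 D505 D636 F3049 F2474 D649 D807 F3832 F3831 F3830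
def n912 : Q := act 3 n762
theorem D912 : act 3 n762 = n912 := rfl
theorem F4300 : act 0 n912 = n912 := d2_1 D912 (iv D912) F3635
theorem F4301 : act 2 n912 = n912 := d15_1 D912 (iv D912) F3636 F2965 (iv F3636)
theorem F4302 : act 4 n912 = n787 := d21_2 D762 D912 (iv D787) (iv D634) (iv F2960)
theorem F4303 : act 5 n912 = n794 := d22_2 F3639 D912 F3775
theorem F4304 : act 7 n912 = n793 := d24_2 (iv F3637) D912 F3772 F3058 (iv F3114)
theorem F4305 : act 8 n912 = n765 := d25_2 (iv F3638) D912 (iv D765)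
def n913 : Q := act 4 n763
theorem D913 : act 4 n763 = n913 := rfl
theorem F4306 : act 0 n913 = n764 := d3_1 D913 (iv D764) D763
theorem F4307 : act 1 n913 = n913 := d10_1 D913 (iv D913) F3640
theorem F4308 : act 2 n913 = n913 := d16_1 D913 (iv D913) F3641
theorem F4309 : act 7 n913 = n913 := d28_2 F3644 D913 (iv D913)
def n914 : Q := act 3 n764
theorem D914 : act 3 n764 = n914 := rfl
theorem F4310 : act 1 n914 = n765 := d9_1 D914 (iv D765) (iv F3645)
theorem F4311 : act 4 n914 = n791 := d21_2 D764 D914 (iv D791) (iv D637) (iv F2968)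
def n915 : Q := act 5 n764
theorem D915 : act 5 n764 = n915 := rfl
theorem F4312 : act 1 n915 = n766 := d11_1 D915 (iv D766) (iv F3645)
theorem F4313 : act 2 n915 = n915 := d17_1 D915 (iv D915) F3646
theorem F4314 : act 4 n915 = n915 := d26_1 D915 (iv D915) (iv D764) F2969 D764
theorem F4315 : act 7 n915 = n915 := d31_2 F3647 D915 (iv D915)
theorem F4316 : act 8 n915 = n810 := d32_2 F4298 D915 F4299
def n916 : Q := act 5 n765
theorem D916 : act 5 n765 = n916 := rfl
theorem F4317 : act 0 n916 = n916 := d4_1 D916 (iv D916) F3648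
theorem F4318 : act 2 n916 = n916 := d17_1 D916 (iv D916) F3649
theorem F4319 : act 3 n916 = n766 := d22_1 D916 (iv D766) D765
theorem F4320 : act 8 n916 = n794 := d32_2 F4305 D916 (iv F4303)
def n917 : Q := act 7 n765
theorem D917 : act 7 n765 = n917 := rfl
theorem F4321 : act 0 n917 = n917 := d6_1 D917 (iv D917) F3648
theorem F4322 : act 2 n917 = n917 := d19_1 D917 (iv D917) F3649
theorem F4323 : act 3 n917 = n917 := d24_1 D917 (iv D917) (iv D765) F2973 D765
theorem F4324 : act 4 n917 = n794 := d28_1 D917 (iv D794) (iv F3650)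
def n918 : Q := act 6 n766
theorem D918 : act 6 n766 = n918 := rfl
theorem F4325 : act 0 n918 = n918 := d5_1 D918 (iv D918) F3651
theorem F4326 : act 2 n918 = n767 := d18_1 D918 (iv D767) (iv F3652)
theorem F4327 : act 4 n918 = n918 := d27_1 D918 (iv D918) F3653
theorem F4328 : act 7 n918 = n918 := d33_2 F3654 D918 (iv D918)
theorem F4329 : act 8 n918 = n805 := d34_2 (iv F3655) D918 F3825
def n919 : Q := act 3 n768
theorem D919 : act 3 n768 = n919 := rfl
theorem F4330 : act 0 n919 = n919 := d2_1 D919 (iv D919) F3662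
theorem F4331 : act 1 n919 = n816 := d9_1 D919 (iv D816) (iv F3663)
theorem F4332 : act 5 n919 = n919 := d22_2 F3666 D919 (iv D919)
theorem F4333 : act 6 n919 = n919 := d23_2 F3667 D919 (iv D919)
theorem F4334 : act 7 n919 = n769 := d24_2 D768 D919 (iv D769) (iv D623) (iv F2982)
theorem F4335 : act 8 n919 = n919 := d25_2 F3668 D919 (iv D919)
def n920 : Q := act 2 n769
theorem D920 : act 2 n769 = n920 := rfl
theorem F4336 : act 0 n920 = n920 := d1_1 D920 (iv D920) F3669
theorem F4337 : act 5 n920 = n920 := d17_2 F3671 D920 (iv D920)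
theorem F4338 : act 6 n920 = n920 := d18_2 F3672 D920 (iv D920)
theorem F4339 : act 8 n920 = n770 := d20_2 (iv F3673) D920 (iv D770)
def n921 : Q := act 4 n769
theorem D921 : act 4 n769 = n921 := rfl
theorem F4340 : act 0 n921 = n921 := d3_1 D921 (iv D921) F3669
theorem F4341 : act 1 n921 = n818 := d10_1 D921 (iv D818) (iv F3670)
theorem F4342 : act 3 n921 = n773 := d21_1 D921 (iv D773) (iv D625) (iv F2988) D769
theorem F4343 : act 6 n921 = n921 := d27_2 F3672 D921 (iv D921)
theorem F4344 : act 8 n921 = n771 := d29_2 (iv F3673) D921 (iv D771)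
def n922 : Q := act 1 n770
theorem D922 : act 1 n770 = n922 := rfl
theorem F4345 : act 2 n922 = n819 := d8_2 D770 D922 (iv D819) (iv D669) (iv F2993)
theorem F4346 : act 5 n922 = n922 := d11_2 F3675 D922 (iv D922)
theorem F4347 : act 6 n922 = n922 := d12_2 F3676 D922 (iv D922)
theorem F4348 : act 7 n922 = n922 := d13_2 F3677 D922 (iv D922)
def n923 : Q := act 4 n770
theorem D923 : act 4 n770 = n923 := rfl
theorem F4349 : act 0 n923 = n923 := d3_1 D923 (iv D923) F3674
theorem F4350 : act 2 n923 = n771 := d16_1 D923 (iv D771) D770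
theorem F4351 : act 6 n923 = n923 := d27_2 F3676 D923 (iv D923)
theorem F4352 : act 7 n923 = n923 := d28_2 F3677 D923 (iv D923)
def n924 : Q := act 5 n771
theorem D924 : act 5 n771 = n924 := rfl
theorem F4353 : act 0 n924 = n924 := d4_1 D924 (iv D924) F3678
theorem F4354 : act 1 n924 = n821 := d11_1 D924 (iv D821) (iv F3679)
theorem F4355 : act 3 n924 = n776 := d22_1 D924 (iv D776) (iv F3680)
theorem F4356 : act 4 n924 = n924 := d26_1 D924 (iv D924) (iv D771) F2994 D771
theorem F4357 : act 7 n924 = n924 := d31_2 F3682 D924 (iv D924)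
def n925 : Q := act 1 n772
theorem D925 : act 1 n772 = n925 := rfl
theorem F4358 : act 2 n925 = n822 := d8_2 D772 D925 (iv D822) (iv D671) (iv F2998)
theorem F4359 : act 5 n925 = n777 := d11_2 (iv F3684) D925 (iv D777)
theorem F4360 : act 6 n925 = n925 := d12_2 F3685 D925 (iv D925)
theorem F4361 : act 7 n925 = n925 := d13_2 F3686 D925 (iv D925)
theorem F4362 : act 8 n925 = n774 := d14_2 (iv F3687) D925 (iv D774)
def n926 : Q := act 4 n772
theorem D926 : act 4 n772 = n926 := rfl
theorem F4363 : act 0 n926 = n926 := d3_1 D926 (iv D926) F3683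
theorem F4364 : act 2 n926 = n773 := d16_1 D926 (iv D773) D772
theorem F4365 : act 6 n926 = n926 := d27_2 F3685 D926 (iv D926)
theorem F4366 : act 7 n926 = n926 := d28_2 F3686 D926 (iv D926)
theorem F4367 : act 8 n926 = n775 := d29_2 (iv F3687) D926 (iv D775)
def n927 : Q := act 5 n773
theorem D927 : act 5 n773 = n927 := rfl
theorem F4368 : act 0 n927 = n927 := d4_1 D927 (iv D927) F3688
theorem F4369 : act 1 n927 = n824 := d11_1 D927 (iv D824) (iv F3689)
theorem F4370 : act 4 n927 = n779 := d26_1 D927 (iv D779) (iv D629) (iv F2999) D773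
theorem F4371 : act 7 n927 = n927 := d31_2 F3691 D927 (iv D927)
theorem F4372 : act 8 n927 = n776 := d32_2 (iv F3692) D927 (iv D776)
def n928 : Q := act 0 n774
theorem D928 : act 0 n774 = n928 := rfl
theorem F4373 : act 1 n928 = n928 := d0_2 D774 D928 (iv D928) (iv D774) F3003
theorem F4374 : act 2 n928 = n825 := d1_2 (iv F3693) D928 (iv D825)
theorem F4375 : act 5 n928 = n780 := d4_2 (iv F3694) D928 (iv D780)
theorem F4376 : act 6 n928 = n928 := d5_2 F3695 D928 (iv D928)
theorem F4377 : act 7 n928 = n796 := d6_2 (iv F3696) D928 (iv D796)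
def n929 : Q := act 4 n774
theorem D929 : act 4 n774 = n929 := rfl
theorem F4378 : act 1 n929 = n775 := d10_1 D929 (iv D775) D774
theorem F4379 : act 2 n929 = n826 := d16_1 D929 (iv D826) (iv F3693)
theorem F4380 : act 6 n929 = n929 := d27_2 F3695 D929 (iv D929)
theorem F4381 : act 7 n929 = n797 := d28_2 (iv F3696) D929 (iv D797)
def n930 : Q := act 3 n775
theorem D930 : act 3 n775 = n930 := rfl
theorem F4382 : act 0 n930 = n930 := d2_1 D930 (iv D930) F3697
theorem F4383 : act 6 n930 = n930 := d23_2 F3699 D930 (iv D930)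
def n931 : Q := act 5 n775
theorem D931 : act 5 n775 = n931 := rfl
theorem F4384 : act 0 n931 = n931 := d4_1 D931 (iv D931) F3697
theorem F4385 : act 2 n931 = n776 := d17_1 D931 (iv D776) (iv F3698)
theorem F4386 : act 4 n931 = n783 := d26_1 D931 (iv D783) (iv D631) (iv F3004) D775
theorem F4387 : act 7 n931 = n799 := d31_2 (iv F3700) D931 (iv D799)
def n932 : Q := act 6 n776
theorem D932 : act 6 n776 = n932 := rfl
theorem F4388 : act 0 n932 = n932 := d5_1 D932 (iv D932) F3701
theorem F4389 : act 1 n932 = n829 := d12_1 D932 (iv D829) (iv F3702)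
theorem F4390 : act 4 n932 = n784 := d27_1 D932 (iv D784) (iv F3703)
theorem F4391 : act 5 n932 = n932 := d30_1 D932 (iv D932) (iv D776) F3009 D776
theorem F4392 : act 7 n932 = n800 := d33_2 (iv F3704) D932 (iv D800)
def n933 : Q := act 0 n777
theorem D933 : act 0 n777 = n933 := rfl
theorem F4393 : act 1 n933 = n933 := d0_2 D777 D933 (iv D933) (iv D777) F3011
theorem F4394 : act 2 n933 = n830 := d1_2 (iv F3705) D933 (iv D830)
theorem F4395 : act 6 n933 = n785 := d5_2 (iv F3706) D933 (iv D785)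
theorem F4396 : act 7 n933 = n933 := d6_2 F3707 D933 (iv D933)
theorem F4397 : act 8 n933 = n780 := d7_2 (iv F3708) D933 (iv D780)
def n934 : Q := act 4 n777
theorem D934 : act 4 n777 = n934 := rfl
theorem F4398 : act 1 n934 = n778 := d10_1 D934 (iv D778) D777
theorem F4399 : act 2 n934 = n831 := d16_1 D934 (iv D831) (iv F3705)
theorem F4400 : act 6 n934 = n786 := d27_2 (iv F3706) D934 (iv D786)
theorem F4401 : act 7 n934 = n934 := d28_2 F3707 D934 (iv D934)
theorem F4402 : act 8 n934 = n781 := d29_2 (iv F3708) D934 (iv D781)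
def n935 : Q := act 3 n778
theorem D935 : act 3 n778 = n935 := rfl
theorem F4403 : act 0 n935 = n935 := d2_1 D935 (iv D935) F3709
theorem F4404 : act 2 n935 = n935 := d15_1 D935 (iv D935) F3710 F3017 (iv F3710)
theorem F4405 : act 6 n935 = n787 := d23_2 (iv F3711) D935 (iv D787)
theorem F4406 : act 8 n935 = n782 := d25_2 (iv F3713) D935 (iv D782)
def n936 : Q := act 5 n778
theorem D936 : act 5 n778 = n936 := rfl
theorem F4407 : act 0 n936 = n936 := d4_1 D936 (iv D936) F3709
theorem F4408 : act 2 n936 = n779 := d17_1 D936 (iv D779) (iv F3710)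
theorem F4409 : act 7 n936 = n936 := d31_2 F3712 D936 (iv D936)
theorem F4410 : act 8 n936 = n783 := d32_2 (iv F3713) D936 (iv D783)
def n937 : Q := act 6 n779
theorem D937 : act 6 n779 = n937 := rfl
theorem F4411 : act 0 n937 = n937 := d5_1 D937 (iv D937) F3714
theorem F4412 : act 1 n937 = n834 := d12_1 D937 (iv D834) (iv F3715)
theorem F4413 : act 3 n937 = n937 := d23_1 D937 (iv D937) F3716
theorem F4414 : act 5 n937 = n789 := d30_1 D937 (iv D789) (iv D635) (iv F3018) D779
theorem F4415 : act 7 n937 = n937 := d33_2 F3717 D937 (iv D937)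
theorem F4416 : act 8 n937 = n784 := d34_2 (iv F3718) D937 (iv D784)
def n938 : Q := act 4 n780
theorem D938 : act 4 n780 = n938 := rfl
theorem F4417 : act 0 n938 = n781 := d3_1 D938 (iv D781) D780
theorem F4418 : act 1 n938 = n938 := d10_1 D938 (iv D938) F3719
theorem F4419 : act 2 n938 = n835 := d16_1 D938 (iv D835) (iv F3720)
theorem F4420 : act 6 n938 = n790 := d27_2 (iv F3721) D938 (iv D790)
theorem F4421 : act 7 n938 = n801 := d28_2 (iv F3722) D938 (iv D801)
def n939 : Q := act 3 n781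
theorem D939 : act 3 n781 = n939 := rfl
theorem F4422 : act 1 n939 = n782 := d9_1 D939 (iv D782) (iv F3723)
theorem F4423 : act 6 n939 = n791 := d23_2 (iv F3725) D939 (iv D791)
def n940 : Q := act 5 n781
theorem D940 : act 5 n781 = n940 := rfl
theorem F4424 : act 1 n940 = n783 := d11_1 D940 (iv D783) (iv F3723)
theorem F4425 : act 2 n940 = n837 := d17_1 D940 (iv D837) (iv F3724)
theorem F4426 : act 7 n940 = n803 := d31_2 (iv F3726) D940 (iv D803)
def n941 : Q := act 5 n782
theorem D941 : act 5 n782 = n941 := rfl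
theorem F4427 : act 0 n941 = n941 := d4_1 D941 (iv D941) F3727
theorem F4428 : act 2 n941 = n941 := d17_1 D941 (iv D941) F3728
theorem F4429 : act 3 n941 = n783 := d22_1 D941 (iv D783) D782
def n942 : Q := act 7 n782
theorem D942 : act 7 n782 = n942 := rfl
theorem F4430 : act 0 n942 = n942 := d6_1 D942 (iv D942) F3727
theorem F4431 : act 2 n942 = n942 := d19_1 D942 (iv D942) F3728
theorem F4432 : act 3 n942 = n805 := d24_1 D942 (iv D805) (iv D646) (iv F3027) D782
theorem F4433 : act 6 n942 = n794 := d33_1 D942 (iv D794) (iv F3729)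
def n943 : Q := act 6 n783
theorem D943 : act 6 n783 = n943 := rfl
theorem F4434 : act 0 n943 = n943 := d5_1 D943 (iv D943) F3730
theorem F4435 : act 2 n943 = n784 := d18_1 D943 (iv D784) (iv F3731)
theorem F4436 : act 5 n943 = n795 := d30_1 D943 (iv D795) (iv D639) (iv F3026) D783
theorem F4437 : act 7 n943 = n806 := d33_2 (iv F3732) D943 (iv D806)
def n944 : Q := act 4 n785
theorem D944 : act 4 n785 = n944 := rfl
theorem F4438 : act 0 n944 = n786 := d3_1 D944 (iv D786) D785
theorem F4439 : act 1 n944 = n944 := d10_1 D944 (iv D944) F3738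
theorem F4440 : act 2 n944 = n840 := d16_1 D944 (iv D840) (iv F3739)
theorem F4441 : act 7 n944 = n944 := d28_2 F3741 D944 (iv D944)
theorem F4442 : act 8 n944 = n790 := d29_2 (iv F3742) D944 (iv D790)
theorem F4443 : act 5 n844 = n944 := d17_0 F4440 (iv F3977) D844
def n945 : Q := act 3 n786
theorem D945 : act 3 n786 = n945 := rfl
theorem F4444 : act 1 n945 = n787 := d9_1 D945 (iv D787) (iv F3743)
theorem F4445 : act 8 n945 = n791 := d25_2 (iv F3746) D945 (iv D791)
def n946 : Q := act 5 n786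
theorem D946 : act 5 n786 = n946 := rfl
theorem F4446 : act 0 n946 = n844 := d4_1 D946 F4443 F4438
theorem F4447 : act 1 n946 = n788 := d11_1 D946 (iv D788) (iv F3743)
theorem F4448 : act 2 n946 = n842 := d17_1 D946 (iv D842) (iv F3744)
theorem F4449 : act 4 n946 = n946 := d26_1 D946 (iv D946) (iv D786) F3033 D786
theorem F4450 : act 7 n946 = n946 := d31_2 F3745 D946 (iv D946)
theorem F4451 : act 8 n946 = n792 := d32_2 (iv F3746) D946 (iv D792)
def n947 : Q := act 5 n787
theorem D947 : act 5 n787 = n947 := rfl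
theorem F4452 : act 0 n947 = n947 := d4_1 D947 (iv D947) F3747
theorem F4453 : act 2 n947 = n947 := d17_1 D947 (iv D947) F3748
theorem F4454 : act 3 n947 = n788 := d22_1 D947 (iv D788) D787
theorem F4455 : act 8 n947 = n793 := d32_2 (iv F3749) D947 (iv D793)
def n948 : Q := act 7 n787
theorem D948 : act 7 n787 = n948 := rfl
theorem F4456 : act 0 n948 = n948 := d6_1 D948 (iv D948) F3747
theorem F4457 : act 2 n948 = n948 := d19_1 D948 (iv D948) F3748
theorem F4458 : act 3 n948 = n948 := d24_1 D948 (iv D948) (iv D787) F3038 D787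
theorem F4459 : act 4 n948 = n793 := d28_1 D948 (iv F4304) F4302
def n949 : Q := act 6 n788
theorem D949 : act 6 n788 = n949 := rfl
theorem F4460 : act 0 n949 = n949 := d5_1 D949 (iv D949) F3750
theorem F4461 : act 2 n949 = n789 := d18_1 D949 (iv D789) (iv F3751)
theorem F4462 : act 4 n949 = n949 := d27_1 D949 (iv D949) F3752
theorem F4463 : act 7 n949 = n949 := d33_2 F3753 D949 (iv D949)
theorem F4464 : act 8 n949 = n795 := d34_2 (iv F3754) D949 (iv D795)
def n950 : Q := act 3 n790
theorem D950 : act 3 n790 = n950 := rfl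
theorem F4465 : act 0 n950 = n791 := d2_1 D950 (iv D791) (iv F3761)
theorem F4466 : act 1 n950 = n950 := d9_1 D950 (iv D950) F3762
def n951 : Q := act 5 n790
theorem D951 : act 5 n790 = n951 := rfl
theorem F4467 : act 0 n951 = n792 := d4_1 D951 (iv D792) (iv F3761)
theorem F4468 : act 1 n951 = n951 := d11_1 D951 (iv D951) F3762
theorem F4469 : act 2 n951 = n841 := d17_1 D951 (iv F3982) (iv F3763)
theorem F4470 : act 4 n951 = n951 := d26_1 D951 (iv D951) (iv D790) F3048 D790
theorem F4471 : act 7 n951 = n808 := d31_2 (iv F3764) D951 (iv D808)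
theorem F4472 : act 8 n951 = n844 := d32_2 F4442 D951 F4443
def n952 : Q := act 2 n791
theorem D952 : act 2 n791 = n952 := rfl
theorem F4473 : act 1 n952 = n952 := d8_1 D952 (iv D952) F3765 F3054 (iv F3765)
theorem F4474 : act 3 n952 = n844 := d15_2 D791 D952 (iv D844) (iv D690) (iv F3051)
def n953 : Q := act 5 n791
theorem D953 : act 5 n791 = n953 := rfl
theorem F4475 : act 1 n953 = n793 := d11_1 D953 (iv D793) (iv F3765)
theorem F4476 : act 3 n953 = n792 := d22_1 D953 (iv D792) D791
def n954 : Q := act 7 n791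
theorem D954 : act 7 n791 = n954 := rfl
theorem F4477 : act 1 n954 = n794 := d13_1 D954 (iv D794) (iv F3765)
theorem F4478 : act 3 n954 = n810 := d24_1 D954 (iv D810) (iv D650) (iv F3052) D791
def n955 : Q := act 6 n792
theorem D955 : act 6 n792 = n955 := rfl
theorem F4479 : act 1 n955 = n795 := d12_1 D955 (iv D795) (iv F3766)
theorem F4480 : act 2 n955 = n845 := d18_1 D955 (iv D845) (iv F3767)
theorem F4481 : act 4 n955 = n955 := d27_1 D955 (iv D955) F3768
theorem F4482 : act 7 n955 = n811 := d33_2 (iv F3769) D955 (iv D811)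
def n956 : Q := act 6 n793
theorem D956 : act 6 n793 = n956 := rfl
theorem F4483 : act 0 n956 = n956 := d5_1 D956 (iv D956) F3770
theorem F4484 : act 2 n956 = n956 := d18_1 D956 (iv D956) F3771
theorem F4485 : act 3 n956 = n795 := d23_1 D956 (iv D795) (iv F3772)
def n957 : Q := act 4 n796
theorem D957 : act 4 n796 = n957 := rfl
theorem F4486 : act 0 n957 = n797 := d3_1 D957 (iv D797) D796
theorem F4487 : act 1 n957 = n957 := d10_1 D957 (iv D957) F3780
theorem F4488 : act 2 n957 = n847 := d16_1 D957 (iv D847) (iv F3781)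
theorem F4489 : act 6 n957 = n957 := d27_2 F3784 D957 (iv D957)
theorem F4490 : act 8 n957 = n957 := d29_2 F3785 D957 (iv D957)
def n958 : Q := act 3 n797
theorem D958 : act 3 n797 = n958 := rfl
theorem F4491 : act 1 n958 = n798 := d9_1 D958 (iv D798) (iv F3786)
theorem F4492 : act 4 n958 = n958 := d21_2 D797 D958 (iv D958) (iv D797) F3065
theorem F4493 : act 6 n958 = n958 := d23_2 F3788 D958 (iv D958)
theorem F4494 : act 8 n958 = n958 := d25_2 F3789 D958 (iv D958)
def n959 : Q := act 5 n797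
theorem D959 : act 5 n797 = n959 := rfl
theorem F4495 : act 1 n959 = n799 := d11_1 D959 (iv D799) (iv F3786)
theorem F4496 : act 2 n959 = n849 := d17_1 D959 (iv D849) (iv F3787)
theorem F4497 : act 4 n959 = n803 := d26_1 D959 (iv D803) (iv D645) (iv F3066) D797
theorem F4498 : act 8 n959 = n959 := d32_2 F3789 D959 (iv D959)
def n960 : Q := act 5 n798
theorem D960 : act 5 n798 = n960 := rfl
theorem F4499 : act 0 n960 = n960 := d4_1 D960 (iv D960) F3790
theorem F4500 : act 2 n960 = n960 := d17_1 D960 (iv D960) F3791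
theorem F4501 : act 3 n960 = n799 := d22_1 D960 (iv D799) D798
theorem F4502 : act 8 n960 = n960 := d32_2 F3794 D960 (iv D960)
def n961 : Q := act 7 n798
theorem D961 : act 7 n798 = n961 := rfl
theorem F4503 : act 0 n961 = n961 := d6_1 D961 (iv D961) F3790
theorem F4504 : act 2 n961 = n961 := d19_1 D961 (iv D961) F3791
theorem F4505 : act 4 n961 = n961 := d28_1 D961 (iv D961) F3792
theorem F4506 : act 6 n961 = n961 := d33_1 D961 (iv D961) F3793
def n962 : Q := act 6 n799
theorem D962 : act 6 n799 = n962 := rfl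
theorem F4507 : act 0 n962 = n962 := d5_1 D962 (iv D962) F3795
theorem F4508 : act 2 n962 = n800 := d18_1 D962 (iv D800) (iv F3796)
theorem F4509 : act 4 n962 = n806 := d27_1 D962 (iv D806) (iv F3797)
theorem F4510 : act 5 n962 = n962 := d30_1 D962 (iv D962) (iv D799) F3071 D799
theorem F4511 : act 8 n962 = n962 := d34_2 F3798 D962 (iv D962)
def n963 : Q := act 3 n801
theorem D963 : act 3 n801 = n963 := rfl
theorem F4512 : act 0 n963 = n802 := d2_1 D963 (iv D802) (iv F3805)
theorem F4513 : act 1 n963 = n963 := d9_1 D963 (iv D963) F3806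
theorem F4514 : act 2 n963 = n963 := d15_1 D963 (iv D963) F3807 F3335 (iv F3807)
theorem F4515 : act 4 n963 = n963 := d21_2 D801 D963 (iv D963) (iv D801) F3080
theorem F4516 : act 6 n963 = n807 := d23_2 (iv F3808) D963 (iv D807)
theorem F4517 : act 8 n963 = n963 := d25_2 F3809 D963 (iv D963)
def n964 : Q := act 5 n801
theorem D964 : act 5 n801 = n964 := rfl
theorem F4518 : act 0 n964 = n803 := d4_1 D964 (iv D803) (iv F3805)
theorem F4519 : act 1 n964 = n964 := d11_1 D964 (iv D964) F3806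
theorem F4520 : act 2 n964 = n853 := d17_1 D964 (iv D853) (iv F3807)
theorem F4521 : act 8 n964 = n964 := d32_2 F3809 D964 (iv D964)
def n965 : Q := act 5 n802
theorem D965 : act 5 n802 = n965 := rfl
theorem F4522 : act 1 n965 = n804 := d11_1 D965 (iv D804) (iv F3810)
theorem F4523 : act 2 n965 = n965 := d17_1 D965 (iv D965) F3811
theorem F4524 : act 3 n965 = n803 := d22_1 D965 (iv D803) D802
theorem F4525 : act 8 n965 = n965 := d32_2 F3814 D965 (iv D965)
def n966 : Q := act 7 n802
theorem D966 : act 7 n802 = n966 := rfl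
theorem F4526 : act 1 n966 = n805 := d13_1 D966 (iv D805) (iv F3810)
theorem F4527 : act 2 n966 = n966 := d19_1 D966 (iv D966) F3811
theorem F4528 : act 4 n966 = n966 := d28_1 D966 (iv D966) F3812
theorem F4529 : act 6 n966 = n810 := d33_1 D966 (iv D810) (iv F3813)
def n967 : Q := act 6 n803
theorem D967 : act 6 n803 = n967 := rfl
theorem F4530 : act 1 n967 = n806 := d12_1 D967 (iv D806) (iv F3815)
theorem F4531 : act 2 n967 = n854 := d18_1 D967 (iv D854) (iv F3816)
theorem F4532 : act 5 n967 = n811 := d30_1 D967 (iv D811) (iv D651) (iv F3085) D803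
theorem F4533 : act 8 n967 = n967 := d34_2 F3817 D967 (iv D967)
def n968 : Q := act 4 n804
theorem D968 : act 4 n804 = n968 := rfl
theorem F4534 : act 0 n968 = n968 := d3_1 D968 (iv D968) F3818
theorem F4535 : act 2 n968 = n813 := d16_1 D968 (iv D813) (iv F3819)
theorem F4536 : act 5 n968 = n968 := d26_2 D804 D968 (iv D968) (iv D804) F3089
theorem F4537 : act 8 n968 = n968 := d29_2 F3821 D968 (iv D968)
def n969 : Q := act 6 n804
theorem D969 : act 6 n804 = n969 := rfl
theorem F4538 : act 0 n969 = n969 := d5_1 D969 (iv D969) F3818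
theorem F4539 : act 2 n969 = n814 := d18_1 D969 (iv D814) (iv F3819)
theorem F4540 : act 3 n969 = n806 := d23_1 D969 (iv D806) (iv F3820)
theorem F4541 : act 5 n969 = n812 := d30_1 D969 (iv D812) (iv D652) (iv F3090) D804
theorem F4542 : act 8 n969 = n969 := d34_2 F3821 D969 (iv D969)
def n970 : Q := act 7 n804
theorem D970 : act 7 n804 = n970 := rfl
theorem F4543 : act 0 n970 = n970 := d6_1 D970 (iv D970) F3818
theorem F4544 : act 2 n970 = n815 := d19_1 D970 (iv D815) (iv F3819)
theorem F4545 : act 5 n970 = n805 := d31_1 D970 (iv D805) D804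
def n971 : Q := act 5 n807
theorem D971 : act 5 n807 = n971 := rfl
theorem F4546 : act 0 n971 = n809 := d4_1 D971 (iv D809) (iv F3830)
theorem F4547 : act 1 n971 = n971 := d11_1 D971 (iv D971) F3831
theorem F4548 : act 2 n971 = n971 := d17_1 D971 (iv D971) F3832
theorem F4549 : act 3 n971 = n808 := d22_1 D971 (iv D808) D807
theorem F4550 : act 8 n971 = n971 := d32_2 F3834 D971 (iv D971)
def n972 : Q := act 7 n807
theorem D972 : act 7 n807 = n972 := rfl
theorem F4551 : act 0 n972 = n810 := d6_1 D972 (iv D810) (iv F3830)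
theorem F4552 : act 1 n972 = n972 := d13_1 D972 (iv D972) F3831
theorem F4553 : act 2 n972 = n972 := d19_1 D972 (iv D972) F3832
theorem F4554 : act 4 n972 = n972 := d28_1 D972 (iv D972) F3833
def n973 : Q := act 6 n808
theorem D973 : act 6 n808 = n973 := rfl
theorem F4555 : act 0 n973 = n811 := d5_1 D973 (iv D811) (iv F3835)
theorem F4556 : act 1 n973 = n973 := d12_1 D973 (iv D973) F3836
theorem F4557 : act 2 n973 = n855 := d18_1 D973 (iv D855) (iv F3837)
theorem F4558 : act 4 n973 = n973 := d27_1 D973 (iv D973) F3838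
theorem F4559 : act 8 n973 = n973 := d34_2 F3839 D973 (iv D973)
def n974 : Q := act 6 n809
theorem D974 : act 6 n809 = n974 := rfl
theorem F4560 : act 1 n974 = n812 := d12_1 D974 (iv D812) (iv F3840)
theorem F4561 : act 2 n974 = n974 := d18_1 D974 (iv D974) F3841
theorem F4562 : act 3 n974 = n811 := d23_1 D974 (iv D811) (iv F3842)
theorem F4563 : act 8 n974 = n974 := d34_2 F3843 D974 (iv D974)
def n975 : Q := act 6 n813
theorem D975 : act 6 n813 = n975 := rfl
theorem F4564 : act 0 n975 = n975 := d5_1 D975 (iv D975) F3855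
theorem F4565 : act 1 n975 = n975 := d12_1 D975 (iv D975) F3856
theorem F4566 : act 3 n975 = n975 := d23_1 D975 (iv D975) F3857
theorem F4567 : act 4 n975 = n814 := d27_1 D975 (iv D814) D813
theorem F4568 : act 8 n975 = n975 := d34_2 F3859 D975 (iv D975)
def n976 : Q := act 7 n813
theorem D976 : act 7 n813 = n976 := rfl
theorem F4569 : act 0 n976 = n976 := d6_1 D976 (iv D976) F3855
theorem F4570 : act 1 n976 = n976 := d13_1 D976 (iv D976) F3856
theorem F4571 : act 4 n976 = n815 := d28_1 D976 (iv D815) D813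
theorem F4572 : act 5 n976 = n976 := d31_1 D976 (iv D976) F3858
def n977 : Q := act 4 n816
theorem D977 : act 4 n816 = n977 := rfl
theorem F4573 : act 0 n977 = n860 := d3_1 D977 (iv D860) (iv F3869)
theorem F4574 : act 2 n977 = n883 := d16_1 D977 F4164 (iv F3870)
theorem F4575 : act 3 n977 = n977 := d21_1 D977 (iv D977) (iv D816) F3187 D816
theorem F4576 : act 6 n977 = n977 := d27_2 F3872 D977 (iv D977)
theorem F4577 : act 7 n977 = n818 := d28_2 (iv F3873) D977 (iv D818)
theorem F4578 : act 8 n977 = n977 := d29_2 F3874 D977 (iv D977)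
def n978 : Q := act 1 n817
theorem D978 : act 1 n817 = n978 := rfl
theorem F4579 : act 0 n978 = n858 := d0_1 D978 F4056 F3366 (iv F3482) (iv F3875)
theorem F4580 : act 3 n978 = n978 := d9_2 F3876 D978 (iv D978)
theorem F4581 : act 5 n978 = n978 := d11_2 F3877 D978 (iv D978)
theorem F4582 : act 6 n978 = n978 := d12_2 F3878 D978 (iv D978)
theorem F4583 : act 7 n978 = n856 := d13_2 (iv F3879) D978 F4047
theorem F4584 : act 8 n978 = n819 := d14_2 (iv F3880) D978 (iv D819)
def n979 : Q := act 4 n817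
theorem D979 : act 4 n817 = n979 := rfl
theorem F4585 : act 0 n979 = n861 := d3_1 D979 (iv D861) (iv F3875)
theorem F4586 : act 2 n979 = n818 := d16_1 D979 (iv D818) D817
theorem F4587 : act 6 n979 = n979 := d27_2 F3878 D979 (iv D979)
theorem F4588 : act 7 n979 = n883 := d28_2 (iv F3879) D979 F4164
theorem F4589 : act 8 n979 = n820 := d29_2 (iv F3880) D979 (iv D820)
def n980 : Q := act 5 n818
theorem D980 : act 5 n818 = n980 := rfl
theorem F4590 : act 0 n980 = n862 := d4_1 D980 (iv D862) (iv F3881)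
theorem F4591 : act 3 n980 = n824 := d22_1 D980 (iv D824) (iv F3882)
theorem F4592 : act 4 n980 = n980 := d26_1 D980 (iv D980) (iv D818) F3192 D818
theorem F4593 : act 8 n980 = n821 := d32_2 (iv F3884) D980 (iv D821)
def n981 : Q := act 0 n819
theorem D981 : act 0 n819 = n981 := rfl
theorem F4594 : act 1 n981 = n859 := d0_2 D819 D981 F4060 (iv D716) (iv F3195)
theorem F4595 : act 3 n981 = n981 := d2_2 F3885 D981 (iv D981)
theorem F4596 : act 5 n981 = n981 := d4_2 F3886 D981 (iv D981)
theorem F4597 : act 6 n981 = n981 := d5_2 F3887 D981 (iv D981)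
theorem F4598 : act 7 n981 = n981 := d6_2 F3888 D981 (iv D981)
theorem F4599 : act 8 n981 = n858 := d7_2 F4584 D981 (iv F4579)
def n982 : Q := act 4 n819
theorem D982 : act 4 n819 = n982 := rfl
theorem F4600 : act 1 n982 = n820 := d10_1 D982 (iv D820) D819
theorem F4601 : act 6 n982 = n982 := d27_2 F3887 D982 (iv D982)
theorem F4602 : act 7 n982 = n982 := d28_2 F3888 D982 (iv D982)
def n983 : Q := act 3 n820
theorem D983 : act 3 n820 = n983 := rfl
theorem F4603 : act 0 n983 = n864 := d2_1 D983 (iv D864) (iv F3889)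
theorem F4604 : act 2 n983 = n827 := d15_1 D983 (iv D827) F3219 (iv F3201) (iv F3890)
theorem F4605 : act 4 n983 = n983 := d21_2 D820 D983 (iv D983) (iv D820) F3196
theorem F4606 : act 6 n983 = n983 := d23_2 F3891 D983 (iv D983)
def n984 : Q := act 5 n820
theorem D984 : act 5 n820 = n984 := rfl
theorem F4607 : act 0 n984 = n865 := d4_1 D984 (iv D865) (iv F3889)
theorem F4608 : act 2 n984 = n821 := d17_1 D984 (iv D821) (iv F3890)
theorem F4609 : act 4 n984 = n984 := d26_1 D984 (iv D984) (iv D820) F3197 D820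
theorem F4610 : act 7 n984 = n984 := d31_2 F3892 D984 (iv D984)
def n985 : Q := act 6 n821
theorem D985 : act 6 n821 = n985 := rfl
theorem F4611 : act 0 n985 = n866 := d5_1 D985 (iv D866) (iv F3893)
theorem F4612 : act 3 n985 = n829 := d23_1 D985 (iv D829) (iv F3894)
theorem F4613 : act 4 n985 = n985 := d27_1 D985 (iv D985) F3895
theorem F4614 : act 5 n985 = n985 := d30_1 D985 (iv D985) (iv D821) F3202 D821
theorem F4615 : act 7 n985 = n985 := d33_2 F3896 D985 (iv D985)
def n986 : Q := act 0 n822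
theorem D986 : act 0 n822 = n986 := rfl
theorem F4616 : act 1 n986 = n867 := d0_2 D822 D986 (iv D867) (iv D719) (iv F3204)
theorem F4617 : act 3 n986 = n986 := d2_2 F3897 D986 (iv D986)
theorem F4618 : act 5 n986 = n830 := d4_2 (iv F3898) D986 (iv D830)
theorem F4619 : act 6 n986 = n986 := d5_2 F3899 D986 (iv D986)
theorem F4620 : act 7 n986 = n986 := d6_2 F3900 D986 (iv D986)
theorem F4621 : act 8 n986 = n825 := d7_2 (iv F3901) D986 (iv D825)
def n987 : Q := act 4 n822
theorem D987 : act 4 n822 = n987 := rfl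
theorem F4622 : act 1 n987 = n823 := d10_1 D987 (iv D823) D822
theorem F4623 : act 6 n987 = n987 := d27_2 F3899 D987 (iv D987)
theorem F4624 : act 7 n987 = n987 := d28_2 F3900 D987 (iv D987)
theorem F4625 : act 8 n987 = n826 := d29_2 (iv F3901) D987 (iv D826)
def n988 : Q := act 3 n823
theorem D988 : act 3 n823 = n988 := rfl
theorem F4626 : act 0 n988 = n869 := d2_1 D988 (iv D869) (iv F3902)
theorem F4627 : act 4 n988 = n988 := d21_2 D823 D988 (iv D988) (iv D823) F3205
theorem F4628 : act 6 n988 = n988 := d23_2 F3904 D988 (iv D988)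
theorem F4629 : act 8 n988 = n827 := d25_2 (iv F3906) D988 (iv D827)
def n989 : Q := act 5 n823
theorem D989 : act 5 n823 = n989 := rfl
theorem F4630 : act 0 n989 = n870 := d4_1 D989 (iv D870) (iv F3902)
theorem F4631 : act 2 n989 = n824 := d17_1 D989 (iv D824) (iv F3903)
theorem F4632 : act 4 n989 = n833 := d26_1 D989 (iv D833) (iv D677) (iv F3206) D823
theorem F4633 : act 7 n989 = n989 := d31_2 F3905 D989 (iv D989)
theorem F4634 : act 8 n989 = n828 := d32_2 (iv F3906) D989 (iv D828)
def n990 : Q := act 6 n824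
theorem D990 : act 6 n824 = n990 := rfl
theorem F4635 : act 0 n990 = n871 := d5_1 D990 (iv D871) (iv F3907)
theorem F4636 : act 4 n990 = n834 := d27_1 D990 (iv D834) (iv F3908)
theorem F4637 : act 5 n990 = n990 := d30_1 D990 (iv D990) (iv D824) F3211 D824
theorem F4638 : act 7 n990 = n990 := d33_2 F3909 D990 (iv D990)
theorem F4639 : act 8 n990 = n829 := d34_2 (iv F3910) D990 (iv D829)
def n991 : Q := act 4 n825
theorem D991 : act 4 n825 = n991 := rfl
theorem F4640 : act 0 n991 = n826 := d3_1 D991 (iv D826) D825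
theorem F4641 : act 1 n991 = n872 := d10_1 D991 (iv D872) (iv F3911)
theorem F4642 : act 6 n991 = n991 := d27_2 F3914 D991 (iv D991)
theorem F4643 : act 7 n991 = n847 := d28_2 (iv F3915) D991 (iv D847)
def n992 : Q := act 3 n826
theorem D992 : act 3 n826 = n992 := rfl
theorem F4644 : act 1 n992 = n827 := d9_1 D992 (iv D827) (iv F3916)
theorem F4645 : act 4 n992 = n992 := d21_2 D826 D992 (iv D992) (iv D826) F3214
theorem F4646 : act 6 n992 = n992 := d23_2 F3917 D992 (iv D992)
def n993 : Q := act 5 n826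
theorem D993 : act 5 n826 = n993 := rfl
theorem F4647 : act 1 n993 = n828 := d11_1 D993 (iv D828) (iv F3916)
theorem F4648 : act 4 n993 = n837 := d26_1 D993 (iv D837) (iv D680) (iv F3215) D826
theorem F4649 : act 7 n993 = n849 := d31_2 (iv F3918) D993 (iv D849)
def n994 : Q := act 5 n827
theorem D994 : act 5 n827 = n994 := rfl
theorem F4650 : act 0 n994 = n875 := d4_1 D994 (iv D875) (iv F3919)
theorem F4651 : act 3 n994 = n828 := d22_1 D994 (iv D828) D827
def n995 : Q := act 7 n827
theorem D995 : act 7 n827 = n995 := rfl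
theorem F4652 : act 0 n995 = n876 := d6_1 D995 (iv D876) (iv F3919)
theorem F4653 : act 3 n995 = n851 := d24_1 D995 (iv D851) (iv D696) (iv F3221) D827
theorem F4654 : act 4 n995 = n995 := d28_1 D995 (iv D995) F3920
theorem F4655 : act 6 n995 = n995 := d33_1 D995 (iv D995) F3921
def n996 : Q := act 6 n828
theorem D996 : act 6 n828 = n996 := rfl
theorem F4656 : act 0 n996 = n877 := d5_1 D996 (iv D877) (iv F3922)
theorem F4657 : act 2 n996 = n829 := d18_1 D996 (iv D829) (iv F3923)
theorem F4658 : act 4 n996 = n839 := d27_1 D996 (iv D839) (iv F3924)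
theorem F4659 : act 5 n996 = n996 := d30_1 D996 (iv D996) (iv D828) F3220 D828
theorem F4660 : act 7 n996 = n852 := d33_2 (iv F3925) D996 (iv D852)
def n997 : Q := act 4 n830
theorem D997 : act 4 n830 = n997 := rfl
theorem F4661 : act 0 n997 = n831 := d3_1 D997 (iv D831) D830
theorem F4662 : act 1 n997 = n846 := d10_1 D997 F4005 (iv F3930)
theorem F4663 : act 6 n997 = n840 := d27_2 (iv F3932) D997 (iv D840)
theorem F4664 : act 7 n997 = n997 := d28_2 F3933 D997 (iv D997)
theorem F4665 : act 8 n997 = n835 := d29_2 (iv F3934) D997 (iv D835)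
theorem F4666 : act 3 n845 = n997 := d23_3 F4663 F3976 D845
def n998 : Q := act 3 n831
theorem D998 : act 3 n831 = n998 := rfl
theorem F4667 : act 0 n998 = n845 := d2_1 D998 F4666 F4661
theorem F4668 : act 1 n998 = n832 := d9_1 D998 (iv D832) (iv F3935)
theorem F4669 : act 4 n998 = n998 := d21_2 D831 D998 (iv D998) (iv D831) F3225
theorem F4670 : act 6 n998 = n841 := d23_2 (iv F3936) D998 (iv D841)
theorem F4671 : act 8 n998 = n836 := d25_2 (iv F3938) D998 (iv D836)
theorem F4672 : act 7 n855 = n998 := d33_0 F4670 F3983 D855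
def n999 : Q := act 5 n831
theorem D999 : act 5 n831 = n999 := rfl
theorem F4673 : act 1 n999 = n833 := d11_1 D999 (iv D833) (iv F3935)
theorem F4674 : act 7 n999 = n999 := d31_2 F3937 D999 (iv D999)
theorem F4675 : act 8 n999 = n837 := d32_2 (iv F3938) D999 (iv D837)
def n1000 : Q := act 5 n832
theorem D1000 : act 5 n832 = n1000 := rfl
theorem F4676 : act 0 n1000 = n879 := d4_1 D1000 (iv D879) (iv F3939)
theorem F4677 : act 2 n1000 = n1000 := d17_1 D1000 (iv D1000) F3940
theorem F4678 : act 3 n1000 = n833 := d22_1 D1000 (iv D833) D832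
theorem F4679 : act 6 n1000 = n881 := d30_2 (iv F3942) D1000 (iv D881) F3500 F3269
theorem F4680 : act 7 n1000 = n889 := d31_2 F3944 D1000 F4191
theorem F4681 : act 8 n1000 = n838 := d32_2 (iv F3943) D1000 (iv D838)
def n1001 : Q := act 6 n833
theorem D1001 : act 6 n833 = n1001 := rfl
theorem F4682 : act 0 n1001 = n880 := d5_1 D1001 (iv D880) (iv F3945)
theorem F4683 : act 2 n1001 = n834 := d18_1 D1001 (iv D834) (iv F3946)
theorem F4684 : act 3 n1001 = n881 := d23_1 D1001 (iv F4679) F4678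
theorem F4685 : act 5 n1001 = n843 := d30_1 D1001 (iv D843) (iv D687) (iv F3231) D833
theorem F4686 : act 7 n1001 = n1001 := d33_2 F3947 D1001 (iv D1001)
theorem F4687 : act 8 n1001 = n839 := d34_2 (iv F3948) D1001 (iv D839)
def n1002 : Q := act 3 n835
theorem D1002 : act 3 n835 = n1002 := rfl
theorem F4688 : act 0 n1002 = n836 := d2_1 D1002 (iv D836) (iv F3954)
theorem F4689 : act 1 n1002 = n843 := d9_1 D1002 F3992 (iv F3955)
theorem F4690 : act 4 n1002 = n1002 := d21_2 D835 D1002 (iv D1002) (iv D835) F3239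
theorem F4691 : act 6 n1002 = n842 := d23_2 (iv F3956) D1002 F3986
theorem F4692 : act 7 n1002 = n1002 := d24_2 (iv F3957) D1002 (iv D1002) F3957 F3335
theorem F4693 : act 8 n1002 = n845 := d25_2 F4665 D1002 F4666
def n1003 : Q := act 5 n835
theorem D1003 : act 5 n835 = n1003 := rfl
theorem F4694 : act 0 n1003 = n837 := d4_1 D1003 (iv D837) (iv F3954)
theorem F4695 : act 1 n1003 = n881 := d11_1 D1003 (iv D881) (iv F3955)
theorem F4696 : act 7 n1003 = n853 := d31_2 (iv F3957) D1003 (iv D853)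
def n1004 : Q := act 2 n836
theorem D1004 : act 2 n836 = n1004 := rfl
theorem F4697 : act 1 n1004 = n1004 := d8_1 D1004 (iv D1004) F3958 F3246 (iv F3958)
theorem F4698 : act 4 n1004 = n1004 := d16_2 F3959 D1004 (iv D1004)
theorem F4699 : act 6 n1004 = n844 := d18_2 (iv F3960) D1004 (iv D844)
theorem F4700 : act 7 n1004 = n1004 := d19_2 F3961 D1004 (iv D1004)
def n1005 : Q := act 5 n836
theorem D1005 : act 5 n836 = n1005 := rfl
theorem F4701 : act 1 n1005 = n838 := d11_1 D1005 (iv D838) (iv F3958)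
theorem F4702 : act 3 n1005 = n837 := d22_1 D1005 (iv D837) D836
theorem F4703 : act 7 n1005 = n1005 := d31_2 F3961 D1005 (iv D1005)
def n1006 : Q := act 6 n837
theorem D1006 : act 6 n837 = n1006 := rfl
theorem F4704 : act 1 n1006 = n839 := d12_1 D1006 (iv D839) (iv F3962)
theorem F4705 : act 5 n1006 = n845 := d30_1 D1006 (iv D845) (iv D691) (iv F3243) D837
theorem F4706 : act 7 n1006 = n854 := d33_2 (iv F3963) D1006 (iv D854)
def n1007 : Q := act 4 n838
theorem D1007 : act 4 n838 = n1007 := rfl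
theorem F4707 : act 0 n1007 = n882 := d3_1 D1007 (iv D882) (iv F3964)
theorem F4708 : act 2 n1007 = n1007 := d16_1 D1007 (iv D1007) F3965
theorem F4709 : act 5 n1007 = n1007 := d26_2 D838 D1007 (iv D1007) (iv D838) F3247
theorem F4710 : act 7 n1007 = n1007 := d28_2 F3967 D1007 (iv D1007)
def n1008 : Q := act 6 n838
theorem D1008 : act 6 n838 = n1008 := rfl
theorem F4711 : act 0 n1008 = n878 := d5_1 D1008 F4142 (iv F3964)
theorem F4712 : act 2 n1008 = n1008 := d18_1 D1008 (iv D1008) F3965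
theorem F4713 : act 3 n1008 = n839 := d23_1 D1008 (iv D839) (iv F3966)
theorem F4714 : act 5 n1008 = n846 := d30_1 D1008 (iv D846) (iv D692) (iv F3248) D838
theorem F4715 : act 7 n1008 = n1008 := d33_2 F3967 D1008 (iv D1008)
theorem F4716 : act 8 n1008 = n881 := d34_2 F4681 D1008 (iv F4679)
def n1009 : Q := act 3 n847
theorem D1009 : act 3 n847 = n1009 := rfl
theorem F4717 : act 0 n1009 = n848 := d2_1 D1009 (iv D848) (iv F4008)
theorem F4718 : act 1 n1009 = n883 := d9_1 D1009 (iv D883) (iv F4009)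
theorem F4719 : act 4 n1009 = n856 := d21_2 D847 D1009 (iv D856) (iv D704) (iv F3312)
theorem F4720 : act 6 n1009 = n1009 := d23_2 F4010 D1009 (iv D1009)
theorem F4721 : act 8 n1009 = n1009 := d25_2 F4011 D1009 (iv D1009)
def n1010 : Q := act 5 n847
theorem D1010 : act 5 n847 = n1010 := rfl
theorem F4722 : act 0 n1010 = n849 := d4_1 D1010 (iv D849) (iv F4008)
theorem F4723 : act 1 n1010 = n884 := d11_1 D1010 (iv D884) (iv F4009)
theorem F4724 : act 4 n1010 = n853 := d26_1 D1010 (iv D853) (iv D699) (iv F3313) D847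
theorem F4725 : act 8 n1010 = n1010 := d32_2 F4011 D1010 (iv D1010)
def n1011 : Q := act 2 n848
theorem D1011 : act 2 n848 = n1011 := rfl
theorem F4726 : act 1 n1011 = n1011 := d8_1 D1011 (iv D1011) F4012 F3320 (iv F4012)
theorem F4727 : act 4 n1011 = n857 := d16_2 (iv F4013) D1011 (iv D857)
theorem F4728 : act 6 n1011 = n1011 := d18_2 F4014 D1011 (iv D1011)
theorem F4729 : act 8 n1011 = n1011 := d20_2 F4015 D1011 (iv D1011)
def n1012 : Q := act 5 n848
theorem D1012 : act 5 n848 = n1012 := rfl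
theorem F4730 : act 1 n1012 = n850 := d11_1 D1012 (iv D850) (iv F4012)
theorem F4731 : act 3 n1012 = n849 := d22_1 D1012 (iv D849) D848
theorem F4732 : act 4 n1012 = n1012 := d26_1 D1012 (iv D1012) F4013 F3363 (iv F4013)
theorem F4733 : act 8 n1012 = n1012 := d32_2 F4015 D1012 (iv D1012)
def n1013 : Q := act 7 n848
theorem D1013 : act 7 n848 = n1013 := rfl
theorem F4734 : act 1 n1013 = n851 := d13_1 D1013 (iv D851) (iv F4012)
theorem F4735 : act 4 n1013 = n858 := d28_1 D1013 (iv D858) (iv F4013)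
theorem F4736 : act 6 n1013 = n1013 := d33_1 D1013 (iv D1013) F4014
def n1014 : Q := act 6 n849
theorem D1014 : act 6 n849 = n1014 := rfl
theorem F4737 : act 1 n1014 = n852 := d12_1 D1014 (iv D852) (iv F4016)
theorem F4738 : act 4 n1014 = n854 := d27_1 D1014 (iv D854) (iv F4017)
theorem F4739 : act 5 n1014 = n1014 := d30_1 D1014 (iv D1014) (iv D849) F3317 D849
theorem F4740 : act 8 n1014 = n1014 := d34_2 F4018 D1014 (iv D1014)
def n1015 : Q := act 6 n850
theorem D1015 : act 6 n850 = n1015 := rfl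
theorem F4741 : act 0 n1015 = n887 := d5_1 D1015 (iv D887) (iv F4019)
theorem F4742 : act 2 n1015 = n1015 := d18_1 D1015 (iv D1015) F4020
theorem F4743 : act 3 n1015 = n852 := d23_1 D1015 (iv D852) (iv F4021)
theorem F4744 : act 4 n1015 = n1015 := d27_1 D1015 (iv D1015) F4022
theorem F4745 : act 5 n1015 = n1015 := d30_1 D1015 (iv D1015) (iv D850) F3322 D850
theorem F4746 : act 8 n1015 = n1015 := d34_2 F4023 D1015 (iv D1015)
def n1016 : Q := act 7 n850
theorem D1016 : act 7 n850 = n1016 := rfl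
theorem F4747 : act 0 n1016 = n888 := d6_1 D1016 (iv D888) (iv F4019)
theorem F4748 : act 2 n1016 = n1016 := d19_1 D1016 (iv D1016) F4020
theorem F4749 : act 4 n1016 = n1016 := d28_1 D1016 (iv D1016) F4022
theorem F4750 : act 5 n1016 = n851 := d31_1 D1016 (iv D851) D850
def n1017 : Q := act 8 n851
theorem D1017 : act 8 n851 = n1017 := rfl
theorem F4751 : act 0 n1017 = n863 := d7_1 D1017 F4085 (iv F4024)
theorem F4752 : act 2 n1017 = n1017 := d20_1 D1017 (iv D1017) F4025
theorem F4753 : act 4 n1017 = n859 := d29_1 D1017 (iv D859) (iv F4026)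
theorem F4754 : act 6 n1017 = n1017 := d34_1 D1017 (iv D1017) F4027
theorem F4755 : act 7 n1017 = n1017 := d35_1 D1017 (iv D1017) (iv D851) F3323 D851
def n1018 : Q := act 6 n853
theorem D1018 : act 6 n853 = n1018 := rfl
theorem F4756 : act 0 n1018 = n854 := d5_1 D1018 (iv D854) (iv F4033)
theorem F4757 : act 1 n1018 = n889 := d12_1 D1018 (iv D889) (iv F4034)
theorem F4758 : act 3 n1018 = n1018 := d23_1 D1018 (iv D1018) F4035
theorem F4759 : act 5 n1018 = n855 := d30_1 D1018 (iv D855) (iv D702) (iv F3336) D853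
theorem F4760 : act 8 n1018 = n1018 := d34_2 F4036 D1018 (iv D1018)
def n1019 : Q := act 2 n856
theorem D1019 : act 2 n856 = n1019 := rfl
theorem F4761 : act 0 n1019 = n857 := d1_1 D1019 (iv D857) (iv F4046)
theorem F4762 : act 3 n1019 = n1019 := d15_2 D856 D1019 (iv D1019) (iv D856) F3357
theorem F4763 : act 5 n1019 = n1019 := d17_2 F4048 D1019 (iv D1019)
theorem F4764 : act 6 n1019 = n1019 := d18_2 F4049 D1019 (iv D1019)
theorem F4765 : act 8 n1019 = n1019 := d20_2 F4050 D1019 (iv D1019)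
def n1020 : Q := act 7 n857
theorem D1020 : act 7 n857 = n1020 := rfl
theorem F4766 : act 1 n1020 = n1020 := d13_1 D1020 (iv D1020) F4051
theorem F4767 : act 2 n1020 = n858 := d19_1 D1020 (iv D858) D857
theorem F4768 : act 5 n1020 = n1020 := d31_1 D1020 (iv D1020) F4053
theorem F4769 : act 6 n1020 = n1020 := d33_1 D1020 (iv D1020) F4054
def n1021 : Q := act 5 n860
theorem D1021 : act 5 n860 = n1021 := rfl
theorem F4770 : act 1 n1021 = n1021 := d11_1 D1021 (iv D1021) F4066
theorem F4771 : act 2 n1021 = n885 := d17_1 D1021 (iv D885) (iv F4067)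
theorem F4772 : act 3 n1021 = n1021 := d22_1 D1021 (iv D1021) F4068
theorem F4773 : act 4 n1021 = n1021 := d26_1 D1021 (iv D1021) (iv D860) F3407 D860
theorem F4774 : act 7 n1021 = n862 := d31_2 (iv F4070) D1021 (iv D862)
theorem F4775 : act 8 n1021 = n1021 := d32_2 F4071 D1021 (iv D1021)
def n1022 : Q := act 3 n861
theorem D1022 : act 3 n861 = n1022 := rfl
theorem F4776 : act 1 n1022 = n876 := d9_1 D1022 F4132 (iv F4072)
theorem F4777 : act 2 n1022 = n869 := d15_1 D1022 (iv D869) F3437 (iv F3416) (iv F4073)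
theorem F4778 : act 4 n1022 = n1022 := d21_2 D861 D1022 (iv D1022) (iv D861) F3411
theorem F4779 : act 6 n1022 = n1022 := d23_2 F4074 D1022 (iv D1022)
theorem F4780 : act 7 n1022 = n873 := d24_2 (iv F4075) D1022 (iv D873) F3453 D738
theorem F4781 : act 8 n1022 = n864 := d25_2 (iv F4076) D1022 (iv D864)
def n1023 : Q := act 5 n861
theorem D1023 : act 5 n861 = n1023 := rfl
theorem F4782 : act 1 n1023 = n888 := d11_1 D1023 F4187 (iv F4072)
theorem F4783 : act 2 n1023 = n862 := d17_1 D1023 (iv D862) (iv F4073)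
theorem F4784 : act 4 n1023 = n1023 := d26_1 D1023 (iv D1023) (iv D861) F3412 D861
theorem F4785 : act 7 n1023 = n885 := d31_2 (iv F4075) D1023 (iv D885)
theorem F4786 : act 8 n1023 = n865 := d32_2 (iv F4076) D1023 (iv D865)
def n1024 : Q := act 6 n862
theorem D1024 : act 6 n862 = n1024 := rfl
theorem F4787 : act 1 n1024 = n1024 := d12_1 D1024 (iv D1024) F4077
theorem F4788 : act 3 n1024 = n871 := d23_1 D1024 (iv D871) (iv F4078)
theorem F4789 : act 4 n1024 = n1024 := d27_1 D1024 (iv D1024) F4079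
theorem F4790 : act 5 n1024 = n1024 := d30_1 D1024 (iv D1024) (iv D862) F3417 D862
theorem F4791 : act 8 n1024 = n866 := d34_2 (iv F4080) D1024 (iv D866)
def n1025 : Q := act 3 n863
theorem D1025 : act 3 n863 = n1025 := rfl
theorem F4792 : act 1 n1025 = n864 := d9_1 D1025 (iv D864) (iv F4081)
theorem F4793 : act 4 n1025 = n1025 := d21_2 D863 D1025 (iv D1025) (iv D863) F3420
theorem F4794 : act 6 n1025 = n1025 := d23_2 F4083 D1025 (iv D1025)
theorem F4795 : act 8 n1025 = n876 := d25_2 (iv F4085) D1025 F4132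
def n1026 : Q := act 5 n863
theorem D1026 : act 5 n863 = n1026 := rfl
theorem F4796 : act 1 n1026 = n865 := d11_1 D1026 (iv D865) (iv F4081)
theorem F4797 : act 2 n1026 = n1026 := d17_1 D1026 (iv D1026) F4082
theorem F4798 : act 4 n1026 = n1026 := d26_1 D1026 (iv D1026) (iv D863) F3421 D863
theorem F4799 : act 7 n1026 = n1026 := d31_2 F4084 D1026 (iv D1026)
theorem F4800 : act 8 n1026 = n888 := d32_2 (iv F4085) D1026 F4187
def n1027 : Q := act 5 n864
theorem D1027 : act 5 n864 = n1027 := rfl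
theorem F4801 : act 2 n1027 = n875 := d17_1 D1027 (iv D875) (iv F4086)
theorem F4802 : act 3 n1027 = n865 := d22_1 D1027 (iv D865) D864
def n1028 : Q := act 7 n864
theorem D1028 : act 7 n864 = n1028 := rfl
theorem F4803 : act 2 n1028 = n876 := d19_1 D1028 (iv D876) (iv F4086)
theorem F4804 : act 3 n1028 = n1028 := d24_1 D1028 (iv D1028) (iv D864) F3426 D864
theorem F4805 : act 4 n1028 = n1028 := d28_1 D1028 (iv D1028) F4087
theorem F4806 : act 6 n1028 = n1028 := d33_1 D1028 (iv D1028) F4088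
def n1029 : Q := act 6 n865
theorem D1029 : act 6 n865 = n1029 := rfl
theorem F4807 : act 2 n1029 = n866 := d18_1 D1029 (iv D866) (iv F4089)
theorem F4808 : act 4 n1029 = n1029 := d27_1 D1029 (iv D1029) F4090
theorem F4809 : act 5 n1029 = n1029 := d30_1 D1029 (iv D1029) (iv D865) F3425 D865
theorem F4810 : act 7 n1029 = n1029 := d33_2 F4091 D1029 (iv D1029)
def n1030 : Q := act 4 n867
theorem D1030 : act 4 n867 = n1030 := rfl
theorem F4811 : act 0 n1030 = n868 := d3_1 D1030 (iv D868) D867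
theorem F4812 : act 2 n1030 = n1030 := d16_1 D1030 (iv D1030) F4097
theorem F4813 : act 6 n1030 = n1030 := d27_2 F4100 D1030 (iv D1030)
theorem F4814 : act 7 n1030 = n1030 := d28_2 F4101 D1030 (iv D1030)
theorem F4815 : act 8 n1030 = n872 := d29_2 (iv F4102) D1030 (iv D872)
def n1031 : Q := act 3 n868
theorem D1031 : act 3 n868 = n1031 := rfl
theorem F4816 : act 1 n1031 = n869 := d9_1 D1031 (iv D869) (iv F4103)
theorem F4817 : act 4 n1031 = n1031 := d21_2 D868 D1031 (iv D1031) (iv D868) F3432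
theorem F4818 : act 6 n1031 = n1031 := d23_2 F4105 D1031 (iv D1031)
theorem F4819 : act 8 n1031 = n873 := d25_2 (iv F4107) D1031 (iv D873)
def n1032 : Q := act 5 n868
theorem D1032 : act 5 n868 = n1032 := rfl
theorem F4820 : act 1 n1032 = n870 := d11_1 D1032 (iv D870) (iv F4103)
theorem F4821 : act 2 n1032 = n1032 := d17_1 D1032 (iv D1032) F4104
theorem F4822 : act 4 n1032 = n878 := d26_1 D1032 (iv D878) (iv D728) (iv F3433) D868
theorem F4823 : act 7 n1032 = n1032 := d31_2 F4106 D1032 (iv D1032)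
theorem F4824 : act 8 n1032 = n874 := d32_2 (iv F4107) D1032 (iv D874)
theorem F4825 : act 6 n1032 = n882 := d38_1 F4823 F4161 (iv D882) F3512 F2781 F2212 F2214 D472 F2271 F1849 F1848 F1505 F1504 F1507 (iv D305) (iv D247) (iv D202) (iv D167) F683 F583 (iv D108) (iv F547) F546 (iv F652) F651 F650 (iv F696) D170 F854 F702 F701 F584 (iv F683) F682 (iv D136) (iv F681) F680 (iv F824) (iv F980) F979 F978 D239 F1200 F991 F990 D241 D296 D368 F1809 (iv F1826) (iv F2247) D591 D738 (iv F4067) F4066 F4070 F3417 D862 F4079 F4078 (iv F4111) (iv F4820)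
def n1033 : Q := act 5 n869
theorem D1033 : act 5 n869 = n1033 := rfl
theorem F4826 : act 3 n1033 = n870 := d22_1 D1033 (iv D870) D869
theorem F4827 : act 8 n1033 = n875 := d32_2 (iv F4110) D1033 (iv D875)
def n1034 : Q := act 7 n869
theorem D1034 : act 7 n869 = n1034 := rfl
theorem F4828 : act 2 n1034 = n873 := d19_1 D1034 (iv F4780) F4777
theorem F4829 : act 3 n1034 = n1034 := d24_1 D1034 (iv D1034) (iv D869) F3439 D869
theorem F4830 : act 4 n1034 = n1034 := d28_1 D1034 (iv D1034) F4108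
theorem F4831 : act 6 n1034 = n1034 := d33_1 D1034 (iv D1034) F4109
def n1035 : Q := act 6 n870
theorem D1035 : act 6 n870 = n1035 := rfl
theorem F4832 : act 1 n1035 = n882 := d12_1 D1035 (iv F4825) F4820
theorem F4833 : act 2 n1035 = n871 := d18_1 D1035 (iv D871) (iv F4111)
theorem F4834 : act 4 n1035 = n880 := d27_1 D1035 (iv D880) (iv F4112)
theorem F4835 : act 5 n1035 = n1035 := d30_1 D1035 (iv D1035) (iv D870) F3438 D870
theorem F4836 : act 7 n1035 = n1035 := d33_2 F4113 D1035 (iv D1035)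
theorem F4837 : act 8 n1035 = n877 := d34_2 (iv F4114) D1035 (iv D877)
def n1036 : Q := act 3 n872
theorem D1036 : act 3 n872 = n1036 := rfl
theorem F4838 : act 0 n1036 = n873 := d2_1 D1036 (iv D873) (iv F4120)
theorem F4839 : act 4 n1036 = n1036 := d21_2 D872 D1036 (iv D1036) (iv D872) F3446
theorem F4840 : act 6 n1036 = n1036 := d23_2 F4122 D1036 (iv D1036)
def n1037 : Q := act 5 n872
theorem D1037 : act 5 n872 = n1037 := rfl
theorem F4841 : act 0 n1037 = n874 := d4_1 D1037 (iv D874) (iv F4120)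
theorem F4842 : act 2 n1037 = n1037 := d17_1 D1037 (iv D1037) F4121
theorem F4843 : act 4 n1037 = n881 := d26_1 D1037 (iv D881) (iv D732) (iv F3447) D872
theorem F4844 : act 7 n1037 = n884 := d31_2 (iv F4123) D1037 (iv D884)
def n1038 : Q := act 5 n873
theorem D1038 : act 5 n873 = n1038 := rfl
theorem F4845 : act 1 n1038 = n875 := d11_1 D1038 (iv D875) (iv F4124)
theorem F4846 : act 3 n1038 = n874 := d22_1 D1038 (iv D874) D873
def n1039 : Q := act 6 n874
theorem D1039 : act 6 n874 = n1039 := rfl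
theorem F4847 : act 1 n1039 = n877 := d12_1 D1039 (iv D877) (iv F4127)
theorem F4848 : act 2 n1039 = n1039 := d18_1 D1039 (iv D1039) F4128
theorem F4849 : act 4 n1039 = n879 := d27_1 D1039 F4148 (iv F4129)
theorem F4850 : act 5 n1039 = n1039 := d30_1 D1039 (iv D1039) (iv D874) F3452 D874
theorem F4851 : act 7 n1039 = n886 := d33_2 (iv F4130) D1039 (iv D886)
theorem F4852 : act 8 n1039 = n882 := d34_2 F4824 D1039 (iv F4825)
def n1040 : Q := act 4 n875
theorem D1040 : act 4 n875 = n1040 := rfl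
theorem F4853 : act 3 n1040 = n882 := d21_1 D1040 (iv D882) F3512 (iv F3457) (iv F4131)
theorem F4854 : act 5 n1040 = n1040 := d26_2 D875 D1040 (iv D1040) (iv D875) F3454
def n1041 : Q := act 6 n875
theorem D1041 : act 6 n875 = n1041 := rfl
theorem F4855 : act 3 n1041 = n877 := d23_1 D1041 (iv D877) (iv F4131)
theorem F4856 : act 5 n1041 = n1041 := d30_1 D1041 (iv D1041) (iv D875) F3455 D875
def n1042 : Q := act 7 n875
theorem D1042 : act 7 n875 = n1042 := rfl
theorem F4857 : act 3 n1042 = n888 := d24_1 D1042 (iv D888) F3530 (iv F3458) (iv F4131)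
theorem F4858 : act 5 n1042 = n876 := d31_1 D1042 (iv D876) D875
def n1043 : Q := act 5 n883
theorem D1043 : act 5 n883 = n1043 := rfl
theorem F4859 : act 0 n1043 = n885 := d4_1 D1043 (iv D885) (iv F4163)
theorem F4860 : act 3 n1043 = n884 := d22_1 D1043 (iv D884) D883
theorem F4861 : act 4 n1043 = n1043 := d26_1 D1043 (iv D1043) F4164 F3555 (iv F4164)
theorem F4862 : act 8 n1043 = n1043 := d32_2 F4166 D1043 (iv D1043)
def n1044 : Q := act 6 n884
theorem D1044 : act 6 n884 = n1044 := rfl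
theorem F4863 : act 0 n1044 = n886 := d5_1 D1044 (iv D886) (iv F4167)
theorem F4864 : act 2 n1044 = n1044 := d18_1 D1044 (iv D1044) F4168
theorem F4865 : act 4 n1044 = n889 := d27_1 D1044 (iv D889) (iv F4169)
theorem F4866 : act 5 n1044 = n1044 := d30_1 D1044 (iv D1044) (iv D884) F3519 D884
theorem F4867 : act 8 n1044 = n1044 := d34_2 F4170 D1044 (iv D1044)
def n1045 : Q := act 6 n885
theorem D1045 : act 6 n885 = n1045 := rfl
theorem F4868 : act 1 n1045 = n887 := d12_1 D1045 (iv D887) (iv F4171)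
theorem F4869 : act 3 n1045 = n886 := d23_1 D1045 (iv D886) (iv F4172)
theorem F4870 : act 4 n1045 = n1045 := d27_1 D1045 (iv D1045) F4173
theorem F4871 : act 5 n1045 = n1045 := d30_1 D1045 (iv D1045) (iv D885) F3523 D885
theorem F4872 : act 8 n1045 = n1045 := d34_2 F4174 D1045 (iv D1045)
def n1046 : Q := act 7 n887
theorem D1046 : act 7 n887 = n1046 := rfl
theorem F4873 : act 2 n1046 = n1046 := d19_1 D1046 (iv D1046) F4180
theorem F4874 : act 4 n1046 = n1046 := d28_1 D1046 (iv D1046) F4182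
theorem F4875 : act 5 n1046 = n1046 := d31_1 D1046 (iv D1046) F4183
theorem F4876 : act 6 n1046 = n888 := d33_1 D1046 (iv D888) D887
def n1047 : Q := act 2 n890
theorem D1047 : act 2 n890 = n1047 := rfl
theorem F4877 : act 0 n1047 = n1047 := d1_1 D1047 (iv D1047) F4193
theorem F4878 : act 3 n1047 = n1047 := d15_2 D890 D1047 (iv D1047) (iv D890) F3560
theorem F4879 : act 5 n1047 = n1047 := d17_2 F4195 D1047 (iv D1047)
theorem F4880 : act 6 n1047 = n1047 := d18_2 F4196 D1047 (iv D1047)
theorem F4881 : act 7 n1047 = n892 := d19_2 (iv F4197) D1047 (iv D892)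
theorem F4882 : act 8 n1047 = n1047 := d20_2 F4198 D1047 (iv D1047)
def n1048 : Q := act 4 n890
theorem D1048 : act 4 n890 = n1048 := rfl
theorem F4883 : act 0 n1048 = n1048 := d3_1 D1048 (iv D1048) F4193
theorem F4884 : act 1 n1048 = n1048 := d10_1 D1048 (iv D1048) F4194
theorem F4885 : act 3 n1048 = n1048 := d21_1 D1048 (iv D1048) (iv D890) F3561 D890
theorem F4886 : act 6 n1048 = n1048 := d27_2 F4196 D1048 (iv D1048)
theorem F4887 : act 7 n1048 = n893 := d28_2 (iv F4197) D1048 (iv D893)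
theorem F4888 : act 8 n1048 = n1048 := d29_2 F4198 D1048 (iv D1048)
def n1049 : Q := act 2 n891
theorem D1049 : act 2 n891 = n1049 := rfl
theorem F4889 : act 0 n1049 = n1049 := d1_1 D1049 (iv D1049) F4199
theorem F4890 : act 3 n1049 = n920 := d15_2 D891 D1049 (iv D920) (iv D769) (iv F3567)
theorem F4891 : act 5 n1049 = n1049 := d17_2 F4201 D1049 (iv D1049)
theorem F4892 : act 6 n1049 = n1049 := d18_2 F4202 D1049 (iv D1049)
theorem F4893 : act 7 n1049 = n1049 := d19_2 F4203 D1049 (iv D1049)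
theorem F4894 : act 8 n1049 = n892 := d20_2 (iv F4204) D1049 (iv D892)
def n1050 : Q := act 4 n891
theorem D1050 : act 4 n891 = n1050 := rfl
theorem F4895 : act 0 n1050 = n1050 := d3_1 D1050 (iv D1050) F4199
theorem F4896 : act 1 n1050 = n1050 := d10_1 D1050 (iv D1050) F4200
theorem F4897 : act 3 n1050 = n896 := d21_1 D1050 (iv D896) (iv D751) (iv F3568) D891
theorem F4898 : act 6 n1050 = n1050 := d27_2 F4202 D1050 (iv D1050)
theorem F4899 : act 7 n1050 = n1050 := d28_2 F4203 D1050 (iv D1050)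
theorem F4900 : act 8 n1050 = n893 := d29_2 (iv F4204) D1050 (iv D893)
def n1051 : Q := act 1 n892
theorem D1051 : act 1 n892 = n1051 := rfl
theorem F4901 : act 2 n1051 = n1051 := d8_2 D892 D1051 (iv D1051) (iv D892) F3573
theorem F4902 : act 3 n1051 = n922 := d9_2 (iv F4206) D1051 (iv D922)
theorem F4903 : act 5 n1051 = n1051 := d11_2 F4207 D1051 (iv D1051)
theorem F4904 : act 6 n1051 = n1051 := d12_2 F4208 D1051 (iv D1051)
def n1052 : Q := act 4 n892
theorem D1052 : act 4 n892 = n1052 := rfl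
theorem F4905 : act 0 n1052 = n1052 := d3_1 D1052 (iv D1052) F4205
theorem F4906 : act 2 n1052 = n893 := d16_1 D1052 (iv D893) D892
theorem F4907 : act 6 n1052 = n1052 := d27_2 F4208 D1052 (iv D1052)
def n1053 : Q := act 5 n893
theorem D1053 : act 5 n893 = n1053 := rfl
theorem F4908 : act 0 n1053 = n1053 := d4_1 D1053 (iv D1053) F4209
theorem F4909 : act 1 n1053 = n1053 := d11_1 D1053 (iv D1053) F4210
theorem F4910 : act 3 n1053 = n899 := d22_1 D1053 (iv D899) (iv F4211)
theorem F4911 : act 4 n1053 = n1053 := d26_1 D1053 (iv D1053) (iv D893) F3574 D893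
def n1054 : Q := act 2 n894
theorem D1054 : act 2 n894 = n1054 := rfl
theorem F4912 : act 0 n1054 = n1054 := d1_1 D1054 (iv D1054) F4213
theorem F4913 : act 3 n1054 = n1054 := d15_2 D894 D1054 (iv D1054) (iv D894) F3578
theorem F4914 : act 5 n1054 = n900 := d17_2 (iv F4215) D1054 (iv D900)
theorem F4915 : act 6 n1054 = n1054 := d18_2 F4216 D1054 (iv D1054)
theorem F4916 : act 7 n1054 = n895 := d19_2 (iv F4217) D1054 (iv D895)
theorem F4917 : act 8 n1054 = n1054 := d20_2 F4218 D1054 (iv D1054)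
def n1055 : Q := act 4 n894
theorem D1055 : act 4 n894 = n1055 := rfl
theorem F4918 : act 0 n1055 = n1055 := d3_1 D1055 (iv D1055) F4213
theorem F4919 : act 1 n1055 = n1055 := d10_1 D1055 (iv D1055) F4214
theorem F4920 : act 3 n1055 = n1055 := d21_1 D1055 (iv D1055) (iv D894) F3579 D894
theorem F4921 : act 5 n1055 = n975 := d26_2 (iv F4215) D1055 F4567 F3863 (iv F3599)
theorem F4922 : act 6 n1055 = n1055 := d27_2 F4216 D1055 (iv D1055)
theorem F4923 : act 7 n1055 = n896 := d28_2 (iv F4217) D1055 (iv D896)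
theorem F4924 : act 8 n1055 = n1055 := d29_2 F4218 D1055 (iv D1055)
def n1056 : Q := act 1 n895
theorem D1056 : act 1 n895 = n1056 := rfl
theorem F4925 : act 2 n1056 = n1056 := d8_2 D895 D1056 (iv D1056) (iv D895) F3584
theorem F4926 : act 3 n1056 = n925 := d9_2 (iv F4220) D1056 (iv D925)
theorem F4927 : act 5 n1056 = n901 := d11_2 (iv F4221) D1056 (iv D901)
theorem F4928 : act 6 n1056 = n1056 := d12_2 F4222 D1056 (iv D1056)
theorem F4929 : act 8 n1056 = n897 := d14_2 (iv F4223) D1056 (iv D897)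
def n1057 : Q := act 4 n895
theorem D1057 : act 4 n895 = n1057 := rfl
theorem F4930 : act 0 n1057 = n1057 := d3_1 D1057 (iv D1057) F4219
theorem F4931 : act 2 n1057 = n896 := d16_1 D1057 (iv D896) D895
theorem F4932 : act 6 n1057 = n1057 := d27_2 F4222 D1057 (iv D1057)
theorem F4933 : act 8 n1057 = n898 := d29_2 (iv F4223) D1057 (iv D898)
def n1058 : Q := act 5 n896
theorem D1058 : act 5 n896 = n1058 := rfl
theorem F4934 : act 0 n1058 = n1058 := d4_1 D1058 (iv D1058) F4224
theorem F4935 : act 1 n1058 = n1058 := d11_1 D1058 (iv D1058) F4225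
theorem F4936 : act 4 n1058 = n903 := d26_1 D1058 (iv D903) (iv D756) (iv F3585) D896
theorem F4937 : act 7 n1058 = n975 := d31_2 F4923 D1058 (iv F4921)
theorem F4938 : act 8 n1058 = n899 := d32_2 (iv F4227) D1058 (iv D899)
theorem F4939 : act 6 n976 = n1058 := d33_3 F4937 (iv D975) D976
def n1059 : Q := act 0 n897
theorem D1059 : act 0 n897 = n1059 := rfl
theorem F4940 : act 1 n1059 = n1059 := d0_2 D897 D1059 (iv D1059) (iv D897) F3588
theorem F4941 : act 2 n1059 = n1059 := d1_2 F4228 D1059 (iv D1059)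
theorem F4942 : act 3 n1059 = n928 := d2_2 (iv F4229) D1059 (iv D928)
theorem F4943 : act 5 n1059 = n904 := d4_2 (iv F4230) D1059 (iv D904)
theorem F4944 : act 6 n1059 = n1059 := d5_2 F4231 D1059 (iv D1059)
theorem F4945 : act 7 n1059 = n1059 := d6_2 F4232 D1059 (iv D1059)
def n1060 : Q := act 4 n897
theorem D1060 : act 4 n897 = n1060 := rfl
theorem F4946 : act 1 n1060 = n898 := d10_1 D1060 (iv D898) D897
theorem F4947 : act 2 n1060 = n1060 := d16_1 D1060 (iv D1060) F4228
theorem F4948 : act 6 n1060 = n1060 := d27_2 F4231 D1060 (iv D1060)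
theorem F4949 : act 7 n1060 = n1060 := d28_2 F4232 D1060 (iv D1060)
def n1061 : Q := act 3 n898
theorem D1061 : act 3 n898 = n1061 := rfl
theorem F4950 : act 0 n1061 = n1061 := d2_1 D1061 (iv D1061) F4233
theorem F4951 : act 4 n1061 = n930 := d21_2 D898 D1061 (iv D930) (iv D775) (iv F3589)
theorem F4952 : act 6 n1061 = n1061 := d23_2 F4235 D1061 (iv D1061)
def n1062 : Q := act 5 n898
theorem D1062 : act 5 n898 = n1062 := rfl
theorem F4953 : act 0 n1062 = n1062 := d4_1 D1062 (iv D1062) F4233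
theorem F4954 : act 2 n1062 = n899 := d17_1 D1062 (iv D899) (iv F4234)
theorem F4955 : act 4 n1062 = n907 := d26_1 D1062 (iv D907) (iv D758) (iv F3590) D898
theorem F4956 : act 7 n1062 = n1062 := d31_2 F4236 D1062 (iv D1062)
def n1063 : Q := act 6 n899
theorem D1063 : act 6 n899 = n1063 := rfl
theorem F4957 : act 0 n1063 = n1063 := d5_1 D1063 (iv D1063) F4237
theorem F4958 : act 1 n1063 = n1063 := d12_1 D1063 (iv D1063) F4238
theorem F4959 : act 4 n1063 = n908 := d27_1 D1063 (iv D908) (iv F4239)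
theorem F4960 : act 5 n1063 = n1063 := d30_1 D1063 (iv D1063) (iv D899) F3595 D899
theorem F4961 : act 7 n1063 = n1063 := d33_2 F4240 D1063 (iv D1063)
theorem F4962 : act 8 n1063 = n976 := d34_2 F4938 D1063 F4939
def n1064 : Q := act 1 n900
theorem D1064 : act 1 n900 = n1064 := rfl
theorem F4963 : act 2 n1064 = n1064 := d8_2 D900 D1064 (iv D1064) (iv D900) F3598
theorem F4964 : act 3 n1064 = n1064 := d9_2 F4242 D1064 (iv D1064)
theorem F4965 : act 4 n1064 = n974 := d10_2 (iv F4243) D1064 F4560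
theorem F4966 : act 6 n1064 = n909 := d12_2 (iv F4244) D1064 (iv D909)
theorem F4967 : act 7 n1064 = n901 := d13_2 (iv F4245) D1064 (iv D901)
theorem F4968 : act 8 n1064 = n1064 := d14_2 F4246 D1064 (iv D1064)
def n1065 : Q := act 0 n901
theorem D1065 : act 0 n901 = n1065 := rfl
theorem F4969 : act 1 n1065 = n1065 := d0_2 D901 D1065 (iv D1065) (iv D901) F3603
theorem F4970 : act 2 n1065 = n1065 := d1_2 F4247 D1065 (iv D1065)
theorem F4971 : act 3 n1065 = n933 := d2_2 (iv F4248) D1065 (iv D933)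
theorem F4972 : act 6 n1065 = n910 := d5_2 (iv F4249) D1065 (iv D910)
theorem F4973 : act 8 n1065 = n904 := d7_2 (iv F4250) D1065 (iv D904)
def n1066 : Q := act 4 n901
theorem D1066 : act 4 n901 = n1066 := rfl
theorem F4974 : act 1 n1066 = n902 := d10_1 D1066 (iv D902) D901
theorem F4975 : act 2 n1066 = n1066 := d16_1 D1066 (iv D1066) F4247
theorem F4976 : act 6 n1066 = n911 := d27_2 (iv F4249) D1066 (iv D911)
theorem F4977 : act 7 n1066 = n974 := d28_2 F4967 D1066 (iv F4965)
theorem F4978 : act 8 n1066 = n905 := d29_2 (iv F4250) D1066 (iv D905)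
def n1067 : Q := act 3 n902
theorem D1067 : act 3 n902 = n1067 := rfl
theorem F4979 : act 0 n1067 = n1067 := d2_1 D1067 (iv D1067) F4251
theorem F4980 : act 2 n1067 = n1067 := d15_1 D1067 (iv D1067) F4252 F3609 (iv F4252)
theorem F4981 : act 4 n1067 = n935 := d21_2 D902 D1067 (iv D935) (iv D778) (iv F3604)
theorem F4982 : act 6 n1067 = n912 := d23_2 (iv F4253) D1067 (iv D912)
theorem F4983 : act 7 n1067 = n956 := d24_2 (iv F4254) D1067 F4485 F3779 (iv F3853)
theorem F4984 : act 8 n1067 = n906 := d25_2 (iv F4255) D1067 (iv D906)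
def n1068 : Q := act 5 n902
theorem D1068 : act 5 n902 = n1068 := rfl
theorem F4985 : act 0 n1068 = n1068 := d4_1 D1068 (iv D1068) F4251
theorem F4986 : act 2 n1068 = n903 := d17_1 D1068 (iv D903) (iv F4252)
theorem F4987 : act 6 n1068 = n970 := d30_2 (iv F4253) D1068 F4545 F3825 F3639
theorem F4988 : act 7 n1068 = n969 := d31_2 (iv F4254) D1068 F4541
theorem F4989 : act 8 n1068 = n907 := d32_2 (iv F4255) D1068 (iv D907)
def n1069 : Q := act 4 n904
theorem D1069 : act 4 n904 = n1069 := rfl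
theorem F4990 : act 0 n1069 = n905 := d3_1 D1069 (iv D905) D904
theorem F4991 : act 1 n1069 = n1069 := d10_1 D1069 (iv D1069) F4262
theorem F4992 : act 2 n1069 = n1069 := d16_1 D1069 (iv D1069) F4263
theorem F4993 : act 6 n1069 = n913 := d27_2 (iv F4265) D1069 (iv D913)
theorem F4994 : act 7 n1069 = n1069 := d28_2 F4266 D1069 (iv D1069)
def n1070 : Q := act 3 n905
theorem D1070 : act 3 n905 = n1070 := rfl
theorem F4995 : act 1 n1070 = n906 := d9_1 D1070 (iv D906) (iv F4267)
theorem F4996 : act 4 n1070 = n939 := d21_2 D905 D1070 (iv D939) (iv D781) (iv F3614)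
theorem F4997 : act 6 n1070 = n914 := d23_2 (iv F4269) D1070 (iv D914)
def n1071 : Q := act 5 n905
theorem D1071 : act 5 n905 = n1071 := rfl
theorem F4998 : act 1 n1071 = n907 := d11_1 D1071 (iv D907) (iv F4267)
theorem F4999 : act 2 n1071 = n1071 := d17_1 D1071 (iv D1071) F4268
theorem F5000 : act 7 n1071 = n1071 := d31_2 F4270 D1071 (iv D1071)
def n1072 : Q := act 5 n906
theorem D1072 : act 5 n906 = n1072 := rfl
theorem F5001 : act 0 n1072 = n1072 := d4_1 D1072 (iv D1072) F4271
theorem F5002 : act 2 n1072 = n1072 := d17_1 D1072 (iv D1072) F4272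
theorem F5003 : act 3 n1072 = n907 := d22_1 D1072 (iv D907) D906
def n1073 : Q := act 7 n906
theorem D1073 : act 7 n906 = n1073 := rfl
theorem F5004 : act 0 n1073 = n1073 := d6_1 D1073 (iv D1073) F4271
theorem F5005 : act 2 n1073 = n1073 := d19_1 D1073 (iv D1073) F4272
theorem F5006 : act 3 n1073 = n1073 := d24_1 D1073 (iv D1073) (iv D906) F3620 D906
theorem F5007 : act 4 n1073 = n942 := d28_1 D1073 (iv D942) (iv F4273)
theorem F5008 : act 6 n1073 = n917 := d33_1 D1073 (iv D917) (iv F4274)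
def n1074 : Q := act 6 n907
theorem D1074 : act 6 n907 = n1074 := rfl
theorem F5009 : act 0 n1074 = n1074 := d5_1 D1074 (iv D1074) F4275
theorem F5010 : act 2 n1074 = n908 := d18_1 D1074 (iv D908) (iv F4276)
theorem F5011 : act 5 n1074 = n918 := d30_1 D1074 (iv D918) (iv D766) (iv F3619) D907
theorem F5012 : act 7 n1074 = n1074 := d33_2 F4277 D1074 (iv D1074)
theorem F5013 : act 8 n1074 = n970 := d34_2 F4989 D1074 (iv F4987)
def n1075 : Q := act 0 n909
theorem D1075 : act 0 n909 = n1075 := rfl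
theorem F5014 : act 1 n1075 = n1075 := d0_2 D909 D1075 (iv D1075) (iv D909) F3625
theorem F5015 : act 2 n1075 = n1075 := d1_2 F4284 D1075 (iv D1075)
theorem F5016 : act 3 n1075 = n1075 := d2_2 F4285 D1075 (iv D1075)
theorem F5017 : act 4 n1075 = n971 := d3_2 (iv F4286) D1075 F4546
theorem F5018 : act 5 n1075 = n1075 := d4_2 F4287 D1075 (iv D1075)
theorem F5019 : act 7 n1075 = n910 := d6_2 (iv F4288) D1075 (iv D910)
theorem F5020 : act 8 n1075 = n1075 := d7_2 F4289 D1075 (iv D1075)
def n1076 : Q := act 4 n910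
theorem D1076 : act 4 n910 = n1076 := rfl
theorem F5021 : act 0 n1076 = n911 := d3_1 D1076 (iv D911) D910
theorem F5022 : act 1 n1076 = n1076 := d10_1 D1076 (iv D1076) F4290
theorem F5023 : act 2 n1076 = n1076 := d16_1 D1076 (iv D1076) F4291
theorem F5024 : act 7 n1076 = n971 := d28_2 F5019 D1076 (iv F5017)
theorem F5025 : act 8 n1076 = n913 := d29_2 (iv F4294) D1076 (iv D913)
theorem F5026 : act 5 n972 = n1076 := d37_1 D972 (iv D1076) F4292 F3739 F3257 (iv D583) F2218 F2217 D584 (iv F2796) F2238 F1812 (iv F2084) F2087 (iv D348) (iv D278) (iv D225) F915 F769 F768 (iv D140) F578 F577 F456 F334 F333 F298 F302 F301 (iv F250) F249 F248 F130 F129 F133 F131 (iv F143) F191 F190 (iv F211) (iv F231) F235 (iv F369) F368 (iv F504) (iv F608) (iv F721) F720 D176 F884 F728 D177 D216 F1082 F1081 F1085 (iv F1318) D329 D411 (iv F2480) (iv F3104) (iv F3830)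
def n1077 : Q := act 3 n911
theorem D1077 : act 3 n911 = n1077 := rfl
theorem F5027 : act 1 n1077 = n912 := d9_1 D1077 (iv D912) (iv F4295)
theorem F5028 : act 4 n1077 = n945 := d21_2 D911 D1077 (iv D945) (iv D786) (iv F3632)
theorem F5029 : act 5 n1077 = n954 := d22_2 F4299 D1077 F4478
theorem F5030 : act 7 n1077 = n953 := d24_2 (iv F4297) D1077 F4476 F3769 (iv F3842)
theorem F5031 : act 8 n1077 = n914 := d25_2 (iv F4298) D1077 (iv D914)
def n1078 : Q := act 3 n913
theorem D1078 : act 3 n913 = n1078 := rfl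
theorem F5032 : act 0 n1078 = n914 := d2_1 D1078 (iv D914) (iv F4306)
theorem F5033 : act 1 n1078 = n1078 := d9_1 D1078 (iv D1078) F4307
theorem F5034 : act 4 n1078 = n950 := d21_2 D913 D1078 (iv D950) (iv D790) (iv F3642)
def n1079 : Q := act 5 n913
theorem D1079 : act 5 n913 = n1079 := rfl
theorem F5035 : act 0 n1079 = n915 := d4_1 D1079 (iv D915) (iv F4306)
theorem F5036 : act 1 n1079 = n1079 := d11_1 D1079 (iv D1079) F4307
theorem F5037 : act 2 n1079 = n1079 := d17_1 D1079 (iv D1079) F4308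
theorem F5038 : act 4 n1079 = n1079 := d26_1 D1079 (iv D1079) (iv D913) F3643 D913
theorem F5039 : act 7 n1079 = n1079 := d31_2 F4309 D1079 (iv D1079)
theorem F5040 : act 8 n1079 = n972 := d32_2 F5025 D1079 F5026
def n1080 : Q := act 2 n914
theorem D1080 : act 2 n914 = n1080 := rfl
theorem F5041 : act 1 n1080 = n1080 := d8_1 D1080 (iv D1080) F4310 F3649 (iv F4310)
theorem F5042 : act 3 n1080 = n1080 := d15_2 D914 D1080 (iv D1080) (iv D914) F3646
theorem F5043 : act 4 n1080 = n952 := d16_2 (iv F4311) D1080 (iv D952)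
def n1081 : Q := act 5 n914
theorem D1081 : act 5 n914 = n1081 := rfl
theorem F5044 : act 1 n1081 = n916 := d11_1 D1081 (iv D916) (iv F4310)
theorem F5045 : act 3 n1081 = n915 := d22_1 D1081 (iv D915) D914
theorem F5046 : act 8 n1081 = n954 := d32_2 F5031 D1081 (iv F5029)
def n1082 : Q := act 7 n914
theorem D1082 : act 7 n914 = n1082 := rfl
theorem F5047 : act 1 n1082 = n917 := d13_1 D1082 (iv D917) (iv F4310)
theorem F5048 : act 3 n1082 = n1082 := d24_1 D1082 (iv D1082) (iv D914) F3647 D914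
theorem F5049 : act 4 n1082 = n954 := d28_1 D1082 (iv D954) (iv F4311)
def n1083 : Q := act 6 n915
theorem D1083 : act 6 n915 = n1083 := rfl
theorem F5050 : act 1 n1083 = n918 := d12_1 D1083 (iv D918) (iv F4312)
theorem F5051 : act 2 n1083 = n1083 := d18_1 D1083 (iv D1083) F4313
theorem F5052 : act 4 n1083 = n1083 := d27_1 D1083 (iv D1083) F4314
theorem F5053 : act 7 n1083 = n1083 := d33_2 F4315 D1083 (iv D1083)
theorem F5054 : act 8 n1083 = n966 := d34_2 (iv F4316) D1083 F4529
def n1084 : Q := act 4 n916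
theorem D1084 : act 4 n916 = n1084 := rfl
theorem F5055 : act 0 n1084 = n1084 := d3_1 D1084 (iv D1084) F4317
theorem F5056 : act 2 n1084 = n1084 := d16_1 D1084 (iv D1084) F4318
theorem F5057 : act 3 n1084 = n1084 := d21_1 D1084 (iv D1084) F4319 F3653 (iv F4319)
theorem F5058 : act 5 n1084 = n948 := d26_2 D916 D1084 F4459 (iv D793) (iv F3650)
theorem F5059 : act 8 n1084 = n917 := d29_2 (iv F4320) D1084 F4324
theorem F5060 : act 7 n947 = n1084 := d35_5 F5059 (iv D917) (iv F4305) F4304 (iv F4455)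
def n1085 : Q := act 6 n916
theorem D1085 : act 6 n916 = n1085 := rfl
theorem F5061 : act 0 n1085 = n1085 := d5_1 D1085 (iv D1085) F4317
theorem F5062 : act 2 n1085 = n1085 := d18_1 D1085 (iv D1085) F4318
theorem F5063 : act 3 n1085 = n918 := d23_1 D1085 (iv D918) (iv F4319)
theorem F5064 : act 8 n1085 = n942 := d34_2 (iv F4320) D1085 F4433
def n1086 : Q := act 7 n916
theorem D1086 : act 7 n916 = n1086 := rfl
theorem F5065 : act 0 n1086 = n1086 := d6_1 D1086 (iv D1086) F4317
theorem F5066 : act 2 n1086 = n1086 := d19_1 D1086 (iv D1086) F4318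
theorem F5067 : act 3 n1086 = n1086 := d24_1 D1086 (iv D1086) F4319 F3654 (iv F4319)
theorem F5068 : act 4 n1086 = n947 := d28_1 D1086 F5060 (iv D1084)
theorem F5069 : act 5 n1086 = n917 := d31_1 D1086 (iv D917) D916
theorem F5070 : act 8 n1086 = n948 := d35_2 (iv F4320) D1086 (iv D948) F3749 D794
def n1087 : Q := act 2 n919
theorem D1087 : act 2 n919 = n1087 := rfl
theorem F5071 : act 0 n1087 = n1087 := d1_1 D1087 (iv D1087) F4330
theorem F5072 : act 1 n1087 = n1019 := d8_1 D1087 (iv D1019) F4047 (iv F3870) (iv F4331)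
theorem F5073 : act 3 n1087 = n1087 := d15_2 D919 D1087 (iv D1087) (iv D919) F3664
theorem F5074 : act 5 n1087 = n1087 := d17_2 F4332 D1087 (iv D1087)
theorem F5075 : act 6 n1087 = n1087 := d18_2 F4333 D1087 (iv D1087)
theorem F5076 : act 7 n1087 = n920 := d19_2 (iv F4334) D1087 (iv D920)
theorem F5077 : act 8 n1087 = n1087 := d20_2 F4335 D1087 (iv D1087)
def n1088 : Q := act 4 n919
theorem D1088 : act 4 n919 = n1088 := rfl
theorem F5078 : act 0 n1088 = n1088 := d3_1 D1088 (iv D1088) F4330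
theorem F5079 : act 1 n1088 = n977 := d10_1 D1088 (iv D977) (iv F4331)
theorem F5080 : act 3 n1088 = n1088 := d21_1 D1088 (iv D1088) (iv D919) F3665 D919
theorem F5081 : act 6 n1088 = n1088 := d27_2 F4333 D1088 (iv D1088)
theorem F5082 : act 7 n1088 = n921 := d28_2 (iv F4334) D1088 (iv D921)
theorem F5083 : act 8 n1088 = n1088 := d29_2 F4335 D1088 (iv D1088)
def n1089 : Q := act 1 n920
theorem D1089 : act 1 n920 = n1089 := rfl
theorem F5084 : act 2 n1089 = n978 := d8_2 D920 D1089 (iv D978) (iv D817) (iv F3670)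
theorem F5085 : act 5 n1089 = n1089 := d11_2 F4337 D1089 (iv D1089)
theorem F5086 : act 6 n1089 = n1089 := d12_2 F4338 D1089 (iv D1089)
theorem F5087 : act 7 n1089 = n1019 := d13_2 F5076 D1089 (iv F5072)
theorem F5088 : act 8 n1089 = n922 := d14_2 (iv F4339) D1089 (iv D922)
theorem F5089 : act 0 n1020 = n1089 := d6_3 F5087 F4761 D1020
def n1090 : Q := act 4 n920
theorem D1090 : act 4 n920 = n1090 := rfl
theorem F5090 : act 0 n1090 = n1090 := d3_1 D1090 (iv D1090) F4336
theorem F5091 : act 2 n1090 = n921 := d16_1 D1090 (iv D921) D920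
theorem F5092 : act 6 n1090 = n1090 := d27_2 F4338 D1090 (iv D1090)
theorem F5093 : act 8 n1090 = n923 := d29_2 (iv F4339) D1090 (iv D923)
def n1091 : Q := act 5 n921
theorem D1091 : act 5 n921 = n1091 := rfl
theorem F5094 : act 0 n1091 = n1091 := d4_1 D1091 (iv D1091) F4340
theorem F5095 : act 1 n1091 = n980 := d11_1 D1091 (iv D980) (iv F4341)
theorem F5096 : act 3 n1091 = n927 := d22_1 D1091 (iv D927) (iv F4342)
theorem F5097 : act 4 n1091 = n1091 := d26_1 D1091 (iv D1091) (iv D921) F3671 D921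
theorem F5098 : act 8 n1091 = n924 := d32_2 (iv F4344) D1091 (iv D924)
def n1092 : Q := act 0 n922
theorem D1092 : act 0 n922 = n1092 := rfl
theorem F5099 : act 1 n1092 = n1092 := d0_2 D922 D1092 (iv D1092) (iv D922) F3674
theorem F5100 : act 2 n1092 = n981 := d1_2 (iv F4345) D1092 (iv D981)
theorem F5101 : act 5 n1092 = n1092 := d4_2 F4346 D1092 (iv D1092)
theorem F5102 : act 6 n1092 = n1092 := d5_2 F4347 D1092 (iv D1092)
theorem F5103 : act 7 n1092 = n1092 := d6_2 F4348 D1092 (iv D1092)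
theorem F5104 : act 8 n1092 = n1020 := d7_2 F5088 D1092 F5089
def n1093 : Q := act 4 n922
theorem D1093 : act 4 n922 = n1093 := rfl
theorem F5105 : act 1 n1093 = n923 := d10_1 D1093 (iv D923) D922
theorem F5106 : act 2 n1093 = n982 := d16_1 D1093 (iv D982) (iv F4345)
theorem F5107 : act 6 n1093 = n1093 := d27_2 F4347 D1093 (iv D1093)
theorem F5108 : act 7 n1093 = n1093 := d28_2 F4348 D1093 (iv D1093)
def n1094 : Q := act 3 n923
theorem D1094 : act 3 n923 = n1094 := rfl
theorem F5109 : act 0 n1094 = n1094 := d2_1 D1094 (iv D1094) F4349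
theorem F5110 : act 2 n1094 = n930 := d15_1 D1094 (iv D930) F3698 (iv F3680) (iv F4350)
theorem F5111 : act 6 n1094 = n1094 := d23_2 F4351 D1094 (iv D1094)
def n1095 : Q := act 5 n923
theorem D1095 : act 5 n923 = n1095 := rfl
theorem F5112 : act 0 n1095 = n1095 := d4_1 D1095 (iv D1095) F4349
theorem F5113 : act 2 n1095 = n924 := d17_1 D1095 (iv D924) (iv F4350)
theorem F5114 : act 4 n1095 = n1095 := d26_1 D1095 (iv D1095) (iv D923) F3675 D923
theorem F5115 : act 7 n1095 = n1095 := d31_2 F4352 D1095 (iv D1095)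
def n1096 : Q := act 6 n924
theorem D1096 : act 6 n924 = n1096 := rfl
theorem F5116 : act 0 n1096 = n1096 := d5_1 D1096 (iv D1096) F4353
theorem F5117 : act 1 n1096 = n985 := d12_1 D1096 (iv D985) (iv F4354)
theorem F5118 : act 3 n1096 = n932 := d23_1 D1096 (iv D932) (iv F4355)
theorem F5119 : act 4 n1096 = n1096 := d27_1 D1096 (iv D1096) F4356
theorem F5120 : act 5 n1096 = n1096 := d30_1 D1096 (iv D1096) (iv D924) F3681 D924
theorem F5121 : act 7 n1096 = n1096 := d33_2 F4357 D1096 (iv D1096)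
def n1097 : Q := act 0 n925
theorem D1097 : act 0 n925 = n1097 := rfl
theorem F5122 : act 1 n1097 = n1097 := d0_2 D925 D1097 (iv D1097) (iv D925) F3683
theorem F5123 : act 2 n1097 = n986 := d1_2 (iv F4358) D1097 (iv D986)
theorem F5124 : act 5 n1097 = n933 := d4_2 (iv F4359) D1097 (iv D933)
theorem F5125 : act 6 n1097 = n1097 := d5_2 F4360 D1097 (iv D1097)
theorem F5126 : act 7 n1097 = n1097 := d6_2 F4361 D1097 (iv D1097)
theorem F5127 : act 8 n1097 = n928 := d7_2 (iv F4362) D1097 (iv D928)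
def n1098 : Q := act 4 n925
theorem D1098 : act 4 n925 = n1098 := rfl
theorem F5128 : act 1 n1098 = n926 := d10_1 D1098 (iv D926) D925
theorem F5129 : act 2 n1098 = n987 := d16_1 D1098 (iv D987) (iv F4358)
theorem F5130 : act 6 n1098 = n1098 := d27_2 F4360 D1098 (iv D1098)
theorem F5131 : act 7 n1098 = n1098 := d28_2 F4361 D1098 (iv D1098)
theorem F5132 : act 8 n1098 = n929 := d29_2 (iv F4362) D1098 (iv D929)
def n1099 : Q := act 3 n926
theorem D1099 : act 3 n926 = n1099 := rfl
theorem F5133 : act 0 n1099 = n1099 := d2_1 D1099 (iv D1099) F4363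
theorem F5134 : act 6 n1099 = n1099 := d23_2 F4365 D1099 (iv D1099)
theorem F5135 : act 8 n1099 = n930 := d25_2 (iv F4367) D1099 (iv D930)
def n1100 : Q := act 5 n926
theorem D1100 : act 5 n926 = n1100 := rfl
theorem F5136 : act 0 n1100 = n1100 := d4_1 D1100 (iv D1100) F4363
theorem F5137 : act 2 n1100 = n927 := d17_1 D1100 (iv D927) (iv F4364)
theorem F5138 : act 4 n1100 = n936 := d26_1 D1100 (iv D936) (iv D778) (iv F3684) D926
theorem F5139 : act 7 n1100 = n1100 := d31_2 F4366 D1100 (iv D1100)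
theorem F5140 : act 8 n1100 = n931 := d32_2 (iv F4367) D1100 (iv D931)
def n1101 : Q := act 6 n927
theorem D1101 : act 6 n927 = n1101 := rfl
theorem F5141 : act 0 n1101 = n1101 := d5_1 D1101 (iv D1101) F4368
theorem F5142 : act 1 n1101 = n990 := d12_1 D1101 (iv D990) (iv F4369)
theorem F5143 : act 4 n1101 = n937 := d27_1 D1101 (iv D937) (iv F4370)
theorem F5144 : act 5 n1101 = n1101 := d30_1 D1101 (iv D1101) (iv D927) F3690 D927
theorem F5145 : act 7 n1101 = n1101 := d33_2 F4371 D1101 (iv D1101)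
theorem F5146 : act 8 n1101 = n932 := d34_2 (iv F4372) D1101 (iv D932)
def n1102 : Q := act 4 n928
theorem D1102 : act 4 n928 = n1102 := rfl
theorem F5147 : act 0 n1102 = n929 := d3_1 D1102 (iv D929) D928
theorem F5148 : act 1 n1102 = n1102 := d10_1 D1102 (iv D1102) F4373
theorem F5149 : act 2 n1102 = n991 := d16_1 D1102 (iv D991) (iv F4374)
theorem F5150 : act 6 n1102 = n1102 := d27_2 F4376 D1102 (iv D1102)
theorem F5151 : act 7 n1102 = n957 := d28_2 (iv F4377) D1102 (iv D957)
def n1103 : Q := act 3 n929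
theorem D1103 : act 3 n929 = n1103 := rfl
theorem F5152 : act 1 n1103 = n930 := d9_1 D1103 (iv D930) (iv F4378)
theorem F5153 : act 6 n1103 = n1103 := d23_2 F4380 D1103 (iv D1103)
def n1104 : Q := act 5 n929
theorem D1104 : act 5 n929 = n1104 := rfl
theorem F5154 : act 1 n1104 = n931 := d11_1 D1104 (iv D931) (iv F4378)
theorem F5155 : act 2 n1104 = n993 := d17_1 D1104 (iv D993) (iv F4379)
theorem F5156 : act 4 n1104 = n940 := d26_1 D1104 (iv D940) (iv D781) (iv F3694) D929
theorem F5157 : act 7 n1104 = n959 := d31_2 (iv F4381) D1104 (iv D959)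
def n1105 : Q := act 5 n930
theorem D1105 : act 5 n930 = n1105 := rfl
theorem F5158 : act 0 n1105 = n1105 := d4_1 D1105 (iv D1105) F4382
theorem F5159 : act 3 n1105 = n931 := d22_1 D1105 (iv D931) D930
def n1106 : Q := act 7 n930
theorem D1106 : act 7 n930 = n1106 := rfl
theorem F5160 : act 0 n1106 = n1106 := d6_1 D1106 (iv D1106) F4382
theorem F5161 : act 3 n1106 = n961 := d24_1 D1106 (iv D961) (iv D798) (iv F3700) D930
theorem F5162 : act 6 n1106 = n1106 := d33_1 D1106 (iv D1106) F4383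
def n1107 : Q := act 6 n931
theorem D1107 : act 6 n931 = n1107 := rfl
theorem F5163 : act 0 n1107 = n1107 := d5_1 D1107 (iv D1107) F4384
theorem F5164 : act 2 n1107 = n932 := d18_1 D1107 (iv D932) (iv F4385)
theorem F5165 : act 4 n1107 = n943 := d27_1 D1107 (iv D943) (iv F4386)
theorem F5166 : act 5 n1107 = n1107 := d30_1 D1107 (iv D1107) (iv D931) F3699 D931
theorem F5167 : act 7 n1107 = n962 := d33_2 (iv F4387) D1107 (iv D962)
def n1108 : Q := act 4 n933
theorem D1108 : act 4 n933 = n1108 := rfl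
theorem F5168 : act 0 n1108 = n934 := d3_1 D1108 (iv D934) D933
theorem F5169 : act 1 n1108 = n1108 := d10_1 D1108 (iv D1108) F4393
theorem F5170 : act 2 n1108 = n997 := d16_1 D1108 (iv D997) (iv F4394)
theorem F5171 : act 6 n1108 = n944 := d27_2 (iv F4395) D1108 (iv D944)
theorem F5172 : act 7 n1108 = n1108 := d28_2 F4396 D1108 (iv D1108)
theorem F5173 : act 8 n1108 = n938 := d29_2 (iv F4397) D1108 (iv D938)
def n1109 : Q := act 3 n934
theorem D1109 : act 3 n934 = n1109 := rfl
theorem F5174 : act 1 n1109 = n935 := d9_1 D1109 (iv D935) (iv F4398)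
theorem F5175 : act 6 n1109 = n945 := d23_2 (iv F4400) D1109 (iv D945)
theorem F5176 : act 8 n1109 = n939 := d25_2 (iv F4402) D1109 (iv D939)
def n1110 : Q := act 5 n934
theorem D1110 : act 5 n934 = n1110 := rfl
theorem F5177 : act 1 n1110 = n936 := d11_1 D1110 (iv D936) (iv F4398)
theorem F5178 : act 2 n1110 = n999 := d17_1 D1110 (iv D999) (iv F4399)
theorem F5179 : act 7 n1110 = n1110 := d31_2 F4401 D1110 (iv D1110)
theorem F5180 : act 8 n1110 = n940 := d32_2 (iv F4402) D1110 (iv D940)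
def n1111 : Q := act 5 n935
theorem D1111 : act 5 n935 = n1111 := rfl
theorem F5181 : act 0 n1111 = n1111 := d4_1 D1111 (iv D1111) F4403
theorem F5182 : act 2 n1111 = n1111 := d17_1 D1111 (iv D1111) F4404
theorem F5183 : act 3 n1111 = n936 := d22_1 D1111 (iv D936) D935
theorem F5184 : act 8 n1111 = n941 := d32_2 (iv F4406) D1111 (iv D941)
def n1112 : Q := act 7 n935
theorem D1112 : act 7 n935 = n1112 := rfl
theorem F5185 : act 0 n1112 = n1112 := d6_1 D1112 (iv D1112) F4403
theorem F5186 : act 2 n1112 = n1112 := d19_1 D1112 (iv D1112) F4404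
theorem F5187 : act 3 n1112 = n1112 := d24_1 D1112 (iv D1112) (iv D935) F3712 D935
theorem F5188 : act 4 n1112 = n956 := d28_1 D1112 (iv F4983) F4981
theorem F5189 : act 6 n1112 = n948 := d33_1 D1112 (iv D948) (iv F4405)
def n1113 : Q := act 6 n936
theorem D1113 : act 6 n936 = n1113 := rfl
theorem F5190 : act 0 n1113 = n1113 := d5_1 D1113 (iv D1113) F4407
theorem F5191 : act 2 n1113 = n937 := d18_1 D1113 (iv D937) (iv F4408)
theorem F5192 : act 5 n1113 = n949 := d30_1 D1113 (iv D949) (iv D788) (iv F3711) D936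
theorem F5193 : act 7 n1113 = n1113 := d33_2 F4409 D1113 (iv D1113)
theorem F5194 : act 8 n1113 = n943 := d34_2 (iv F4410) D1113 (iv D943)
def n1114 : Q := act 3 n938
theorem D1114 : act 3 n938 = n1114 := rfl
theorem F5195 : act 0 n1114 = n939 := d2_1 D1114 (iv D939) (iv F4417)
theorem F5196 : act 1 n1114 = n1114 := d9_1 D1114 (iv D1114) F4418
theorem F5197 : act 6 n1114 = n950 := d23_2 (iv F4420) D1114 (iv D950)
def n1115 : Q := act 5 n938
theorem D1115 : act 5 n938 = n1115 := rfl
theorem F5198 : act 0 n1115 = n940 := d4_1 D1115 (iv D940) (iv F4417)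
theorem F5199 : act 1 n1115 = n1115 := d11_1 D1115 (iv D1115) F4418
theorem F5200 : act 2 n1115 = n1003 := d17_1 D1115 (iv D1003) (iv F4419)
theorem F5201 : act 7 n1115 = n964 := d31_2 (iv F4421) D1115 (iv D964)
def n1116 : Q := act 2 n939
theorem D1116 : act 2 n939 = n1116 := rfl
theorem F5202 : act 1 n1116 = n1116 := d8_1 D1116 (iv D1116) F4422 F3728 (iv F4422)
theorem F5203 : act 3 n1116 = n1004 := d15_2 D939 D1116 (iv D1004) (iv D836) (iv F3724)
theorem F5204 : act 6 n1116 = n952 := d18_2 (iv F4423) D1116 (iv D952)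
def n1117 : Q := act 5 n939
theorem D1117 : act 5 n939 = n1117 := rfl
theorem F5205 : act 1 n1117 = n941 := d11_1 D1117 (iv D941) (iv F4422)
theorem F5206 : act 3 n1117 = n940 := d22_1 D1117 (iv D940) D939
def n1118 : Q := act 7 n939
theorem D1118 : act 7 n939 = n1118 := rfl
theorem F5207 : act 1 n1118 = n942 := d13_1 D1118 (iv D942) (iv F4422)
theorem F5208 : act 3 n1118 = n966 := d24_1 D1118 (iv D966) (iv D802) (iv F3726) D939
theorem F5209 : act 6 n1118 = n954 := d33_1 D1118 (iv D954) (iv F4423)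
def n1119 : Q := act 6 n940
theorem D1119 : act 6 n940 = n1119 := rfl
theorem F5210 : act 1 n1119 = n943 := d12_1 D1119 (iv D943) (iv F4424)
theorem F5211 : act 2 n1119 = n1006 := d18_1 D1119 (iv D1006) (iv F4425)
theorem F5212 : act 5 n1119 = n955 := d30_1 D1119 (iv D955) (iv D792) (iv F3725) D940
theorem F5213 : act 7 n1119 = n967 := d33_2 (iv F4426) D1119 (iv D967)
def n1120 : Q := act 4 n941
theorem D1120 : act 4 n941 = n1120 := rfl
theorem F5214 : act 0 n1120 = n1120 := d3_1 D1120 (iv D1120) F4427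
theorem F5215 : act 2 n1120 = n1120 := d16_1 D1120 (iv D1120) F4428
def n1121 : Q := act 6 n941
theorem D1121 : act 6 n941 = n1121 := rfl
theorem F5216 : act 0 n1121 = n1121 := d5_1 D1121 (iv D1121) F4427
theorem F5217 : act 2 n1121 = n1121 := d18_1 D1121 (iv D1121) F4428
theorem F5218 : act 3 n1121 = n943 := d23_1 D1121 (iv D943) (iv F4429)
theorem F5219 : act 5 n1121 = n956 := d30_1 D1121 (iv D956) (iv D793) (iv F3729) D941
def n1122 : Q := act 7 n941
theorem D1122 : act 7 n941 = n1122 := rfl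
theorem F5220 : act 0 n1122 = n1122 := d6_1 D1122 (iv D1122) F4427
theorem F5221 : act 2 n1122 = n1122 := d19_1 D1122 (iv D1122) F4428
theorem F5222 : act 3 n1122 = n970 := d24_1 D1122 (iv D970) F3820 (iv F3732) (iv F4429)
theorem F5223 : act 5 n1122 = n942 := d31_1 D1122 (iv D942) D941
def n1123 : Q := act 3 n944
theorem D1123 : act 3 n944 = n1123 := rfl
theorem F5224 : act 0 n1123 = n945 := d2_1 D1123 (iv D945) (iv F4438)
theorem F5225 : act 1 n1123 = n1123 := d9_1 D1123 (iv D1123) F4439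
theorem F5226 : act 2 n1123 = n953 := d15_1 D1123 F4476 F3767 (iv F3976) (iv F4440)
theorem F5227 : act 5 n1123 = n952 := d22_2 F4443 D1123 F4474
theorem F5228 : act 8 n1123 = n950 := d25_2 (iv F4442) D1123 (iv D950)
def n1124 : Q := act 2 n945
theorem D1124 : act 2 n945 = n1124 := rfl
theorem F5229 : act 0 n1124 = n953 := d1_1 D1124 (iv F5226) F5224
theorem F5230 : act 1 n1124 = n1124 := d8_1 D1124 (iv D1124) F4444 F3748 (iv F4444)
theorem F5231 : act 3 n1124 = n951 := d15_2 D945 D1124 F4469 (iv D841) (iv F3744)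
theorem F5232 : act 8 n1124 = n952 := d20_2 (iv F4445) D1124 (iv D952)
theorem F5233 : act 5 n950 = n1124 := d32_3 F5232 (iv F5227) F5228
def n1125 : Q := act 5 n945
theorem D1125 : act 5 n945 = n1125 := rfl
theorem F5234 : act 0 n1125 = n952 := d4_1 D1125 (iv F5227) F5224
theorem F5235 : act 1 n1125 = n947 := d11_1 D1125 (iv D947) (iv F4444)
theorem F5236 : act 2 n1125 = n950 := d17_1 D1125 F5233 (iv D1124)
theorem F5237 : act 3 n1125 = n946 := d22_1 D1125 (iv D946) D945
theorem F5238 : act 8 n1125 = n953 := d32_2 (iv F4445) D1125 (iv D953)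
def n1126 : Q := act 7 n945
theorem D1126 : act 7 n945 = n1126 := rfl
theorem F5239 : act 1 n1126 = n948 := d13_1 D1126 (iv D948) (iv F4444)
theorem F5240 : act 3 n1126 = n1126 := d24_1 D1126 (iv D1126) (iv D945) F3745 D945
theorem F5241 : act 4 n1126 = n953 := d28_1 D1126 (iv F5030) F5028
def n1127 : Q := act 6 n946
theorem D1127 : act 6 n946 = n1127 := rfl
theorem F5242 : act 0 n1127 = n1004 := d5_1 D1127 F4699 (iv F4446)
theorem F5243 : act 1 n1127 = n949 := d12_1 D1127 (iv D949) (iv F4447)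
theorem F5244 : act 2 n1127 = n1002 := d18_1 D1127 F4691 (iv F4448)
theorem F5245 : act 4 n1127 = n1127 := d27_1 D1127 (iv D1127) F4449
theorem F5246 : act 7 n1127 = n1127 := d33_2 F4450 D1127 (iv D1127)
theorem F5247 : act 8 n1127 = n955 := d34_2 (iv F4451) D1127 (iv D955)
def n1128 : Q := act 6 n947
theorem D1128 : act 6 n947 = n1128 := rfl
theorem F5248 : act 0 n1128 = n1128 := d5_1 D1128 (iv D1128) F4452
theorem F5249 : act 2 n1128 = n1128 := d18_1 D1128 (iv D1128) F4453
theorem F5250 : act 3 n1128 = n949 := d23_1 D1128 (iv D949) (iv F4454)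
theorem F5251 : act 8 n1128 = n956 := d34_2 (iv F4455) D1128 (iv D956)
def n1129 : Q := act 7 n950
theorem D1129 : act 7 n950 = n1129 := rfl
theorem F5252 : act 0 n1129 = n954 := d6_1 D1129 (iv D954) (iv F4465)
theorem F5253 : act 1 n1129 = n1129 := d13_1 D1129 (iv D1129) F4466
theorem F5254 : act 3 n1129 = n972 := d24_1 D1129 (iv D972) (iv D807) (iv F3764) D950
def n1130 : Q := act 6 n951
theorem D1130 : act 6 n951 = n1130 := rfl
theorem F5255 : act 0 n1130 = n955 := d5_1 D1130 (iv D955) (iv F4467)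
theorem F5256 : act 1 n1130 = n1130 := d12_1 D1130 (iv D1130) F4468
theorem F5257 : act 2 n1130 = n998 := d18_1 D1130 F4670 (iv F4469)
theorem F5258 : act 4 n1130 = n1130 := d27_1 D1130 (iv D1130) F4470
theorem F5259 : act 7 n1130 = n973 := d33_2 (iv F4471) D1130 (iv D973)
theorem F5260 : act 8 n1130 = n1004 := d34_2 (iv F4472) D1130 F4699
def n1131 : Q := act 7 n952
theorem D1131 : act 7 n952 = n1131 := rfl
theorem F5261 : act 1 n1131 = n1131 := d13_1 D1131 (iv D1131) F4473
theorem F5262 : act 2 n1131 = n954 := d19_1 D1131 (iv D954) D952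
theorem F5263 : act 3 n1131 = n1131 := d24_1 D1131 (iv D1131) F4474 F3998 (iv F4474)
def n1132 : Q := act 6 n953
theorem D1132 : act 6 n953 = n1132 := rfl
theorem F5264 : act 1 n1132 = n956 := d12_1 D1132 (iv D956) (iv F4475)
theorem F5265 : act 3 n1132 = n955 := d23_1 D1132 (iv D955) (iv F4476)
def n1133 : Q := act 3 n957
theorem D1133 : act 3 n957 = n1133 := rfl
theorem F5266 : act 0 n1133 = n958 := d2_1 D1133 (iv D958) (iv F4486)
theorem F5267 : act 1 n1133 = n1133 := d9_1 D1133 (iv D1133) F4487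
theorem F5268 : act 4 n1133 = n1133 := d21_2 D957 D1133 (iv D1133) (iv D957) F3782
theorem F5269 : act 6 n1133 = n1133 := d23_2 F4489 D1133 (iv D1133)
theorem F5270 : act 8 n1133 = n1133 := d25_2 F4490 D1133 (iv D1133)
def n1134 : Q := act 5 n957
theorem D1134 : act 5 n957 = n1134 := rfl
theorem F5271 : act 0 n1134 = n959 := d4_1 D1134 (iv D959) (iv F4486)
theorem F5272 : act 1 n1134 = n1134 := d11_1 D1134 (iv D1134) F4487
theorem F5273 : act 2 n1134 = n1010 := d17_1 D1134 (iv D1010) (iv F4488)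
theorem F5274 : act 4 n1134 = n964 := d26_1 D1134 (iv D964) (iv D801) (iv F3783) D957
theorem F5275 : act 8 n1134 = n1134 := d32_2 F4490 D1134 (iv D1134)
def n1135 : Q := act 2 n958
theorem D1135 : act 2 n958 = n1135 := rfl
theorem F5276 : act 1 n1135 = n1135 := d8_1 D1135 (iv D1135) F4491 F3791 (iv F4491)
theorem F5277 : act 3 n1135 = n1011 := d15_2 D958 D1135 (iv D1011) (iv D848) (iv F3787)
theorem F5278 : act 4 n1135 = n1135 := d16_2 F4492 D1135 (iv D1135)
theorem F5279 : act 6 n1135 = n1135 := d18_2 F4493 D1135 (iv D1135)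
theorem F5280 : act 8 n1135 = n1135 := d20_2 F4494 D1135 (iv D1135)
def n1136 : Q := act 5 n958
theorem D1136 : act 5 n958 = n1136 := rfl
theorem F5281 : act 1 n1136 = n960 := d11_1 D1136 (iv D960) (iv F4491)
theorem F5282 : act 3 n1136 = n959 := d22_1 D1136 (iv D959) D958
theorem F5283 : act 8 n1136 = n1136 := d32_2 F4494 D1136 (iv D1136)
def n1137 : Q := act 7 n958
theorem D1137 : act 7 n958 = n1137 := rfl
theorem F5284 : act 1 n1137 = n961 := d13_1 D1137 (iv D961) (iv F4491)
theorem F5285 : act 4 n1137 = n1137 := d28_1 D1137 (iv D1137) F4492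
theorem F5286 : act 6 n1137 = n1137 := d33_1 D1137 (iv D1137) F4493
def n1138 : Q := act 6 n959
theorem D1138 : act 6 n959 = n1138 := rfl
theorem F5287 : act 1 n1138 = n962 := d12_1 D1138 (iv D962) (iv F4495)
theorem F5288 : act 2 n1138 = n1014 := d18_1 D1138 (iv D1014) (iv F4496)
theorem F5289 : act 4 n1138 = n967 := d27_1 D1138 (iv D967) (iv F4497)
theorem F5290 : act 5 n1138 = n1138 := d30_1 D1138 (iv D1138) (iv D959) F3788 D959
theorem F5291 : act 8 n1138 = n1138 := d34_2 F4498 D1138 (iv D1138)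
def n1139 : Q := act 4 n960
theorem D1139 : act 4 n960 = n1139 := rfl
theorem F5292 : act 0 n1139 = n1139 := d3_1 D1139 (iv D1139) F4499
theorem F5293 : act 2 n1139 = n1139 := d16_1 D1139 (iv D1139) F4500
theorem F5294 : act 3 n1139 = n968 := d21_1 D1139 (iv D968) F3820 (iv F3797) (iv F4501)
theorem F5295 : act 5 n1139 = n1139 := d26_2 D960 D1139 (iv D1139) (iv D960) F3792
theorem F5296 : act 8 n1139 = n1139 := d29_2 F4502 D1139 (iv D1139)
def n1140 : Q := act 6 n960
theorem D1140 : act 6 n960 = n1140 := rfl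
theorem F5297 : act 0 n1140 = n1140 := d5_1 D1140 (iv D1140) F4499
theorem F5298 : act 2 n1140 = n1140 := d18_1 D1140 (iv D1140) F4500
theorem F5299 : act 3 n1140 = n962 := d23_1 D1140 (iv D962) (iv F4501)
theorem F5300 : act 5 n1140 = n1140 := d30_1 D1140 (iv D1140) (iv D960) F3793 D960
theorem F5301 : act 8 n1140 = n1140 := d34_2 F4502 D1140 (iv D1140)
def n1141 : Q := act 7 n960
theorem D1141 : act 7 n960 = n1141 := rfl
theorem F5302 : act 0 n1141 = n1141 := d6_1 D1141 (iv D1141) F4499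
theorem F5303 : act 2 n1141 = n1141 := d19_1 D1141 (iv D1141) F4500
theorem F5304 : act 5 n1141 = n961 := d31_1 D1141 (iv D961) D960
def n1142 : Q := act 8 n961
theorem D1142 : act 8 n961 = n1142 := rfl
theorem F5305 : act 0 n1142 = n1142 := d7_1 D1142 (iv D1142) F4503
theorem F5306 : act 2 n1142 = n1142 := d20_1 D1142 (iv D1142) F4504
theorem F5307 : act 4 n1142 = n1142 := d29_1 D1142 (iv D1142) F4505
theorem F5308 : act 6 n1142 = n1142 := d34_1 D1142 (iv D1142) F4506
theorem F5309 : act 7 n1142 = n1142 := d35_1 D1142 (iv D1142) (iv D961) F3794 D961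
def n1143 : Q := act 5 n963
theorem D1143 : act 5 n963 = n1143 := rfl
theorem F5310 : act 0 n1143 = n965 := d4_1 D1143 (iv D965) (iv F4512)
theorem F5311 : act 1 n1143 = n1143 := d11_1 D1143 (iv D1143) F4513
theorem F5312 : act 2 n1143 = n1143 := d17_1 D1143 (iv D1143) F4514
theorem F5313 : act 3 n1143 = n964 := d22_1 D1143 (iv D964) D963
theorem F5314 : act 8 n1143 = n1143 := d32_2 F4517 D1143 (iv D1143)
def n1144 : Q := act 7 n963
theorem D1144 : act 7 n963 = n1144 := rfl
theorem F5315 : act 0 n1144 = n966 := d6_1 D1144 (iv D966) (iv F4512)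
theorem F5316 : act 1 n1144 = n1144 := d13_1 D1144 (iv D1144) F4513
theorem F5317 : act 2 n1144 = n1144 := d19_1 D1144 (iv D1144) F4514
theorem F5318 : act 4 n1144 = n1144 := d28_1 D1144 (iv D1144) F4515
theorem F5319 : act 6 n1144 = n972 := d33_1 D1144 (iv D972) (iv F4516)
def n1145 : Q := act 6 n964
theorem D1145 : act 6 n964 = n1145 := rfl
theorem F5320 : act 0 n1145 = n967 := d5_1 D1145 (iv D967) (iv F4518)
theorem F5321 : act 1 n1145 = n1145 := d12_1 D1145 (iv D1145) F4519
theorem F5322 : act 2 n1145 = n1018 := d18_1 D1145 (iv D1018) (iv F4520)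
theorem F5323 : act 5 n1145 = n973 := d30_1 D1145 (iv D973) (iv D808) (iv F3808) D964
theorem F5324 : act 8 n1145 = n1145 := d34_2 F4521 D1145 (iv D1145)
def n1146 : Q := act 4 n965
theorem D1146 : act 4 n965 = n1146 := rfl
theorem F5325 : act 1 n1146 = n968 := d10_1 D1146 (iv D968) (iv F4522)
theorem F5326 : act 2 n1146 = n1146 := d16_1 D1146 (iv D1146) F4523
theorem F5327 : act 5 n1146 = n1146 := d26_2 D965 D1146 (iv D1146) (iv D965) F3812
theorem F5328 : act 8 n1146 = n1146 := d29_2 F4525 D1146 (iv D1146)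
def n1147 : Q := act 6 n965
theorem D1147 : act 6 n965 = n1147 := rfl
theorem F5329 : act 1 n1147 = n969 := d12_1 D1147 (iv D969) (iv F4522)
theorem F5330 : act 2 n1147 = n1147 := d18_1 D1147 (iv D1147) F4523
theorem F5331 : act 3 n1147 = n967 := d23_1 D1147 (iv D967) (iv F4524)
theorem F5332 : act 5 n1147 = n974 := d30_1 D1147 (iv D974) (iv D809) (iv F3813) D965
theorem F5333 : act 8 n1147 = n1147 := d34_2 F4525 D1147 (iv D1147)
def n1148 : Q := act 7 n965
theorem D1148 : act 7 n965 = n1148 := rfl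
theorem F5334 : act 1 n1148 = n970 := d13_1 D1148 (iv D970) (iv F4522)
theorem F5335 : act 2 n1148 = n1148 := d19_1 D1148 (iv D1148) F4523
theorem F5336 : act 5 n1148 = n966 := d31_1 D1148 (iv D966) D965
def n1149 : Q := act 6 n968
theorem D1149 : act 6 n968 = n1149 := rfl
theorem F5337 : act 0 n1149 = n1149 := d5_1 D1149 (iv D1149) F4534
theorem F5338 : act 2 n1149 = n975 := d18_1 D1149 (iv D975) (iv F4535)
theorem F5339 : act 4 n1149 = n969 := d27_1 D1149 (iv D969) D968
theorem F5340 : act 8 n1149 = n1149 := d34_2 F4537 D1149 (iv D1149)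
def n1150 : Q := act 7 n968
theorem D1150 : act 7 n968 = n1150 := rfl
theorem F5341 : act 0 n1150 = n1150 := d6_1 D1150 (iv D1150) F4534
theorem F5342 : act 2 n1150 = n976 := d19_1 D1150 (iv D976) (iv F4535)
theorem F5343 : act 4 n1150 = n970 := d28_1 D1150 (iv D970) D968
theorem F5344 : act 5 n1150 = n1150 := d31_1 D1150 (iv D1150) F4536
def n1151 : Q := act 6 n971
theorem D1151 : act 6 n971 = n1151 := rfl
theorem F5345 : act 0 n1151 = n974 := d5_1 D1151 (iv D974) (iv F4546)
theorem F5346 : act 1 n1151 = n1151 := d12_1 D1151 (iv D1151) F4547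
theorem F5347 : act 2 n1151 = n1151 := d18_1 D1151 (iv D1151) F4548
theorem F5348 : act 3 n1151 = n973 := d23_1 D1151 (iv D973) (iv F4549)
theorem F5349 : act 8 n1151 = n1151 := d34_2 F4550 D1151 (iv D1151)
def n1152 : Q := act 3 n976
theorem D1152 : act 3 n976 = n1152 := rfl
theorem F5350 : act 0 n1152 = n1152 := d2_1 D1152 (iv D1152) F4569
theorem F5351 : act 1 n1152 = n1152 := d9_1 D1152 (iv D1152) F4570
theorem F5352 : act 4 n1152 = n1152 := d21_2 (iv F4571) D1152 (iv D1152) F4571 F3867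
theorem F5353 : act 5 n1152 = n1152 := d22_2 F4572 D1152 (iv D1152)
theorem F5354 : act 7 n1152 = n1152 := d24_2 D976 D1152 (iv D1152) (iv D976) F3857
def n1153 : Q := act 5 n977
theorem D1153 : act 5 n977 = n1153 := rfl
theorem F5355 : act 0 n1153 = n1021 := d4_1 D1153 (iv D1021) (iv F4573)
theorem F5356 : act 2 n1153 = n1043 := d17_1 D1153 (iv D1043) (iv F4574)
theorem F5357 : act 3 n1153 = n1153 := d22_1 D1153 (iv D1153) F4575
theorem F5358 : act 4 n1153 = n1153 := d26_1 D1153 (iv D1153) (iv D977) F3871 D977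
theorem F5359 : act 7 n1153 = n980 := d31_2 (iv F4577) D1153 (iv D980)
theorem F5360 : act 8 n1153 = n1153 := d32_2 F4578 D1153 (iv D1153)
def n1154 : Q := act 4 n978
theorem D1154 : act 4 n978 = n1154 := rfl
theorem F5361 : act 0 n1154 = n1013 := d3_1 D1154 F4735 (iv F4579)
theorem F5362 : act 1 n1154 = n979 := d10_1 D1154 (iv D979) D978
theorem F5363 : act 6 n1154 = n1154 := d27_2 F4582 D1154 (iv D1154)
theorem F5364 : act 7 n1154 = n1009 := d28_2 (iv F4583) D1154 F4719
theorem F5365 : act 8 n1154 = n982 := d29_2 (iv F4584) D1154 (iv D982)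
def n1155 : Q := act 3 n979
theorem D1155 : act 3 n979 = n1155 := rfl
theorem F5366 : act 0 n1155 = n1022 := d2_1 D1155 (iv D1022) (iv F4585)
theorem F5367 : act 2 n1155 = n988 := d15_1 D1155 (iv D988) F3903 (iv F3882) (iv F4586)
theorem F5368 : act 4 n1155 = n1155 := d21_2 D979 D1155 (iv D1155) (iv D979) F3876
theorem F5369 : act 6 n1155 = n1155 := d23_2 F4587 D1155 (iv D1155)
theorem F5370 : act 7 n1155 = n1036 := d24_2 (iv F4588) D1155 (iv D1036) F4123 D883
theorem F5371 : act 8 n1155 = n983 := d25_2 (iv F4589) D1155 (iv D983)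
def n1156 : Q := act 5 n979
theorem D1156 : act 5 n979 = n1156 := rfl
theorem F5372 : act 0 n1156 = n1023 := d4_1 D1156 (iv D1023) (iv F4585)
theorem F5373 : act 2 n1156 = n980 := d17_1 D1156 (iv D980) (iv F4586)
theorem F5374 : act 4 n1156 = n1156 := d26_1 D1156 (iv D1156) (iv D979) F3877 D979
theorem F5375 : act 7 n1156 = n1043 := d31_2 (iv F4588) D1156 (iv D1043)
theorem F5376 : act 8 n1156 = n984 := d32_2 (iv F4589) D1156 (iv D984)
def n1157 : Q := act 6 n980
theorem D1157 : act 6 n980 = n1157 := rfl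
theorem F5377 : act 0 n1157 = n1024 := d5_1 D1157 (iv D1024) (iv F4590)
theorem F5378 : act 3 n1157 = n990 := d23_1 D1157 (iv D990) (iv F4591)
theorem F5379 : act 4 n1157 = n1157 := d27_1 D1157 (iv D1157) F4592
theorem F5380 : act 5 n1157 = n1157 := d30_1 D1157 (iv D1157) (iv D980) F3883 D980
theorem F5381 : act 8 n1157 = n985 := d34_2 (iv F4593) D1157 (iv D985)
def n1158 : Q := act 4 n981
theorem D1158 : act 4 n981 = n1158 := rfl
theorem F5382 : act 0 n1158 = n982 := d3_1 D1158 (iv D982) D981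
theorem F5383 : act 1 n1158 = n1017 := d10_1 D1158 F4753 (iv F4594)
theorem F5384 : act 6 n1158 = n1158 := d27_2 F4597 D1158 (iv D1158)
theorem F5385 : act 7 n1158 = n1158 := d28_2 F4598 D1158 (iv D1158)
theorem F5386 : act 8 n1158 = n1013 := d29_2 (iv F4599) D1158 F4735
def n1159 : Q := act 3 n982
theorem D1159 : act 3 n982 = n1159 := rfl
theorem F5387 : act 1 n1159 = n983 := d9_1 D1159 (iv D983) (iv F4600)
theorem F5388 : act 4 n1159 = n1159 := d21_2 D982 D1159 (iv D1159) (iv D982) F3885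
theorem F5389 : act 6 n1159 = n1159 := d23_2 F4601 D1159 (iv D1159)
def n1160 : Q := act 5 n982
theorem D1160 : act 5 n982 = n1160 := rfl
theorem F5390 : act 1 n1160 = n984 := d11_1 D1160 (iv D984) (iv F4600)
theorem F5391 : act 4 n1160 = n1160 := d26_1 D1160 (iv D1160) (iv D982) F3886 D982
theorem F5392 : act 7 n1160 = n1160 := d31_2 F4602 D1160 (iv D1160)
def n1161 : Q := act 5 n983
theorem D1161 : act 5 n983 = n1161 := rfl
theorem F5393 : act 0 n1161 = n1027 := d4_1 D1161 (iv D1027) (iv F4603)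
theorem F5394 : act 2 n1161 = n994 := d17_1 D1161 (iv D994) (iv F4604)
theorem F5395 : act 3 n1161 = n984 := d22_1 D1161 (iv D984) D983
def n1162 : Q := act 7 n983
theorem D1162 : act 7 n983 = n1162 := rfl
theorem F5396 : act 0 n1162 = n1028 := d6_1 D1162 (iv D1028) (iv F4603)
theorem F5397 : act 2 n1162 = n995 := d19_1 D1162 (iv D995) (iv F4604)
theorem F5398 : act 3 n1162 = n1162 := d24_1 D1162 (iv D1162) (iv D983) F3892 D983
theorem F5399 : act 4 n1162 = n1162 := d28_1 D1162 (iv D1162) F4605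
theorem F5400 : act 6 n1162 = n1162 := d33_1 D1162 (iv D1162) F4606
def n1163 : Q := act 6 n984
theorem D1163 : act 6 n984 = n1163 := rfl
theorem F5401 : act 0 n1163 = n1029 := d5_1 D1163 (iv D1029) (iv F4607)
theorem F5402 : act 2 n1163 = n985 := d18_1 D1163 (iv D985) (iv F4608)
theorem F5403 : act 4 n1163 = n1163 := d27_1 D1163 (iv D1163) F4609
theorem F5404 : act 5 n1163 = n1163 := d30_1 D1163 (iv D1163) (iv D984) F3891 D984
theorem F5405 : act 7 n1163 = n1163 := d33_2 F4610 D1163 (iv D1163)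
def n1164 : Q := act 4 n986
theorem D1164 : act 4 n986 = n1164 := rfl
theorem F5406 : act 0 n1164 = n987 := d3_1 D1164 (iv D987) D986
theorem F5407 : act 1 n1164 = n1030 := d10_1 D1164 (iv D1030) (iv F4616)
theorem F5408 : act 6 n1164 = n1164 := d27_2 F4619 D1164 (iv D1164)
theorem F5409 : act 7 n1164 = n1164 := d28_2 F4620 D1164 (iv D1164)
theorem F5410 : act 8 n1164 = n991 := d29_2 (iv F4621) D1164 (iv D991)
def n1165 : Q := act 3 n987
theorem D1165 : act 3 n987 = n1165 := rfl
theorem F5411 : act 1 n1165 = n988 := d9_1 D1165 (iv D988) (iv F4622)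
theorem F5412 : act 4 n1165 = n1165 := d21_2 D987 D1165 (iv D1165) (iv D987) F3897
theorem F5413 : act 6 n1165 = n1165 := d23_2 F4623 D1165 (iv D1165)
theorem F5414 : act 8 n1165 = n992 := d25_2 (iv F4625) D1165 (iv D992)
def n1166 : Q := act 5 n987
theorem D1166 : act 5 n987 = n1166 := rfl
theorem F5415 : act 1 n1166 = n989 := d11_1 D1166 (iv D989) (iv F4622)
theorem F5416 : act 4 n1166 = n999 := d26_1 D1166 (iv D999) (iv D831) (iv F3898) D987
theorem F5417 : act 7 n1166 = n1166 := d31_2 F4624 D1166 (iv D1166)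
theorem F5418 : act 8 n1166 = n993 := d32_2 (iv F4625) D1166 (iv D993)
def n1167 : Q := act 5 n988
theorem D1167 : act 5 n988 = n1167 := rfl
theorem F5419 : act 0 n1167 = n1033 := d4_1 D1167 (iv D1033) (iv F4626)
theorem F5420 : act 3 n1167 = n989 := d22_1 D1167 (iv D989) D988
theorem F5421 : act 8 n1167 = n994 := d32_2 (iv F4629) D1167 (iv D994)
def n1168 : Q := act 7 n988
theorem D1168 : act 7 n988 = n1168 := rfl
theorem F5422 : act 0 n1168 = n1034 := d6_1 D1168 (iv D1034) (iv F4626)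
theorem F5423 : act 2 n1168 = n1036 := d19_1 D1168 (iv F5370) F5367
theorem F5424 : act 3 n1168 = n1168 := d24_1 D1168 (iv D1168) (iv D988) F3905 D988
theorem F5425 : act 4 n1168 = n1168 := d28_1 D1168 (iv D1168) F4627
theorem F5426 : act 6 n1168 = n1168 := d33_1 D1168 (iv D1168) F4628
def n1169 : Q := act 6 n989
theorem D1169 : act 6 n989 = n1169 := rfl
theorem F5427 : act 0 n1169 = n1035 := d5_1 D1169 (iv D1035) (iv F4630)
theorem F5428 : act 2 n1169 = n990 := d18_1 D1169 (iv D990) (iv F4631)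
theorem F5429 : act 4 n1169 = n1001 := d27_1 D1169 (iv D1001) (iv F4632)
theorem F5430 : act 5 n1169 = n1169 := d30_1 D1169 (iv D1169) (iv D989) F3904 D989
theorem F5431 : act 7 n1169 = n1169 := d33_2 F4633 D1169 (iv D1169)
theorem F5432 : act 8 n1169 = n996 := d34_2 (iv F4634) D1169 (iv D996)
def n1170 : Q := act 3 n991
theorem D1170 : act 3 n991 = n1170 := rfl
theorem F5433 : act 0 n1170 = n992 := d2_1 D1170 (iv D992) (iv F4640)
theorem F5434 : act 1 n1170 = n1036 := d9_1 D1170 (iv D1036) (iv F4641)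
theorem F5435 : act 4 n1170 = n1170 := d21_2 D991 D1170 (iv D1170) (iv D991) F3912
theorem F5436 : act 6 n1170 = n1170 := d23_2 F4642 D1170 (iv D1170)
def n1171 : Q := act 5 n991
theorem D1171 : act 5 n991 = n1171 := rfl
theorem F5437 : act 0 n1171 = n993 := d4_1 D1171 (iv D993) (iv F4640)
theorem F5438 : act 1 n1171 = n1037 := d11_1 D1171 (iv D1037) (iv F4641)
theorem F5439 : act 4 n1171 = n1003 := d26_1 D1171 (iv D1003) (iv D835) (iv F3913) D991
theorem F5440 : act 7 n1171 = n1010 := d31_2 (iv F4643) D1171 (iv D1010)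
def n1172 : Q := act 2 n992
theorem D1172 : act 2 n992 = n1172 := rfl
theorem F5441 : act 4 n1172 = n1172 := d16_2 F4645 D1172 (iv D1172)
theorem F5442 : act 6 n1172 = n1172 := d18_2 F4646 D1172 (iv D1172)
def n1173 : Q := act 5 n992
theorem D1173 : act 5 n992 = n1173 := rfl
theorem F5443 : act 1 n1173 = n994 := d11_1 D1173 (iv D994) (iv F4644)
theorem F5444 : act 3 n1173 = n993 := d22_1 D1173 (iv D993) D992
def n1174 : Q := act 7 n992
theorem D1174 : act 7 n992 = n1174 := rfl
theorem F5445 : act 1 n1174 = n995 := d13_1 D1174 (iv D995) (iv F4644)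
theorem F5446 : act 3 n1174 = n1013 := d24_1 D1174 (iv D1013) (iv D848) (iv F3918) D992
theorem F5447 : act 4 n1174 = n1174 := d28_1 D1174 (iv D1174) F4645
theorem F5448 : act 6 n1174 = n1174 := d33_1 D1174 (iv D1174) F4646
def n1175 : Q := act 6 n993
theorem D1175 : act 6 n993 = n1175 := rfl
theorem F5449 : act 1 n1175 = n996 := d12_1 D1175 (iv D996) (iv F4647)
theorem F5450 : act 4 n1175 = n1006 := d27_1 D1175 (iv D1006) (iv F4648)
theorem F5451 : act 5 n1175 = n1175 := d30_1 D1175 (iv D1175) (iv D993) F3917 D993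
theorem F5452 : act 7 n1175 = n1014 := d33_2 (iv F4649) D1175 (iv D1014)
def n1176 : Q := act 4 n994
theorem D1176 : act 4 n994 = n1176 := rfl
theorem F5453 : act 0 n1176 = n1040 := d3_1 D1176 (iv D1040) (iv F4650)
theorem F5454 : act 3 n1176 = n1007 := d21_1 D1176 (iv D1007) F3966 (iv F3924) (iv F4651)
theorem F5455 : act 5 n1176 = n1176 := d26_2 D994 D1176 (iv D1176) (iv D994) F3920
def n1177 : Q := act 6 n994
theorem D1177 : act 6 n994 = n1177 := rfl
theorem F5456 : act 0 n1177 = n1041 := d5_1 D1177 (iv D1041) (iv F4650)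
theorem F5457 : act 3 n1177 = n996 := d23_1 D1177 (iv D996) (iv F4651)
theorem F5458 : act 5 n1177 = n1177 := d30_1 D1177 (iv D1177) (iv D994) F3921 D994
def n1178 : Q := act 7 n994
theorem D1178 : act 7 n994 = n1178 := rfl
theorem F5459 : act 0 n1178 = n1042 := d6_1 D1178 (iv D1042) (iv F4650)
theorem F5460 : act 3 n1178 = n1016 := d24_1 D1178 (iv D1016) F4021 (iv F3925) (iv F4651)
theorem F5461 : act 5 n1178 = n995 := d31_1 D1178 (iv D995) D994
def n1179 : Q := act 8 n995
theorem D1179 : act 8 n995 = n1179 := rfl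
theorem F5462 : act 0 n1179 = n1025 := d7_1 D1179 F4795 (iv F4652)
theorem F5463 : act 3 n1179 = n1017 := d25_1 D1179 (iv D1017) (iv F4653)
theorem F5464 : act 4 n1179 = n1179 := d29_1 D1179 (iv D1179) F4654
theorem F5465 : act 6 n1179 = n1179 := d34_1 D1179 (iv D1179) F4655
def n1180 : Q := act 5 n997
theorem D1180 : act 5 n997 = n1180 := rfl
theorem F5466 : act 0 n1180 = n999 := d4_1 D1180 (iv D999) (iv F4661)
theorem F5467 : act 1 n1180 = n1008 := d11_1 D1180 F4714 (iv F4662)
theorem F5468 : act 3 n1180 = n1006 := d22_1 D1180 F4705 F4666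
theorem F5469 : act 6 n1180 = n1005 := d30_2 (iv F4663) D1180 (iv D1005) F3960 F3977
theorem F5470 : act 7 n1180 = n1180 := d31_2 F4664 D1180 (iv D1180)
theorem F5471 : act 8 n1180 = n1003 := d32_2 (iv F4665) D1180 (iv D1003)
def n1181 : Q := act 5 n998
theorem D1181 : act 5 n998 = n1181 := rfl
theorem F5472 : act 0 n1181 = n1006 := d4_1 D1181 F4705 (iv F4667)
theorem F5473 : act 1 n1181 = n1000 := d11_1 D1181 (iv D1000) (iv F4668)
theorem F5474 : act 3 n1181 = n999 := d22_1 D1181 (iv D999) D998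
theorem F5475 : act 6 n1181 = n1003 := d30_2 (iv F4670) D1181 (iv D1003) F3956 F3982
theorem F5476 : act 7 n1181 = n1018 := d31_2 F4672 D1181 F4759
theorem F5477 : act 8 n1181 = n1005 := d32_2 (iv F4671) D1181 (iv D1005)
def n1182 : Q := act 6 n999
theorem D1182 : act 6 n999 = n1182 := rfl
theorem F5478 : act 0 n1182 = n1005 := d5_1 D1182 (iv F5469) F5466
theorem F5479 : act 1 n1182 = n1001 := d12_1 D1182 (iv D1001) (iv F4673)
theorem F5480 : act 3 n1182 = n1003 := d23_1 D1182 (iv F5475) F5474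
theorem F5481 : act 5 n1182 = n1002 := d30_1 D1182 F4691 (iv D842) (iv F3936) D999
theorem F5482 : act 7 n1182 = n1182 := d33_2 F4674 D1182 (iv D1182)
theorem F5483 : act 8 n1182 = n1006 := d34_2 (iv F4675) D1182 (iv D1006)
def n1183 : Q := act 4 n1000
theorem D1183 : act 4 n1000 = n1183 := rfl
theorem F5484 : act 0 n1183 = n1039 := d3_1 D1183 F4849 (iv F4676)
theorem F5485 : act 2 n1183 = n1183 := d16_1 D1183 (iv D1183) F4677
theorem F5486 : act 5 n1183 = n1183 := d26_2 D1000 D1183 (iv D1183) (iv D1000) F3941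
theorem F5487 : act 6 n1183 = n1037 := d27_2 (iv F4679) D1183 F4843
theorem F5488 : act 7 n1183 = n1044 := d28_2 (iv F4680) D1183 F4865
theorem F5489 : act 8 n1183 = n1007 := d29_2 (iv F4681) D1183 (iv D1007)
def n1184 : Q := act 5 n1004
theorem D1184 : act 5 n1004 = n1184 := rfl
theorem F5490 : act 1 n1184 = n1184 := d11_1 D1184 (iv D1184) F4697
theorem F5491 : act 2 n1184 = n1005 := d17_1 D1184 (iv D1005) D1004
theorem F5492 : act 7 n1184 = n1184 := d31_2 F4700 D1184 (iv D1184)
def n1185 : Q := act 4 n1005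
theorem D1185 : act 4 n1005 = n1185 := rfl
theorem F5493 : act 1 n1185 = n1007 := d10_1 D1185 (iv D1007) (iv F4701)
theorem F5494 : act 5 n1185 = n1185 := d26_2 D1005 D1185 (iv D1185) (iv D1005) F3959
theorem F5495 : act 7 n1185 = n1185 := d28_2 F4703 D1185 (iv D1185)
def n1186 : Q := act 6 n1007
theorem D1186 : act 6 n1007 = n1186 := rfl
theorem F5496 : act 0 n1186 = n1032 := d5_1 D1186 F4825 (iv F4707)
theorem F5497 : act 2 n1186 = n1186 := d18_1 D1186 (iv D1186) F4708
theorem F5498 : act 4 n1186 = n1008 := d27_1 D1186 (iv D1008) D1007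
theorem F5499 : act 7 n1186 = n1186 := d33_2 F4710 D1186 (iv D1186)
theorem F5500 : act 8 n1186 = n1037 := d34_2 F5489 D1186 (iv F5487)
theorem F5501 : act 5 n1030 = n1186 := d32_3 F5500 (iv D1037) (iv F4815)
def n1187 : Q := act 2 n1009
theorem D1187 : act 2 n1009 = n1187 := rfl
theorem F5502 : act 0 n1187 = n1011 := d1_1 D1187 (iv D1011) (iv F4717)
theorem F5503 : act 4 n1187 = n1019 := d16_2 (iv F4719) D1187 (iv D1019)
theorem F5504 : act 6 n1187 = n1187 := d18_2 F4720 D1187 (iv D1187)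
theorem F5505 : act 8 n1187 = n1187 := d20_2 F4721 D1187 (iv D1187)
def n1188 : Q := act 5 n1009
theorem D1188 : act 5 n1009 = n1188 := rfl
theorem F5506 : act 0 n1188 = n1012 := d4_1 D1188 (iv D1012) (iv F4717)
theorem F5507 : act 1 n1188 = n1043 := d11_1 D1188 (iv D1043) (iv F4718)
theorem F5508 : act 3 n1188 = n1010 := d22_1 D1188 (iv D1010) D1009
theorem F5509 : act 4 n1188 = n1188 := d26_1 D1188 (iv D1188) F4719 F4048 (iv F4719)
theorem F5510 : act 8 n1188 = n1188 := d32_2 F4721 D1188 (iv D1188)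
def n1189 : Q := act 6 n1010
theorem D1189 : act 6 n1010 = n1189 := rfl
theorem F5511 : act 0 n1189 = n1014 := d5_1 D1189 (iv D1014) (iv F4722)
theorem F5512 : act 1 n1189 = n1044 := d12_1 D1189 (iv D1044) (iv F4723)
theorem F5513 : act 4 n1189 = n1018 := d27_1 D1189 (iv D1018) (iv F4724)
theorem F5514 : act 5 n1189 = n1189 := d30_1 D1189 (iv D1189) (iv D1010) F4010 D1010
theorem F5515 : act 8 n1189 = n1189 := d34_2 F4725 D1189 (iv D1189)
def n1190 : Q := act 5 n1011
theorem D1190 : act 5 n1011 = n1190 := rfl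
theorem F5516 : act 1 n1190 = n1190 := d11_1 D1190 (iv D1190) F4726
theorem F5517 : act 2 n1190 = n1012 := d17_1 D1190 (iv D1012) D1011
theorem F5518 : act 4 n1190 = n1190 := d26_1 D1190 (iv D1190) F4727 F4053 (iv F4727)
theorem F5519 : act 8 n1190 = n1190 := d32_2 F4729 D1190 (iv D1190)
def n1191 : Q := act 7 n1011
theorem D1191 : act 7 n1011 = n1191 := rfl
theorem F5520 : act 1 n1191 = n1191 := d13_1 D1191 (iv D1191) F4726
theorem F5521 : act 2 n1191 = n1013 := d19_1 D1191 (iv D1013) D1011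
theorem F5522 : act 4 n1191 = n1020 := d28_1 D1191 (iv D1020) (iv F4727)
theorem F5523 : act 6 n1191 = n1191 := d33_1 D1191 (iv D1191) F4728
def n1192 : Q := act 6 n1012
theorem D1192 : act 6 n1012 = n1192 := rfl
theorem F5524 : act 1 n1192 = n1015 := d12_1 D1192 (iv D1015) (iv F4730)
theorem F5525 : act 3 n1192 = n1014 := d23_1 D1192 (iv D1014) (iv F4731)
theorem F5526 : act 4 n1192 = n1192 := d27_1 D1192 (iv D1192) F4732
theorem F5527 : act 5 n1192 = n1192 := d30_1 D1192 (iv D1192) (iv D1012) F4014 D1012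
theorem F5528 : act 8 n1192 = n1192 := d34_2 F4733 D1192 (iv D1192)
def n1193 : Q := act 7 n1012
theorem D1193 : act 7 n1012 = n1193 := rfl
theorem F5529 : act 1 n1193 = n1016 := d13_1 D1193 (iv D1016) (iv F4730)
theorem F5530 : act 4 n1193 = n1193 := d28_1 D1193 (iv D1193) F4732
theorem F5531 : act 5 n1193 = n1013 := d31_1 D1193 (iv D1013) D1012
def n1194 : Q := act 7 n1015
theorem D1194 : act 7 n1015 = n1194 := rfl
theorem F5532 : act 0 n1194 = n1046 := d6_1 D1194 (iv D1046) (iv F4741)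
theorem F5533 : act 2 n1194 = n1194 := d19_1 D1194 (iv D1194) F4742
theorem F5534 : act 4 n1194 = n1194 := d28_1 D1194 (iv D1194) F4744
theorem F5535 : act 5 n1194 = n1194 := d31_1 D1194 (iv D1194) F4745
theorem F5536 : act 6 n1194 = n1016 := d33_1 D1194 (iv D1016) D1015
def n1195 : Q := act 8 n1016
theorem D1195 : act 8 n1016 = n1195 := rfl
theorem F5537 : act 0 n1195 = n1026 := d7_1 D1195 F4800 (iv F4747)
theorem F5538 : act 2 n1195 = n1195 := d20_1 D1195 (iv D1195) F4748
theorem F5539 : act 4 n1195 = n1195 := d29_1 D1195 (iv D1195) F4749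
theorem F5540 : act 5 n1195 = n1017 := d32_1 D1195 (iv D1017) (iv F4750)
theorem F5541 : act 7 n1195 = n1195 := d35_1 D1195 (iv D1195) (iv D1016) F4023 D1016
def n1196 : Q := act 3 n1020
theorem D1196 : act 3 n1020 = n1196 := rfl
theorem F5542 : act 1 n1196 = n1196 := d9_1 D1196 (iv D1196) F4766
theorem F5543 : act 2 n1196 = n1196 := d15_1 D1196 (iv D1196) F4767 F4057 (iv F4767)
theorem F5544 : act 5 n1196 = n1196 := d22_2 F4768 D1196 (iv D1196)
theorem F5545 : act 6 n1196 = n1196 := d23_2 F4769 D1196 (iv D1196)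
theorem F5546 : act 7 n1196 = n1196 := d24_2 D1020 D1196 (iv D1196) (iv D1020) F4052
def n1197 : Q := act 6 n1021
theorem D1197 : act 6 n1021 = n1197 := rfl
theorem F5547 : act 1 n1197 = n1197 := d12_1 D1197 (iv D1197) F4770
theorem F5548 : act 2 n1197 = n1045 := d18_1 D1197 (iv D1045) (iv F4771)
theorem F5549 : act 3 n1197 = n1197 := d23_1 D1197 (iv D1197) F4772
theorem F5550 : act 4 n1197 = n1197 := d27_1 D1197 (iv D1197) F4773
theorem F5551 : act 5 n1197 = n1197 := d30_1 D1197 (iv D1197) (iv D1021) F4069 D1021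
theorem F5552 : act 7 n1197 = n1024 := d33_2 (iv F4774) D1197 (iv D1024)
theorem F5553 : act 8 n1197 = n1197 := d34_2 F4775 D1197 (iv D1197)
def n1198 : Q := act 5 n1022
theorem D1198 : act 5 n1022 = n1198 := rfl
theorem F5554 : act 1 n1198 = n1042 := d11_1 D1198 F4858 (iv F4776)
theorem F5555 : act 2 n1198 = n1033 := d17_1 D1198 (iv D1033) (iv F4777)
theorem F5556 : act 3 n1198 = n1023 := d22_1 D1198 (iv D1023) D1022
theorem F5557 : act 7 n1198 = n1038 := d31_2 (iv F4780) D1198 (iv D1038)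
theorem F5558 : act 8 n1198 = n1027 := d32_2 (iv F4781) D1198 (iv D1027)
def n1199 : Q := act 6 n1023
theorem D1199 : act 6 n1023 = n1199 := rfl
theorem F5559 : act 1 n1199 = n1046 := d12_1 D1199 F4876 (iv F4782)
theorem F5560 : act 2 n1199 = n1024 := d18_1 D1199 (iv D1024) (iv F4783)
theorem F5561 : act 4 n1199 = n1199 := d27_1 D1199 (iv D1199) F4784
theorem F5562 : act 5 n1199 = n1199 := d30_1 D1199 (iv D1199) (iv D1023) F4074 D1023
theorem F5563 : act 7 n1199 = n1045 := d33_2 (iv F4785) D1199 (iv D1045)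
theorem F5564 : act 8 n1199 = n1029 := d34_2 (iv F4786) D1199 (iv D1029)
def n1200 : Q := act 2 n1025
theorem D1200 : act 2 n1025 = n1200 := rfl
theorem F5565 : act 1 n1200 = n1034 := d8_1 D1200 F4828 F4124 (iv F4086) (iv F4792)
theorem F5566 : act 3 n1200 = n1200 := d15_2 D1025 D1200 (iv D1200) (iv D1025) F4082
theorem F5567 : act 4 n1200 = n1200 := d16_2 F4793 D1200 (iv D1200)
theorem F5568 : act 6 n1200 = n1200 := d18_2 F4794 D1200 (iv D1200)
theorem F5569 : act 8 n1200 = n1028 := d20_2 (iv F4795) D1200 F4803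
theorem F5570 : act 7 n1031 = n1200 := d35_5 F5569 (iv D1028) (iv F4781) F4780 (iv F4819)
def n1201 : Q := act 5 n1025
theorem D1201 : act 5 n1025 = n1201 := rfl
theorem F5571 : act 1 n1201 = n1027 := d11_1 D1201 (iv D1027) (iv F4792)
theorem F5572 : act 3 n1201 = n1026 := d22_1 D1201 (iv D1026) D1025
theorem F5573 : act 8 n1201 = n1042 := d32_2 (iv F4795) D1201 F4858
def n1202 : Q := act 7 n1025
theorem D1202 : act 7 n1025 = n1202 := rfl
theorem F5574 : act 1 n1202 = n1028 := d13_1 D1202 (iv D1028) (iv F4792)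
theorem F5575 : act 2 n1202 = n1031 := d19_1 D1202 F5570 (iv D1200)
theorem F5576 : act 3 n1202 = n1202 := d24_1 D1202 (iv D1202) (iv D1025) F4084 D1025
theorem F5577 : act 4 n1202 = n1202 := d28_1 D1202 (iv D1202) F4793
theorem F5578 : act 6 n1202 = n1202 := d33_1 D1202 (iv D1202) F4794
theorem F5579 : act 8 n1202 = n1034 := d35_2 (iv F4795) D1202 (iv D1034) F4110 D876
def n1203 : Q := act 6 n1026
theorem D1203 : act 6 n1026 = n1203 := rfl
theorem F5580 : act 1 n1203 = n1029 := d12_1 D1203 (iv D1029) (iv F4796)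
theorem F5581 : act 2 n1203 = n1203 := d18_1 D1203 (iv D1203) F4797
theorem F5582 : act 4 n1203 = n1203 := d27_1 D1203 (iv D1203) F4798
theorem F5583 : act 5 n1203 = n1203 := d30_1 D1203 (iv D1203) (iv D1026) F4083 D1026
theorem F5584 : act 7 n1203 = n1203 := d33_2 F4799 D1203 (iv D1203)
theorem F5585 : act 8 n1203 = n1046 := d34_2 (iv F4800) D1203 F4876
def n1204 : Q := act 4 n1027
theorem D1204 : act 4 n1027 = n1204 := rfl
theorem F5586 : act 2 n1204 = n1040 := d16_1 D1204 (iv D1040) (iv F4801)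
theorem F5587 : act 3 n1204 = n1204 := d21_1 D1204 (iv D1204) F4802 F4090 (iv F4802)
theorem F5588 : act 5 n1204 = n1204 := d26_2 D1027 D1204 (iv D1204) (iv D1027) F4087
def n1205 : Q := act 6 n1027
theorem D1205 : act 6 n1027 = n1205 := rfl
theorem F5589 : act 2 n1205 = n1041 := d18_1 D1205 (iv D1041) (iv F4801)
theorem F5590 : act 3 n1205 = n1029 := d23_1 D1205 (iv D1029) (iv F4802)
theorem F5591 : act 5 n1205 = n1205 := d30_1 D1205 (iv D1205) (iv D1027) F4088 D1027
def n1206 : Q := act 7 n1027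
theorem D1206 : act 7 n1027 = n1206 := rfl
theorem F5592 : act 2 n1206 = n1042 := d19_1 D1206 (iv D1042) (iv F4801)
theorem F5593 : act 3 n1206 = n1206 := d24_1 D1206 (iv D1206) F4802 F4091 (iv F4802)
theorem F5594 : act 5 n1206 = n1028 := d31_1 D1206 (iv D1028) D1027
def n1207 : Q := act 3 n1030
theorem D1207 : act 3 n1030 = n1207 := rfl
theorem F5595 : act 0 n1207 = n1031 := d2_1 D1207 (iv D1031) (iv F4811)
theorem F5596 : act 4 n1207 = n1207 := d21_2 D1030 D1207 (iv D1207) (iv D1030) F4098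
theorem F5597 : act 6 n1207 = n1207 := d23_2 F4813 D1207 (iv D1207)
theorem F5598 : act 8 n1207 = n1036 := d25_2 (iv F4815) D1207 (iv D1036)
def n1208 : Q := act 5 n1031
theorem D1208 : act 5 n1031 = n1208 := rfl
theorem F5599 : act 1 n1208 = n1033 := d11_1 D1208 (iv D1033) (iv F4816)
theorem F5600 : act 3 n1208 = n1032 := d22_1 D1208 (iv D1032) D1031
theorem F5601 : act 8 n1208 = n1038 := d32_2 (iv F4819) D1208 (iv D1038)
theorem F5602 : act 4 n1208 = n1041 := d38_3 (iv F5570) F4818 D1208 F4855 F4135 F3459 F3462 (iv D594) (iv D468) (iv D372) (iv D298) F1210 F1020 (iv D190) F792 F791 F652 F545 F433 F406 F411 F410 F283 F143 (iv F270) F269 F268 D80 F403 F402 F401 F400 F399 F398 (iv D80) F273 F272 F271 F270 (iv F248) (iv F315) F321 F320 F319 F318 (iv F312) (iv F443) F442 D112 F569 (iv F684) (iv F828) D200 D244 D301 (iv F1809) (iv F2207) (iv F2747) D723 D873 (iv F4828) (iv F5565)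
theorem F5603 : act 6 n1040 = n1208 := d27_0 F5602 (iv D1041) D1040
def n1209 : Q := act 4 n1033
theorem D1209 : act 4 n1033 = n1209 := rfl
theorem F5604 : act 1 n1209 = n1041 := d10_1 D1209 (iv F5602) F5599
theorem F5605 : act 3 n1209 = n1039 := d21_1 D1209 F4849 F4147 (iv F4112) (iv F4826)
theorem F5606 : act 5 n1209 = n1209 := d26_2 D1033 D1209 (iv D1209) (iv D1033) F4108
theorem F5607 : act 8 n1209 = n1040 := d29_2 (iv F4827) D1209 (iv D1040)
theorem F5608 : act 6 n1038 = n1209 := d34_3 F5607 F5603 F5601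
def n1210 : Q := act 6 n1033
theorem D1210 : act 6 n1033 = n1210 := rfl
theorem F5609 : act 1 n1210 = n1040 := d12_1 D1210 F5603 F5599
theorem F5610 : act 3 n1210 = n1035 := d23_1 D1210 (iv D1035) (iv F4826)
theorem F5611 : act 4 n1210 = n1038 := d27_1 D1210 F5608 (iv D1209)
theorem F5612 : act 5 n1210 = n1210 := d30_1 D1210 (iv D1210) (iv D1033) F4109 D1033
theorem F5613 : act 8 n1210 = n1041 := d34_2 (iv F4827) D1210 (iv D1041)
def n1211 : Q := act 7 n1033
theorem D1211 : act 7 n1033 = n1211 := rfl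
theorem F5614 : act 2 n1211 = n1038 := d19_1 D1211 (iv F5557) F5555
theorem F5615 : act 3 n1211 = n1211 := d24_1 D1211 (iv D1211) F4826 F4113 (iv F4826)
theorem F5616 : act 5 n1211 = n1034 := d31_1 D1211 (iv D1034) D1033
def n1212 : Q := act 5 n1036
theorem D1212 : act 5 n1036 = n1212 := rfl
theorem F5617 : act 0 n1212 = n1038 := d4_1 D1212 (iv D1038) (iv F4838)
theorem F5618 : act 3 n1212 = n1037 := d22_1 D1212 (iv D1037) D1036
def n1213 : Q := act 7 n1040
theorem D1213 : act 7 n1040 = n1213 := rfl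
theorem F5619 : act 3 n1213 = n1213 := d24_1 D1213 (iv D1213) F4853 F4162 (iv F4853)
theorem F5620 : act 4 n1213 = n1042 := d28_1 D1213 (iv D1042) D1040
theorem F5621 : act 5 n1213 = n1213 := d31_1 D1213 (iv D1213) F4854
def n1214 : Q := act 7 n1041
theorem D1214 : act 7 n1041 = n1214 := rfl
theorem F5622 : act 3 n1214 = n1046 := d24_1 D1214 (iv D1046) F4181 (iv F4138) (iv F4855)
theorem F5623 : act 5 n1214 = n1214 := d31_1 D1214 (iv D1214) F4856
theorem F5624 : act 6 n1214 = n1042 := d33_1 D1214 (iv D1042) D1041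
def n1215 : Q := act 6 n1043
theorem D1215 : act 6 n1043 = n1215 := rfl
theorem F5625 : act 0 n1215 = n1045 := d5_1 D1215 (iv D1045) (iv F4859)
theorem F5626 : act 3 n1215 = n1044 := d23_1 D1215 (iv D1044) (iv F4860)
theorem F5627 : act 4 n1215 = n1215 := d27_1 D1215 (iv D1215) F4861
theorem F5628 : act 5 n1215 = n1215 := d30_1 D1215 (iv D1215) (iv D1043) F4165 D1043
theorem F5629 : act 8 n1215 = n1215 := d34_2 F4862 D1215 (iv D1215)
def n1216 : Q := act 1 n1047
theorem D1216 : act 1 n1047 = n1216 := rfl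
theorem F5630 : act 2 n1216 = n1216 := d8_2 D1047 D1216 (iv D1216) (iv D1047) F4194
theorem F5631 : act 3 n1216 = n1216 := d9_2 F4878 D1216 (iv D1216)
theorem F5632 : act 5 n1216 = n1216 := d11_2 F4879 D1216 (iv D1216)
theorem F5633 : act 6 n1216 = n1216 := d12_2 F4880 D1216 (iv D1216)
theorem F5634 : act 7 n1216 = n1051 := d13_2 (iv F4881) D1216 (iv D1051)
theorem F5635 : act 8 n1216 = n1216 := d14_2 F4882 D1216 (iv D1216)
def n1217 : Q := act 4 n1047
theorem D1217 : act 4 n1047 = n1217 := rfl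
theorem F5636 : act 0 n1217 = n1217 := d3_1 D1217 (iv D1217) F4877
theorem F5637 : act 2 n1217 = n1048 := d16_1 D1217 (iv D1048) D1047
theorem F5638 : act 6 n1217 = n1217 := d27_2 F4880 D1217 (iv D1217)
theorem F5639 : act 7 n1217 = n1052 := d28_2 (iv F4881) D1217 (iv D1052)
theorem F5640 : act 8 n1217 = n1217 := d29_2 F4882 D1217 (iv D1217)
def n1218 : Q := act 5 n1048
theorem D1218 : act 5 n1048 = n1218 := rfl
theorem F5641 : act 0 n1218 = n1218 := d4_1 D1218 (iv D1218) F4883
theorem F5642 : act 1 n1218 = n1218 := d11_1 D1218 (iv D1218) F4884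
theorem F5643 : act 3 n1218 = n1218 := d22_1 D1218 (iv D1218) F4885
theorem F5644 : act 4 n1218 = n1218 := d26_1 D1218 (iv D1218) (iv D1048) F4195 D1048
theorem F5645 : act 7 n1218 = n1053 := d31_2 (iv F4887) D1218 (iv D1053)
theorem F5646 : act 8 n1218 = n1218 := d32_2 F4888 D1218 (iv D1218)
def n1219 : Q := act 1 n1049
theorem D1219 : act 1 n1049 = n1219 := rfl
theorem F5647 : act 2 n1219 = n1219 := d8_2 D1049 D1219 (iv D1219) (iv D1049) F4200
theorem F5648 : act 3 n1219 = n1089 := d9_2 (iv F4890) D1219 (iv D1089)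
theorem F5649 : act 5 n1219 = n1219 := d11_2 F4891 D1219 (iv D1219)
theorem F5650 : act 6 n1219 = n1219 := d12_2 F4892 D1219 (iv D1219)
theorem F5651 : act 7 n1219 = n1219 := d13_2 F4893 D1219 (iv D1219)
theorem F5652 : act 8 n1219 = n1051 := d14_2 (iv F4894) D1219 (iv D1051)
theorem F5653 : act 0 n1196 = n1219 := d2_3 F5648 (iv F5089) D1196
def n1220 : Q := act 4 n1049
theorem D1220 : act 4 n1049 = n1220 := rfl
theorem F5654 : act 0 n1220 = n1220 := d3_1 D1220 (iv D1220) F4889
theorem F5655 : act 2 n1220 = n1050 := d16_1 D1220 (iv D1050) D1049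
theorem F5656 : act 6 n1220 = n1220 := d27_2 F4892 D1220 (iv D1220)
theorem F5657 : act 7 n1220 = n1220 := d28_2 F4893 D1220 (iv D1220)
theorem F5658 : act 8 n1220 = n1052 := d29_2 (iv F4894) D1220 (iv D1052)
def n1221 : Q := act 5 n1050
theorem D1221 : act 5 n1050 = n1221 := rfl
theorem F5659 : act 0 n1221 = n1221 := d4_1 D1221 (iv D1221) F4895
theorem F5660 : act 1 n1221 = n1221 := d11_1 D1221 (iv D1221) F4896
theorem F5661 : act 3 n1221 = n1058 := d22_1 D1221 (iv D1058) (iv F4897)
theorem F5662 : act 4 n1221 = n1221 := d26_1 D1221 (iv D1221) (iv D1050) F4201 D1050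
theorem F5663 : act 7 n1221 = n1221 := d31_2 F4899 D1221 (iv D1221)
theorem F5664 : act 8 n1221 = n1053 := d32_2 (iv F4900) D1221 (iv D1053)
theorem F5665 : act 6 n1152 = n1221 := d23_0 F5661 (iv F4939) D1152
def n1222 : Q := act 0 n1051
theorem D1222 : act 0 n1051 = n1222 := rfl
theorem F5666 : act 1 n1222 = n1222 := d0_2 D1051 D1222 (iv D1222) (iv D1051) F4205
theorem F5667 : act 2 n1222 = n1222 := d1_2 F4901 D1222 (iv D1222)
theorem F5668 : act 3 n1222 = n1092 := d2_2 (iv F4902) D1222 (iv D1092)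
theorem F5669 : act 5 n1222 = n1222 := d4_2 F4903 D1222 (iv D1222)
theorem F5670 : act 6 n1222 = n1222 := d5_2 F4904 D1222 (iv D1222)
theorem F5671 : act 8 n1222 = n1196 := d7_2 F5652 D1222 F5653
def n1223 : Q := act 4 n1051
theorem D1223 : act 4 n1051 = n1223 := rfl
theorem F5672 : act 1 n1223 = n1052 := d10_1 D1223 (iv D1052) D1051
theorem F5673 : act 2 n1223 = n1223 := d16_1 D1223 (iv D1223) F4901
theorem F5674 : act 6 n1223 = n1223 := d27_2 F4904 D1223 (iv D1223)
def n1224 : Q := act 3 n1052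
theorem D1224 : act 3 n1052 = n1224 := rfl
theorem F5675 : act 0 n1224 = n1224 := d2_1 D1224 (iv D1224) F4905
theorem F5676 : act 2 n1224 = n1061 := d15_1 D1224 (iv D1061) F4234 (iv F4211) (iv F4906)
theorem F5677 : act 4 n1224 = n1094 := d21_2 D1052 D1224 (iv D1094) (iv D923) (iv F4206)
theorem F5678 : act 6 n1224 = n1224 := d23_2 F4907 D1224 (iv D1224)
def n1225 : Q := act 5 n1052
theorem D1225 : act 5 n1052 = n1225 := rfl
theorem F5679 : act 0 n1225 = n1225 := d4_1 D1225 (iv D1225) F4905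
theorem F5680 : act 2 n1225 = n1053 := d17_1 D1225 (iv D1053) (iv F4906)
theorem F5681 : act 4 n1225 = n1225 := d26_1 D1225 (iv D1225) (iv D1052) F4207 D1052
def n1226 : Q := act 6 n1053
theorem D1226 : act 6 n1053 = n1226 := rfl
theorem F5682 : act 0 n1226 = n1226 := d5_1 D1226 (iv D1226) F4908
theorem F5683 : act 1 n1226 = n1226 := d12_1 D1226 (iv D1226) F4909
theorem F5684 : act 3 n1226 = n1063 := d23_1 D1226 (iv D1063) (iv F4910)
theorem F5685 : act 4 n1226 = n1226 := d27_1 D1226 (iv D1226) F4911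
theorem F5686 : act 5 n1226 = n1226 := d30_1 D1226 (iv D1226) (iv D1053) F4212 D1053
theorem F5687 : act 8 n1226 = n1152 := d34_2 F5664 D1226 F5665
def n1227 : Q := act 1 n1054
theorem D1227 : act 1 n1054 = n1227 := rfl
theorem F5688 : act 2 n1227 = n1227 := d8_2 D1054 D1227 (iv D1227) (iv D1054) F4214
theorem F5689 : act 3 n1227 = n1227 := d9_2 F4913 D1227 (iv D1227)
theorem F5690 : act 5 n1227 = n1064 := d11_2 (iv F4914) D1227 (iv D1064)
theorem F5691 : act 6 n1227 = n1227 := d12_2 F4915 D1227 (iv D1227)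
theorem F5692 : act 7 n1227 = n1056 := d13_2 (iv F4916) D1227 (iv D1056)
theorem F5693 : act 8 n1227 = n1227 := d14_2 F4917 D1227 (iv D1227)
def n1228 : Q := act 4 n1054
theorem D1228 : act 4 n1054 = n1228 := rfl
theorem F5694 : act 0 n1228 = n1228 := d3_1 D1228 (iv D1228) F4912
theorem F5695 : act 2 n1228 = n1055 := d16_1 D1228 (iv D1055) D1054
theorem F5696 : act 5 n1228 = n1149 := d26_2 (iv F4914) D1228 F5339 F4541 (iv F4243)
theorem F5697 : act 6 n1228 = n1228 := d27_2 F4915 D1228 (iv D1228)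
theorem F5698 : act 7 n1228 = n1057 := d28_2 (iv F4916) D1228 (iv D1057)
theorem F5699 : act 8 n1228 = n1228 := d29_2 F4917 D1228 (iv D1228)
def n1229 : Q := act 0 n1056
theorem D1229 : act 0 n1056 = n1229 := rfl
theorem F5700 : act 1 n1229 = n1229 := d0_2 D1056 D1229 (iv D1229) (iv D1056) F4219
theorem F5701 : act 2 n1229 = n1229 := d1_2 F4925 D1229 (iv D1229)
theorem F5702 : act 3 n1229 = n1097 := d2_2 (iv F4926) D1229 (iv D1097)
theorem F5703 : act 5 n1229 = n1065 := d4_2 (iv F4927) D1229 (iv D1065)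
theorem F5704 : act 6 n1229 = n1229 := d5_2 F4928 D1229 (iv D1229)
theorem F5705 : act 8 n1229 = n1059 := d7_2 (iv F4929) D1229 (iv D1059)
def n1230 : Q := act 4 n1056
theorem D1230 : act 4 n1056 = n1230 := rfl
theorem F5706 : act 1 n1230 = n1057 := d10_1 D1230 (iv D1057) D1056
theorem F5707 : act 2 n1230 = n1230 := d16_1 D1230 (iv D1230) F4925
theorem F5708 : act 6 n1230 = n1230 := d27_2 F4928 D1230 (iv D1230)
theorem F5709 : act 8 n1230 = n1060 := d29_2 (iv F4929) D1230 (iv D1060)
def n1231 : Q := act 3 n1057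
theorem D1231 : act 3 n1057 = n1231 := rfl
theorem F5710 : act 0 n1231 = n1231 := d2_1 D1231 (iv D1231) F4930
theorem F5711 : act 4 n1231 = n1099 := d21_2 D1057 D1231 (iv D1099) (iv D926) (iv F4220)
theorem F5712 : act 6 n1231 = n1231 := d23_2 F4932 D1231 (iv D1231)
theorem F5713 : act 8 n1231 = n1061 := d25_2 (iv F4933) D1231 (iv D1061)
def n1232 : Q := act 5 n1057
theorem D1232 : act 5 n1057 = n1232 := rfl
theorem F5714 : act 0 n1232 = n1232 := d4_1 D1232 (iv D1232) F4930
theorem F5715 : act 2 n1232 = n1058 := d17_1 D1232 (iv D1058) (iv F4931)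
theorem F5716 : act 4 n1232 = n1068 := d26_1 D1232 (iv D1068) (iv D902) (iv F4221) D1057
theorem F5717 : act 7 n1232 = n1149 := d31_2 F5698 D1232 (iv F5696)
theorem F5718 : act 8 n1232 = n1062 := d32_2 (iv F4933) D1232 (iv D1062)
theorem F5719 : act 6 n1150 = n1232 := d33_3 F5717 (iv D1149) D1150
def n1233 : Q := act 4 n1059
theorem D1233 : act 4 n1059 = n1233 := rfl
theorem F5720 : act 0 n1233 = n1060 := d3_1 D1233 (iv D1060) D1059
theorem F5721 : act 1 n1233 = n1233 := d10_1 D1233 (iv D1233) F4940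
theorem F5722 : act 2 n1233 = n1233 := d16_1 D1233 (iv D1233) F4941
theorem F5723 : act 6 n1233 = n1233 := d27_2 F4944 D1233 (iv D1233)
theorem F5724 : act 7 n1233 = n1233 := d28_2 F4945 D1233 (iv D1233)
def n1234 : Q := act 3 n1060
theorem D1234 : act 3 n1060 = n1234 := rfl
theorem F5725 : act 1 n1234 = n1061 := d9_1 D1234 (iv D1061) (iv F4946)
theorem F5726 : act 4 n1234 = n1103 := d21_2 D1060 D1234 (iv D1103) (iv D929) (iv F4229)
theorem F5727 : act 6 n1234 = n1234 := d23_2 F4948 D1234 (iv D1234)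
def n1235 : Q := act 5 n1060
theorem D1235 : act 5 n1060 = n1235 := rfl
theorem F5728 : act 1 n1235 = n1062 := d11_1 D1235 (iv D1062) (iv F4946)
theorem F5729 : act 2 n1235 = n1235 := d17_1 D1235 (iv D1235) F4947
theorem F5730 : act 4 n1235 = n1071 := d26_1 D1235 (iv D1071) (iv D905) (iv F4230) D1060
theorem F5731 : act 7 n1235 = n1235 := d31_2 F4949 D1235 (iv D1235)
def n1236 : Q := act 5 n1061
theorem D1236 : act 5 n1061 = n1236 := rfl
theorem F5732 : act 0 n1236 = n1236 := d4_1 D1236 (iv D1236) F4950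
theorem F5733 : act 3 n1236 = n1062 := d22_1 D1236 (iv D1062) D1061
def n1237 : Q := act 7 n1061
theorem D1237 : act 7 n1061 = n1237 := rfl
theorem F5734 : act 0 n1237 = n1237 := d6_1 D1237 (iv D1237) F4950
theorem F5735 : act 3 n1237 = n1237 := d24_1 D1237 (iv D1237) (iv D1061) F4236 D1061
theorem F5736 : act 4 n1237 = n1106 := d28_1 D1237 (iv D1106) (iv F4951)
theorem F5737 : act 6 n1237 = n1237 := d33_1 D1237 (iv D1237) F4952
def n1238 : Q := act 6 n1062
theorem D1238 : act 6 n1062 = n1238 := rfl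
theorem F5738 : act 0 n1238 = n1238 := d5_1 D1238 (iv D1238) F4953
theorem F5739 : act 2 n1238 = n1063 := d18_1 D1238 (iv D1063) (iv F4954)
theorem F5740 : act 4 n1238 = n1074 := d27_1 D1238 (iv D1074) (iv F4955)
theorem F5741 : act 5 n1238 = n1238 := d30_1 D1238 (iv D1238) (iv D1062) F4235 D1062
theorem F5742 : act 7 n1238 = n1238 := d33_2 F4956 D1238 (iv D1238)
theorem F5743 : act 8 n1238 = n1150 := d34_2 F5718 D1238 F5719
def n1239 : Q := act 0 n1064
theorem D1239 : act 0 n1064 = n1239 := rfl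
theorem F5744 : act 1 n1239 = n1239 := d0_2 D1064 D1239 (iv D1239) (iv D1064) F4241
theorem F5745 : act 2 n1239 = n1239 := d1_2 F4963 D1239 (iv D1239)
theorem F5746 : act 3 n1239 = n1239 := d2_2 F4964 D1239 (iv D1239)
theorem F5747 : act 4 n1239 = n1151 := d3_2 (iv F4965) D1239 F5345
theorem F5748 : act 6 n1239 = n1075 := d5_2 (iv F4966) D1239 (iv D1075)
theorem F5749 : act 7 n1239 = n1065 := d6_2 (iv F4967) D1239 (iv D1065)
theorem F5750 : act 8 n1239 = n1239 := d7_2 F4968 D1239 (iv D1239)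
def n1240 : Q := act 4 n1065
theorem D1240 : act 4 n1065 = n1240 := rfl
theorem F5751 : act 0 n1240 = n1066 := d3_1 D1240 (iv D1066) D1065
theorem F5752 : act 1 n1240 = n1240 := d10_1 D1240 (iv D1240) F4969
theorem F5753 : act 2 n1240 = n1240 := d16_1 D1240 (iv D1240) F4970
theorem F5754 : act 6 n1240 = n1076 := d27_2 (iv F4972) D1240 (iv D1076)
theorem F5755 : act 7 n1240 = n1151 := d28_2 F5749 D1240 (iv F5747)
theorem F5756 : act 8 n1240 = n1069 := d29_2 (iv F4973) D1240 (iv D1069)
def n1241 : Q := act 3 n1066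
theorem D1241 : act 3 n1066 = n1241 := rfl
theorem F5757 : act 1 n1241 = n1067 := d9_1 D1241 (iv D1067) (iv F4974)
theorem F5758 : act 4 n1241 = n1109 := d21_2 D1066 D1241 (iv D1109) (iv D934) (iv F4248)
theorem F5759 : act 6 n1241 = n1077 := d23_2 (iv F4976) D1241 (iv D1077)
theorem F5760 : act 7 n1241 = n1132 := d24_2 (iv F4977) D1241 F5265 F4482 (iv F4562)
theorem F5761 : act 8 n1241 = n1070 := d25_2 (iv F4978) D1241 (iv D1070)
def n1242 : Q := act 5 n1066
theorem D1242 : act 5 n1066 = n1242 := rfl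
theorem F5762 : act 1 n1242 = n1068 := d11_1 D1242 (iv D1068) (iv F4974)
theorem F5763 : act 2 n1242 = n1242 := d17_1 D1242 (iv D1242) F4975
theorem F5764 : act 6 n1242 = n1148 := d30_2 (iv F4976) D1242 F5336 F4529 F4299
theorem F5765 : act 7 n1242 = n1147 := d31_2 (iv F4977) D1242 F5332
theorem F5766 : act 8 n1242 = n1071 := d32_2 (iv F4978) D1242 (iv D1071)
def n1243 : Q := act 5 n1067
theorem D1243 : act 5 n1067 = n1243 := rfl
theorem F5767 : act 0 n1243 = n1243 := d4_1 D1243 (iv D1243) F4979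
theorem F5768 : act 2 n1243 = n1243 := d17_1 D1243 (iv D1243) F4980
theorem F5769 : act 3 n1243 = n1068 := d22_1 D1243 (iv D1068) D1067
theorem F5770 : act 6 n1243 = n1122 := d30_2 (iv F4982) D1243 F5223 F4433 (iv F4303)
theorem F5771 : act 7 n1243 = n1121 := d31_2 (iv F4983) D1243 F5219
theorem F5772 : act 8 n1243 = n1072 := d32_2 (iv F4984) D1243 (iv D1072)
def n1244 : Q := act 3 n1069
theorem D1244 : act 3 n1069 = n1244 := rfl
theorem F5773 : act 0 n1244 = n1070 := d2_1 D1244 (iv D1070) (iv F4990)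
theorem F5774 : act 1 n1244 = n1244 := d9_1 D1244 (iv D1244) F4991
theorem F5775 : act 4 n1244 = n1114 := d21_2 D1069 D1244 (iv D1114) (iv D938) (iv F4264)
theorem F5776 : act 6 n1244 = n1078 := d23_2 (iv F4993) D1244 (iv D1078)
def n1245 : Q := act 5 n1069
theorem D1245 : act 5 n1069 = n1245 := rfl
theorem F5777 : act 0 n1245 = n1071 := d4_1 D1245 (iv D1071) (iv F4990)
theorem F5778 : act 1 n1245 = n1245 := d11_1 D1245 (iv D1245) F4991
theorem F5779 : act 2 n1245 = n1245 := d17_1 D1245 (iv D1245) F4992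
theorem F5780 : act 7 n1245 = n1245 := d31_2 F4994 D1245 (iv D1245)
def n1246 : Q := act 2 n1070
theorem D1246 : act 2 n1070 = n1246 := rfl
theorem F5781 : act 1 n1246 = n1246 := d8_1 D1246 (iv D1246) F4995 F4272 (iv F4995)
theorem F5782 : act 3 n1246 = n1246 := d15_2 D1070 D1246 (iv D1246) (iv D1070) F4268
theorem F5783 : act 4 n1246 = n1116 := d16_2 (iv F4996) D1246 (iv D1116)
theorem F5784 : act 6 n1246 = n1080 := d18_2 (iv F4997) D1246 (iv D1080)
def n1247 : Q := act 5 n1070
theorem D1247 : act 5 n1070 = n1247 := rfl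
theorem F5785 : act 1 n1247 = n1072 := d11_1 D1247 (iv D1072) (iv F4995)
theorem F5786 : act 3 n1247 = n1071 := d22_1 D1247 (iv D1071) D1070
def n1248 : Q := act 7 n1070
theorem D1248 : act 7 n1070 = n1248 := rfl
theorem F5787 : act 1 n1248 = n1073 := d13_1 D1248 (iv D1073) (iv F4995)
theorem F5788 : act 3 n1248 = n1248 := d24_1 D1248 (iv D1248) (iv D1070) F4270 D1070
theorem F5789 : act 4 n1248 = n1118 := d28_1 D1248 (iv D1118) (iv F4996)
theorem F5790 : act 6 n1248 = n1082 := d33_1 D1248 (iv D1082) (iv F4997)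
def n1249 : Q := act 6 n1071
theorem D1249 : act 6 n1071 = n1249 := rfl
theorem F5791 : act 1 n1249 = n1074 := d12_1 D1249 (iv D1074) (iv F4998)
theorem F5792 : act 2 n1249 = n1249 := d18_1 D1249 (iv D1249) F4999
theorem F5793 : act 5 n1249 = n1083 := d30_1 D1249 (iv D1083) (iv D915) (iv F4269) D1071
theorem F5794 : act 7 n1249 = n1249 := d33_2 F5000 D1249 (iv D1249)
theorem F5795 : act 8 n1249 = n1148 := d34_2 F5766 D1249 (iv F5764)
def n1250 : Q := act 4 n1072
theorem D1250 : act 4 n1072 = n1250 := rfl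
theorem F5796 : act 0 n1250 = n1250 := d3_1 D1250 (iv D1250) F5001
theorem F5797 : act 2 n1250 = n1250 := d16_1 D1250 (iv D1250) F5002
theorem F5798 : act 5 n1250 = n1120 := d26_2 D1072 D1250 (iv D1120) (iv D941) (iv F4273)
def n1251 : Q := act 6 n1072
theorem D1251 : act 6 n1072 = n1251 := rfl
theorem F5799 : act 0 n1251 = n1251 := d5_1 D1251 (iv D1251) F5001
theorem F5800 : act 2 n1251 = n1251 := d18_1 D1251 (iv D1251) F5002
theorem F5801 : act 3 n1251 = n1074 := d23_1 D1251 (iv D1074) (iv F5003)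
theorem F5802 : act 5 n1251 = n1085 := d30_1 D1251 (iv D1085) (iv D916) (iv F4274) D1072
theorem F5803 : act 8 n1251 = n1122 := d34_2 F5772 D1251 (iv F5770)
def n1252 : Q := act 7 n1072
theorem D1252 : act 7 n1072 = n1252 := rfl
theorem F5804 : act 0 n1252 = n1252 := d6_1 D1252 (iv D1252) F5001
theorem F5805 : act 2 n1252 = n1252 := d19_1 D1252 (iv D1252) F5002
theorem F5806 : act 3 n1252 = n1252 := d24_1 D1252 (iv D1252) F5003 F4277 (iv F5003)
theorem F5807 : act 5 n1252 = n1073 := d31_1 D1252 (iv D1073) D1072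
def n1253 : Q := act 8 n1073
theorem D1253 : act 8 n1073 = n1253 := rfl
theorem F5808 : act 0 n1253 = n1253 := d7_1 D1253 (iv D1253) F5004
theorem F5809 : act 2 n1253 = n1253 := d20_1 D1253 (iv D1253) F5005
theorem F5810 : act 3 n1253 = n1253 := d25_1 D1253 (iv D1253) F5006
theorem F5811 : act 4 n1253 = n1085 := d29_1 D1253 F5064 (iv F5007)
theorem F5812 : act 6 n1253 = n1084 := d34_1 D1253 F5059 (iv F5008)
theorem F5813 : act 7 n1253 = n1128 := d35_1 D1253 F5251 (iv F4983) F4984 D1073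
def n1254 : Q := act 3 n1076
theorem D1254 : act 3 n1076 = n1254 := rfl
theorem F5814 : act 0 n1254 = n1077 := d2_1 D1254 (iv D1077) (iv F5021)
theorem F5815 : act 1 n1254 = n1254 := d9_1 D1254 (iv D1254) F5022
theorem F5816 : act 4 n1254 = n1123 := d21_2 D1076 D1254 (iv D1123) (iv D944) (iv F4292)
theorem F5817 : act 5 n1254 = n1129 := d22_2 F5026 D1254 F5254
theorem F5818 : act 7 n1254 = n1124 := d24_2 (iv F5024) D1254 F5231 F4471 (iv F4549)
theorem F5819 : act 8 n1254 = n1078 := d25_2 (iv F5025) D1254 (iv D1078)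
theorem F5820 : act 2 n1126 = n1254 := d19_3 F5818 (iv D1124) D1126
def n1255 : Q := act 2 n1077
theorem D1255 : act 2 n1077 = n1255 := rfl
theorem F5821 : act 0 n1255 = n1126 := d1_1 D1255 F5820 F5814
theorem F5822 : act 1 n1255 = n1255 := d8_1 D1255 (iv D1255) F5027 F4301 (iv F5027)
theorem F5823 : act 3 n1255 = n1255 := d15_2 D1077 D1255 (iv D1255) (iv D1077) F4296
theorem F5824 : act 4 n1255 = n1124 := d16_2 (iv F5028) D1255 (iv D1124)
theorem F5825 : act 5 n1255 = n1131 := d17_2 (iv F5029) D1255 F5262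
theorem F5826 : act 7 n1255 = n1123 := d19_2 (iv F5030) D1255 F5226
theorem F5827 : act 8 n1255 = n1080 := d20_2 (iv F5031) D1255 (iv D1080)
def n1256 : Q := act 2 n1078
theorem D1256 : act 2 n1078 = n1256 := rfl
theorem F5828 : act 0 n1256 = n1080 := d1_1 D1256 (iv D1080) (iv F5032)
theorem F5829 : act 3 n1256 = n1256 := d15_2 D1078 D1256 (iv D1256) (iv D1078) F4308
theorem F5830 : act 4 n1256 = n1125 := d16_2 (iv F5034) D1256 F5236
theorem F5831 : act 8 n1256 = n1126 := d20_2 F5819 D1256 F5820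
theorem F5832 : act 1 n1256 = n1086 := d37_5 F3644 F3643 D913 D1078 D1256 F5065 (iv D1086) (iv D916) F3650 (iv D638) F2442 F1961 F1687 F1476 D303 F1497 F1496 F1230 F1229 (iv F1389) F1392 (iv D280) (iv D227) (iv D185) F749 F632 F631 (iv D116) F457 F313 F312 F212 F211 F169 F188 (iv F301) F300 (iv F424) F423 (iv F455) (iv F502) D126 F634 F509 F508 (iv F612) (iv F726) F725 (iv D145) (iv F724) (iv F873) (iv F1050) (iv F1266) F1265 F1264 D315 F1559 F1558 D393 D493 D619 D763
theorem F5833 : act 5 n1082 = n1256 := d37_8 (iv D1126) D1125 (iv F5830) F5829 (iv D1256) F5033 F5032 D1082 F5830 F5237 F4448 F3985 F3271 F2808 (iv D586) (iv D459) F1798 (iv D366) F1467 (iv F1679) F1681 F1680 D426 F2075 (iv F2606) (iv F3262) (iv F3972) F3974 (iv F3977) F3296 (iv D690) (iv F3051) F3050 F2441 F2443 D516 F2485 (iv F3114) F3113 F2510 F2509 (iv F3285) F3284 F2516 F2515 (iv F3117) (iv F3844) (iv F4551) (iv D972) D971 (iv F5017) F5016 F5015 F5014 (iv D1075) F4288 F3633 D911 D1077 D1255 F5822 F5821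
theorem F5834 : act 7 n1256 = n1081 := d31_2 D1082 F5833 (iv D1081)
def n1257 : Q := act 5 n1078
theorem D1257 : act 5 n1078 = n1257 := rfl
theorem F5835 : act 0 n1257 = n1081 := d4_1 D1257 (iv D1081) (iv F5032)
theorem F5836 : act 1 n1257 = n1257 := d11_1 D1257 (iv D1257) F5033
theorem F5837 : act 2 n1257 = n1082 := d17_1 D1257 F5833 (iv D1256)
theorem F5838 : act 3 n1257 = n1079 := d22_1 D1257 (iv D1079) D1078
theorem F5839 : act 4 n1257 = n1131 := d26_1 D1257 (iv F5825) F5824 (iv F5233) (iv F5034)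
theorem F5840 : act 8 n1257 = n1129 := d32_2 F5819 D1257 (iv F5817)
theorem F5841 : act 7 n1080 = n1257 := d37_0 (iv D1257) F5034 (iv D950) F3763 F3293 F2815 F2234 D474 F2280 F2279 F2278 F2277 (iv F2115) (iv F2627) (iv D546) (iv D428) F1684 (iv D341) (iv F1590) F1589 F1592 F1307 D326 F1610 (iv F1626) F1625 F1624 F1627 D412 F2008 (iv F2019) F2018 F2017 F2016 (iv F3278) (iv F3281) F2025 F2024 F2023 F2022 F2021 (iv D415) D414 (iv F3277) D616 D760 D909 D1075 F5019 F4293 D1076 D1254 (iv F5820) F5239 F4456 (iv D948) D947 (iv F5068) F5067 F5066 (iv F5832) F5828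
def n1258 : Q := act 7 n1078
theorem D1258 : act 7 n1078 = n1258 := rfl
theorem F5842 : act 0 n1258 = n1082 := d6_1 D1258 (iv D1082) (iv F5032)
theorem F5843 : act 1 n1258 = n1258 := d13_1 D1258 (iv D1258) F5033
theorem F5844 : act 2 n1258 = n1081 := d19_1 D1258 (iv F5834) (iv D1256)
theorem F5845 : act 3 n1258 = n1258 := d24_1 D1258 (iv D1258) (iv D1078) F4309 D1078
theorem F5846 : act 4 n1258 = n1129 := d28_1 D1258 (iv D1129) (iv F5034)
theorem F5847 : act 5 n1258 = n1080 := d31_1 D1258 F5841 (iv D1257)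
theorem F5848 : act 8 n1258 = n1131 := d35_2 F5819 D1258 (iv D1131) (iv F5232) (iv F5818)
def n1259 : Q := act 6 n1079
theorem D1259 : act 6 n1079 = n1259 := rfl
theorem F5849 : act 0 n1259 = n1083 := d5_1 D1259 (iv D1083) (iv F5035)
theorem F5850 : act 1 n1259 = n1259 := d12_1 D1259 (iv D1259) F5036
theorem F5851 : act 2 n1259 = n1259 := d18_1 D1259 (iv D1259) F5037
theorem F5852 : act 4 n1259 = n1259 := d27_1 D1259 (iv D1259) F5038
theorem F5853 : act 7 n1259 = n1259 := d33_2 F5039 D1259 (iv D1259)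
theorem F5854 : act 8 n1259 = n1144 := d34_2 (iv F5040) D1259 F5319
def n1260 : Q := act 4 n1081
theorem D1260 : act 4 n1081 = n1260 := rfl
theorem F5855 : act 0 n1260 = n1131 := d3_1 D1260 (iv F5839) F5835
theorem F5856 : act 1 n1260 = n1084 := d10_1 D1260 (iv D1084) (iv F5044)
theorem F5857 : act 2 n1260 = n1129 := d16_1 D1260 (iv F5846) F5844
theorem F5858 : act 3 n1260 = n1260 := d21_1 D1260 (iv D1260) F5045 F4314 (iv F5045)
theorem F5859 : act 5 n1260 = n1126 := d26_2 D1081 D1260 F5241 (iv D953) (iv F4311)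
theorem F5860 : act 7 n1260 = n1125 := d28_2 F5834 D1260 (iv F5830)
theorem F5861 : act 8 n1260 = n1082 := d29_2 (iv F5046) D1260 F5049
def n1261 : Q := act 6 n1081
theorem D1261 : act 6 n1081 = n1261 := rfl
theorem F5862 : act 1 n1261 = n1085 := d12_1 D1261 (iv D1085) (iv F5044)
theorem F5863 : act 3 n1261 = n1083 := d23_1 D1261 (iv D1083) (iv F5045)
theorem F5864 : act 8 n1261 = n1118 := d34_2 (iv F5046) D1261 F5209
def n1262 : Q := act 7 n1085
theorem D1262 : act 7 n1085 = n1262 := rfl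
theorem F5865 : act 0 n1262 = n1262 := d6_1 D1262 (iv D1262) F5061
theorem F5866 : act 2 n1262 = n1262 := d19_1 D1262 (iv D1262) F5062
theorem F5867 : act 3 n1262 = n1262 := d24_1 D1262 (iv D1262) F5063 F4328 (iv F5063)
theorem F5868 : act 4 n1262 = n1128 := d28_1 D1262 (iv F5813) F5811
theorem F5869 : act 6 n1262 = n1086 := d33_1 D1262 (iv D1086) D1085
theorem F5870 : act 8 n1262 = n1112 := d35_2 (iv F5064) D1262 (iv D1112) F4406 D942
def n1263 : Q := act 4 n1087
theorem D1263 : act 4 n1087 = n1263 := rfl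
theorem F5871 : act 0 n1263 = n1263 := d3_1 D1263 (iv D1263) F5071
theorem F5872 : act 1 n1263 = n1187 := d10_1 D1263 F5503 (iv F5072)
theorem F5873 : act 2 n1263 = n1088 := d16_1 D1263 (iv D1088) D1087
theorem F5874 : act 6 n1263 = n1263 := d27_2 F5075 D1263 (iv D1263)
theorem F5875 : act 7 n1263 = n1090 := d28_2 (iv F5076) D1263 (iv D1090)
theorem F5876 : act 8 n1263 = n1263 := d29_2 F5077 D1263 (iv D1263)
def n1264 : Q := act 5 n1088
theorem D1264 : act 5 n1088 = n1264 := rfl
theorem F5877 : act 0 n1264 = n1264 := d4_1 D1264 (iv D1264) F5078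
theorem F5878 : act 1 n1264 = n1153 := d11_1 D1264 (iv D1153) (iv F5079)
theorem F5879 : act 3 n1264 = n1264 := d22_1 D1264 (iv D1264) F5080
theorem F5880 : act 4 n1264 = n1264 := d26_1 D1264 (iv D1264) (iv D1088) F4332 D1088
theorem F5881 : act 7 n1264 = n1091 := d31_2 (iv F5082) D1264 (iv D1091)
theorem F5882 : act 8 n1264 = n1264 := d32_2 F5083 D1264 (iv D1264)
def n1265 : Q := act 4 n1089
theorem D1265 : act 4 n1089 = n1265 := rfl
theorem F5883 : act 0 n1265 = n1191 := d3_1 D1265 F5522 F5089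
theorem F5884 : act 1 n1265 = n1090 := d10_1 D1265 (iv D1090) D1089
theorem F5885 : act 2 n1265 = n1154 := d16_1 D1265 (iv D1154) (iv F5084)
theorem F5886 : act 6 n1265 = n1265 := d27_2 F5086 D1265 (iv D1265)
theorem F5887 : act 7 n1265 = n1187 := d28_2 (iv F5087) D1265 F5503
theorem F5888 : act 8 n1265 = n1093 := d29_2 (iv F5088) D1265 (iv D1093)
def n1266 : Q := act 3 n1090
theorem D1266 : act 3 n1090 = n1266 := rfl
theorem F5889 : act 0 n1266 = n1266 := d2_1 D1266 (iv D1266) F5090
theorem F5890 : act 2 n1266 = n1099 := d15_1 D1266 (iv D1099) F4364 (iv F4342) (iv F5091)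
theorem F5891 : act 6 n1266 = n1266 := d23_2 F5092 D1266 (iv D1266)
theorem F5892 : act 8 n1266 = n1094 := d25_2 (iv F5093) D1266 (iv D1094)
def n1267 : Q := act 5 n1090
theorem D1267 : act 5 n1090 = n1267 := rfl
theorem F5893 : act 0 n1267 = n1267 := d4_1 D1267 (iv D1267) F5090
theorem F5894 : act 2 n1267 = n1091 := d17_1 D1267 (iv D1091) (iv F5091)
theorem F5895 : act 4 n1267 = n1267 := d26_1 D1267 (iv D1267) (iv D1090) F4337 D1090
theorem F5896 : act 8 n1267 = n1095 := d32_2 (iv F5093) D1267 (iv D1095)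
def n1268 : Q := act 6 n1091
theorem D1268 : act 6 n1091 = n1268 := rfl
theorem F5897 : act 0 n1268 = n1268 := d5_1 D1268 (iv D1268) F5094
theorem F5898 : act 1 n1268 = n1157 := d12_1 D1268 (iv D1157) (iv F5095)
theorem F5899 : act 3 n1268 = n1101 := d23_1 D1268 (iv D1101) (iv F5096)
theorem F5900 : act 4 n1268 = n1268 := d27_1 D1268 (iv D1268) F5097
theorem F5901 : act 5 n1268 = n1268 := d30_1 D1268 (iv D1268) (iv D1091) F4343 D1091
theorem F5902 : act 8 n1268 = n1096 := d34_2 (iv F5098) D1268 (iv D1096)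
def n1269 : Q := act 4 n1092
theorem D1269 : act 4 n1092 = n1269 := rfl
theorem F5903 : act 0 n1269 = n1093 := d3_1 D1269 (iv D1093) D1092
theorem F5904 : act 1 n1269 = n1269 := d10_1 D1269 (iv D1269) F5099
theorem F5905 : act 2 n1269 = n1158 := d16_1 D1269 (iv D1158) (iv F5100)
theorem F5906 : act 6 n1269 = n1269 := d27_2 F5102 D1269 (iv D1269)
theorem F5907 : act 7 n1269 = n1269 := d28_2 F5103 D1269 (iv D1269)
theorem F5908 : act 8 n1269 = n1191 := d29_2 (iv F5104) D1269 F5522
def n1270 : Q := act 3 n1093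
theorem D1270 : act 3 n1093 = n1270 := rfl
theorem F5909 : act 1 n1270 = n1094 := d9_1 D1270 (iv D1094) (iv F5105)
theorem F5910 : act 6 n1270 = n1270 := d23_2 F5107 D1270 (iv D1270)
def n1271 : Q := act 5 n1093
theorem D1271 : act 5 n1093 = n1271 := rfl
theorem F5911 : act 1 n1271 = n1095 := d11_1 D1271 (iv D1095) (iv F5105)
theorem F5912 : act 2 n1271 = n1160 := d17_1 D1271 (iv D1160) (iv F5106)
theorem F5913 : act 4 n1271 = n1271 := d26_1 D1271 (iv D1271) (iv D1093) F4346 D1093
theorem F5914 : act 7 n1271 = n1271 := d31_2 F5108 D1271 (iv D1271)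
def n1272 : Q := act 5 n1094
theorem D1272 : act 5 n1094 = n1272 := rfl
theorem F5915 : act 0 n1272 = n1272 := d4_1 D1272 (iv D1272) F5109
theorem F5916 : act 2 n1272 = n1105 := d17_1 D1272 (iv D1105) (iv F5110)
theorem F5917 : act 3 n1272 = n1095 := d22_1 D1272 (iv D1095) D1094
def n1273 : Q := act 7 n1094
theorem D1273 : act 7 n1094 = n1273 := rfl
theorem F5918 : act 0 n1273 = n1273 := d6_1 D1273 (iv D1273) F5109
theorem F5919 : act 2 n1273 = n1106 := d19_1 D1273 (iv D1106) (iv F5110)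
theorem F5920 : act 3 n1273 = n1273 := d24_1 D1273 (iv D1273) (iv D1094) F4352 D1094
theorem F5921 : act 6 n1273 = n1273 := d33_1 D1273 (iv D1273) F5111
def n1274 : Q := act 6 n1095
theorem D1274 : act 6 n1095 = n1274 := rfl
theorem F5922 : act 0 n1274 = n1274 := d5_1 D1274 (iv D1274) F5112
theorem F5923 : act 2 n1274 = n1096 := d18_1 D1274 (iv D1096) (iv F5113)
theorem F5924 : act 4 n1274 = n1274 := d27_1 D1274 (iv D1274) F5114
theorem F5925 : act 5 n1274 = n1274 := d30_1 D1274 (iv D1274) (iv D1095) F4351 D1095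
theorem F5926 : act 7 n1274 = n1274 := d33_2 F5115 D1274 (iv D1274)
def n1275 : Q := act 4 n1097
theorem D1275 : act 4 n1097 = n1275 := rfl
theorem F5927 : act 0 n1275 = n1098 := d3_1 D1275 (iv D1098) D1097
theorem F5928 : act 1 n1275 = n1275 := d10_1 D1275 (iv D1275) F5122
theorem F5929 : act 2 n1275 = n1164 := d16_1 D1275 (iv D1164) (iv F5123)
theorem F5930 : act 6 n1275 = n1275 := d27_2 F5125 D1275 (iv D1275)
theorem F5931 : act 7 n1275 = n1275 := d28_2 F5126 D1275 (iv D1275)
theorem F5932 : act 8 n1275 = n1102 := d29_2 (iv F5127) D1275 (iv D1102)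
def n1276 : Q := act 3 n1098
theorem D1276 : act 3 n1098 = n1276 := rfl
theorem F5933 : act 1 n1276 = n1099 := d9_1 D1276 (iv D1099) (iv F5128)
theorem F5934 : act 6 n1276 = n1276 := d23_2 F5130 D1276 (iv D1276)
theorem F5935 : act 8 n1276 = n1103 := d25_2 (iv F5132) D1276 (iv D1103)
def n1277 : Q := act 5 n1098
theorem D1277 : act 5 n1098 = n1277 := rfl
theorem F5936 : act 1 n1277 = n1100 := d11_1 D1277 (iv D1100) (iv F5128)
theorem F5937 : act 2 n1277 = n1166 := d17_1 D1277 (iv D1166) (iv F5129)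
theorem F5938 : act 4 n1277 = n1110 := d26_1 D1277 (iv D1110) (iv D934) (iv F4359) D1098
theorem F5939 : act 7 n1277 = n1277 := d31_2 F5131 D1277 (iv D1277)
theorem F5940 : act 8 n1277 = n1104 := d32_2 (iv F5132) D1277 (iv D1104)
def n1278 : Q := act 5 n1099
theorem D1278 : act 5 n1099 = n1278 := rfl
theorem F5941 : act 0 n1278 = n1278 := d4_1 D1278 (iv D1278) F5133
theorem F5942 : act 3 n1278 = n1100 := d22_1 D1278 (iv D1100) D1099
theorem F5943 : act 8 n1278 = n1105 := d32_2 (iv F5135) D1278 (iv D1105)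
def n1279 : Q := act 7 n1099
theorem D1279 : act 7 n1099 = n1279 := rfl
theorem F5944 : act 0 n1279 = n1279 := d6_1 D1279 (iv D1279) F5133
theorem F5945 : act 3 n1279 = n1279 := d24_1 D1279 (iv D1279) (iv D1099) F4366 D1099
theorem F5946 : act 6 n1279 = n1279 := d33_1 D1279 (iv D1279) F5134
def n1280 : Q := act 6 n1100
theorem D1280 : act 6 n1100 = n1280 := rfl
theorem F5947 : act 0 n1280 = n1280 := d5_1 D1280 (iv D1280) F5136
theorem F5948 : act 2 n1280 = n1101 := d18_1 D1280 (iv D1101) (iv F5137)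
theorem F5949 : act 4 n1280 = n1113 := d27_1 D1280 (iv D1113) (iv F5138)
theorem F5950 : act 5 n1280 = n1280 := d30_1 D1280 (iv D1280) (iv D1100) F4365 D1100
theorem F5951 : act 7 n1280 = n1280 := d33_2 F5139 D1280 (iv D1280)
theorem F5952 : act 8 n1280 = n1107 := d34_2 (iv F5140) D1280 (iv D1107)
def n1281 : Q := act 3 n1102
theorem D1281 : act 3 n1102 = n1281 := rfl
theorem F5953 : act 0 n1281 = n1103 := d2_1 D1281 (iv D1103) (iv F5147)
theorem F5954 : act 1 n1281 = n1281 := d9_1 D1281 (iv D1281) F5148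
theorem F5955 : act 6 n1281 = n1281 := d23_2 F5150 D1281 (iv D1281)
def n1282 : Q := act 5 n1102
theorem D1282 : act 5 n1102 = n1282 := rfl
theorem F5956 : act 0 n1282 = n1104 := d4_1 D1282 (iv D1104) (iv F5147)
theorem F5957 : act 1 n1282 = n1282 := d11_1 D1282 (iv D1282) F5148
theorem F5958 : act 2 n1282 = n1171 := d17_1 D1282 (iv D1171) (iv F5149)
theorem F5959 : act 4 n1282 = n1115 := d26_1 D1282 (iv D1115) (iv D938) (iv F4375) D1102
theorem F5960 : act 7 n1282 = n1134 := d31_2 (iv F5151) D1282 (iv D1134)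
def n1283 : Q := act 2 n1103
theorem D1283 : act 2 n1103 = n1283 := rfl
theorem F5961 : act 3 n1283 = n1172 := d15_2 D1103 D1283 (iv D1172) (iv D992) (iv F4379)
theorem F5962 : act 6 n1283 = n1283 := d18_2 F5153 D1283 (iv D1283)
def n1284 : Q := act 5 n1103
theorem D1284 : act 5 n1103 = n1284 := rfl
theorem F5963 : act 1 n1284 = n1105 := d11_1 D1284 (iv D1105) (iv F5152)
theorem F5964 : act 3 n1284 = n1104 := d22_1 D1284 (iv D1104) D1103
def n1285 : Q := act 7 n1103
theorem D1285 : act 7 n1103 = n1285 := rfl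
theorem F5965 : act 1 n1285 = n1106 := d13_1 D1285 (iv D1106) (iv F5152)
theorem F5966 : act 3 n1285 = n1137 := d24_1 D1285 (iv D1137) (iv D958) (iv F4381) D1103
theorem F5967 : act 6 n1285 = n1285 := d33_1 D1285 (iv D1285) F5153
def n1286 : Q := act 6 n1104
theorem D1286 : act 6 n1104 = n1286 := rfl
theorem F5968 : act 1 n1286 = n1107 := d12_1 D1286 (iv D1107) (iv F5154)
theorem F5969 : act 2 n1286 = n1175 := d18_1 D1286 (iv D1175) (iv F5155)
theorem F5970 : act 4 n1286 = n1119 := d27_1 D1286 (iv D1119) (iv F5156)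
theorem F5971 : act 5 n1286 = n1286 := d30_1 D1286 (iv D1286) (iv D1104) F4380 D1104
theorem F5972 : act 7 n1286 = n1138 := d33_2 (iv F5157) D1286 (iv D1138)
def n1287 : Q := act 4 n1105
theorem D1287 : act 4 n1105 = n1287 := rfl
theorem F5973 : act 0 n1287 = n1287 := d3_1 D1287 (iv D1287) F5158
theorem F5974 : act 3 n1287 = n1120 := d21_1 D1287 (iv D1120) F4429 (iv F4386) (iv F5159)
def n1288 : Q := act 6 n1105
theorem D1288 : act 6 n1105 = n1288 := rfl
theorem F5975 : act 0 n1288 = n1288 := d5_1 D1288 (iv D1288) F5158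
theorem F5976 : act 3 n1288 = n1107 := d23_1 D1288 (iv D1107) (iv F5159)
theorem F5977 : act 5 n1288 = n1288 := d30_1 D1288 (iv D1288) (iv D1105) F4383 D1105
def n1289 : Q := act 7 n1105
theorem D1289 : act 7 n1105 = n1289 := rfl
theorem F5978 : act 0 n1289 = n1289 := d6_1 D1289 (iv D1289) F5158
theorem F5979 : act 3 n1289 = n1141 := d24_1 D1289 (iv D1141) F4501 (iv F4387) (iv F5159)
theorem F5980 : act 5 n1289 = n1106 := d31_1 D1289 (iv D1106) D1105
def n1290 : Q := act 8 n1106
theorem D1290 : act 8 n1106 = n1290 := rfl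
theorem F5981 : act 0 n1290 = n1290 := d7_1 D1290 (iv D1290) F5160
theorem F5982 : act 3 n1290 = n1142 := d25_1 D1290 (iv D1142) (iv F5161)
theorem F5983 : act 6 n1290 = n1290 := d34_1 D1290 (iv D1290) F5162
def n1291 : Q := act 3 n1108
theorem D1291 : act 3 n1108 = n1291 := rfl
theorem F5984 : act 0 n1291 = n1109 := d2_1 D1291 (iv D1109) (iv F5168)
theorem F5985 : act 1 n1291 = n1291 := d9_1 D1291 (iv D1291) F5169
theorem F5986 : act 2 n1291 = n1132 := d15_1 D1291 F5265 F4480 F4666 (iv F5170)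
theorem F5987 : act 6 n1291 = n1123 := d23_2 (iv F5171) D1291 (iv D1123)
theorem F5988 : act 8 n1291 = n1114 := d25_2 (iv F5173) D1291 (iv D1114)
def n1292 : Q := act 5 n1108
theorem D1292 : act 5 n1108 = n1292 := rfl
theorem F5989 : act 0 n1292 = n1110 := d4_1 D1292 (iv D1110) (iv F5168)
theorem F5990 : act 1 n1292 = n1292 := d11_1 D1292 (iv D1292) F5169
theorem F5991 : act 2 n1292 = n1180 := d17_1 D1292 (iv D1180) (iv F5170)
theorem F5992 : act 6 n1292 = n1184 := d30_2 (iv F5171) D1292 (iv D1184) F4699 F4443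
theorem F5993 : act 7 n1292 = n1292 := d31_2 F5172 D1292 (iv D1292)
theorem F5994 : act 8 n1292 = n1115 := d32_2 (iv F5173) D1292 (iv D1115)
def n1293 : Q := act 2 n1109
theorem D1293 : act 2 n1109 = n1293 := rfl
theorem F5995 : act 0 n1293 = n1132 := d1_1 D1293 (iv F5986) F5984
theorem F5996 : act 1 n1293 = n1293 := d8_1 D1293 (iv D1293) F5174 F4404 (iv F5174)
theorem F5997 : act 3 n1293 = n1130 := d15_2 D1109 D1293 F5257 (iv D998) (iv F4399)
theorem F5998 : act 6 n1293 = n1124 := d18_2 (iv F5175) D1293 (iv D1124)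
theorem F5999 : act 8 n1293 = n1116 := d20_2 (iv F5176) D1293 (iv D1116)
def n1294 : Q := act 5 n1109
theorem D1294 : act 5 n1109 = n1294 := rfl
theorem F6000 : act 1 n1294 = n1111 := d11_1 D1294 (iv D1111) (iv F5174)
theorem F6001 : act 3 n1294 = n1110 := d22_1 D1294 (iv D1110) D1109
theorem F6002 : act 8 n1294 = n1117 := d32_2 (iv F5176) D1294 (iv D1117)
def n1295 : Q := act 7 n1109
theorem D1295 : act 7 n1109 = n1295 := rfl
theorem F6003 : act 1 n1295 = n1112 := d13_1 D1295 (iv D1112) (iv F5174)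
theorem F6004 : act 3 n1295 = n1295 := d24_1 D1295 (iv D1295) (iv D1109) F4401 D1109
theorem F6005 : act 4 n1295 = n1132 := d28_1 D1295 (iv F5760) F5758
theorem F6006 : act 6 n1295 = n1126 := d33_1 D1295 (iv D1126) (iv F5175)
def n1296 : Q := act 6 n1110
theorem D1296 : act 6 n1110 = n1296 := rfl
theorem F6007 : act 0 n1296 = n1184 := d5_1 D1296 (iv F5992) F5989
theorem F6008 : act 1 n1296 = n1113 := d12_1 D1296 (iv D1113) (iv F5177)
theorem F6009 : act 2 n1296 = n1182 := d18_1 D1296 (iv D1182) (iv F5178)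
theorem F6010 : act 5 n1296 = n1127 := d30_1 D1296 (iv D1127) (iv D946) (iv F4400) D1110
theorem F6011 : act 7 n1296 = n1296 := d33_2 F5179 D1296 (iv D1296)
theorem F6012 : act 8 n1296 = n1119 := d34_2 (iv F5180) D1296 (iv D1119)
def n1297 : Q := act 4 n1111
theorem D1297 : act 4 n1111 = n1297 := rfl
theorem F6013 : act 0 n1297 = n1297 := d3_1 D1297 (iv D1297) F5181
theorem F6014 : act 2 n1297 = n1297 := d16_1 D1297 (iv D1297) F5182
theorem F6015 : act 8 n1297 = n1120 := d29_2 (iv F5184) D1297 (iv D1120)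
def n1298 : Q := act 6 n1111
theorem D1298 : act 6 n1111 = n1298 := rfl
theorem F6016 : act 0 n1298 = n1298 := d5_1 D1298 (iv D1298) F5181
theorem F6017 : act 2 n1298 = n1298 := d18_1 D1298 (iv D1298) F5182
theorem F6018 : act 3 n1298 = n1113 := d23_1 D1298 (iv D1113) (iv F5183)
theorem F6019 : act 5 n1298 = n1128 := d30_1 D1298 (iv D1128) (iv D947) (iv F4405) D1111
theorem F6020 : act 8 n1298 = n1121 := d34_2 (iv F5184) D1298 (iv D1121)
def n1299 : Q := act 7 n1111
theorem D1299 : act 7 n1111 = n1299 := rfl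
theorem F6021 : act 0 n1299 = n1299 := d6_1 D1299 (iv D1299) F5181
theorem F6022 : act 2 n1299 = n1299 := d19_1 D1299 (iv D1299) F5182
theorem F6023 : act 3 n1299 = n1299 := d24_1 D1299 (iv D1299) F5183 F4409 (iv F5183)
theorem F6024 : act 5 n1299 = n1112 := d31_1 D1299 (iv D1112) D1111
def n1300 : Q := act 2 n1114
theorem D1300 : act 2 n1114 = n1300 := rfl
theorem F6025 : act 0 n1300 = n1116 := d1_1 D1300 (iv D1116) (iv F5195)
theorem F6026 : act 3 n1300 = n1127 := d15_2 D1114 D1300 F5244 (iv D1002) (iv F4419)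
theorem F6027 : act 6 n1300 = n1125 := d18_2 (iv F5197) D1300 F5236
theorem F6028 : act 8 n1300 = n1132 := d20_2 F5988 D1300 (iv F5986)
theorem F6029 : act 1 n1300 = n1128 := d38_6 (iv F4377) F4376 F4375 D938 D1114 D1300 (iv F5813) F5812 F5058 F4459 F3772 F3056 F2445 F2087 D438 (iv F2658) (iv F3330) F3329 (iv F4029) (iv F4737) (iv F5452) (iv D1175) (iv D993) (iv D826) F3214 (iv F3693) (iv D774) F3006 F2452 F2451 D511 D646 F3088 F2493 D656 F3131 (iv F3284) (iv D618) (iv D492) F1915 F1585 (iv D273) (iv F1355) (iv F1665) (iv F2040) (iv F2554) (iv F3181) F3180 (iv F3478) F3375 F3374 F3373 (iv D707) (iv F2866) (iv F3356) F3360 F3359 F3358 (iv D704) (iv F3312) (iv F3781) F3780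
def n1301 : Q := act 5 n1114
theorem D1301 : act 5 n1114 = n1301 := rfl
theorem F6030 : act 0 n1301 = n1117 := d4_1 D1301 (iv D1117) (iv F5195)
theorem F6031 : act 1 n1301 = n1301 := d11_1 D1301 (iv D1301) F5196
theorem F6032 : act 3 n1301 = n1115 := d22_1 D1301 (iv D1115) D1114
def n1302 : Q := act 7 n1114
theorem D1302 : act 7 n1114 = n1302 := rfl
theorem F6033 : act 0 n1302 = n1118 := d6_1 D1302 (iv D1118) (iv F5195)
theorem F6034 : act 1 n1302 = n1302 := d13_1 D1302 (iv D1302) F5196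
theorem F6035 : act 3 n1302 = n1144 := d24_1 D1302 (iv D1144) (iv D963) (iv F4421) D1114
theorem F6036 : act 6 n1302 = n1129 := d33_1 D1302 (iv D1129) (iv F5197)
def n1303 : Q := act 6 n1115
theorem D1303 : act 6 n1115 = n1303 := rfl
theorem F6037 : act 0 n1303 = n1119 := d5_1 D1303 (iv D1119) (iv F5198)
theorem F6038 : act 1 n1303 = n1303 := d12_1 D1303 (iv D1303) F5199
theorem F6039 : act 2 n1303 = n1181 := d18_1 D1303 F5475 (iv F5200)
theorem F6040 : act 5 n1303 = n1130 := d30_1 D1303 (iv D1130) (iv D951) (iv F4420) D1115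
theorem F6041 : act 7 n1303 = n1145 := d33_2 (iv F5201) D1303 (iv D1145)
theorem F6042 : act 8 n1303 = n1184 := d34_2 F5994 D1303 (iv F5992)
def n1304 : Q := act 5 n1116
theorem D1304 : act 5 n1116 = n1304 := rfl
theorem F6043 : act 1 n1304 = n1304 := d11_1 D1304 (iv D1304) F5202
theorem F6044 : act 2 n1304 = n1117 := d17_1 D1304 (iv D1117) D1116
theorem F6045 : act 3 n1304 = n1184 := d22_1 D1304 (iv D1184) (iv F5203)
def n1305 : Q := act 7 n1116
theorem D1305 : act 7 n1116 = n1305 := rfl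
theorem F6046 : act 1 n1305 = n1305 := d13_1 D1305 (iv D1305) F5202
theorem F6047 : act 2 n1305 = n1118 := d19_1 D1305 (iv D1118) D1116
theorem F6048 : act 3 n1305 = n1305 := d24_1 D1305 (iv D1305) F5203 F4700 (iv F5203)
theorem F6049 : act 6 n1305 = n1131 := d33_1 D1305 (iv D1131) (iv F5204)
def n1306 : Q := act 4 n1117
theorem D1306 : act 4 n1117 = n1306 := rfl
theorem F6050 : act 1 n1306 = n1120 := d10_1 D1306 (iv D1120) (iv F5205)
def n1307 : Q := act 6 n1117
theorem D1307 : act 6 n1117 = n1307 := rfl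
theorem F6051 : act 1 n1307 = n1121 := d12_1 D1307 (iv D1121) (iv F5205)
theorem F6052 : act 3 n1307 = n1119 := d23_1 D1307 (iv D1119) (iv F5206)
theorem F6053 : act 5 n1307 = n1132 := d30_1 D1307 (iv D1132) (iv D953) (iv F4423) D1117
def n1308 : Q := act 7 n1117
theorem D1308 : act 7 n1117 = n1308 := rfl
theorem F6054 : act 1 n1308 = n1122 := d13_1 D1308 (iv D1122) (iv F5205)
theorem F6055 : act 3 n1308 = n1148 := d24_1 D1308 (iv D1148) F4524 (iv F4426) (iv F5206)
theorem F6056 : act 5 n1308 = n1118 := d31_1 D1308 (iv D1118) D1117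
def n1309 : Q := act 6 n1120
theorem D1309 : act 6 n1120 = n1309 := rfl
theorem F6057 : act 0 n1309 = n1309 := d5_1 D1309 (iv D1309) F5214
theorem F6058 : act 2 n1309 = n1309 := d18_1 D1309 (iv D1309) F5215
theorem F6059 : act 4 n1309 = n1121 := d27_1 D1309 (iv D1121) D1120
def n1310 : Q := act 7 n1120
theorem D1310 : act 7 n1120 = n1310 := rfl
theorem F6060 : act 0 n1310 = n1310 := d6_1 D1310 (iv D1310) F5214
theorem F6061 : act 2 n1310 = n1310 := d19_1 D1310 (iv D1310) F5215
theorem F6062 : act 4 n1310 = n1122 := d28_1 D1310 (iv D1122) D1120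
def n1311 : Q := act 2 n1133
theorem D1311 : act 2 n1133 = n1311 := rfl
theorem F6063 : act 0 n1311 = n1135 := d1_1 D1311 (iv D1135) (iv F5266)
theorem F6064 : act 3 n1311 = n1187 := d15_2 D1133 D1311 (iv D1187) (iv D1009) (iv F4488)
theorem F6065 : act 4 n1311 = n1311 := d16_2 F5268 D1311 (iv D1311)
theorem F6066 : act 6 n1311 = n1311 := d18_2 F5269 D1311 (iv D1311)
theorem F6067 : act 8 n1311 = n1311 := d20_2 F5270 D1311 (iv D1311)
def n1312 : Q := act 5 n1133
theorem D1312 : act 5 n1133 = n1312 := rfl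
theorem F6068 : act 0 n1312 = n1136 := d4_1 D1312 (iv D1136) (iv F5266)
theorem F6069 : act 1 n1312 = n1312 := d11_1 D1312 (iv D1312) F5267
theorem F6070 : act 3 n1312 = n1134 := d22_1 D1312 (iv D1134) D1133
theorem F6071 : act 8 n1312 = n1312 := d32_2 F5270 D1312 (iv D1312)
def n1313 : Q := act 7 n1133
theorem D1313 : act 7 n1133 = n1313 := rfl
theorem F6072 : act 0 n1313 = n1137 := d6_1 D1313 (iv D1137) (iv F5266)
theorem F6073 : act 1 n1313 = n1313 := d13_1 D1313 (iv D1313) F5267
theorem F6074 : act 4 n1313 = n1313 := d28_1 D1313 (iv D1313) F5268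
theorem F6075 : act 6 n1313 = n1313 := d33_1 D1313 (iv D1313) F5269
def n1314 : Q := act 6 n1134
theorem D1314 : act 6 n1134 = n1314 := rfl
theorem F6076 : act 0 n1314 = n1138 := d5_1 D1314 (iv D1138) (iv F5271)
theorem F6077 : act 1 n1314 = n1314 := d12_1 D1314 (iv D1314) F5272
theorem F6078 : act 2 n1314 = n1189 := d18_1 D1314 (iv D1189) (iv F5273)
theorem F6079 : act 4 n1314 = n1145 := d27_1 D1314 (iv D1145) (iv F5274)
theorem F6080 : act 5 n1314 = n1314 := d30_1 D1314 (iv D1314) (iv D1134) F4489 D1134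
theorem F6081 : act 8 n1314 = n1314 := d34_2 F5275 D1314 (iv D1314)
def n1315 : Q := act 5 n1135
theorem D1315 : act 5 n1135 = n1315 := rfl
theorem F6082 : act 1 n1315 = n1315 := d11_1 D1315 (iv D1315) F5276
theorem F6083 : act 2 n1315 = n1136 := d17_1 D1315 (iv D1136) D1135
theorem F6084 : act 3 n1315 = n1190 := d22_1 D1315 (iv D1190) (iv F5277)
theorem F6085 : act 8 n1315 = n1315 := d32_2 F5280 D1315 (iv D1315)
def n1316 : Q := act 7 n1135
theorem D1316 : act 7 n1135 = n1316 := rfl
theorem F6086 : act 1 n1316 = n1316 := d13_1 D1316 (iv D1316) F5276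
theorem F6087 : act 2 n1316 = n1137 := d19_1 D1316 (iv D1137) D1135
theorem F6088 : act 4 n1316 = n1316 := d28_1 D1316 (iv D1316) F5278
theorem F6089 : act 6 n1316 = n1316 := d33_1 D1316 (iv D1316) F5279
def n1317 : Q := act 4 n1136
theorem D1317 : act 4 n1136 = n1317 := rfl
theorem F6090 : act 1 n1317 = n1139 := d10_1 D1317 (iv D1139) (iv F5281)
theorem F6091 : act 3 n1317 = n1146 := d21_1 D1317 (iv D1146) F4524 (iv F4497) (iv F5282)
theorem F6092 : act 5 n1317 = n1317 := d26_2 D1136 D1317 (iv D1317) (iv D1136) F4492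
theorem F6093 : act 8 n1317 = n1317 := d29_2 F5283 D1317 (iv D1317)
def n1318 : Q := act 6 n1136
theorem D1318 : act 6 n1136 = n1318 := rfl
theorem F6094 : act 1 n1318 = n1140 := d12_1 D1318 (iv D1140) (iv F5281)
theorem F6095 : act 3 n1318 = n1138 := d23_1 D1318 (iv D1138) (iv F5282)
theorem F6096 : act 5 n1318 = n1318 := d30_1 D1318 (iv D1318) (iv D1136) F4493 D1136
theorem F6097 : act 8 n1318 = n1318 := d34_2 F5283 D1318 (iv D1318)
def n1319 : Q := act 7 n1136
theorem D1319 : act 7 n1136 = n1319 := rfl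
theorem F6098 : act 1 n1319 = n1141 := d13_1 D1319 (iv D1141) (iv F5281)
theorem F6099 : act 5 n1319 = n1137 := d31_1 D1319 (iv D1137) D1136
def n1320 : Q := act 8 n1137
theorem D1320 : act 8 n1137 = n1320 := rfl
theorem F6100 : act 1 n1320 = n1142 := d14_1 D1320 (iv D1142) (iv F5284)
theorem F6101 : act 4 n1320 = n1320 := d29_1 D1320 (iv D1320) F5285
theorem F6102 : act 6 n1320 = n1320 := d34_1 D1320 (iv D1320) F5286
theorem F6103 : act 7 n1320 = n1320 := d35_1 D1320 (iv D1320) (iv D1137) F4494 D1137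
def n1321 : Q := act 6 n1139
theorem D1321 : act 6 n1139 = n1321 := rfl
theorem F6104 : act 0 n1321 = n1321 := d5_1 D1321 (iv D1321) F5292
theorem F6105 : act 2 n1321 = n1321 := d18_1 D1321 (iv D1321) F5293
theorem F6106 : act 3 n1321 = n1149 := d23_1 D1321 (iv D1149) (iv F5294)
theorem F6107 : act 4 n1321 = n1140 := d27_1 D1321 (iv D1140) D1139
theorem F6108 : act 8 n1321 = n1321 := d34_2 F5296 D1321 (iv D1321)
def n1322 : Q := act 7 n1139
theorem D1322 : act 7 n1139 = n1322 := rfl
theorem F6109 : act 0 n1322 = n1322 := d6_1 D1322 (iv D1322) F5292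
theorem F6110 : act 2 n1322 = n1322 := d19_1 D1322 (iv D1322) F5293
theorem F6111 : act 4 n1322 = n1141 := d28_1 D1322 (iv D1141) D1139
theorem F6112 : act 5 n1322 = n1322 := d31_1 D1322 (iv D1322) F5295
def n1323 : Q := act 7 n1140
theorem D1323 : act 7 n1140 = n1323 := rfl
theorem F6113 : act 0 n1323 = n1323 := d6_1 D1323 (iv D1323) F5297
theorem F6114 : act 2 n1323 = n1323 := d19_1 D1323 (iv D1323) F5298
theorem F6115 : act 5 n1323 = n1323 := d31_1 D1323 (iv D1323) F5300
theorem F6116 : act 6 n1323 = n1141 := d33_1 D1323 (iv D1141) D1140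
def n1324 : Q := act 8 n1141
theorem D1324 : act 8 n1141 = n1324 := rfl
theorem F6117 : act 0 n1324 = n1324 := d7_1 D1324 (iv D1324) F5302
theorem F6118 : act 2 n1324 = n1324 := d20_1 D1324 (iv D1324) F5303
theorem F6119 : act 5 n1324 = n1142 := d32_1 D1324 (iv D1142) (iv F5304)
theorem F6120 : act 7 n1324 = n1324 := d35_1 D1324 (iv D1324) (iv D1141) F4502 D1141
def n1325 : Q := act 4 n1143
theorem D1325 : act 4 n1143 = n1325 := rfl
theorem F6121 : act 0 n1325 = n1146 := d3_1 D1325 (iv D1146) (iv F5310)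
theorem F6122 : act 1 n1325 = n1325 := d10_1 D1325 (iv D1325) F5311
theorem F6123 : act 2 n1325 = n1325 := d16_1 D1325 (iv D1325) F5312
theorem F6124 : act 5 n1325 = n1325 := d26_2 D1143 D1325 (iv D1325) (iv D1143) F4515
theorem F6125 : act 8 n1325 = n1325 := d29_2 F5314 D1325 (iv D1325)
def n1326 : Q := act 6 n1143
theorem D1326 : act 6 n1143 = n1326 := rfl
theorem F6126 : act 0 n1326 = n1147 := d5_1 D1326 (iv D1147) (iv F5310)
theorem F6127 : act 1 n1326 = n1326 := d12_1 D1326 (iv D1326) F5311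
theorem F6128 : act 2 n1326 = n1326 := d18_1 D1326 (iv D1326) F5312
theorem F6129 : act 3 n1326 = n1145 := d23_1 D1326 (iv D1145) (iv F5313)
theorem F6130 : act 5 n1326 = n1151 := d30_1 D1326 (iv D1151) (iv D971) (iv F4516) D1143
theorem F6131 : act 8 n1326 = n1326 := d34_2 F5314 D1326 (iv D1326)
def n1327 : Q := act 7 n1143
theorem D1327 : act 7 n1143 = n1327 := rfl
theorem F6132 : act 0 n1327 = n1148 := d6_1 D1327 (iv D1148) (iv F5310)
theorem F6133 : act 1 n1327 = n1327 := d13_1 D1327 (iv D1327) F5311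
theorem F6134 : act 2 n1327 = n1327 := d19_1 D1327 (iv D1327) F5312
theorem F6135 : act 5 n1327 = n1144 := d31_1 D1327 (iv D1144) D1143
def n1328 : Q := act 6 n1146
theorem D1328 : act 6 n1146 = n1328 := rfl
theorem F6136 : act 1 n1328 = n1149 := d12_1 D1328 (iv D1149) (iv F5325)
theorem F6137 : act 2 n1328 = n1328 := d18_1 D1328 (iv D1328) F5326
theorem F6138 : act 4 n1328 = n1147 := d27_1 D1328 (iv D1147) D1146
theorem F6139 : act 8 n1328 = n1328 := d34_2 F5328 D1328 (iv D1328)
def n1329 : Q := act 7 n1146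
theorem D1329 : act 7 n1146 = n1329 := rfl
theorem F6140 : act 1 n1329 = n1150 := d13_1 D1329 (iv D1150) (iv F5325)
theorem F6141 : act 2 n1329 = n1329 := d19_1 D1329 (iv D1329) F5326
theorem F6142 : act 4 n1329 = n1148 := d28_1 D1329 (iv D1148) D1146
theorem F6143 : act 5 n1329 = n1329 := d31_1 D1329 (iv D1329) F5327
def n1330 : Q := act 3 n1150
theorem D1330 : act 3 n1150 = n1330 := rfl
theorem F6144 : act 0 n1330 = n1330 := d2_1 D1330 (iv D1330) F5341
theorem F6145 : act 5 n1330 = n1330 := d22_2 F5344 D1330 (iv D1330)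
def n1331 : Q := act 2 n1152
theorem D1331 : act 2 n1152 = n1331 := rfl
theorem F6146 : act 0 n1331 = n1331 := d1_1 D1331 (iv D1331) F5350
theorem F6147 : act 4 n1331 = n1331 := d16_2 F5352 D1331 (iv D1331)
theorem F6148 : act 5 n1331 = n1331 := d17_2 F5353 D1331 (iv D1331)
theorem F6149 : act 7 n1331 = n1331 := d19_2 F5354 D1331 (iv D1331)
def n1332 : Q := act 6 n1153
theorem D1332 : act 6 n1153 = n1332 := rfl
theorem F6150 : act 0 n1332 = n1197 := d5_1 D1332 (iv D1197) (iv F5355)
theorem F6151 : act 2 n1332 = n1215 := d18_1 D1332 (iv D1215) (iv F5356)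
theorem F6152 : act 3 n1332 = n1332 := d23_1 D1332 (iv D1332) F5357
theorem F6153 : act 4 n1332 = n1332 := d27_1 D1332 (iv D1332) F5358
theorem F6154 : act 5 n1332 = n1332 := d30_1 D1332 (iv D1332) (iv D1153) F4576 D1153
theorem F6155 : act 7 n1332 = n1157 := d33_2 (iv F5359) D1332 (iv D1157)
theorem F6156 : act 8 n1332 = n1332 := d34_2 F5360 D1332 (iv D1332)
def n1333 : Q := act 3 n1154
theorem D1333 : act 3 n1154 = n1333 := rfl
theorem F6157 : act 0 n1333 = n1174 := d2_1 D1333 F5446 (iv F5361)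
theorem F6158 : act 1 n1333 = n1155 := d9_1 D1333 (iv D1155) (iv F5362)
theorem F6159 : act 4 n1333 = n1333 := d21_2 D1154 D1333 (iv D1333) (iv D1154) F4580
theorem F6160 : act 6 n1333 = n1333 := d23_2 F5363 D1333 (iv D1333)
theorem F6161 : act 7 n1333 = n1170 := d24_2 (iv F5364) D1333 (iv D1170) F4643 D1009
theorem F6162 : act 8 n1333 = n1159 := d25_2 (iv F5365) D1333 (iv D1159)
def n1334 : Q := act 5 n1154
theorem D1334 : act 5 n1154 = n1334 := rfl
theorem F6163 : act 0 n1334 = n1193 := d4_1 D1334 F5531 (iv F5361)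
theorem F6164 : act 1 n1334 = n1156 := d11_1 D1334 (iv D1156) (iv F5362)
theorem F6165 : act 4 n1334 = n1334 := d26_1 D1334 (iv D1334) (iv D1154) F4581 D1154
theorem F6166 : act 7 n1334 = n1188 := d31_2 (iv F5364) D1334 (iv D1188)
theorem F6167 : act 8 n1334 = n1160 := d32_2 (iv F5365) D1334 (iv D1160)
def n1335 : Q := act 5 n1155
theorem D1335 : act 5 n1155 = n1335 := rfl
theorem F6168 : act 0 n1335 = n1198 := d4_1 D1335 (iv D1198) (iv F5366)
theorem F6169 : act 2 n1335 = n1167 := d17_1 D1335 (iv D1167) (iv F5367)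
theorem F6170 : act 3 n1335 = n1156 := d22_1 D1335 (iv D1156) D1155
theorem F6171 : act 7 n1335 = n1212 := d31_2 (iv F5370) D1335 (iv D1212)
theorem F6172 : act 8 n1335 = n1161 := d32_2 (iv F5371) D1335 (iv D1161)
def n1336 : Q := act 6 n1156
theorem D1336 : act 6 n1156 = n1336 := rfl
theorem F6173 : act 0 n1336 = n1199 := d5_1 D1336 (iv D1199) (iv F5372)
theorem F6174 : act 2 n1336 = n1157 := d18_1 D1336 (iv D1157) (iv F5373)
theorem F6175 : act 4 n1336 = n1336 := d27_1 D1336 (iv D1336) F5374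
theorem F6176 : act 5 n1336 = n1336 := d30_1 D1336 (iv D1336) (iv D1156) F4587 D1156
theorem F6177 : act 7 n1336 = n1215 := d33_2 (iv F5375) D1336 (iv D1215)
theorem F6178 : act 8 n1336 = n1163 := d34_2 (iv F5376) D1336 (iv D1163)
def n1337 : Q := act 3 n1158
theorem D1337 : act 3 n1158 = n1337 := rfl
theorem F6179 : act 0 n1337 = n1159 := d2_1 D1337 (iv D1159) (iv F5382)
theorem F6180 : act 1 n1337 = n1179 := d9_1 D1337 F5463 (iv F5383)
theorem F6181 : act 4 n1337 = n1337 := d21_2 D1158 D1337 (iv D1337) (iv D1158) F4595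
theorem F6182 : act 6 n1337 = n1337 := d23_2 F5384 D1337 (iv D1337)
theorem F6183 : act 8 n1337 = n1174 := d25_2 (iv F5386) D1337 F5446
def n1338 : Q := act 5 n1158
theorem D1338 : act 5 n1158 = n1338 := rfl
theorem F6184 : act 0 n1338 = n1160 := d4_1 D1338 (iv D1160) (iv F5382)
theorem F6185 : act 1 n1338 = n1195 := d11_1 D1338 F5540 (iv F5383)
theorem F6186 : act 4 n1338 = n1338 := d26_1 D1338 (iv D1338) (iv D1158) F4596 D1158
theorem F6187 : act 7 n1338 = n1338 := d31_2 F5385 D1338 (iv D1338)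
theorem F6188 : act 8 n1338 = n1193 := d32_2 (iv F5386) D1338 F5531
def n1339 : Q := act 2 n1159
theorem D1339 : act 2 n1159 = n1339 := rfl
theorem F6189 : act 1 n1339 = n1172 := d8_1 D1339 (iv D1172) F4644 (iv F4604) (iv F5387)
theorem F6190 : act 4 n1339 = n1339 := d16_2 F5388 D1339 (iv D1339)
theorem F6191 : act 6 n1339 = n1339 := d18_2 F5389 D1339 (iv D1339)
def n1340 : Q := act 5 n1159
theorem D1340 : act 5 n1159 = n1340 := rfl
theorem F6192 : act 1 n1340 = n1161 := d11_1 D1340 (iv D1161) (iv F5387)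
theorem F6193 : act 3 n1340 = n1160 := d22_1 D1340 (iv D1160) D1159
def n1341 : Q := act 7 n1159
theorem D1341 : act 7 n1159 = n1341 := rfl
theorem F6194 : act 1 n1341 = n1162 := d13_1 D1341 (iv D1162) (iv F5387)
theorem F6195 : act 3 n1341 = n1341 := d24_1 D1341 (iv D1341) (iv D1159) F4602 D1159
theorem F6196 : act 4 n1341 = n1341 := d28_1 D1341 (iv D1341) F5388
theorem F6197 : act 6 n1341 = n1341 := d33_1 D1341 (iv D1341) F5389
def n1342 : Q := act 6 n1160
theorem D1342 : act 6 n1160 = n1342 := rfl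
theorem F6198 : act 1 n1342 = n1163 := d12_1 D1342 (iv D1163) (iv F5390)
theorem F6199 : act 4 n1342 = n1342 := d27_1 D1342 (iv D1342) F5391
theorem F6200 : act 5 n1342 = n1342 := d30_1 D1342 (iv D1342) (iv D1160) F4601 D1160
theorem F6201 : act 7 n1342 = n1342 := d33_2 F5392 D1342 (iv D1342)
def n1343 : Q := act 4 n1161
theorem D1343 : act 4 n1161 = n1343 := rfl
theorem F6202 : act 0 n1343 = n1204 := d3_1 D1343 (iv D1204) (iv F5393)
theorem F6203 : act 2 n1343 = n1176 := d16_1 D1343 (iv D1176) (iv F5394)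
theorem F6204 : act 3 n1343 = n1343 := d21_1 D1343 (iv D1343) F5395 F4609 (iv F5395)
theorem F6205 : act 5 n1343 = n1343 := d26_2 D1161 D1343 (iv D1343) (iv D1161) F4605
def n1344 : Q := act 6 n1161
theorem D1344 : act 6 n1161 = n1344 := rfl
theorem F6206 : act 0 n1344 = n1205 := d5_1 D1344 (iv D1205) (iv F5393)
theorem F6207 : act 2 n1344 = n1177 := d18_1 D1344 (iv D1177) (iv F5394)
theorem F6208 : act 3 n1344 = n1163 := d23_1 D1344 (iv D1163) (iv F5395)
theorem F6209 : act 5 n1344 = n1344 := d30_1 D1344 (iv D1344) (iv D1161) F4606 D1161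
def n1345 : Q := act 7 n1161
theorem D1345 : act 7 n1161 = n1345 := rfl
theorem F6210 : act 0 n1345 = n1206 := d6_1 D1345 (iv D1206) (iv F5393)
theorem F6211 : act 2 n1345 = n1178 := d19_1 D1345 (iv D1178) (iv F5394)
theorem F6212 : act 3 n1345 = n1345 := d24_1 D1345 (iv D1345) F5395 F4610 (iv F5395)
theorem F6213 : act 5 n1345 = n1162 := d31_1 D1345 (iv D1162) D1161
def n1346 : Q := act 8 n1162
theorem D1346 : act 8 n1162 = n1346 := rfl
theorem F6214 : act 0 n1346 = n1200 := d7_1 D1346 F5569 (iv F5396)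
theorem F6215 : act 2 n1346 = n1179 := d20_1 D1346 (iv D1179) (iv F5397)
theorem F6216 : act 3 n1346 = n1346 := d25_1 D1346 (iv D1346) F5398
theorem F6217 : act 4 n1346 = n1346 := d29_1 D1346 (iv D1346) F5399
theorem F6218 : act 6 n1346 = n1346 := d34_1 D1346 (iv D1346) F5400
theorem F6219 : act 7 n1346 = n1207 := d35_1 D1346 F5598 (iv F5370) F5371 D1162
def n1347 : Q := act 3 n1164
theorem D1347 : act 3 n1164 = n1347 := rfl
theorem F6220 : act 0 n1347 = n1165 := d2_1 D1347 (iv D1165) (iv F5406)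
theorem F6221 : act 1 n1347 = n1207 := d9_1 D1347 (iv D1207) (iv F5407)
theorem F6222 : act 4 n1347 = n1347 := d21_2 D1164 D1347 (iv D1347) (iv D1164) F4617
theorem F6223 : act 6 n1347 = n1347 := d23_2 F5408 D1347 (iv D1347)
theorem F6224 : act 8 n1347 = n1170 := d25_2 (iv F5410) D1347 (iv D1170)
def n1348 : Q := act 5 n1164
theorem D1348 : act 5 n1164 = n1348 := rfl
theorem F6225 : act 0 n1348 = n1166 := d4_1 D1348 (iv D1166) (iv F5406)
theorem F6226 : act 1 n1348 = n1186 := d11_1 D1348 (iv F5501) (iv F5407)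
theorem F6227 : act 4 n1348 = n1180 := d26_1 D1348 (iv D1180) (iv D997) (iv F4618) D1164
theorem F6228 : act 7 n1348 = n1348 := d31_2 F5409 D1348 (iv D1348)
theorem F6229 : act 8 n1348 = n1171 := d32_2 (iv F5410) D1348 (iv D1171)
theorem F6230 : act 6 n1185 = n1348 := d27_0 F6227 F5469 D1185
def n1349 : Q := act 2 n1165
theorem D1349 : act 2 n1165 = n1349 := rfl
theorem F6231 : act 4 n1349 = n1349 := d16_2 F5412 D1349 (iv D1349)
theorem F6232 : act 6 n1349 = n1349 := d18_2 F5413 D1349 (iv D1349)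
theorem F6233 : act 8 n1349 = n1172 := d20_2 (iv F5414) D1349 (iv D1172)
def n1350 : Q := act 5 n1165
theorem D1350 : act 5 n1165 = n1350 := rfl
theorem F6234 : act 1 n1350 = n1167 := d11_1 D1350 (iv D1167) (iv F5411)
theorem F6235 : act 3 n1350 = n1166 := d22_1 D1350 (iv D1166) D1165
theorem F6236 : act 8 n1350 = n1173 := d32_2 (iv F5414) D1350 (iv D1173)
def n1351 : Q := act 7 n1165
theorem D1351 : act 7 n1165 = n1351 := rfl
theorem F6237 : act 1 n1351 = n1168 := d13_1 D1351 (iv D1168) (iv F5411)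
theorem F6238 : act 3 n1351 = n1351 := d24_1 D1351 (iv D1351) (iv D1165) F4624 D1165
theorem F6239 : act 4 n1351 = n1351 := d28_1 D1351 (iv D1351) F5412
theorem F6240 : act 6 n1351 = n1351 := d33_1 D1351 (iv D1351) F5413
def n1352 : Q := act 6 n1166
theorem D1352 : act 6 n1166 = n1352 := rfl
theorem F6241 : act 0 n1352 = n1185 := d5_1 D1352 F6230 F6225
theorem F6242 : act 1 n1352 = n1169 := d12_1 D1352 (iv D1169) (iv F5415)
theorem F6243 : act 4 n1352 = n1182 := d27_1 D1352 (iv D1182) (iv F5416)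
theorem F6244 : act 5 n1352 = n1352 := d30_1 D1352 (iv D1352) (iv D1166) F4623 D1166
theorem F6245 : act 7 n1352 = n1352 := d33_2 F5417 D1352 (iv D1352)
theorem F6246 : act 8 n1352 = n1175 := d34_2 (iv F5418) D1352 (iv D1175)
def n1353 : Q := act 4 n1167
theorem D1353 : act 4 n1167 = n1353 := rfl
theorem F6247 : act 0 n1353 = n1209 := d3_1 D1353 (iv D1209) (iv F5419)
theorem F6248 : act 3 n1353 = n1183 := d21_1 D1353 (iv D1183) F4678 (iv F4632) (iv F5420)
theorem F6249 : act 5 n1353 = n1353 := d26_2 D1167 D1353 (iv D1353) (iv D1167) F4627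
theorem F6250 : act 8 n1353 = n1176 := d29_2 (iv F5421) D1353 (iv D1176)
theorem F6251 : act 6 n1212 = n1353 := d23_0 F6248 F5487 (iv F5618)
def n1354 : Q := act 6 n1167
theorem D1354 : act 6 n1167 = n1354 := rfl
theorem F6252 : act 0 n1354 = n1210 := d5_1 D1354 (iv D1210) (iv F5419)
theorem F6253 : act 3 n1354 = n1169 := d23_1 D1354 (iv D1169) (iv F5420)
theorem F6254 : act 4 n1354 = n1212 := d27_1 D1354 F6251 (iv D1353)
theorem F6255 : act 5 n1354 = n1354 := d30_1 D1354 (iv D1354) (iv D1167) F4628 D1167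
theorem F6256 : act 8 n1354 = n1177 := d34_2 (iv F5421) D1354 (iv D1177)
def n1355 : Q := act 7 n1167
theorem D1355 : act 7 n1167 = n1355 := rfl
theorem F6257 : act 0 n1355 = n1211 := d6_1 D1355 (iv D1211) (iv F5419)
theorem F6258 : act 2 n1355 = n1212 := d19_1 D1355 (iv F6171) F6169
theorem F6259 : act 3 n1355 = n1355 := d24_1 D1355 (iv D1355) F5420 F4633 (iv F5420)
theorem F6260 : act 5 n1355 = n1168 := d31_1 D1355 (iv D1168) D1167
def n1356 : Q := act 8 n1168
theorem D1356 : act 8 n1168 = n1356 := rfl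
theorem F6261 : act 0 n1356 = n1202 := d7_1 D1356 F5579 (iv F5422)
theorem F6262 : act 2 n1356 = n1207 := d20_1 D1356 F5598 (iv F5423)
theorem F6263 : act 3 n1356 = n1356 := d25_1 D1356 (iv D1356) F5424
theorem F6264 : act 4 n1356 = n1356 := d29_1 D1356 (iv D1356) F5425
theorem F6265 : act 6 n1356 = n1356 := d34_1 D1356 (iv D1356) F5426
theorem F6266 : act 7 n1356 = n1179 := d35_1 D1356 (iv D1179) (iv D995) (iv F4629) D1168
def n1357 : Q := act 2 n1170
theorem D1357 : act 2 n1170 = n1357 := rfl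
theorem F6267 : act 0 n1357 = n1172 := d1_1 D1357 (iv D1172) (iv F5433)
theorem F6268 : act 4 n1357 = n1357 := d16_2 F5435 D1357 (iv D1357)
theorem F6269 : act 6 n1357 = n1357 := d18_2 F5436 D1357 (iv D1357)
def n1358 : Q := act 5 n1170
theorem D1358 : act 5 n1170 = n1358 := rfl
theorem F6270 : act 0 n1358 = n1173 := d4_1 D1358 (iv D1173) (iv F5433)
theorem F6271 : act 1 n1358 = n1212 := d11_1 D1358 (iv D1212) (iv F5434)
theorem F6272 : act 3 n1358 = n1171 := d22_1 D1358 (iv D1171) D1170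
def n1359 : Q := act 6 n1171
theorem D1359 : act 6 n1171 = n1359 := rfl
theorem F6273 : act 0 n1359 = n1175 := d5_1 D1359 (iv D1175) (iv F5437)
theorem F6274 : act 1 n1359 = n1183 := d12_1 D1359 F5487 (iv F5438)
theorem F6275 : act 4 n1359 = n1181 := d27_1 D1359 F5475 (iv F5439)
theorem F6276 : act 5 n1359 = n1359 := d30_1 D1359 (iv D1359) (iv D1171) F4642 D1171
theorem F6277 : act 7 n1359 = n1189 := d33_2 (iv F5440) D1359 (iv D1189)
theorem F6278 : act 8 n1359 = n1185 := d34_2 F6229 D1359 F6230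
def n1360 : Q := act 5 n1172
theorem D1360 : act 5 n1172 = n1360 := rfl
theorem F6279 : act 2 n1360 = n1173 := d17_1 D1360 (iv D1173) D1172
def n1361 : Q := act 7 n1172
theorem D1361 : act 7 n1172 = n1361 := rfl
theorem F6280 : act 2 n1361 = n1174 := d19_1 D1361 (iv D1174) D1172
theorem F6281 : act 4 n1361 = n1361 := d28_1 D1361 (iv D1361) F5441
theorem F6282 : act 6 n1361 = n1361 := d33_1 D1361 (iv D1361) F5442
def n1362 : Q := act 4 n1173
theorem D1362 : act 4 n1173 = n1362 := rfl
theorem F6283 : act 1 n1362 = n1176 := d10_1 D1362 (iv D1176) (iv F5443)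
theorem F6284 : act 3 n1362 = n1185 := d21_1 D1362 (iv D1185) F4702 (iv F4648) (iv F5444)
theorem F6285 : act 5 n1362 = n1362 := d26_2 D1173 D1362 (iv D1362) (iv D1173) F4645
def n1363 : Q := act 6 n1173
theorem D1363 : act 6 n1173 = n1363 := rfl
theorem F6286 : act 1 n1363 = n1177 := d12_1 D1363 (iv D1177) (iv F5443)
theorem F6287 : act 3 n1363 = n1175 := d23_1 D1363 (iv D1175) (iv F5444)
theorem F6288 : act 5 n1363 = n1363 := d30_1 D1363 (iv D1363) (iv D1173) F4646 D1173
def n1364 : Q := act 7 n1173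
theorem D1364 : act 7 n1173 = n1364 := rfl
theorem F6289 : act 1 n1364 = n1178 := d13_1 D1364 (iv D1178) (iv F5443)
theorem F6290 : act 3 n1364 = n1193 := d24_1 D1364 (iv D1193) F4731 (iv F4649) (iv F5444)
theorem F6291 : act 5 n1364 = n1174 := d31_1 D1364 (iv D1174) D1173
def n1365 : Q := act 6 n1176
theorem D1365 : act 6 n1176 = n1365 := rfl
theorem F6292 : act 0 n1365 = n1208 := d5_1 D1365 (iv F5603) (iv F5453)
theorem F6293 : act 3 n1365 = n1186 := d23_1 D1365 (iv D1186) (iv F5454)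
theorem F6294 : act 4 n1365 = n1177 := d27_1 D1365 (iv D1177) D1176
theorem F6295 : act 8 n1365 = n1212 := d34_2 F6250 D1365 F6251
theorem F6296 : act 5 n1207 = n1365 := d32_3 F6295 (iv D1212) (iv F5598)
def n1366 : Q := act 7 n1176
theorem D1366 : act 7 n1176 = n1366 := rfl
theorem F6297 : act 0 n1366 = n1213 := d6_1 D1366 (iv D1213) (iv F5453)
theorem F6298 : act 3 n1366 = n1366 := d24_1 D1366 (iv D1366) F5454 F4710 (iv F5454)
theorem F6299 : act 4 n1366 = n1178 := d28_1 D1366 (iv D1178) D1176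
theorem F6300 : act 5 n1366 = n1366 := d31_1 D1366 (iv D1366) F5455
def n1367 : Q := act 7 n1177
theorem D1367 : act 7 n1177 = n1367 := rfl
theorem F6301 : act 0 n1367 = n1214 := d6_1 D1367 (iv D1214) (iv F5456)
theorem F6302 : act 3 n1367 = n1194 := d24_1 D1367 (iv D1194) F4743 (iv F4660) (iv F5457)
theorem F6303 : act 5 n1367 = n1367 := d31_1 D1367 (iv D1367) F5458
theorem F6304 : act 6 n1367 = n1178 := d33_1 D1367 (iv D1178) D1177
def n1368 : Q := act 8 n1178
theorem D1368 : act 8 n1178 = n1368 := rfl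
theorem F6305 : act 0 n1368 = n1201 := d7_1 D1368 F5573 (iv F5459)
theorem F6306 : act 3 n1368 = n1195 := d25_1 D1368 (iv D1195) (iv F5460)
theorem F6307 : act 5 n1368 = n1179 := d32_1 D1368 (iv D1179) (iv F5461)
def n1369 : Q := act 4 n1184
theorem D1369 : act 4 n1184 = n1369 := rfl
theorem F6308 : act 1 n1369 = n1369 := d10_1 D1369 (iv D1369) F5490
theorem F6309 : act 2 n1369 = n1185 := d16_1 D1369 (iv D1185) (iv F5491)
theorem F6310 : act 5 n1369 = n1369 := d26_2 D1184 D1369 (iv D1369) (iv D1184) F4698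
theorem F6311 : act 7 n1369 = n1369 := d28_2 F5492 D1369 (iv D1369)
def n1370 : Q := act 5 n1187
theorem D1370 : act 5 n1187 = n1370 := rfl
theorem F6312 : act 0 n1370 = n1190 := d4_1 D1370 (iv D1190) (iv F5502)
theorem F6313 : act 2 n1370 = n1188 := d17_1 D1370 (iv D1188) D1187
theorem F6314 : act 4 n1370 = n1370 := d26_1 D1370 (iv D1370) F5503 F4763 (iv F5503)
theorem F6315 : act 8 n1370 = n1370 := d32_2 F5505 D1370 (iv D1370)
def n1371 : Q := act 6 n1188
theorem D1371 : act 6 n1188 = n1371 := rfl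
theorem F6316 : act 0 n1371 = n1192 := d5_1 D1371 (iv D1192) (iv F5506)
theorem F6317 : act 1 n1371 = n1215 := d12_1 D1371 (iv D1215) (iv F5507)
theorem F6318 : act 3 n1371 = n1189 := d23_1 D1371 (iv D1189) (iv F5508)
theorem F6319 : act 4 n1371 = n1371 := d27_1 D1371 (iv D1371) F5509
theorem F6320 : act 5 n1371 = n1371 := d30_1 D1371 (iv D1371) (iv D1188) F4720 D1188
theorem F6321 : act 8 n1371 = n1371 := d34_2 F5510 D1371 (iv D1371)
def n1372 : Q := act 6 n1190
theorem D1372 : act 6 n1190 = n1372 := rfl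
theorem F6322 : act 1 n1372 = n1372 := d12_1 D1372 (iv D1372) F5516
theorem F6323 : act 2 n1372 = n1192 := d18_1 D1372 (iv D1192) (iv F5517)
theorem F6324 : act 4 n1372 = n1372 := d27_1 D1372 (iv D1372) F5518
theorem F6325 : act 5 n1372 = n1372 := d30_1 D1372 (iv D1372) (iv D1190) F4728 D1190
theorem F6326 : act 8 n1372 = n1372 := d34_2 F5519 D1372 (iv D1372)
def n1373 : Q := act 7 n1190
theorem D1373 : act 7 n1190 = n1373 := rfl
theorem F6327 : act 1 n1373 = n1373 := d13_1 D1373 (iv D1373) F5516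
theorem F6328 : act 2 n1373 = n1193 := d19_1 D1373 (iv D1193) (iv F5517)
theorem F6329 : act 4 n1373 = n1373 := d28_1 D1373 (iv D1373) F5518
theorem F6330 : act 5 n1373 = n1191 := d31_1 D1373 (iv D1191) D1190
def n1374 : Q := act 3 n1191
theorem D1374 : act 3 n1191 = n1374 := rfl
theorem F6331 : act 1 n1374 = n1374 := d9_1 D1374 (iv D1374) F5520
theorem F6332 : act 6 n1374 = n1374 := d23_2 F5523 D1374 (iv D1374)
def n1375 : Q := act 7 n1192
theorem D1375 : act 7 n1192 = n1375 := rfl
theorem F6333 : act 1 n1375 = n1194 := d13_1 D1375 (iv D1194) (iv F5524)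
theorem F6334 : act 4 n1375 = n1375 := d28_1 D1375 (iv D1375) F5526
theorem F6335 : act 5 n1375 = n1375 := d31_1 D1375 (iv D1375) F5527
theorem F6336 : act 6 n1375 = n1193 := d33_1 D1375 (iv D1193) D1192
def n1376 : Q := act 8 n1194
theorem D1376 : act 8 n1194 = n1376 := rfl
theorem F6337 : act 0 n1376 = n1203 := d7_1 D1376 F5585 (iv F5532)
theorem F6338 : act 2 n1376 = n1376 := d20_1 D1376 (iv D1376) F5533
theorem F6339 : act 4 n1376 = n1376 := d29_1 D1376 (iv D1376) F5534
theorem F6340 : act 5 n1376 = n1376 := d32_1 D1376 (iv D1376) F5535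
theorem F6341 : act 6 n1376 = n1195 := d34_1 D1376 (iv D1195) (iv F5536)
theorem F6342 : act 7 n1376 = n1376 := d35_1 D1376 (iv D1376) (iv D1194) F4746 D1194
def n1377 : Q := act 4 n1196
theorem D1377 : act 4 n1196 = n1377 := rfl
theorem F6343 : act 1 n1377 = n1377 := d10_1 D1377 (iv D1377) F5542
theorem F6344 : act 2 n1377 = n1377 := d16_1 D1377 (iv D1377) F5543
theorem F6345 : act 6 n1377 = n1377 := d27_2 F5545 D1377 (iv D1377)
theorem F6346 : act 7 n1377 = n1377 := d28_2 F5546 D1377 (iv D1377)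
def n1378 : Q := act 4 n1198
theorem D1378 : act 4 n1198 = n1378 := rfl
theorem F6347 : act 1 n1378 = n1213 := d10_1 D1378 F5620 (iv F5554)
theorem F6348 : act 2 n1378 = n1209 := d16_1 D1378 (iv D1209) (iv F5555)
theorem F6349 : act 3 n1378 = n1378 := d21_1 D1378 (iv D1378) F5556 F4784 (iv F5556)
theorem F6350 : act 5 n1378 = n1378 := d26_2 D1198 D1378 (iv D1378) (iv D1198) F4778
theorem F6351 : act 7 n1378 = n1210 := d28_2 (iv F5557) D1378 F5611
theorem F6352 : act 8 n1378 = n1204 := d29_2 (iv F5558) D1378 (iv D1204)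
theorem F6353 : act 6 n1211 = n1378 := d33_3 F6351 (iv D1210) D1211
def n1379 : Q := act 6 n1198
theorem D1379 : act 6 n1198 = n1379 := rfl
theorem F6354 : act 1 n1379 = n1214 := d12_1 D1379 F5624 (iv F5554)
theorem F6355 : act 2 n1379 = n1210 := d18_1 D1379 (iv D1210) (iv F5555)
theorem F6356 : act 3 n1379 = n1199 := d23_1 D1379 (iv D1199) (iv F5556)
theorem F6357 : act 4 n1379 = n1211 := d27_1 D1379 F6353 (iv D1378)
theorem F6358 : act 5 n1379 = n1379 := d30_1 D1379 (iv D1379) (iv D1198) F4779 D1198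
theorem F6359 : act 7 n1379 = n1209 := d33_2 (iv F5557) D1379 (iv F5608)
theorem F6360 : act 8 n1379 = n1205 := d34_2 (iv F5558) D1379 (iv D1205)
def n1380 : Q := act 5 n1200
theorem D1380 : act 5 n1200 = n1380 := rfl
theorem F6361 : act 1 n1380 = n1211 := d11_1 D1380 F5616 (iv F5565)
theorem F6362 : act 2 n1380 = n1201 := d17_1 D1380 (iv D1201) D1200
theorem F6363 : act 3 n1380 = n1380 := d22_1 D1380 (iv D1380) F5566
theorem F6364 : act 7 n1380 = n1208 := d31_2 F5570 D1380 (iv D1208)
theorem F6365 : act 8 n1380 = n1206 := d32_2 (iv F5569) D1380 F5594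
theorem F6366 : act 4 n1380 = n1214 := d38_3 F5570 F5568 D1380 F5622 F4873 (iv F5559) F5563 (iv D1045) (iv D885) F3522 (iv D601) F2292 F2153 F1755 F1754 F1753 (iv D356) F1417 (iv D285) (iv F1240) F1243 F1242 F1241 F1026 (iv D205) (iv F998) F997 (iv D199) F825 F676 F675 F564 F563 F455 D108 (iv F663) F662 (iv F795) D191 D233 D287 F1431 F1430 F1174 F1173 F1172 (iv F1249) (iv D251) F1032 (iv F1246) (iv F1509) D382 D478 F2297 (iv F2871) F3481 F3413 F3412 D861 D1022 F4777 (iv F4816)
theorem F6367 : act 6 n1213 = n1380 := d27_0 F6366 F5624 (iv F5620)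
def n1381 : Q := act 4 n1201
theorem D1381 : act 4 n1201 = n1381 := rfl
theorem F6368 : act 1 n1381 = n1204 := d10_1 D1381 (iv D1204) (iv F5571)
theorem F6369 : act 2 n1381 = n1214 := d16_1 D1381 (iv F6366) F6362
theorem F6370 : act 3 n1381 = n1381 := d21_1 D1381 (iv D1381) F5572 F4798 (iv F5572)
theorem F6371 : act 5 n1381 = n1381 := d26_2 D1201 D1381 (iv D1381) (iv D1201) F4793
theorem F6372 : act 8 n1381 = n1213 := d29_2 (iv F5573) D1381 F5620
theorem F6373 : act 6 n1206 = n1381 := d34_3 F6372 F6367 F6365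
theorem F6374 : act 7 n1205 = n1381 := d35_5 F6372 (iv D1213) (iv F5607) (iv F6359) F6360
def n1382 : Q := act 6 n1201
theorem D1382 : act 6 n1201 = n1382 := rfl
theorem F6375 : act 1 n1382 = n1205 := d12_1 D1382 (iv D1205) (iv F5571)
theorem F6376 : act 2 n1382 = n1213 := d18_1 D1382 F6367 F6362
theorem F6377 : act 3 n1382 = n1203 := d23_1 D1382 (iv D1203) (iv F5572)
theorem F6378 : act 4 n1382 = n1206 := d27_1 D1382 F6373 (iv D1381)
theorem F6379 : act 5 n1382 = n1382 := d30_1 D1382 (iv D1382) (iv D1201) F4794 D1201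
theorem F6380 : act 8 n1382 = n1214 := d34_2 (iv F5573) D1382 F5624
theorem F6381 : act 7 n1204 = n1382 := d38_0 (iv D1382) (iv D1201) F4793 (iv D1025) F4082 F4081 F3426 F3425 D865 F4090 (iv F4802) F4801 (iv F4845) (iv F5557) D1379 F6358 F6357 F5615 F5614 F4845 D1042 (iv F5624) F5623 (iv F6366) F6363 F6362 F5571 D1206 F6373 F6371 (iv D1381) F5572 F4797 F4796 F4091 D1029 F4809 F4808 (iv F5590) F5589 (iv F5604) (iv F6359) (iv D1379) (iv D1198) F4778 (iv D1022) F4073 F3415 (iv F4070) F4069 D1021 F4773 F4772 F4771 F4171 D888 (iv F4876) F4875 F4874 (iv F5622) (iv F6369) F6368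
def n1383 : Q := act 7 n1201
theorem D1383 : act 7 n1201 = n1383 := rfl
theorem F6382 : act 1 n1383 = n1206 := d13_1 D1383 (iv D1206) (iv F5571)
theorem F6383 : act 2 n1383 = n1208 := d19_1 D1383 (iv F6364) F6362
theorem F6384 : act 3 n1383 = n1383 := d24_1 D1383 (iv D1383) F5572 F4799 (iv F5572)
theorem F6385 : act 4 n1383 = n1205 := d28_1 D1383 F6374 (iv D1381)
theorem F6386 : act 5 n1383 = n1202 := d31_1 D1383 (iv D1202) D1201
theorem F6387 : act 6 n1383 = n1204 := d33_1 D1383 F6381 (iv D1382)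
theorem F6388 : act 8 n1383 = n1211 := d35_2 (iv F5573) D1383 (iv D1211) F4827 D1042
def n1384 : Q := act 0 n1216
theorem D1384 : act 0 n1216 = n1384 := rfl
theorem F6389 : act 1 n1384 = n1384 := d0_2 D1216 D1384 (iv D1384) (iv D1216) F4877
theorem F6390 : act 2 n1384 = n1384 := d1_2 F5630 D1384 (iv D1384)
theorem F6391 : act 3 n1384 = n1384 := d2_2 F5631 D1384 (iv D1384)
theorem F6392 : act 5 n1384 = n1384 := d4_2 F5632 D1384 (iv D1384)
theorem F6393 : act 6 n1384 = n1384 := d5_2 F5633 D1384 (iv D1384)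
theorem F6394 : act 7 n1384 = n1222 := d6_2 (iv F5634) D1384 (iv D1222)
theorem F6395 : act 8 n1384 = n1384 := d7_2 F5635 D1384 (iv D1384)
def n1385 : Q := act 4 n1216
theorem D1385 : act 4 n1216 = n1385 := rfl
theorem F6396 : act 1 n1385 = n1217 := d10_1 D1385 (iv D1217) D1216
theorem F6397 : act 2 n1385 = n1385 := d16_1 D1385 (iv D1385) F5630
theorem F6398 : act 6 n1385 = n1385 := d27_2 F5633 D1385 (iv D1385)
theorem F6399 : act 7 n1385 = n1223 := d28_2 (iv F5634) D1385 (iv D1223)
theorem F6400 : act 8 n1385 = n1385 := d29_2 F5635 D1385 (iv D1385)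
def n1386 : Q := act 3 n1217
theorem D1386 : act 3 n1217 = n1386 := rfl
theorem F6401 : act 0 n1386 = n1386 := d2_1 D1386 (iv D1386) F5636
theorem F6402 : act 2 n1386 = n1386 := d15_1 D1386 (iv D1386) F5637 F4885 (iv F5637)
theorem F6403 : act 4 n1386 = n1386 := d21_2 D1217 D1386 (iv D1386) (iv D1217) F4878
theorem F6404 : act 6 n1386 = n1386 := d23_2 F5638 D1386 (iv D1386)
theorem F6405 : act 8 n1386 = n1386 := d25_2 F5640 D1386 (iv D1386)
def n1387 : Q := act 5 n1217
theorem D1387 : act 5 n1217 = n1387 := rfl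
theorem F6406 : act 0 n1387 = n1387 := d4_1 D1387 (iv D1387) F5636
theorem F6407 : act 2 n1387 = n1218 := d17_1 D1387 (iv D1218) (iv F5637)
theorem F6408 : act 4 n1387 = n1387 := d26_1 D1387 (iv D1387) (iv D1217) F4879 D1217
theorem F6409 : act 7 n1387 = n1225 := d31_2 (iv F5639) D1387 (iv D1225)
theorem F6410 : act 8 n1387 = n1387 := d32_2 F5640 D1387 (iv D1387)
def n1388 : Q := act 6 n1218
theorem D1388 : act 6 n1218 = n1388 := rfl
theorem F6411 : act 0 n1388 = n1388 := d5_1 D1388 (iv D1388) F5641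
theorem F6412 : act 1 n1388 = n1388 := d12_1 D1388 (iv D1388) F5642
theorem F6413 : act 3 n1388 = n1388 := d23_1 D1388 (iv D1388) F5643
theorem F6414 : act 4 n1388 = n1388 := d27_1 D1388 (iv D1388) F5644
theorem F6415 : act 5 n1388 = n1388 := d30_1 D1388 (iv D1388) (iv D1218) F4886 D1218
theorem F6416 : act 7 n1388 = n1226 := d33_2 (iv F5645) D1388 (iv D1226)
theorem F6417 : act 8 n1388 = n1388 := d34_2 F5646 D1388 (iv D1388)
def n1389 : Q := act 4 n1219
theorem D1389 : act 4 n1219 = n1389 := rfl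
theorem F6418 : act 0 n1389 = n1377 := d3_1 D1389 (iv D1377) F5653
theorem F6419 : act 1 n1389 = n1220 := d10_1 D1389 (iv D1220) D1219
theorem F6420 : act 2 n1389 = n1389 := d16_1 D1389 (iv D1389) F5647
theorem F6421 : act 6 n1389 = n1389 := d27_2 F5650 D1389 (iv D1389)
theorem F6422 : act 7 n1389 = n1389 := d28_2 F5651 D1389 (iv D1389)
theorem F6423 : act 8 n1389 = n1223 := d29_2 (iv F5652) D1389 (iv D1223)
def n1390 : Q := act 3 n1220
theorem D1390 : act 3 n1220 = n1390 := rfl
theorem F6424 : act 0 n1390 = n1390 := d2_1 D1390 (iv D1390) F5654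
theorem F6425 : act 2 n1390 = n1231 := d15_1 D1390 (iv D1231) F4931 (iv F4897) (iv F5655)
theorem F6426 : act 4 n1390 = n1266 := d21_2 D1220 D1390 (iv D1266) (iv D1090) (iv F4890)
theorem F6427 : act 6 n1390 = n1390 := d23_2 F5656 D1390 (iv D1390)
theorem F6428 : act 8 n1390 = n1224 := d25_2 (iv F5658) D1390 (iv D1224)
def n1391 : Q := act 5 n1220
theorem D1391 : act 5 n1220 = n1391 := rfl
theorem F6429 : act 0 n1391 = n1391 := d4_1 D1391 (iv D1391) F5654
theorem F6430 : act 2 n1391 = n1221 := d17_1 D1391 (iv D1221) (iv F5655)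
theorem F6431 : act 4 n1391 = n1391 := d26_1 D1391 (iv D1391) (iv D1220) F4891 D1220
theorem F6432 : act 7 n1391 = n1391 := d31_2 F5657 D1391 (iv D1391)
theorem F6433 : act 8 n1391 = n1225 := d32_2 (iv F5658) D1391 (iv D1225)
theorem F6434 : act 6 n1331 = n1391 := d18_0 F6430 (iv F5665) D1331
def n1392 : Q := act 4 n1222
theorem D1392 : act 4 n1222 = n1392 := rfl
theorem F6435 : act 0 n1392 = n1223 := d3_1 D1392 (iv D1223) D1222
theorem F6436 : act 1 n1392 = n1392 := d10_1 D1392 (iv D1392) F5666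
theorem F6437 : act 2 n1392 = n1392 := d16_1 D1392 (iv D1392) F5667
theorem F6438 : act 6 n1392 = n1392 := d27_2 F5670 D1392 (iv D1392)
theorem F6439 : act 8 n1392 = n1377 := d29_2 (iv F5671) D1392 (iv D1377)
def n1393 : Q := act 3 n1223
theorem D1393 : act 3 n1223 = n1393 := rfl
theorem F6440 : act 1 n1393 = n1224 := d9_1 D1393 (iv D1224) (iv F5672)
theorem F6441 : act 4 n1393 = n1270 := d21_2 D1223 D1393 (iv D1270) (iv D1093) (iv F4902)
theorem F6442 : act 6 n1393 = n1393 := d23_2 F5674 D1393 (iv D1393)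
def n1394 : Q := act 5 n1223
theorem D1394 : act 5 n1223 = n1394 := rfl
theorem F6443 : act 1 n1394 = n1225 := d11_1 D1394 (iv D1225) (iv F5672)
theorem F6444 : act 2 n1394 = n1394 := d17_1 D1394 (iv D1394) F5673
theorem F6445 : act 4 n1394 = n1394 := d26_1 D1394 (iv D1394) (iv D1223) F4903 D1223
def n1395 : Q := act 5 n1224
theorem D1395 : act 5 n1224 = n1395 := rfl
theorem F6446 : act 0 n1395 = n1395 := d4_1 D1395 (iv D1395) F5675
theorem F6447 : act 2 n1395 = n1236 := d17_1 D1395 (iv D1236) (iv F5676)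
theorem F6448 : act 3 n1395 = n1225 := d22_1 D1395 (iv D1225) D1224
def n1396 : Q := act 7 n1224
theorem D1396 : act 7 n1224 = n1396 := rfl
theorem F6449 : act 0 n1396 = n1396 := d6_1 D1396 (iv D1396) F5675
theorem F6450 : act 2 n1396 = n1237 := d19_1 D1396 (iv D1237) (iv F5676)
theorem F6451 : act 4 n1396 = n1273 := d28_1 D1396 (iv D1273) (iv F5677)
theorem F6452 : act 6 n1396 = n1396 := d33_1 D1396 (iv D1396) F5678
def n1397 : Q := act 6 n1225
theorem D1397 : act 6 n1225 = n1397 := rfl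
theorem F6453 : act 0 n1397 = n1397 := d5_1 D1397 (iv D1397) F5679
theorem F6454 : act 2 n1397 = n1226 := d18_1 D1397 (iv D1226) (iv F5680)
theorem F6455 : act 4 n1397 = n1397 := d27_1 D1397 (iv D1397) F5681
theorem F6456 : act 5 n1397 = n1397 := d30_1 D1397 (iv D1397) (iv D1225) F4907 D1225
theorem F6457 : act 8 n1397 = n1331 := d34_2 F6433 D1397 F6434
def n1398 : Q := act 0 n1227
theorem D1398 : act 0 n1227 = n1398 := rfl
theorem F6458 : act 1 n1398 = n1398 := d0_2 D1227 D1398 (iv D1398) (iv D1227) F4912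
theorem F6459 : act 2 n1398 = n1398 := d1_2 F5688 D1398 (iv D1398)
theorem F6460 : act 3 n1398 = n1398 := d2_2 F5689 D1398 (iv D1398)
theorem F6461 : act 5 n1398 = n1239 := d4_2 (iv F5690) D1398 (iv D1239)
theorem F6462 : act 6 n1398 = n1398 := d5_2 F5691 D1398 (iv D1398)
theorem F6463 : act 7 n1398 = n1229 := d6_2 (iv F5692) D1398 (iv D1229)
theorem F6464 : act 8 n1398 = n1398 := d7_2 F5693 D1398 (iv D1398)
def n1399 : Q := act 4 n1227
theorem D1399 : act 4 n1227 = n1399 := rfl
theorem F6465 : act 1 n1399 = n1228 := d10_1 D1399 (iv D1228) D1227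
theorem F6466 : act 2 n1399 = n1399 := d16_1 D1399 (iv D1399) F5688
theorem F6467 : act 5 n1399 = n1328 := d26_2 (iv F5690) D1399 F6138 F5332 (iv F4965)
theorem F6468 : act 6 n1399 = n1399 := d27_2 F5691 D1399 (iv D1399)
theorem F6469 : act 7 n1399 = n1230 := d28_2 (iv F5692) D1399 (iv D1230)
theorem F6470 : act 8 n1399 = n1399 := d29_2 F5693 D1399 (iv D1399)
def n1400 : Q := act 3 n1228
theorem D1400 : act 3 n1228 = n1400 := rfl
theorem F6471 : act 0 n1400 = n1400 := d2_1 D1400 (iv D1400) F5694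
theorem F6472 : act 2 n1400 = n1400 := d15_1 D1400 (iv D1400) F5695 F4920 (iv F5695)
theorem F6473 : act 4 n1400 = n1400 := d21_2 D1228 D1400 (iv D1400) (iv D1228) F4913
theorem F6474 : act 5 n1400 = n1321 := d22_2 (iv F5696) D1400 F6106
theorem F6475 : act 6 n1400 = n1400 := d23_2 F5697 D1400 (iv D1400)
theorem F6476 : act 8 n1400 = n1400 := d25_2 F5699 D1400 (iv D1400)
def n1401 : Q := act 4 n1229
theorem D1401 : act 4 n1229 = n1401 := rfl
theorem F6477 : act 0 n1401 = n1230 := d3_1 D1401 (iv D1230) D1229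
theorem F6478 : act 1 n1401 = n1401 := d10_1 D1401 (iv D1401) F5700
theorem F6479 : act 2 n1401 = n1401 := d16_1 D1401 (iv D1401) F5701
theorem F6480 : act 6 n1401 = n1401 := d27_2 F5704 D1401 (iv D1401)
theorem F6481 : act 8 n1401 = n1233 := d29_2 (iv F5705) D1401 (iv D1233)
def n1402 : Q := act 3 n1230
theorem D1402 : act 3 n1230 = n1402 := rfl
theorem F6482 : act 1 n1402 = n1231 := d9_1 D1402 (iv D1231) (iv F5706)
theorem F6483 : act 4 n1402 = n1276 := d21_2 D1230 D1402 (iv D1276) (iv D1098) (iv F4926)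
theorem F6484 : act 6 n1402 = n1402 := d23_2 F5708 D1402 (iv D1402)
theorem F6485 : act 8 n1402 = n1234 := d25_2 (iv F5709) D1402 (iv D1234)
def n1403 : Q := act 5 n1230
theorem D1403 : act 5 n1230 = n1403 := rfl
theorem F6486 : act 1 n1403 = n1232 := d11_1 D1403 (iv D1232) (iv F5706)
theorem F6487 : act 2 n1403 = n1403 := d17_1 D1403 (iv D1403) F5707
theorem F6488 : act 4 n1403 = n1242 := d26_1 D1403 (iv D1242) (iv D1066) (iv F4927) D1230
theorem F6489 : act 7 n1403 = n1328 := d31_2 F6469 D1403 (iv F6467)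
theorem F6490 : act 8 n1403 = n1235 := d32_2 (iv F5709) D1403 (iv D1235)
theorem F6491 : act 6 n1329 = n1403 := d33_3 F6489 (iv D1328) D1329
def n1404 : Q := act 5 n1231
theorem D1404 : act 5 n1231 = n1404 := rfl
theorem F6492 : act 0 n1404 = n1404 := d4_1 D1404 (iv D1404) F5710
theorem F6493 : act 3 n1404 = n1232 := d22_1 D1404 (iv D1232) D1231
theorem F6494 : act 8 n1404 = n1236 := d32_2 (iv F5713) D1404 (iv D1236)
theorem F6495 : act 6 n1330 = n1404 := d23_0 F6493 (iv F5719) D1330
def n1405 : Q := act 7 n1231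
theorem D1405 : act 7 n1231 = n1405 := rfl
theorem F6496 : act 0 n1405 = n1405 := d6_1 D1405 (iv D1405) F5710
theorem F6497 : act 4 n1405 = n1279 := d28_1 D1405 (iv D1279) (iv F5711)
theorem F6498 : act 6 n1405 = n1405 := d33_1 D1405 (iv D1405) F5712
def n1406 : Q := act 3 n1233
theorem D1406 : act 3 n1233 = n1406 := rfl
theorem F6499 : act 0 n1406 = n1234 := d2_1 D1406 (iv D1234) (iv F5720)
theorem F6500 : act 1 n1406 = n1406 := d9_1 D1406 (iv D1406) F5721
theorem F6501 : act 4 n1406 = n1281 := d21_2 D1233 D1406 (iv D1281) (iv D1102) (iv F4942)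
theorem F6502 : act 6 n1406 = n1406 := d23_2 F5723 D1406 (iv D1406)
def n1407 : Q := act 5 n1233
theorem D1407 : act 5 n1233 = n1407 := rfl
theorem F6503 : act 0 n1407 = n1235 := d4_1 D1407 (iv D1235) (iv F5720)
theorem F6504 : act 1 n1407 = n1407 := d11_1 D1407 (iv D1407) F5721
theorem F6505 : act 2 n1407 = n1407 := d17_1 D1407 (iv D1407) F5722
theorem F6506 : act 4 n1407 = n1245 := d26_1 D1407 (iv D1245) (iv D1069) (iv F4943) D1233
theorem F6507 : act 7 n1407 = n1407 := d31_2 F5724 D1407 (iv D1407)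
def n1408 : Q := act 2 n1234
theorem D1408 : act 2 n1234 = n1408 := rfl
theorem F6508 : act 3 n1408 = n1408 := d15_2 D1234 D1408 (iv D1408) (iv D1234) F4947
theorem F6509 : act 4 n1408 = n1283 := d16_2 (iv F5726) D1408 (iv D1283)
theorem F6510 : act 6 n1408 = n1408 := d18_2 F5727 D1408 (iv D1408)
def n1409 : Q := act 5 n1234
theorem D1409 : act 5 n1234 = n1409 := rfl
theorem F6511 : act 1 n1409 = n1236 := d11_1 D1409 (iv D1236) (iv F5725)
theorem F6512 : act 3 n1409 = n1235 := d22_1 D1409 (iv D1235) D1234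
def n1410 : Q := act 7 n1234
theorem D1410 : act 7 n1234 = n1410 := rfl
theorem F6513 : act 1 n1410 = n1237 := d13_1 D1410 (iv D1237) (iv F5725)
theorem F6514 : act 3 n1410 = n1410 := d24_1 D1410 (iv D1410) (iv D1234) F4949 D1234
theorem F6515 : act 4 n1410 = n1285 := d28_1 D1410 (iv D1285) (iv F5726)
theorem F6516 : act 6 n1410 = n1410 := d33_1 D1410 (iv D1410) F5727
def n1411 : Q := act 6 n1235
theorem D1411 : act 6 n1235 = n1411 := rfl
theorem F6517 : act 1 n1411 = n1238 := d12_1 D1411 (iv D1238) (iv F5728)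
theorem F6518 : act 2 n1411 = n1411 := d18_1 D1411 (iv D1411) F5729
theorem F6519 : act 4 n1411 = n1249 := d27_1 D1411 (iv D1249) (iv F5730)
theorem F6520 : act 5 n1411 = n1411 := d30_1 D1411 (iv D1411) (iv D1235) F4948 D1235
theorem F6521 : act 7 n1411 = n1411 := d33_2 F5731 D1411 (iv D1411)
theorem F6522 : act 8 n1411 = n1329 := d34_2 F6490 D1411 F6491
def n1412 : Q := act 4 n1236
theorem D1412 : act 4 n1236 = n1412 := rfl
theorem F6523 : act 0 n1412 = n1412 := d3_1 D1412 (iv D1412) F5732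
theorem F6524 : act 3 n1412 = n1250 := d21_1 D1412 (iv D1250) F5003 (iv F4955) (iv F5733)
theorem F6525 : act 5 n1412 = n1287 := d26_2 D1236 D1412 (iv D1287) (iv D1105) (iv F4951)
def n1413 : Q := act 6 n1236
theorem D1413 : act 6 n1236 = n1413 := rfl
theorem F6526 : act 0 n1413 = n1413 := d5_1 D1413 (iv D1413) F5732
theorem F6527 : act 3 n1413 = n1238 := d23_1 D1413 (iv D1238) (iv F5733)
theorem F6528 : act 5 n1413 = n1413 := d30_1 D1413 (iv D1413) (iv D1236) F4952 D1236
theorem F6529 : act 8 n1413 = n1330 := d34_2 F6494 D1413 F6495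
def n1414 : Q := act 7 n1236
theorem D1414 : act 7 n1236 = n1414 := rfl
theorem F6530 : act 0 n1414 = n1414 := d6_1 D1414 (iv D1414) F5732
theorem F6531 : act 3 n1414 = n1414 := d24_1 D1414 (iv D1414) F5733 F4956 (iv F5733)
theorem F6532 : act 5 n1414 = n1237 := d31_1 D1414 (iv D1237) D1236
def n1415 : Q := act 8 n1237
theorem D1415 : act 8 n1237 = n1415 := rfl
theorem F6533 : act 0 n1415 = n1415 := d7_1 D1415 (iv D1415) F5734
theorem F6534 : act 3 n1415 = n1415 := d25_1 D1415 (iv D1415) F5735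
theorem F6535 : act 4 n1415 = n1290 := d29_1 D1415 (iv D1290) (iv F5736)
theorem F6536 : act 6 n1415 = n1415 := d34_1 D1415 (iv D1415) F5737
def n1416 : Q := act 3 n1240
theorem D1416 : act 3 n1240 = n1416 := rfl
theorem F6537 : act 0 n1416 = n1241 := d2_1 D1416 (iv D1241) (iv F5751)
theorem F6538 : act 1 n1416 = n1416 := d9_1 D1416 (iv D1416) F5752
theorem F6539 : act 4 n1416 = n1291 := d21_2 D1240 D1416 (iv D1291) (iv D1108) (iv F4971)
theorem F6540 : act 6 n1416 = n1254 := d23_2 (iv F5754) D1416 (iv D1254)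
theorem F6541 : act 7 n1416 = n1293 := d24_2 (iv F5755) D1416 F5997 F5259 (iv F5348)
theorem F6542 : act 8 n1416 = n1244 := d25_2 (iv F5756) D1416 (iv D1244)
theorem F6543 : act 2 n1295 = n1416 := d19_3 F6541 (iv D1293) D1295
def n1417 : Q := act 5 n1240
theorem D1417 : act 5 n1240 = n1417 := rfl
theorem F6544 : act 0 n1417 = n1242 := d4_1 D1417 (iv D1242) (iv F5751)
theorem F6545 : act 1 n1417 = n1417 := d11_1 D1417 (iv D1417) F5752
theorem F6546 : act 2 n1417 = n1417 := d17_1 D1417 (iv D1417) F5753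
theorem F6547 : act 6 n1417 = n1327 := d30_2 (iv F5754) D1417 F6135 F5319 F5026
theorem F6548 : act 7 n1417 = n1326 := d31_2 (iv F5755) D1417 F6130
theorem F6549 : act 8 n1417 = n1245 := d32_2 (iv F5756) D1417 (iv D1245)
def n1418 : Q := act 2 n1241
theorem D1418 : act 2 n1241 = n1418 := rfl
theorem F6550 : act 0 n1418 = n1295 := d1_1 D1418 F6543 F6537
theorem F6551 : act 1 n1418 = n1418 := d8_1 D1418 (iv D1418) F5757 F4980 (iv F5757)
theorem F6552 : act 3 n1418 = n1418 := d15_2 D1241 D1418 (iv D1418) (iv D1241) F4975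
theorem F6553 : act 4 n1418 = n1293 := d16_2 (iv F5758) D1418 (iv D1293)
theorem F6554 : act 6 n1418 = n1255 := d18_2 (iv F5759) D1418 (iv D1255)
theorem F6555 : act 7 n1418 = n1291 := d19_2 (iv F5760) D1418 F5986
theorem F6556 : act 8 n1418 = n1246 := d20_2 (iv F5761) D1418 (iv D1246)
def n1419 : Q := act 5 n1241
theorem D1419 : act 5 n1241 = n1419 := rfl
theorem F6557 : act 1 n1419 = n1243 := d11_1 D1419 (iv D1243) (iv F5757)
theorem F6558 : act 3 n1419 = n1242 := d22_1 D1419 (iv D1242) D1241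
theorem F6559 : act 6 n1419 = n1308 := d30_2 (iv F5759) D1419 F6056 F5209 (iv F5029)
theorem F6560 : act 7 n1419 = n1307 := d31_2 (iv F5760) D1419 F6053
theorem F6561 : act 8 n1419 = n1247 := d32_2 (iv F5761) D1419 (iv D1247)
def n1420 : Q := act 4 n1243
theorem D1420 : act 4 n1243 = n1420 := rfl
theorem F6562 : act 0 n1420 = n1420 := d3_1 D1420 (iv D1420) F5767
theorem F6563 : act 2 n1420 = n1420 := d16_1 D1420 (iv D1420) F5768
theorem F6564 : act 5 n1420 = n1297 := d26_2 D1243 D1420 (iv D1297) (iv D1111) (iv F4981)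
theorem F6565 : act 6 n1420 = n1310 := d27_2 (iv F5770) D1420 F6062
theorem F6566 : act 7 n1420 = n1309 := d28_2 (iv F5771) D1420 F6059
theorem F6567 : act 8 n1420 = n1250 := d29_2 (iv F5772) D1420 (iv D1250)
def n1421 : Q := act 2 n1244
theorem D1421 : act 2 n1244 = n1421 := rfl
theorem F6568 : act 0 n1421 = n1246 := d1_1 D1421 (iv D1246) (iv F5773)
theorem F6569 : act 3 n1421 = n1421 := d15_2 D1244 D1421 (iv D1421) (iv D1244) F4992
theorem F6570 : act 4 n1421 = n1300 := d16_2 (iv F5775) D1421 (iv D1300)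
theorem F6571 : act 6 n1421 = n1256 := d18_2 (iv F5776) D1421 (iv D1256)
theorem F6572 : act 8 n1421 = n1295 := d20_2 F6542 D1421 F6543
theorem F6573 : act 1 n1262 = n1421 := d14_3 F6572 F6003 (iv F5870)
theorem F6574 : act 7 n1261 = n1421 := d35_5 F6572 (iv D1295) F5176 D1118 (iv F5864)
def n1422 : Q := act 5 n1244
theorem D1422 : act 5 n1244 = n1422 := rfl
theorem F6575 : act 0 n1422 = n1247 := d4_1 D1422 (iv D1247) (iv F5773)
theorem F6576 : act 1 n1422 = n1422 := d11_1 D1422 (iv D1422) F5774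
theorem F6577 : act 3 n1422 = n1245 := d22_1 D1422 (iv D1245) D1244
def n1423 : Q := act 7 n1244
theorem D1423 : act 7 n1244 = n1423 := rfl
theorem F6578 : act 0 n1423 = n1248 := d6_1 D1423 (iv D1248) (iv F5773)
theorem F6579 : act 1 n1423 = n1423 := d13_1 D1423 (iv D1423) F5774
theorem F6580 : act 2 n1423 = n1261 := d19_1 D1423 F6574 (iv D1421)
theorem F6581 : act 3 n1423 = n1423 := d24_1 D1423 (iv D1423) (iv D1244) F4994 D1244
theorem F6582 : act 4 n1423 = n1302 := d28_1 D1423 (iv D1302) (iv F5775)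
theorem F6583 : act 6 n1423 = n1258 := d33_1 D1423 (iv D1258) (iv F5776)
theorem F6584 : act 8 n1423 = n1305 := d35_2 F6542 D1423 (iv D1305) (iv F5999) (iv F6541)
def n1424 : Q := act 6 n1245
theorem D1424 : act 6 n1245 = n1424 := rfl
theorem F6585 : act 0 n1424 = n1249 := d5_1 D1424 (iv D1249) (iv F5777)
theorem F6586 : act 1 n1424 = n1424 := d12_1 D1424 (iv D1424) F5778
theorem F6587 : act 2 n1424 = n1424 := d18_1 D1424 (iv D1424) F5779
theorem F6588 : act 5 n1424 = n1259 := d30_1 D1424 (iv D1259) (iv D1079) (iv F4993) D1245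
theorem F6589 : act 7 n1424 = n1424 := d33_2 F5780 D1424 (iv D1424)
theorem F6590 : act 8 n1424 = n1327 := d34_2 F6549 D1424 (iv F6547)
def n1425 : Q := act 5 n1246
theorem D1425 : act 5 n1246 = n1425 := rfl
theorem F6591 : act 1 n1425 = n1425 := d11_1 D1425 (iv D1425) F5781
theorem F6592 : act 2 n1425 = n1247 := d17_1 D1425 (iv D1247) D1246
theorem F6593 : act 3 n1425 = n1425 := d22_1 D1425 (iv D1425) F5782
def n1426 : Q := act 7 n1246
theorem D1426 : act 7 n1246 = n1426 := rfl
theorem F6594 : act 0 n1426 = n1261 := d6_1 D1426 F6574 F6568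
theorem F6595 : act 1 n1426 = n1426 := d13_1 D1426 (iv D1426) F5781
theorem F6596 : act 2 n1426 = n1248 := d19_1 D1426 (iv D1248) D1246
theorem F6597 : act 4 n1426 = n1305 := d28_1 D1426 (iv D1305) (iv F5783)
theorem F6598 : act 6 n1426 = n1257 := d33_1 D1426 (iv F5841) (iv F5784)
theorem F6599 : act 8 n1426 = n1302 := d35_2 F6556 D1426 (iv D1302) (iv F5988) (iv F6555)
theorem F6600 : act 3 n1259 = n1426 := d25_3 F6599 F6035 (iv F5854)
def n1427 : Q := act 4 n1247
theorem D1427 : act 4 n1247 = n1427 := rfl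
theorem F6601 : act 1 n1427 = n1250 := d10_1 D1427 (iv D1250) (iv F5785)
theorem F6602 : act 5 n1427 = n1306 := d26_2 D1247 D1427 (iv D1306) (iv D1117) (iv F4996)
def n1428 : Q := act 6 n1247
theorem D1428 : act 6 n1247 = n1428 := rfl
theorem F6603 : act 1 n1428 = n1251 := d12_1 D1428 (iv D1251) (iv F5785)
theorem F6604 : act 3 n1428 = n1249 := d23_1 D1428 (iv D1249) (iv F5786)
theorem F6605 : act 5 n1428 = n1261 := d30_1 D1428 (iv D1261) (iv D1081) (iv F4997) D1247
theorem F6606 : act 8 n1428 = n1308 := d34_2 F6561 D1428 (iv F6559)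
def n1429 : Q := act 7 n1247
theorem D1429 : act 7 n1247 = n1429 := rfl
theorem F6607 : act 1 n1429 = n1252 := d13_1 D1429 (iv D1252) (iv F5785)
theorem F6608 : act 3 n1429 = n1429 := d24_1 D1429 (iv D1429) F5786 F5000 (iv F5786)
theorem F6609 : act 5 n1429 = n1248 := d31_1 D1429 (iv D1248) D1247
def n1430 : Q := act 8 n1248
theorem D1430 : act 8 n1248 = n1430 := rfl
theorem F6610 : act 0 n1430 = n1305 := d7_1 D1430 (iv F6584) F6578
theorem F6611 : act 1 n1430 = n1253 := d14_1 D1430 (iv D1253) (iv F5787)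
theorem F6612 : act 2 n1430 = n1302 := d20_1 D1430 (iv F6599) F6596
theorem F6613 : act 3 n1430 = n1430 := d25_1 D1430 (iv D1430) F5788
theorem F6614 : act 4 n1430 = n1261 := d29_1 D1430 F5864 (iv F5789)
theorem F6615 : act 6 n1430 = n1260 := d34_1 D1430 F5861 (iv F5790)
theorem F6616 : act 7 n1430 = n1300 := d35_1 D1430 F6028 (iv F5760) F5761 D1248
def n1431 : Q := act 6 n1250
theorem D1431 : act 6 n1250 = n1431 := rfl
theorem F6617 : act 0 n1431 = n1431 := d5_1 D1431 (iv D1431) F5796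
theorem F6618 : act 2 n1431 = n1431 := d18_1 D1431 (iv D1431) F5797
theorem F6619 : act 4 n1431 = n1251 := d27_1 D1431 (iv D1251) D1250
theorem F6620 : act 8 n1431 = n1310 := d34_2 F6567 D1431 (iv F6565)
def n1432 : Q := act 7 n1250
theorem D1432 : act 7 n1250 = n1432 := rfl
theorem F6621 : act 0 n1432 = n1432 := d6_1 D1432 (iv D1432) F5796
theorem F6622 : act 2 n1432 = n1432 := d19_1 D1432 (iv D1432) F5797
theorem F6623 : act 4 n1432 = n1252 := d28_1 D1432 (iv D1252) D1250
theorem F6624 : act 5 n1432 = n1310 := d31_1 D1432 (iv D1310) (iv F5798)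
def n1433 : Q := act 7 n1251
theorem D1433 : act 7 n1251 = n1433 := rfl
theorem F6625 : act 0 n1433 = n1433 := d6_1 D1433 (iv D1433) F5799
theorem F6626 : act 2 n1433 = n1433 := d19_1 D1433 (iv D1433) F5800
theorem F6627 : act 3 n1433 = n1433 := d24_1 D1433 (iv D1433) F5801 F5012 (iv F5801)
theorem F6628 : act 5 n1433 = n1262 := d31_1 D1433 (iv D1262) (iv F5802)
theorem F6629 : act 6 n1433 = n1252 := d33_1 D1433 (iv D1252) D1251
theorem F6630 : act 8 n1433 = n1299 := d35_2 (iv F5803) D1433 (iv D1299) F5184 D1122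
def n1434 : Q := act 8 n1252
theorem D1434 : act 8 n1252 = n1434 := rfl
theorem F6631 : act 0 n1434 = n1434 := d7_1 D1434 (iv D1434) F5804
theorem F6632 : act 2 n1434 = n1434 := d20_1 D1434 (iv D1434) F5805
theorem F6633 : act 3 n1434 = n1434 := d25_1 D1434 (iv D1434) F5806
theorem F6634 : act 5 n1434 = n1253 := d32_1 D1434 (iv D1253) (iv F5807)
theorem F6635 : act 6 n1434 = n1299 := d34_1 D1434 (iv F6630) F6629
theorem F6636 : act 7 n1434 = n1298 := d35_1 D1434 F6020 (iv F5771) F5772 D1252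
def n1435 : Q := act 3 n1263
theorem D1435 : act 3 n1263 = n1435 := rfl
theorem F6637 : act 0 n1435 = n1435 := d2_1 D1435 (iv D1435) F5871
theorem F6638 : act 1 n1435 = n1311 := d9_1 D1435 F6064 (iv F5872)
theorem F6639 : act 2 n1435 = n1435 := d15_1 D1435 (iv D1435) F5873 F5080 (iv F5873)
theorem F6640 : act 4 n1435 = n1435 := d21_2 D1263 D1435 (iv D1435) (iv D1263) F5073
theorem F6641 : act 6 n1435 = n1435 := d23_2 F5874 D1435 (iv D1435)
theorem F6642 : act 8 n1435 = n1435 := d25_2 F5876 D1435 (iv D1435)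
def n1436 : Q := act 5 n1263
theorem D1436 : act 5 n1263 = n1436 := rfl
theorem F6643 : act 0 n1436 = n1436 := d4_1 D1436 (iv D1436) F5871
theorem F6644 : act 1 n1436 = n1370 := d11_1 D1436 (iv D1370) (iv F5872)
theorem F6645 : act 2 n1436 = n1264 := d17_1 D1436 (iv D1264) (iv F5873)
theorem F6646 : act 4 n1436 = n1436 := d26_1 D1436 (iv D1436) (iv D1263) F5074 D1263
theorem F6647 : act 7 n1436 = n1267 := d31_2 (iv F5875) D1436 (iv D1267)
theorem F6648 : act 8 n1436 = n1436 := d32_2 F5876 D1436 (iv D1436)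
def n1437 : Q := act 6 n1264
theorem D1437 : act 6 n1264 = n1437 := rfl
theorem F6649 : act 0 n1437 = n1437 := d5_1 D1437 (iv D1437) F5877
theorem F6650 : act 1 n1437 = n1332 := d12_1 D1437 (iv D1332) (iv F5878)
theorem F6651 : act 3 n1437 = n1437 := d23_1 D1437 (iv D1437) F5879
theorem F6652 : act 4 n1437 = n1437 := d27_1 D1437 (iv D1437) F5880
theorem F6653 : act 5 n1437 = n1437 := d30_1 D1437 (iv D1437) (iv D1264) F5081 D1264
theorem F6654 : act 7 n1437 = n1268 := d33_2 (iv F5881) D1437 (iv D1268)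
theorem F6655 : act 8 n1437 = n1437 := d34_2 F5882 D1437 (iv D1437)
def n1438 : Q := act 3 n1265
theorem D1438 : act 3 n1265 = n1438 := rfl
theorem F6656 : act 0 n1438 = n1374 := d2_1 D1438 (iv D1374) (iv F5883)
theorem F6657 : act 1 n1438 = n1266 := d9_1 D1438 (iv D1266) (iv F5884)
theorem F6658 : act 6 n1438 = n1438 := d23_2 F5886 D1438 (iv D1438)
theorem F6659 : act 8 n1438 = n1270 := d25_2 (iv F5888) D1438 (iv D1270)
def n1439 : Q := act 5 n1265
theorem D1439 : act 5 n1265 = n1439 := rfl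
theorem F6660 : act 0 n1439 = n1373 := d4_1 D1439 F6330 (iv F5883)
theorem F6661 : act 1 n1439 = n1267 := d11_1 D1439 (iv D1267) (iv F5884)
theorem F6662 : act 2 n1439 = n1334 := d17_1 D1439 (iv D1334) (iv F5885)
theorem F6663 : act 4 n1439 = n1439 := d26_1 D1439 (iv D1439) (iv D1265) F5085 D1265
theorem F6664 : act 7 n1439 = n1370 := d31_2 (iv F5887) D1439 (iv D1370)
theorem F6665 : act 8 n1439 = n1271 := d32_2 (iv F5888) D1439 (iv D1271)
def n1440 : Q := act 5 n1266
theorem D1440 : act 5 n1266 = n1440 := rfl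
theorem F6666 : act 0 n1440 = n1440 := d4_1 D1440 (iv D1440) F5889
theorem F6667 : act 2 n1440 = n1278 := d17_1 D1440 (iv D1278) (iv F5890)
theorem F6668 : act 3 n1440 = n1267 := d22_1 D1440 (iv D1267) D1266
theorem F6669 : act 8 n1440 = n1272 := d32_2 (iv F5892) D1440 (iv D1272)
def n1441 : Q := act 7 n1266
theorem D1441 : act 7 n1266 = n1441 := rfl
theorem F6670 : act 0 n1441 = n1441 := d6_1 D1441 (iv D1441) F5889
theorem F6671 : act 2 n1441 = n1279 := d19_1 D1441 (iv D1279) (iv F5890)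
theorem F6672 : act 6 n1441 = n1441 := d33_1 D1441 (iv D1441) F5891
def n1442 : Q := act 6 n1267
theorem D1442 : act 6 n1267 = n1442 := rfl
theorem F6673 : act 0 n1442 = n1442 := d5_1 D1442 (iv D1442) F5893
theorem F6674 : act 2 n1442 = n1268 := d18_1 D1442 (iv D1268) (iv F5894)
theorem F6675 : act 4 n1442 = n1442 := d27_1 D1442 (iv D1442) F5895
theorem F6676 : act 5 n1442 = n1442 := d30_1 D1442 (iv D1442) (iv D1267) F5092 D1267
theorem F6677 : act 8 n1442 = n1274 := d34_2 (iv F5896) D1442 (iv D1274)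
def n1443 : Q := act 3 n1269
theorem D1443 : act 3 n1269 = n1443 := rfl
theorem F6678 : act 0 n1443 = n1270 := d2_1 D1443 (iv D1270) (iv F5903)
theorem F6679 : act 1 n1443 = n1443 := d9_1 D1443 (iv D1443) F5904
theorem F6680 : act 6 n1443 = n1443 := d23_2 F5906 D1443 (iv D1443)
theorem F6681 : act 8 n1443 = n1374 := d25_2 (iv F5908) D1443 (iv D1374)
def n1444 : Q := act 5 n1269
theorem D1444 : act 5 n1269 = n1444 := rfl
theorem F6682 : act 0 n1444 = n1271 := d4_1 D1444 (iv D1271) (iv F5903)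
theorem F6683 : act 1 n1444 = n1444 := d11_1 D1444 (iv D1444) F5904
theorem F6684 : act 2 n1444 = n1338 := d17_1 D1444 (iv D1338) (iv F5905)
theorem F6685 : act 4 n1444 = n1444 := d26_1 D1444 (iv D1444) (iv D1269) F5101 D1269
theorem F6686 : act 7 n1444 = n1444 := d31_2 F5907 D1444 (iv D1444)
theorem F6687 : act 8 n1444 = n1373 := d32_2 (iv F5908) D1444 F6330
def n1445 : Q := act 2 n1270
theorem D1445 : act 2 n1270 = n1445 := rfl
theorem F6688 : act 1 n1445 = n1283 := d8_1 D1445 (iv D1283) F5152 (iv F5110) (iv F5909)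
theorem F6689 : act 3 n1445 = n1339 := d15_2 D1270 D1445 (iv D1339) (iv D1159) (iv F5106)
theorem F6690 : act 6 n1445 = n1445 := d18_2 F5910 D1445 (iv D1445)
def n1446 : Q := act 5 n1270
theorem D1446 : act 5 n1270 = n1446 := rfl
theorem F6691 : act 1 n1446 = n1272 := d11_1 D1446 (iv D1272) (iv F5909)
theorem F6692 : act 3 n1446 = n1271 := d22_1 D1446 (iv D1271) D1270
def n1447 : Q := act 7 n1270
theorem D1447 : act 7 n1270 = n1447 := rfl
theorem F6693 : act 1 n1447 = n1273 := d13_1 D1447 (iv D1273) (iv F5909)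
theorem F6694 : act 3 n1447 = n1447 := d24_1 D1447 (iv D1447) (iv D1270) F5108 D1270
theorem F6695 : act 6 n1447 = n1447 := d33_1 D1447 (iv D1447) F5910
def n1448 : Q := act 6 n1271
theorem D1448 : act 6 n1271 = n1448 := rfl
theorem F6696 : act 1 n1448 = n1274 := d12_1 D1448 (iv D1274) (iv F5911)
theorem F6697 : act 2 n1448 = n1342 := d18_1 D1448 (iv D1342) (iv F5912)
theorem F6698 : act 4 n1448 = n1448 := d27_1 D1448 (iv D1448) F5913
theorem F6699 : act 5 n1448 = n1448 := d30_1 D1448 (iv D1448) (iv D1271) F5107 D1271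
theorem F6700 : act 7 n1448 = n1448 := d33_2 F5914 D1448 (iv D1448)
def n1449 : Q := act 4 n1272
theorem D1449 : act 4 n1272 = n1449 := rfl
theorem F6701 : act 0 n1449 = n1449 := d3_1 D1449 (iv D1449) F5915
theorem F6702 : act 2 n1449 = n1287 := d16_1 D1449 (iv D1287) (iv F5916)
theorem F6703 : act 3 n1449 = n1449 := d21_1 D1449 (iv D1449) F5917 F5114 (iv F5917)
def n1450 : Q := act 6 n1272
theorem D1450 : act 6 n1272 = n1450 := rfl
theorem F6704 : act 0 n1450 = n1450 := d5_1 D1450 (iv D1450) F5915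
theorem F6705 : act 2 n1450 = n1288 := d18_1 D1450 (iv D1288) (iv F5916)
theorem F6706 : act 3 n1450 = n1274 := d23_1 D1450 (iv D1274) (iv F5917)
theorem F6707 : act 5 n1450 = n1450 := d30_1 D1450 (iv D1450) (iv D1272) F5111 D1272
def n1451 : Q := act 7 n1272
theorem D1451 : act 7 n1272 = n1451 := rfl
theorem F6708 : act 0 n1451 = n1451 := d6_1 D1451 (iv D1451) F5915
theorem F6709 : act 2 n1451 = n1289 := d19_1 D1451 (iv D1289) (iv F5916)
theorem F6710 : act 3 n1451 = n1451 := d24_1 D1451 (iv D1451) F5917 F5115 (iv F5917)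
theorem F6711 : act 5 n1451 = n1273 := d31_1 D1451 (iv D1273) D1272
def n1452 : Q := act 8 n1273
theorem D1452 : act 8 n1273 = n1452 := rfl
theorem F6712 : act 0 n1452 = n1452 := d7_1 D1452 (iv D1452) F5918
theorem F6713 : act 2 n1452 = n1290 := d20_1 D1452 (iv D1290) (iv F5919)
theorem F6714 : act 3 n1452 = n1452 := d25_1 D1452 (iv D1452) F5920
theorem F6715 : act 6 n1452 = n1452 := d34_1 D1452 (iv D1452) F5921
def n1453 : Q := act 3 n1275
theorem D1453 : act 3 n1275 = n1453 := rfl
theorem F6716 : act 0 n1453 = n1276 := d2_1 D1453 (iv D1276) (iv F5927)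
theorem F6717 : act 1 n1453 = n1453 := d9_1 D1453 (iv D1453) F5928
theorem F6718 : act 6 n1453 = n1453 := d23_2 F5930 D1453 (iv D1453)
theorem F6719 : act 8 n1453 = n1281 := d25_2 (iv F5932) D1453 (iv D1281)
def n1454 : Q := act 5 n1275
theorem D1454 : act 5 n1275 = n1454 := rfl
theorem F6720 : act 0 n1454 = n1277 := d4_1 D1454 (iv D1277) (iv F5927)
theorem F6721 : act 1 n1454 = n1454 := d11_1 D1454 (iv D1454) F5928
theorem F6722 : act 2 n1454 = n1348 := d17_1 D1454 (iv D1348) (iv F5929)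
theorem F6723 : act 4 n1454 = n1292 := d26_1 D1454 (iv D1292) (iv D1108) (iv F5124) D1275
theorem F6724 : act 7 n1454 = n1454 := d31_2 F5931 D1454 (iv D1454)
theorem F6725 : act 8 n1454 = n1282 := d32_2 (iv F5932) D1454 (iv D1282)
theorem F6726 : act 6 n1369 = n1454 := d27_0 F6723 F5992 D1369
def n1455 : Q := act 2 n1276
theorem D1455 : act 2 n1276 = n1455 := rfl
theorem F6727 : act 3 n1455 = n1349 := d15_2 D1276 D1455 (iv D1349) (iv D1165) (iv F5129)
theorem F6728 : act 6 n1455 = n1455 := d18_2 F5934 D1455 (iv D1455)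
theorem F6729 : act 8 n1455 = n1283 := d20_2 (iv F5935) D1455 (iv D1283)
def n1456 : Q := act 5 n1276
theorem D1456 : act 5 n1276 = n1456 := rfl
theorem F6730 : act 1 n1456 = n1278 := d11_1 D1456 (iv D1278) (iv F5933)
theorem F6731 : act 3 n1456 = n1277 := d22_1 D1456 (iv D1277) D1276
theorem F6732 : act 8 n1456 = n1284 := d32_2 (iv F5935) D1456 (iv D1284)
def n1457 : Q := act 7 n1276
theorem D1457 : act 7 n1276 = n1457 := rfl
theorem F6733 : act 1 n1457 = n1279 := d13_1 D1457 (iv D1279) (iv F5933)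
theorem F6734 : act 3 n1457 = n1457 := d24_1 D1457 (iv D1457) (iv D1276) F5131 D1276
theorem F6735 : act 6 n1457 = n1457 := d33_1 D1457 (iv D1457) F5934
def n1458 : Q := act 6 n1277
theorem D1458 : act 6 n1277 = n1458 := rfl
theorem F6736 : act 0 n1458 = n1369 := d5_1 D1458 F6726 F6720
theorem F6737 : act 1 n1458 = n1280 := d12_1 D1458 (iv D1280) (iv F5936)
theorem F6738 : act 2 n1458 = n1352 := d18_1 D1458 (iv D1352) (iv F5937)
theorem F6739 : act 4 n1458 = n1296 := d27_1 D1458 (iv D1296) (iv F5938)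
theorem F6740 : act 5 n1458 = n1458 := d30_1 D1458 (iv D1458) (iv D1277) F5130 D1277
theorem F6741 : act 7 n1458 = n1458 := d33_2 F5939 D1458 (iv D1458)
theorem F6742 : act 8 n1458 = n1286 := d34_2 (iv F5940) D1458 (iv D1286)
def n1459 : Q := act 4 n1278
theorem D1459 : act 4 n1278 = n1459 := rfl
theorem F6743 : act 0 n1459 = n1459 := d3_1 D1459 (iv D1459) F5941
theorem F6744 : act 3 n1459 = n1297 := d21_1 D1459 (iv D1297) F5183 (iv F5138) (iv F5942)
theorem F6745 : act 8 n1459 = n1287 := d29_2 (iv F5943) D1459 (iv D1287)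
def n1460 : Q := act 6 n1278
theorem D1460 : act 6 n1278 = n1460 := rfl
theorem F6746 : act 0 n1460 = n1460 := d5_1 D1460 (iv D1460) F5941
theorem F6747 : act 3 n1460 = n1280 := d23_1 D1460 (iv D1280) (iv F5942)
theorem F6748 : act 5 n1460 = n1460 := d30_1 D1460 (iv D1460) (iv D1278) F5134 D1278
theorem F6749 : act 8 n1460 = n1288 := d34_2 (iv F5943) D1460 (iv D1288)
def n1461 : Q := act 7 n1278
theorem D1461 : act 7 n1278 = n1461 := rfl
theorem F6750 : act 0 n1461 = n1461 := d6_1 D1461 (iv D1461) F5941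
theorem F6751 : act 3 n1461 = n1461 := d24_1 D1461 (iv D1461) F5942 F5139 (iv F5942)
theorem F6752 : act 5 n1461 = n1279 := d31_1 D1461 (iv D1279) D1278
def n1462 : Q := act 8 n1279
theorem D1462 : act 8 n1279 = n1462 := rfl
theorem F6753 : act 0 n1462 = n1462 := d7_1 D1462 (iv D1462) F5944
theorem F6754 : act 3 n1462 = n1462 := d25_1 D1462 (iv D1462) F5945
theorem F6755 : act 6 n1462 = n1462 := d34_1 D1462 (iv D1462) F5946
theorem F6756 : act 7 n1462 = n1290 := d35_1 D1462 (iv D1290) (iv D1106) (iv F5135) D1279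
def n1463 : Q := act 2 n1281
theorem D1463 : act 2 n1281 = n1463 := rfl
theorem F6757 : act 0 n1463 = n1283 := d1_1 D1463 (iv D1283) (iv F5953)
theorem F6758 : act 3 n1463 = n1357 := d15_2 D1281 D1463 (iv D1357) (iv D1170) (iv F5149)
theorem F6759 : act 6 n1463 = n1463 := d18_2 F5955 D1463 (iv D1463)
def n1464 : Q := act 5 n1281
theorem D1464 : act 5 n1281 = n1464 := rfl
theorem F6760 : act 0 n1464 = n1284 := d4_1 D1464 (iv D1284) (iv F5953)
theorem F6761 : act 1 n1464 = n1464 := d11_1 D1464 (iv D1464) F5954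
theorem F6762 : act 3 n1464 = n1282 := d22_1 D1464 (iv D1282) D1281
def n1465 : Q := act 7 n1281
theorem D1465 : act 7 n1281 = n1465 := rfl
theorem F6763 : act 0 n1465 = n1285 := d6_1 D1465 (iv D1285) (iv F5953)
theorem F6764 : act 1 n1465 = n1465 := d13_1 D1465 (iv D1465) F5954
theorem F6765 : act 3 n1465 = n1313 := d24_1 D1465 (iv D1313) (iv D1133) (iv F5151) D1281
theorem F6766 : act 6 n1465 = n1465 := d33_1 D1465 (iv D1465) F5955
def n1466 : Q := act 6 n1282
theorem D1466 : act 6 n1282 = n1466 := rfl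
theorem F6767 : act 0 n1466 = n1286 := d5_1 D1466 (iv D1286) (iv F5956)
theorem F6768 : act 1 n1466 = n1466 := d12_1 D1466 (iv D1466) F5957
theorem F6769 : act 2 n1466 = n1359 := d18_1 D1466 (iv D1359) (iv F5958)
theorem F6770 : act 4 n1466 = n1303 := d27_1 D1466 (iv D1303) (iv F5959)
theorem F6771 : act 5 n1466 = n1466 := d30_1 D1466 (iv D1466) (iv D1282) F5150 D1282
theorem F6772 : act 7 n1466 = n1314 := d33_2 (iv F5960) D1466 (iv D1314)
theorem F6773 : act 8 n1466 = n1369 := d34_2 F6725 D1466 F6726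
def n1467 : Q := act 5 n1283
theorem D1467 : act 5 n1283 = n1467 := rfl
theorem F6774 : act 2 n1467 = n1284 := d17_1 D1467 (iv D1284) D1283
theorem F6775 : act 3 n1467 = n1360 := d22_1 D1467 (iv D1360) (iv F5961)
def n1468 : Q := act 7 n1283
theorem D1468 : act 7 n1283 = n1468 := rfl
theorem F6776 : act 2 n1468 = n1285 := d19_1 D1468 (iv D1285) D1283
theorem F6777 : act 6 n1468 = n1468 := d33_1 D1468 (iv D1468) F5962
def n1469 : Q := act 4 n1284
theorem D1469 : act 4 n1284 = n1469 := rfl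
theorem F6778 : act 1 n1469 = n1287 := d10_1 D1469 (iv D1287) (iv F5963)
theorem F6779 : act 3 n1469 = n1306 := d21_1 D1469 (iv D1306) F5206 (iv F5156) (iv F5964)
def n1470 : Q := act 6 n1284
theorem D1470 : act 6 n1284 = n1470 := rfl
theorem F6780 : act 1 n1470 = n1288 := d12_1 D1470 (iv D1288) (iv F5963)
theorem F6781 : act 3 n1470 = n1286 := d23_1 D1470 (iv D1286) (iv F5964)
theorem F6782 : act 5 n1470 = n1470 := d30_1 D1470 (iv D1470) (iv D1284) F5153 D1284
def n1471 : Q := act 7 n1284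
theorem D1471 : act 7 n1284 = n1471 := rfl
theorem F6783 : act 1 n1471 = n1289 := d13_1 D1471 (iv D1289) (iv F5963)
theorem F6784 : act 3 n1471 = n1319 := d24_1 D1471 (iv D1319) F5282 (iv F5157) (iv F5964)
theorem F6785 : act 5 n1471 = n1285 := d31_1 D1471 (iv D1285) D1284
def n1472 : Q := act 8 n1285
theorem D1472 : act 8 n1285 = n1472 := rfl
theorem F6786 : act 1 n1472 = n1290 := d14_1 D1472 (iv D1290) (iv F5965)
theorem F6787 : act 3 n1472 = n1320 := d25_1 D1472 (iv D1320) (iv F5966)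
theorem F6788 : act 6 n1472 = n1472 := d34_1 D1472 (iv D1472) F5967
def n1473 : Q := act 6 n1287
theorem D1473 : act 6 n1287 = n1473 := rfl
theorem F6789 : act 0 n1473 = n1473 := d5_1 D1473 (iv D1473) F5973
theorem F6790 : act 3 n1473 = n1309 := d23_1 D1473 (iv D1309) (iv F5974)
theorem F6791 : act 4 n1473 = n1288 := d27_1 D1473 (iv D1288) D1287
def n1474 : Q := act 7 n1287
theorem D1474 : act 7 n1287 = n1474 := rfl
theorem F6792 : act 0 n1474 = n1474 := d6_1 D1474 (iv D1474) F5973
theorem F6793 : act 4 n1474 = n1289 := d28_1 D1474 (iv D1289) D1287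
def n1475 : Q := act 7 n1288
theorem D1475 : act 7 n1288 = n1475 := rfl
theorem F6794 : act 0 n1475 = n1475 := d6_1 D1475 (iv D1475) F5975
theorem F6795 : act 3 n1475 = n1323 := d24_1 D1475 (iv D1323) F5299 (iv F5167) (iv F5976)
theorem F6796 : act 5 n1475 = n1475 := d31_1 D1475 (iv D1475) F5977
theorem F6797 : act 6 n1475 = n1289 := d33_1 D1475 (iv D1289) D1288
def n1476 : Q := act 8 n1289
theorem D1476 : act 8 n1289 = n1476 := rfl
theorem F6798 : act 0 n1476 = n1476 := d7_1 D1476 (iv D1476) F5978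
theorem F6799 : act 3 n1476 = n1324 := d25_1 D1476 (iv D1324) (iv F5979)
theorem F6800 : act 5 n1476 = n1290 := d32_1 D1476 (iv D1290) (iv F5980)
def n1477 : Q := act 5 n1291
theorem D1477 : act 5 n1291 = n1477 := rfl
theorem F6801 : act 0 n1477 = n1294 := d4_1 D1477 (iv D1294) (iv F5984)
theorem F6802 : act 1 n1477 = n1477 := d11_1 D1477 (iv D1477) F5985
theorem F6803 : act 2 n1477 = n1307 := d17_1 D1477 F6053 (iv F5986)
theorem F6804 : act 3 n1477 = n1292 := d22_1 D1477 (iv D1292) D1291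
theorem F6805 : act 6 n1477 = n1304 := d30_2 (iv F5987) D1477 (iv D1304) F5204 (iv F5227)
theorem F6806 : act 8 n1477 = n1301 := d32_2 (iv F5988) D1477 (iv D1301)
def n1478 : Q := act 5 n1293
theorem D1478 : act 5 n1293 = n1478 := rfl
theorem F6807 : act 0 n1478 = n1307 := d4_1 D1478 F6053 (iv F5995)
theorem F6808 : act 1 n1478 = n1478 := d11_1 D1478 (iv D1478) F5996
theorem F6809 : act 2 n1478 = n1294 := d17_1 D1478 (iv D1294) D1293
theorem F6810 : act 3 n1478 = n1303 := d22_1 D1478 F6040 (iv F5997)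
theorem F6811 : act 6 n1478 = n1301 := d30_2 (iv F5998) D1478 (iv D1301) F5197 F5233
theorem F6812 : act 8 n1478 = n1304 := d32_2 (iv F5999) D1478 (iv D1304)
def n1479 : Q := act 4 n1294
theorem D1479 : act 4 n1294 = n1479 := rfl
theorem F6813 : act 1 n1479 = n1297 := d10_1 D1479 (iv D1297) (iv F6000)
theorem F6814 : act 8 n1479 = n1306 := d29_2 (iv F6002) D1479 (iv D1306)
def n1480 : Q := act 6 n1294
theorem D1480 : act 6 n1294 = n1480 := rfl
theorem F6815 : act 0 n1480 = n1304 := d5_1 D1480 (iv F6805) F6801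
theorem F6816 : act 1 n1480 = n1298 := d12_1 D1480 (iv D1298) (iv F6000)
theorem F6817 : act 2 n1480 = n1301 := d18_1 D1480 (iv F6811) F6809
theorem F6818 : act 3 n1480 = n1296 := d23_1 D1480 (iv D1296) (iv F6001)
theorem F6819 : act 5 n1480 = n1300 := d30_1 D1480 F6027 (iv D1125) (iv F5175) D1294
theorem F6820 : act 8 n1480 = n1307 := d34_2 (iv F6002) D1480 (iv D1307)
def n1481 : Q := act 7 n1294
theorem D1481 : act 7 n1294 = n1481 := rfl
theorem F6821 : act 1 n1481 = n1299 := d13_1 D1481 (iv D1299) (iv F6000)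
theorem F6822 : act 3 n1481 = n1481 := d24_1 D1481 (iv D1481) F6001 F5179 (iv F6001)
theorem F6823 : act 5 n1481 = n1295 := d31_1 D1481 (iv D1295) D1294
def n1482 : Q := act 6 n1297
theorem D1482 : act 6 n1297 = n1482 := rfl
theorem F6824 : act 0 n1482 = n1482 := d5_1 D1482 (iv D1482) F6013
theorem F6825 : act 2 n1482 = n1482 := d18_1 D1482 (iv D1482) F6014
theorem F6826 : act 4 n1482 = n1298 := d27_1 D1482 (iv D1298) D1297
theorem F6827 : act 8 n1482 = n1309 := d34_2 (iv F6015) D1482 (iv D1309)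
def n1483 : Q := act 7 n1297
theorem D1483 : act 7 n1297 = n1483 := rfl
theorem F6828 : act 0 n1483 = n1483 := d6_1 D1483 (iv D1483) F6013
theorem F6829 : act 2 n1483 = n1483 := d19_1 D1483 (iv D1483) F6014
theorem F6830 : act 4 n1483 = n1299 := d28_1 D1483 (iv D1299) D1297
theorem F6831 : act 5 n1483 = n1309 := d31_1 D1483 (iv F6566) F6564
def n1484 : Q := act 4 n1301
theorem D1484 : act 4 n1301 = n1484 := rfl
theorem F6832 : act 0 n1484 = n1306 := d3_1 D1484 (iv D1306) (iv F6030)
theorem F6833 : act 1 n1484 = n1484 := d10_1 D1484 (iv D1484) F6031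
def n1485 : Q := act 7 n1301
theorem D1485 : act 7 n1301 = n1485 := rfl
theorem F6834 : act 0 n1485 = n1308 := d6_1 D1485 (iv D1308) (iv F6030)
theorem F6835 : act 1 n1485 = n1485 := d13_1 D1485 (iv D1485) F6031
theorem F6836 : act 3 n1485 = n1327 := d24_1 D1485 (iv D1327) F5313 (iv F5201) (iv F6032)
theorem F6837 : act 5 n1485 = n1302 := d31_1 D1485 (iv D1302) D1301
def n1486 : Q := act 4 n1304
theorem D1486 : act 4 n1304 = n1486 := rfl
theorem F6838 : act 1 n1486 = n1486 := d10_1 D1486 (iv D1486) F6043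
theorem F6839 : act 2 n1486 = n1306 := d16_1 D1486 (iv D1306) (iv F6044)
def n1487 : Q := act 7 n1304
theorem D1487 : act 7 n1304 = n1487 := rfl
theorem F6840 : act 1 n1487 = n1487 := d13_1 D1487 (iv D1487) F6043
theorem F6841 : act 2 n1487 = n1308 := d19_1 D1487 (iv D1308) (iv F6044)
theorem F6842 : act 3 n1487 = n1487 := d24_1 D1487 (iv D1487) F6045 F5492 (iv F6045)
theorem F6843 : act 5 n1487 = n1305 := d31_1 D1487 (iv D1305) D1304
def n1488 : Q := act 6 n1306
theorem D1488 : act 6 n1306 = n1488 := rfl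
theorem F6844 : act 1 n1488 = n1309 := d12_1 D1488 (iv D1309) (iv F6050)
theorem F6845 : act 4 n1488 = n1307 := d27_1 D1488 (iv D1307) D1306
def n1489 : Q := act 7 n1306
theorem D1489 : act 7 n1306 = n1489 := rfl
theorem F6846 : act 1 n1489 = n1310 := d13_1 D1489 (iv D1310) (iv F6050)
theorem F6847 : act 4 n1489 = n1308 := d28_1 D1489 (iv D1308) D1306
def n1490 : Q := act 3 n1310
theorem D1490 : act 3 n1310 = n1490 := rfl
theorem F6848 : act 0 n1490 = n1490 := d2_1 D1490 (iv D1490) F6060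
theorem F6849 : act 4 n1490 = n1330 := d21_2 (iv F6062) D1490 (iv D1330) F5343 (iv F5222)
def n1491 : Q := act 5 n1311
theorem D1491 : act 5 n1311 = n1491 := rfl
theorem F6850 : act 0 n1491 = n1315 := d4_1 D1491 (iv D1315) (iv F6063)
theorem F6851 : act 2 n1491 = n1312 := d17_1 D1491 (iv D1312) D1311
theorem F6852 : act 3 n1491 = n1370 := d22_1 D1491 (iv D1370) (iv F6064)
theorem F6853 : act 8 n1491 = n1491 := d32_2 F6067 D1491 (iv D1491)
def n1492 : Q := act 7 n1311
theorem D1492 : act 7 n1311 = n1492 := rfl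
theorem F6854 : act 0 n1492 = n1316 := d6_1 D1492 (iv D1316) (iv F6063)
theorem F6855 : act 2 n1492 = n1313 := d19_1 D1492 (iv D1313) D1311
theorem F6856 : act 4 n1492 = n1492 := d28_1 D1492 (iv D1492) F6065
theorem F6857 : act 6 n1492 = n1492 := d33_1 D1492 (iv D1492) F6066
def n1493 : Q := act 4 n1312
theorem D1493 : act 4 n1312 = n1493 := rfl
theorem F6858 : act 0 n1493 = n1317 := d3_1 D1493 (iv D1317) (iv F6068)
theorem F6859 : act 1 n1493 = n1493 := d10_1 D1493 (iv D1493) F6069
theorem F6860 : act 3 n1493 = n1325 := d21_1 D1493 (iv D1325) F5313 (iv F5274) (iv F6070)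
theorem F6861 : act 5 n1493 = n1493 := d26_2 D1312 D1493 (iv D1493) (iv D1312) F5268
theorem F6862 : act 8 n1493 = n1493 := d29_2 F6071 D1493 (iv D1493)
def n1494 : Q := act 6 n1312
theorem D1494 : act 6 n1312 = n1494 := rfl
theorem F6863 : act 0 n1494 = n1318 := d5_1 D1494 (iv D1318) (iv F6068)
theorem F6864 : act 1 n1494 = n1494 := d12_1 D1494 (iv D1494) F6069
theorem F6865 : act 3 n1494 = n1314 := d23_1 D1494 (iv D1314) (iv F6070)
theorem F6866 : act 5 n1494 = n1494 := d30_1 D1494 (iv D1494) (iv D1312) F5269 D1312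
theorem F6867 : act 8 n1494 = n1494 := d34_2 F6071 D1494 (iv D1494)
def n1495 : Q := act 7 n1312
theorem D1495 : act 7 n1312 = n1495 := rfl
theorem F6868 : act 0 n1495 = n1319 := d6_1 D1495 (iv D1319) (iv F6068)
theorem F6869 : act 1 n1495 = n1495 := d13_1 D1495 (iv D1495) F6069
theorem F6870 : act 5 n1495 = n1313 := d31_1 D1495 (iv D1313) D1312
def n1496 : Q := act 8 n1313
theorem D1496 : act 8 n1313 = n1496 := rfl
theorem F6871 : act 0 n1496 = n1320 := d7_1 D1496 (iv D1320) (iv F6072)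
theorem F6872 : act 1 n1496 = n1496 := d14_1 D1496 (iv D1496) F6073
theorem F6873 : act 4 n1496 = n1496 := d29_1 D1496 (iv D1496) F6074
theorem F6874 : act 6 n1496 = n1496 := d34_1 D1496 (iv D1496) F6075
theorem F6875 : act 7 n1496 = n1496 := d35_1 D1496 (iv D1496) (iv D1313) F5270 D1313
def n1497 : Q := act 4 n1315
theorem D1497 : act 4 n1315 = n1497 := rfl
theorem F6876 : act 1 n1497 = n1497 := d10_1 D1497 (iv D1497) F6082
theorem F6877 : act 2 n1497 = n1317 := d16_1 D1497 (iv D1317) (iv F6083)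
theorem F6878 : act 3 n1497 = n1497 := d21_1 D1497 (iv D1497) F6084 F5518 (iv F6084)
theorem F6879 : act 5 n1497 = n1497 := d26_2 D1315 D1497 (iv D1497) (iv D1315) F5278
theorem F6880 : act 8 n1497 = n1497 := d29_2 F6085 D1497 (iv D1497)
def n1498 : Q := act 6 n1315
theorem D1498 : act 6 n1315 = n1498 := rfl
theorem F6881 : act 1 n1498 = n1498 := d12_1 D1498 (iv D1498) F6082
theorem F6882 : act 2 n1498 = n1318 := d18_1 D1498 (iv D1318) (iv F6083)
theorem F6883 : act 3 n1498 = n1372 := d23_1 D1498 (iv D1372) (iv F6084)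
theorem F6884 : act 5 n1498 = n1498 := d30_1 D1498 (iv D1498) (iv D1315) F5279 D1315
theorem F6885 : act 8 n1498 = n1498 := d34_2 F6085 D1498 (iv D1498)
def n1499 : Q := act 7 n1315
theorem D1499 : act 7 n1315 = n1499 := rfl
theorem F6886 : act 1 n1499 = n1499 := d13_1 D1499 (iv D1499) F6082
theorem F6887 : act 2 n1499 = n1319 := d19_1 D1499 (iv D1319) (iv F6083)
theorem F6888 : act 5 n1499 = n1316 := d31_1 D1499 (iv D1316) D1315
def n1500 : Q := act 3 n1316
theorem D1500 : act 3 n1316 = n1500 := rfl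
theorem F6889 : act 1 n1500 = n1500 := d9_1 D1500 (iv D1500) F6086
theorem F6890 : act 6 n1500 = n1500 := d23_2 F6089 D1500 (iv D1500)
theorem F6891 : act 7 n1500 = n1374 := d24_2 D1316 D1500 (iv D1374) (iv D1191) (iv F5277)
def n1501 : Q := act 8 n1316
theorem D1501 : act 8 n1316 = n1501 := rfl
theorem F6892 : act 1 n1501 = n1501 := d14_1 D1501 (iv D1501) F6086
theorem F6893 : act 2 n1501 = n1320 := d20_1 D1501 (iv D1320) (iv F6087)
theorem F6894 : act 4 n1501 = n1501 := d29_1 D1501 (iv D1501) F6088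
theorem F6895 : act 6 n1501 = n1501 := d34_1 D1501 (iv D1501) F6089
theorem F6896 : act 7 n1501 = n1501 := d35_1 D1501 (iv D1501) (iv D1316) F5280 D1316
def n1502 : Q := act 6 n1317
theorem D1502 : act 6 n1317 = n1502 := rfl
theorem F6897 : act 1 n1502 = n1321 := d12_1 D1502 (iv D1321) (iv F6090)
theorem F6898 : act 3 n1502 = n1328 := d23_1 D1502 (iv D1328) (iv F6091)
theorem F6899 : act 4 n1502 = n1318 := d27_1 D1502 (iv D1318) D1317
theorem F6900 : act 8 n1502 = n1502 := d34_2 F6093 D1502 (iv D1502)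
def n1503 : Q := act 7 n1317
theorem D1503 : act 7 n1317 = n1503 := rfl
theorem F6901 : act 1 n1503 = n1322 := d13_1 D1503 (iv D1322) (iv F6090)
theorem F6902 : act 4 n1503 = n1319 := d28_1 D1503 (iv D1319) D1317
theorem F6903 : act 5 n1503 = n1503 := d31_1 D1503 (iv D1503) F6092
def n1504 : Q := act 7 n1318
theorem D1504 : act 7 n1318 = n1504 := rfl
theorem F6904 : act 1 n1504 = n1323 := d13_1 D1504 (iv D1323) (iv F6094)
theorem F6905 : act 5 n1504 = n1504 := d31_1 D1504 (iv D1504) F6096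
theorem F6906 : act 6 n1504 = n1319 := d33_1 D1504 (iv D1319) D1318
def n1505 : Q := act 8 n1319
theorem D1505 : act 8 n1319 = n1505 := rfl
theorem F6907 : act 1 n1505 = n1324 := d14_1 D1505 (iv D1324) (iv F6098)
theorem F6908 : act 5 n1505 = n1320 := d32_1 D1505 (iv D1320) (iv F6099)
theorem F6909 : act 7 n1505 = n1505 := d35_1 D1505 (iv D1505) (iv D1319) F5283 D1319
def n1506 : Q := act 7 n1321
theorem D1506 : act 7 n1321 = n1506 := rfl
theorem F6910 : act 0 n1506 = n1506 := d6_1 D1506 (iv D1506) F6104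
theorem F6911 : act 2 n1506 = n1506 := d19_1 D1506 (iv D1506) F6105
theorem F6912 : act 4 n1506 = n1323 := d28_1 D1506 (iv D1323) (iv F6107)
theorem F6913 : act 6 n1506 = n1322 := d33_1 D1506 (iv D1322) D1321
def n1507 : Q := act 3 n1322
theorem D1507 : act 3 n1322 = n1507 := rfl
theorem F6914 : act 0 n1507 = n1507 := d2_1 D1507 (iv D1507) F6109
theorem F6915 : act 5 n1507 = n1507 := d22_2 F6112 D1507 (iv D1507)
theorem F6916 : act 7 n1507 = n1330 := d24_2 D1322 D1507 (iv D1330) (iv D1150) (iv F5294)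
def n1508 : Q := act 8 n1322
theorem D1508 : act 8 n1322 = n1508 := rfl
theorem F6917 : act 0 n1508 = n1508 := d7_1 D1508 (iv D1508) F6109
theorem F6918 : act 2 n1508 = n1508 := d20_1 D1508 (iv D1508) F6110
theorem F6919 : act 4 n1508 = n1324 := d29_1 D1508 (iv D1324) (iv F6111)
theorem F6920 : act 5 n1508 = n1508 := d32_1 D1508 (iv D1508) F6112
theorem F6921 : act 7 n1508 = n1508 := d35_1 D1508 (iv D1508) (iv D1322) F5296 D1322
def n1509 : Q := act 8 n1323
theorem D1509 : act 8 n1323 = n1509 := rfl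
theorem F6922 : act 0 n1509 = n1509 := d7_1 D1509 (iv D1509) F6113
theorem F6923 : act 2 n1509 = n1509 := d20_1 D1509 (iv D1509) F6114
theorem F6924 : act 5 n1509 = n1509 := d32_1 D1509 (iv D1509) F6115
theorem F6925 : act 6 n1509 = n1324 := d34_1 D1509 (iv D1324) (iv F6116)
theorem F6926 : act 7 n1509 = n1509 := d35_1 D1509 (iv D1509) (iv D1323) F5301 D1323
def n1510 : Q := act 6 n1325
theorem D1510 : act 6 n1325 = n1510 := rfl
theorem F6927 : act 0 n1510 = n1328 := d5_1 D1510 (iv D1328) (iv F6121)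
theorem F6928 : act 1 n1510 = n1510 := d12_1 D1510 (iv D1510) F6122
theorem F6929 : act 2 n1510 = n1510 := d18_1 D1510 (iv D1510) F6123
theorem F6930 : act 4 n1510 = n1326 := d27_1 D1510 (iv D1326) D1325
theorem F6931 : act 8 n1510 = n1510 := d34_2 F6125 D1510 (iv D1510)
def n1511 : Q := act 7 n1325
theorem D1511 : act 7 n1325 = n1511 := rfl
theorem F6932 : act 0 n1511 = n1329 := d6_1 D1511 (iv D1329) (iv F6121)
theorem F6933 : act 1 n1511 = n1511 := d13_1 D1511 (iv D1511) F6122
theorem F6934 : act 2 n1511 = n1511 := d19_1 D1511 (iv D1511) F6123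
theorem F6935 : act 4 n1511 = n1327 := d28_1 D1511 (iv D1327) D1325
theorem F6936 : act 5 n1511 = n1511 := d31_1 D1511 (iv D1511) F6124
def n1512 : Q := act 3 n1329
theorem D1512 : act 3 n1329 = n1512 := rfl
theorem F6937 : act 1 n1512 = n1330 := d9_1 D1512 (iv D1330) (iv F6140)
theorem F6938 : act 5 n1512 = n1512 := d22_2 F6143 D1512 (iv D1512)
def n1513 : Q := act 2 n1330
theorem D1513 : act 2 n1330 = n1513 := rfl
theorem F6939 : act 0 n1513 = n1513 := d1_1 D1513 (iv D1513) F6144
theorem F6940 : act 3 n1513 = n1331 := d15_2 D1330 D1513 (iv D1331) (iv D1152) (iv F5342)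
theorem F6941 : act 5 n1513 = n1513 := d17_2 F6145 D1513 (iv D1513)
def n1514 : Q := act 1 n1331
theorem D1514 : act 1 n1331 = n1514 := rfl
theorem F6942 : act 2 n1514 = n1514 := d8_2 D1331 D1514 (iv D1514) (iv D1331) F5351
theorem F6943 : act 4 n1514 = n1514 := d10_2 F6147 D1514 (iv D1514)
theorem F6944 : act 5 n1514 = n1514 := d11_2 F6148 D1514 (iv D1514)
theorem F6945 : act 7 n1514 = n1514 := d13_2 F6149 D1514 (iv D1514)
def n1515 : Q := act 2 n1333
theorem D1515 : act 2 n1333 = n1515 := rfl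
theorem F6946 : act 0 n1515 = n1361 := d1_1 D1515 F6280 (iv F6157)
theorem F6947 : act 1 n1515 = n1349 := d8_1 D1515 (iv D1349) F5411 (iv F5367) (iv F6158)
theorem F6948 : act 4 n1515 = n1515 := d16_2 F6159 D1515 (iv D1515)
theorem F6949 : act 6 n1515 = n1515 := d18_2 F6160 D1515 (iv D1515)
theorem F6950 : act 7 n1515 = n1357 := d19_2 (iv F6161) D1515 (iv D1357)
theorem F6951 : act 8 n1515 = n1339 := d20_2 (iv F6162) D1515 (iv D1339)
def n1516 : Q := act 5 n1333
theorem D1516 : act 5 n1333 = n1516 := rfl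
theorem F6952 : act 0 n1516 = n1364 := d4_1 D1516 F6291 (iv F6157)
theorem F6953 : act 1 n1516 = n1335 := d11_1 D1516 (iv D1335) (iv F6158)
theorem F6954 : act 3 n1516 = n1334 := d22_1 D1516 (iv D1334) D1333
theorem F6955 : act 7 n1516 = n1358 := d31_2 (iv F6161) D1516 (iv D1358)
theorem F6956 : act 8 n1516 = n1340 := d32_2 (iv F6162) D1516 (iv D1340)
def n1517 : Q := act 6 n1334
theorem D1517 : act 6 n1334 = n1517 := rfl
theorem F6957 : act 0 n1517 = n1375 := d5_1 D1517 F6336 (iv F6163)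
theorem F6958 : act 1 n1517 = n1336 := d12_1 D1517 (iv D1336) (iv F6164)
theorem F6959 : act 4 n1517 = n1517 := d27_1 D1517 (iv D1517) F6165
theorem F6960 : act 5 n1517 = n1517 := d30_1 D1517 (iv D1517) (iv D1334) F5363 D1334
theorem F6961 : act 7 n1517 = n1371 := d33_2 (iv F6166) D1517 (iv D1371)
theorem F6962 : act 8 n1517 = n1342 := d34_2 (iv F6167) D1517 (iv D1342)
def n1518 : Q := act 4 n1335
theorem D1518 : act 4 n1335 = n1518 := rfl
theorem F6963 : act 0 n1518 = n1378 := d3_1 D1518 (iv D1378) (iv F6168)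
theorem F6964 : act 2 n1518 = n1353 := d16_1 D1518 (iv D1353) (iv F6169)
theorem F6965 : act 3 n1518 = n1518 := d21_1 D1518 (iv D1518) F6170 F5374 (iv F6170)
theorem F6966 : act 5 n1518 = n1518 := d26_2 D1335 D1518 (iv D1518) (iv D1335) F5368
theorem F6967 : act 7 n1518 = n1354 := d28_2 (iv F6171) D1518 F6254
theorem F6968 : act 8 n1518 = n1343 := d29_2 (iv F6172) D1518 (iv D1343)
theorem F6969 : act 6 n1355 = n1518 := d33_3 F6967 (iv D1354) D1355
def n1519 : Q := act 6 n1335
theorem D1519 : act 6 n1335 = n1519 := rfl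
theorem F6970 : act 0 n1519 = n1379 := d5_1 D1519 (iv D1379) (iv F6168)
theorem F6971 : act 2 n1519 = n1354 := d18_1 D1519 (iv D1354) (iv F6169)
theorem F6972 : act 3 n1519 = n1336 := d23_1 D1519 (iv D1336) (iv F6170)
theorem F6973 : act 4 n1519 = n1355 := d27_1 D1519 F6969 (iv D1518)
theorem F6974 : act 5 n1519 = n1519 := d30_1 D1519 (iv D1519) (iv D1335) F5369 D1335
theorem F6975 : act 7 n1519 = n1353 := d33_2 (iv F6171) D1519 (iv F6251)
theorem F6976 : act 8 n1519 = n1344 := d34_2 (iv F6172) D1519 (iv D1344)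
def n1520 : Q := act 2 n1337
theorem D1520 : act 2 n1337 = n1520 := rfl
theorem F6977 : act 0 n1520 = n1339 := d1_1 D1520 (iv D1339) (iv F6179)
theorem F6978 : act 4 n1520 = n1520 := d16_2 F6181 D1520 (iv D1520)
theorem F6979 : act 6 n1520 = n1520 := d18_2 F6182 D1520 (iv D1520)
theorem F6980 : act 8 n1520 = n1361 := d20_2 (iv F6183) D1520 F6280
def n1521 : Q := act 5 n1337
theorem D1521 : act 5 n1337 = n1521 := rfl
theorem F6981 : act 0 n1521 = n1340 := d4_1 D1521 (iv D1340) (iv F6179)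
theorem F6982 : act 1 n1521 = n1368 := d11_1 D1521 F6307 (iv F6180)
theorem F6983 : act 3 n1521 = n1338 := d22_1 D1521 (iv D1338) D1337
theorem F6984 : act 8 n1521 = n1364 := d32_2 (iv F6183) D1521 F6291
def n1522 : Q := act 7 n1337
theorem D1522 : act 7 n1337 = n1522 := rfl
theorem F6985 : act 0 n1522 = n1341 := d6_1 D1522 (iv D1341) (iv F6179)
theorem F6986 : act 1 n1522 = n1356 := d13_1 D1522 F6266 (iv F6180)
theorem F6987 : act 3 n1522 = n1522 := d24_1 D1522 (iv D1522) (iv D1337) F5385 D1337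
theorem F6988 : act 4 n1522 = n1522 := d28_1 D1522 (iv D1522) F6181
theorem F6989 : act 6 n1522 = n1522 := d33_1 D1522 (iv D1522) F6182
theorem F6990 : act 8 n1522 = n1351 := d35_2 (iv F6183) D1522 (iv D1351) F5414 D1174
def n1523 : Q := act 6 n1338
theorem D1523 : act 6 n1338 = n1523 := rfl
theorem F6991 : act 0 n1523 = n1342 := d5_1 D1523 (iv D1342) (iv F6184)
theorem F6992 : act 1 n1523 = n1376 := d12_1 D1523 F6341 (iv F6185)
theorem F6993 : act 4 n1523 = n1523 := d27_1 D1523 (iv D1523) F6186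
theorem F6994 : act 5 n1523 = n1523 := d30_1 D1523 (iv D1523) (iv D1338) F5384 D1338
theorem F6995 : act 7 n1523 = n1523 := d33_2 F6187 D1523 (iv D1523)
theorem F6996 : act 8 n1523 = n1375 := d34_2 (iv F6188) D1523 F6336
def n1524 : Q := act 5 n1339
theorem D1524 : act 5 n1339 = n1524 := rfl
theorem F6997 : act 1 n1524 = n1360 := d11_1 D1524 (iv D1360) (iv F6189)
theorem F6998 : act 2 n1524 = n1340 := d17_1 D1524 (iv D1340) D1339
def n1525 : Q := act 7 n1339
theorem D1525 : act 7 n1339 = n1525 := rfl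
theorem F6999 : act 1 n1525 = n1361 := d13_1 D1525 (iv D1361) (iv F6189)
theorem F7000 : act 2 n1525 = n1341 := d19_1 D1525 (iv D1341) D1339
theorem F7001 : act 4 n1525 = n1525 := d28_1 D1525 (iv D1525) F6190
theorem F7002 : act 6 n1525 = n1525 := d33_1 D1525 (iv D1525) F6191
def n1526 : Q := act 4 n1340
theorem D1526 : act 4 n1340 = n1526 := rfl
theorem F7003 : act 1 n1526 = n1343 := d10_1 D1526 (iv D1343) (iv F6192)
theorem F7004 : act 3 n1526 = n1526 := d21_1 D1526 (iv D1526) F6193 F5391 (iv F6193)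
theorem F7005 : act 5 n1526 = n1526 := d26_2 D1340 D1526 (iv D1526) (iv D1340) F5388
def n1527 : Q := act 6 n1340
theorem D1527 : act 6 n1340 = n1527 := rfl
theorem F7006 : act 1 n1527 = n1344 := d12_1 D1527 (iv D1344) (iv F6192)
theorem F7007 : act 3 n1527 = n1342 := d23_1 D1527 (iv D1342) (iv F6193)
theorem F7008 : act 5 n1527 = n1527 := d30_1 D1527 (iv D1527) (iv D1340) F5389 D1340
def n1528 : Q := act 7 n1340
theorem D1528 : act 7 n1340 = n1528 := rfl
theorem F7009 : act 1 n1528 = n1345 := d13_1 D1528 (iv D1345) (iv F6192)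
theorem F7010 : act 3 n1528 = n1528 := d24_1 D1528 (iv D1528) F6193 F5392 (iv F6193)
theorem F7011 : act 5 n1528 = n1341 := d31_1 D1528 (iv D1341) D1340
def n1529 : Q := act 8 n1341
theorem D1529 : act 8 n1341 = n1529 := rfl
theorem F7012 : act 0 n1529 = n1351 := d7_1 D1529 (iv F6990) F6985
theorem F7013 : act 1 n1529 = n1346 := d14_1 D1529 (iv D1346) (iv F6194)
theorem F7014 : act 3 n1529 = n1529 := d25_1 D1529 (iv D1529) F6195
theorem F7015 : act 4 n1529 = n1529 := d29_1 D1529 (iv D1529) F6196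
theorem F7016 : act 6 n1529 = n1529 := d34_1 D1529 (iv D1529) F6197
theorem F7017 : act 7 n1529 = n1347 := d35_1 D1529 F6224 (iv F6161) F6162 D1341
def n1530 : Q := act 6 n1343
theorem D1530 : act 6 n1343 = n1530 := rfl
theorem F7018 : act 0 n1530 = n1383 := d5_1 D1530 F6387 (iv F6202)
theorem F7019 : act 2 n1530 = n1365 := d18_1 D1530 (iv D1365) (iv F6203)
theorem F7020 : act 3 n1530 = n1530 := d23_1 D1530 (iv D1530) F6204
theorem F7021 : act 4 n1530 = n1344 := d27_1 D1530 (iv D1344) D1343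
theorem F7022 : act 8 n1530 = n1355 := d34_2 F6968 D1530 F6969
theorem F7023 : act 5 n1356 = n1530 := d32_3 F7022 F6260 D1356
theorem F7024 : act 7 n1368 = n1530 := d35_5 F7022 (iv D1355) F5421 D1178 D1368
def n1531 : Q := act 7 n1343
theorem D1531 : act 7 n1343 = n1531 := rfl
theorem F7025 : act 0 n1531 = n1382 := d6_1 D1531 (iv F6381) (iv F6202)
theorem F7026 : act 2 n1531 = n1366 := d19_1 D1531 (iv D1366) (iv F6203)
theorem F7027 : act 4 n1531 = n1345 := d28_1 D1531 (iv D1345) D1343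
theorem F7028 : act 5 n1531 = n1531 := d31_1 D1531 (iv D1531) F6205
theorem F7029 : act 6 n1531 = n1368 := d33_1 D1531 F7024 (iv D1530)
theorem F7030 : act 8 n1531 = n1367 := d35_2 F6968 D1531 (iv D1367) (iv F6256) (iv F6967)
theorem F7031 : act 3 n1376 = n1531 := d25_3 F7030 F6302 D1376
def n1532 : Q := act 7 n1344
theorem D1532 : act 7 n1344 = n1532 := rfl
theorem F7032 : act 0 n1532 = n1381 := d6_1 D1532 (iv F6374) (iv F6206)
theorem F7033 : act 2 n1532 = n1367 := d19_1 D1532 (iv D1367) (iv F6207)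
theorem F7034 : act 3 n1532 = n1532 := d24_1 D1532 (iv D1532) F6208 F5405 (iv F6208)
theorem F7035 : act 4 n1532 = n1368 := d28_1 D1532 F7024 F7021
theorem F7036 : act 5 n1532 = n1532 := d31_1 D1532 (iv D1532) F6209
theorem F7037 : act 6 n1532 = n1345 := d33_1 D1532 (iv D1345) D1344
theorem F7038 : act 8 n1532 = n1366 := d35_2 F6976 D1532 (iv D1366) (iv F6250) (iv F6975)
def n1533 : Q := act 8 n1345
theorem D1533 : act 8 n1345 = n1533 := rfl
theorem F7039 : act 0 n1533 = n1380 := d7_1 D1533 F6365 (iv F6210)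
theorem F7040 : act 2 n1533 = n1368 := d20_1 D1533 (iv D1368) (iv F6211)
theorem F7041 : act 3 n1533 = n1533 := d25_1 D1533 (iv D1533) F6212
theorem F7042 : act 4 n1533 = n1367 := d29_1 D1533 (iv F7030) F7027
theorem F7043 : act 5 n1533 = n1346 := d32_1 D1533 (iv D1346) (iv F6213)
theorem F7044 : act 6 n1533 = n1366 := d34_1 D1533 (iv F7038) F7037
theorem F7045 : act 7 n1533 = n1365 := d35_1 D1533 F6295 (iv F6171) F6172 D1345
def n1534 : Q := act 2 n1347
theorem D1534 : act 2 n1347 = n1534 := rfl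
theorem F7046 : act 0 n1534 = n1349 := d1_1 D1534 (iv D1349) (iv F6220)
theorem F7047 : act 4 n1534 = n1534 := d16_2 F6222 D1534 (iv D1534)
theorem F7048 : act 6 n1534 = n1534 := d18_2 F6223 D1534 (iv D1534)
theorem F7049 : act 8 n1534 = n1357 := d20_2 (iv F6224) D1534 (iv D1357)
def n1535 : Q := act 5 n1347
theorem D1535 : act 5 n1347 = n1535 := rfl
theorem F7050 : act 0 n1535 = n1350 := d4_1 D1535 (iv D1350) (iv F6220)
theorem F7051 : act 1 n1535 = n1365 := d11_1 D1535 (iv F6296) (iv F6221)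
theorem F7052 : act 3 n1535 = n1348 := d22_1 D1535 (iv D1348) D1347
theorem F7053 : act 8 n1535 = n1358 := d32_2 (iv F6224) D1535 (iv D1358)
theorem F7054 : act 4 n1535 = n1363 := d37_2 F7017 D1535 F6287 (iv F5969) F5968 F5163 F5167 F4510 F4509 (iv F4540) F4539 F3861 F3860 (iv F4260) (iv D903) (iv D756) (iv D611) F2352 F1944 F1671 (iv D293) (iv F1453) (iv F1770) (iv F2170) (iv F2714) (iv F3476) F2701 (iv D563) F2161 F2160 (iv D445) F1752 (iv F1513) (iv F1728) F1733 F1731 (iv D352) (iv D282) (iv F1369) (iv F1594) F1593 (iv D323) F1297 F1062 F878 F877 F876 F743 D166 F833 (iv F999) D243 D299 D373 D469 (iv F2772) (iv F3447) D872 D1036 (iv F5423) (iv F6237) (iv F7012)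
theorem F7055 : act 6 n1362 = n1535 := d27_0 F7054 (iv D1363) D1362
def n1536 : Q := act 5 n1349
theorem D1536 : act 5 n1349 = n1536 := rfl
theorem F7056 : act 2 n1536 = n1350 := d17_1 D1536 (iv D1350) D1349
theorem F7057 : act 8 n1536 = n1360 := d32_2 (iv F6233) D1536 (iv D1360)
def n1537 : Q := act 7 n1349
theorem D1537 : act 7 n1349 = n1537 := rfl
theorem F7058 : act 1 n1537 = n1357 := d13_1 D1537 (iv F6950) F6947
theorem F7059 : act 2 n1537 = n1351 := d19_1 D1537 (iv D1351) D1349
theorem F7060 : act 4 n1537 = n1537 := d28_1 D1537 (iv D1537) F6231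
theorem F7061 : act 6 n1537 = n1537 := d33_1 D1537 (iv D1537) F6232
def n1538 : Q := act 4 n1350
theorem D1538 : act 4 n1350 = n1538 := rfl
theorem F7062 : act 0 n1538 = n1363 := d3_1 D1538 (iv F7054) F7050
theorem F7063 : act 1 n1538 = n1353 := d10_1 D1538 (iv D1353) (iv F6234)
theorem F7064 : act 3 n1538 = n1359 := d21_1 D1538 F6275 F5474 (iv F5416) (iv F6235)
theorem F7065 : act 5 n1538 = n1538 := d26_2 D1350 D1538 (iv D1538) (iv D1350) F5412
theorem F7066 : act 8 n1538 = n1362 := d29_2 (iv F6236) D1538 (iv D1362)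
theorem F7067 : act 6 n1358 = n1538 := d34_3 F7066 F7055 F7053
def n1539 : Q := act 6 n1350
theorem D1539 : act 6 n1350 = n1539 := rfl
theorem F7068 : act 0 n1539 = n1362 := d5_1 D1539 F7055 F7050
theorem F7069 : act 1 n1539 = n1354 := d12_1 D1539 (iv D1354) (iv F6234)
theorem F7070 : act 3 n1539 = n1352 := d23_1 D1539 (iv D1352) (iv F6235)
theorem F7071 : act 4 n1539 = n1358 := d27_1 D1539 F7067 (iv D1538)
theorem F7072 : act 5 n1539 = n1539 := d30_1 D1539 (iv D1539) (iv D1350) F5413 D1350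
theorem F7073 : act 8 n1539 = n1363 := d34_2 (iv F6236) D1539 (iv D1363)
def n1540 : Q := act 7 n1350
theorem D1540 : act 7 n1350 = n1540 := rfl
theorem F7074 : act 1 n1540 = n1355 := d13_1 D1540 (iv D1355) (iv F6234)
theorem F7075 : act 3 n1540 = n1540 := d24_1 D1540 (iv D1540) F6235 F5417 (iv F6235)
theorem F7076 : act 5 n1540 = n1351 := d31_1 D1540 (iv D1351) D1350
def n1541 : Q := act 5 n1357
theorem D1541 : act 5 n1357 = n1541 := rfl
theorem F7077 : act 0 n1541 = n1360 := d4_1 D1541 (iv D1360) (iv F6267)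
theorem F7078 : act 2 n1541 = n1358 := d17_1 D1541 (iv D1358) D1357
def n1542 : Q := act 4 n1360
theorem D1542 : act 4 n1360 = n1542 := rfl
theorem F7079 : act 2 n1542 = n1362 := d16_1 D1542 (iv D1362) (iv F6279)
theorem F7080 : act 5 n1542 = n1542 := d26_2 D1360 D1542 (iv D1542) (iv D1360) F5441
def n1543 : Q := act 6 n1360
theorem D1543 : act 6 n1360 = n1543 := rfl
theorem F7081 : act 2 n1543 = n1363 := d18_1 D1543 (iv D1363) (iv F6279)
theorem F7082 : act 5 n1543 = n1543 := d30_1 D1543 (iv D1543) (iv D1360) F5442 D1360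
def n1544 : Q := act 7 n1360
theorem D1544 : act 7 n1360 = n1544 := rfl
theorem F7083 : act 2 n1544 = n1364 := d19_1 D1544 (iv D1364) (iv F6279)
theorem F7084 : act 5 n1544 = n1361 := d31_1 D1544 (iv D1361) D1360
def n1545 : Q := act 3 n1361
theorem D1545 : act 3 n1361 = n1545 := rfl
theorem F7085 : act 2 n1545 = n1374 := d15_1 D1545 (iv D1374) F5521 (iv F5446) (iv F6280)
theorem F7086 : act 6 n1545 = n1545 := d23_2 F6282 D1545 (iv D1545)
def n1546 : Q := act 7 n1362
theorem D1546 : act 7 n1362 = n1546 := rfl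
theorem F7087 : act 1 n1546 = n1366 := d13_1 D1546 (iv D1366) (iv F6283)
theorem F7088 : act 3 n1546 = n1546 := d24_1 D1546 (iv D1546) F6284 F5495 (iv F6284)
theorem F7089 : act 4 n1546 = n1364 := d28_1 D1546 (iv D1364) D1362
theorem F7090 : act 5 n1546 = n1546 := d31_1 D1546 (iv D1546) F6285
def n1547 : Q := act 7 n1363
theorem D1547 : act 7 n1363 = n1547 := rfl
theorem F7091 : act 1 n1547 = n1367 := d13_1 D1547 (iv D1367) (iv F6286)
theorem F7092 : act 3 n1547 = n1375 := d24_1 D1547 (iv D1375) F5525 (iv F5452) (iv F6287)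
theorem F7093 : act 5 n1547 = n1547 := d31_1 D1547 (iv D1547) F6288
theorem F7094 : act 6 n1547 = n1364 := d33_1 D1547 (iv D1364) D1363
def n1548 : Q := act 3 n1369
theorem D1548 : act 3 n1369 = n1548 := rfl
theorem F7095 : act 1 n1548 = n1548 := d9_1 D1548 (iv D1548) F6308
theorem F7096 : act 5 n1548 = n1548 := d22_2 F6310 D1548 (iv D1548)
def n1549 : Q := act 6 n1370
theorem D1549 : act 6 n1370 = n1549 := rfl
theorem F7097 : act 0 n1549 = n1372 := d5_1 D1549 (iv D1372) (iv F6312)
theorem F7098 : act 2 n1549 = n1371 := d18_1 D1549 (iv D1371) (iv F6313)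
theorem F7099 : act 4 n1549 = n1549 := d27_1 D1549 (iv D1549) F6314
theorem F7100 : act 5 n1549 = n1549 := d30_1 D1549 (iv D1549) (iv D1370) F5504 D1370
theorem F7101 : act 8 n1549 = n1549 := d34_2 F6315 D1549 (iv D1549)
def n1550 : Q := act 7 n1372
theorem D1550 : act 7 n1372 = n1550 := rfl
theorem F7102 : act 1 n1550 = n1550 := d13_1 D1550 (iv D1550) F6322
theorem F7103 : act 2 n1550 = n1375 := d19_1 D1550 (iv D1375) (iv F6323)
theorem F7104 : act 4 n1550 = n1550 := d28_1 D1550 (iv D1550) F6324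
theorem F7105 : act 5 n1550 = n1550 := d31_1 D1550 (iv D1550) F6325
theorem F7106 : act 6 n1550 = n1373 := d33_1 D1550 (iv D1373) D1372
def n1551 : Q := act 3 n1373
theorem D1551 : act 3 n1373 = n1551 := rfl
theorem F7107 : act 1 n1551 = n1551 := d9_1 D1551 (iv D1551) F6327
theorem F7108 : act 5 n1551 = n1374 := d22_2 (iv F6330) D1551 (iv D1374)
def n1552 : Q := act 4 n1374
theorem D1552 : act 4 n1374 = n1552 := rfl
theorem F7109 : act 1 n1552 = n1552 := d10_1 D1552 (iv D1552) F6331
theorem F7110 : act 3 n1552 = n1377 := d21_1 D1552 (iv D1377) (iv D1196) (iv F5522) D1374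
theorem F7111 : act 6 n1552 = n1552 := d27_2 F6332 D1552 (iv D1552)
def n1553 : Q := act 5 n1377
theorem D1553 : act 5 n1377 = n1553 := rfl
theorem F7112 : act 1 n1553 = n1553 := d11_1 D1553 (iv D1553) F6343
theorem F7113 : act 2 n1553 = n1553 := d17_1 D1553 (iv D1553) F6344
theorem F7114 : act 4 n1553 = n1553 := d26_1 D1553 (iv D1553) (iv D1377) F5544 D1377
theorem F7115 : act 7 n1553 = n1553 := d31_2 F6346 D1553 (iv D1553)
def n1554 : Q := act 4 n1384
theorem D1554 : act 4 n1384 = n1554 := rfl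
theorem F7116 : act 0 n1554 = n1385 := d3_1 D1554 (iv D1385) D1384
theorem F7117 : act 1 n1554 = n1554 := d10_1 D1554 (iv D1554) F6389
theorem F7118 : act 2 n1554 = n1554 := d16_1 D1554 (iv D1554) F6390
theorem F7119 : act 6 n1554 = n1554 := d27_2 F6393 D1554 (iv D1554)
theorem F7120 : act 7 n1554 = n1392 := d28_2 (iv F6394) D1554 (iv D1392)
theorem F7121 : act 8 n1554 = n1554 := d29_2 F6395 D1554 (iv D1554)
def n1555 : Q := act 3 n1385
theorem D1555 : act 3 n1385 = n1555 := rfl
theorem F7122 : act 1 n1555 = n1386 := d9_1 D1555 (iv D1386) (iv F6396)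
theorem F7123 : act 4 n1555 = n1555 := d21_2 D1385 D1555 (iv D1555) (iv D1385) F5631
theorem F7124 : act 6 n1555 = n1555 := d23_2 F6398 D1555 (iv D1555)
theorem F7125 : act 8 n1555 = n1555 := d25_2 F6400 D1555 (iv D1555)
def n1556 : Q := act 5 n1385
theorem D1556 : act 5 n1385 = n1556 := rfl
theorem F7126 : act 1 n1556 = n1387 := d11_1 D1556 (iv D1387) (iv F6396)
theorem F7127 : act 2 n1556 = n1556 := d17_1 D1556 (iv D1556) F6397
theorem F7128 : act 4 n1556 = n1556 := d26_1 D1556 (iv D1556) (iv D1385) F5632 D1385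
theorem F7129 : act 7 n1556 = n1394 := d31_2 (iv F6399) D1556 (iv D1394)
theorem F7130 : act 8 n1556 = n1556 := d32_2 F6400 D1556 (iv D1556)
def n1557 : Q := act 5 n1386
theorem D1557 : act 5 n1386 = n1557 := rfl
theorem F7131 : act 0 n1557 = n1557 := d4_1 D1557 (iv D1557) F6401
theorem F7132 : act 2 n1557 = n1557 := d17_1 D1557 (iv D1557) F6402
theorem F7133 : act 3 n1557 = n1387 := d22_1 D1557 (iv D1387) D1386
theorem F7134 : act 8 n1557 = n1557 := d32_2 F6405 D1557 (iv D1557)
def n1558 : Q := act 7 n1386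
theorem D1558 : act 7 n1386 = n1558 := rfl
theorem F7135 : act 0 n1558 = n1558 := d6_1 D1558 (iv D1558) F6401
theorem F7136 : act 2 n1558 = n1558 := d19_1 D1558 (iv D1558) F6402
theorem F7137 : act 3 n1558 = n1396 := d24_1 D1558 (iv D1396) (iv D1224) (iv F5639) D1386
theorem F7138 : act 4 n1558 = n1558 := d28_1 D1558 (iv D1558) F6403
theorem F7139 : act 6 n1558 = n1558 := d33_1 D1558 (iv D1558) F6404
def n1559 : Q := act 6 n1387
theorem D1559 : act 6 n1387 = n1559 := rfl
theorem F7140 : act 0 n1559 = n1559 := d5_1 D1559 (iv D1559) F6406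
theorem F7141 : act 2 n1559 = n1388 := d18_1 D1559 (iv D1388) (iv F6407)
theorem F7142 : act 4 n1559 = n1559 := d27_1 D1559 (iv D1559) F6408
theorem F7143 : act 5 n1559 = n1559 := d30_1 D1559 (iv D1559) (iv D1387) F5638 D1387
theorem F7144 : act 7 n1559 = n1397 := d33_2 (iv F6409) D1559 (iv D1397)
theorem F7145 : act 8 n1559 = n1559 := d34_2 F6410 D1559 (iv D1559)
def n1560 : Q := act 3 n1389
theorem D1560 : act 3 n1389 = n1560 := rfl
theorem F7146 : act 0 n1560 = n1552 := d2_1 D1560 F7110 (iv F6418)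
theorem F7147 : act 1 n1560 = n1390 := d9_1 D1560 (iv D1390) (iv F6419)
theorem F7148 : act 4 n1560 = n1438 := d21_2 D1389 D1560 (iv D1438) (iv D1265) (iv F5648)
theorem F7149 : act 6 n1560 = n1560 := d23_2 F6421 D1560 (iv D1560)
theorem F7150 : act 8 n1560 = n1393 := d25_2 (iv F6423) D1560 (iv D1393)
def n1561 : Q := act 5 n1389
theorem D1561 : act 5 n1389 = n1561 := rfl
theorem F7151 : act 0 n1561 = n1553 := d4_1 D1561 (iv D1553) (iv F6418)
theorem F7152 : act 1 n1561 = n1391 := d11_1 D1561 (iv D1391) (iv F6419)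
theorem F7153 : act 2 n1561 = n1561 := d17_1 D1561 (iv D1561) F6420
theorem F7154 : act 4 n1561 = n1561 := d26_1 D1561 (iv D1561) (iv D1389) F5649 D1389
theorem F7155 : act 7 n1561 = n1561 := d31_2 F6422 D1561 (iv D1561)
theorem F7156 : act 8 n1561 = n1394 := d32_2 (iv F6423) D1561 (iv D1394)
theorem F7157 : act 6 n1514 = n1561 := d38_1 F6945 (iv D1561) (iv D1389) F5648 F5084 (iv D978) F3879 F3556 F3555 (iv F4164) (iv D883) F3518 (iv F4009) (iv F4643) F4642 D1171 F5439 (iv F5480) (iv F6009) F6008 F5193 (iv D1113) (iv D936) (iv D778) (iv F3604) (iv D755) F2930 (iv F3601) F3600 F2956 F3279 F2511 F2007 F1630 F1392 D350 (iv F2127) F2126 (iv F2657) (iv F3342) (iv F4037) (iv F4706) (iv D1006) (iv D837) (iv D680) F2591 (iv F3021) (iv D630) F2423 F1971 F1606 D407 D515 F2480 F2002 D522 (iv F3131) (iv F3868) (iv F4571) D1152 D1331 D1514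
def n1562 : Q := act 5 n1390
theorem D1562 : act 5 n1390 = n1562 := rfl
theorem F7158 : act 0 n1562 = n1562 := d4_1 D1562 (iv D1562) F6424
theorem F7159 : act 2 n1562 = n1404 := d17_1 D1562 (iv D1404) (iv F6425)
theorem F7160 : act 3 n1562 = n1391 := d22_1 D1562 (iv D1391) D1390
theorem F7161 : act 8 n1562 = n1395 := d32_2 (iv F6428) D1562 (iv D1395)
theorem F7162 : act 6 n1513 = n1562 := d23_0 F7160 (iv F6434) (iv F6940)
def n1563 : Q := act 7 n1390
theorem D1563 : act 7 n1390 = n1563 := rfl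
theorem F7163 : act 0 n1563 = n1563 := d6_1 D1563 (iv D1563) F6424
theorem F7164 : act 2 n1563 = n1405 := d19_1 D1563 (iv D1405) (iv F6425)
theorem F7165 : act 3 n1563 = n1563 := d24_1 D1563 (iv D1563) (iv D1390) F5657 D1390
theorem F7166 : act 4 n1563 = n1441 := d28_1 D1563 (iv D1441) (iv F6426)
theorem F7167 : act 6 n1563 = n1563 := d33_1 D1563 (iv D1563) F6427
def n1564 : Q := act 3 n1392
theorem D1564 : act 3 n1392 = n1564 := rfl
theorem F7168 : act 0 n1564 = n1393 := d2_1 D1564 (iv D1393) (iv F6435)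
theorem F7169 : act 1 n1564 = n1564 := d9_1 D1564 (iv D1564) F6436
theorem F7170 : act 4 n1564 = n1443 := d21_2 D1392 D1564 (iv D1443) (iv D1269) (iv F5668)
theorem F7171 : act 6 n1564 = n1564 := d23_2 F6438 D1564 (iv D1564)
theorem F7172 : act 8 n1564 = n1552 := d25_2 (iv F6439) D1564 F7110
def n1565 : Q := act 5 n1392
theorem D1565 : act 5 n1392 = n1565 := rfl
theorem F7173 : act 0 n1565 = n1394 := d4_1 D1565 (iv D1394) (iv F6435)
theorem F7174 : act 1 n1565 = n1565 := d11_1 D1565 (iv D1565) F6436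
theorem F7175 : act 2 n1565 = n1565 := d17_1 D1565 (iv D1565) F6437
theorem F7176 : act 4 n1565 = n1565 := d26_1 D1565 (iv D1565) (iv D1392) F5669 D1392
theorem F7177 : act 8 n1565 = n1553 := d32_2 (iv F6439) D1565 (iv D1553)
def n1566 : Q := act 2 n1393
theorem D1566 : act 2 n1393 = n1566 := rfl
theorem F7178 : act 1 n1566 = n1408 := d8_1 D1566 (iv D1408) F5725 (iv F5676) (iv F6440)
theorem F7179 : act 3 n1566 = n1566 := d15_2 D1393 D1566 (iv D1566) (iv D1393) F5673
theorem F7180 : act 4 n1566 = n1445 := d16_2 (iv F6441) D1566 (iv D1445)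
theorem F7181 : act 6 n1566 = n1566 := d18_2 F6442 D1566 (iv D1566)
def n1567 : Q := act 5 n1393
theorem D1567 : act 5 n1393 = n1567 := rfl
theorem F7182 : act 1 n1567 = n1395 := d11_1 D1567 (iv D1395) (iv F6440)
theorem F7183 : act 3 n1567 = n1394 := d22_1 D1567 (iv D1394) D1393
def n1568 : Q := act 7 n1393
theorem D1568 : act 7 n1393 = n1568 := rfl
theorem F7184 : act 1 n1568 = n1396 := d13_1 D1568 (iv D1396) (iv F6440)
theorem F7185 : act 4 n1568 = n1447 := d28_1 D1568 (iv D1447) (iv F6441)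
theorem F7186 : act 6 n1568 = n1568 := d33_1 D1568 (iv D1568) F6442
def n1569 : Q := act 6 n1394
theorem D1569 : act 6 n1394 = n1569 := rfl
theorem F7187 : act 1 n1569 = n1397 := d12_1 D1569 (iv D1397) (iv F6443)
theorem F7188 : act 2 n1569 = n1569 := d18_1 D1569 (iv D1569) F6444
theorem F7189 : act 4 n1569 = n1569 := d27_1 D1569 (iv D1569) F6445
theorem F7190 : act 5 n1569 = n1569 := d30_1 D1569 (iv D1569) (iv D1394) F5674 D1394
theorem F7191 : act 8 n1569 = n1514 := d34_2 F7156 D1569 F7157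
def n1570 : Q := act 4 n1395
theorem D1570 : act 4 n1395 = n1570 := rfl
theorem F7192 : act 0 n1570 = n1570 := d3_1 D1570 (iv D1570) F6446
theorem F7193 : act 2 n1570 = n1412 := d16_1 D1570 (iv D1412) (iv F6447)
theorem F7194 : act 3 n1570 = n1570 := d21_1 D1570 (iv D1570) F6448 F5681 (iv F6448)
theorem F7195 : act 5 n1570 = n1449 := d26_2 D1395 D1570 (iv D1449) (iv D1272) (iv F5677)
def n1571 : Q := act 6 n1395
theorem D1571 : act 6 n1395 = n1571 := rfl
theorem F7196 : act 0 n1571 = n1571 := d5_1 D1571 (iv D1571) F6446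
theorem F7197 : act 2 n1571 = n1413 := d18_1 D1571 (iv D1413) (iv F6447)
theorem F7198 : act 3 n1571 = n1397 := d23_1 D1571 (iv D1397) (iv F6448)
theorem F7199 : act 5 n1571 = n1571 := d30_1 D1571 (iv D1571) (iv D1395) F5678 D1395
theorem F7200 : act 8 n1571 = n1513 := d34_2 F7161 D1571 F7162
def n1572 : Q := act 7 n1395
theorem D1572 : act 7 n1395 = n1572 := rfl
theorem F7201 : act 0 n1572 = n1572 := d6_1 D1572 (iv D1572) F6446
theorem F7202 : act 2 n1572 = n1414 := d19_1 D1572 (iv D1414) (iv F6447)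
theorem F7203 : act 5 n1572 = n1396 := d31_1 D1572 (iv D1396) D1395
def n1573 : Q := act 8 n1396
theorem D1573 : act 8 n1396 = n1573 := rfl
theorem F7204 : act 0 n1573 = n1573 := d7_1 D1573 (iv D1573) F6449
theorem F7205 : act 2 n1573 = n1415 := d20_1 D1573 (iv D1415) (iv F6450)
theorem F7206 : act 4 n1573 = n1452 := d29_1 D1573 (iv D1452) (iv F6451)
theorem F7207 : act 6 n1573 = n1573 := d34_1 D1573 (iv D1573) F6452
def n1574 : Q := act 4 n1398
theorem D1574 : act 4 n1398 = n1574 := rfl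
theorem F7208 : act 0 n1574 = n1399 := d3_1 D1574 (iv D1399) D1398
theorem F7209 : act 1 n1574 = n1574 := d10_1 D1574 (iv D1574) F6458
theorem F7210 : act 2 n1574 = n1574 := d16_1 D1574 (iv D1574) F6459
theorem F7211 : act 5 n1574 = n1510 := d26_2 (iv F6461) D1574 F6930 F6130 (iv F5747)
theorem F7212 : act 6 n1574 = n1574 := d27_2 F6462 D1574 (iv D1574)
theorem F7213 : act 7 n1574 = n1401 := d28_2 (iv F6463) D1574 (iv D1401)
theorem F7214 : act 8 n1574 = n1574 := d29_2 F6464 D1574 (iv D1574)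
def n1575 : Q := act 3 n1399
theorem D1575 : act 3 n1399 = n1575 := rfl
theorem F7215 : act 1 n1575 = n1400 := d9_1 D1575 (iv D1400) (iv F6465)
theorem F7216 : act 4 n1575 = n1575 := d21_2 D1399 D1575 (iv D1575) (iv D1399) F5689
theorem F7217 : act 5 n1575 = n1502 := d22_2 (iv F6467) D1575 F6898
theorem F7218 : act 6 n1575 = n1575 := d23_2 F6468 D1575 (iv D1575)
theorem F7219 : act 8 n1575 = n1575 := d25_2 F6470 D1575 (iv D1575)
def n1576 : Q := act 7 n1400
theorem D1576 : act 7 n1400 = n1576 := rfl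
theorem F7220 : act 0 n1576 = n1576 := d6_1 D1576 (iv D1576) F6471
theorem F7221 : act 2 n1576 = n1576 := d19_1 D1576 (iv D1576) F6472
theorem F7222 : act 3 n1576 = n1405 := d24_1 D1576 (iv D1405) (iv D1231) (iv F5698) D1400
theorem F7223 : act 4 n1576 = n1576 := d28_1 D1576 (iv D1576) F6473
theorem F7224 : act 5 n1576 = n1506 := d31_1 D1576 (iv D1506) (iv F6474)
theorem F7225 : act 6 n1576 = n1576 := d33_1 D1576 (iv D1576) F6475
def n1577 : Q := act 3 n1401
theorem D1577 : act 3 n1401 = n1577 := rfl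
theorem F7226 : act 0 n1577 = n1402 := d2_1 D1577 (iv D1402) (iv F6477)
theorem F7227 : act 1 n1577 = n1577 := d9_1 D1577 (iv D1577) F6478
theorem F7228 : act 4 n1577 = n1453 := d21_2 D1401 D1577 (iv D1453) (iv D1275) (iv F5702)
theorem F7229 : act 6 n1577 = n1577 := d23_2 F6480 D1577 (iv D1577)
theorem F7230 : act 8 n1577 = n1406 := d25_2 (iv F6481) D1577 (iv D1406)
def n1578 : Q := act 5 n1401
theorem D1578 : act 5 n1401 = n1578 := rfl
theorem F7231 : act 0 n1578 = n1403 := d4_1 D1578 (iv D1403) (iv F6477)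
theorem F7232 : act 1 n1578 = n1578 := d11_1 D1578 (iv D1578) F6478
theorem F7233 : act 2 n1578 = n1578 := d17_1 D1578 (iv D1578) F6479
theorem F7234 : act 4 n1578 = n1417 := d26_1 D1578 (iv D1417) (iv D1240) (iv F5703) D1401
theorem F7235 : act 7 n1578 = n1510 := d31_2 F7213 D1578 (iv F7211)
theorem F7236 : act 8 n1578 = n1407 := d32_2 (iv F6481) D1578 (iv D1407)
theorem F7237 : act 6 n1511 = n1578 := d33_3 F7235 (iv D1510) D1511
def n1579 : Q := act 2 n1402
theorem D1579 : act 2 n1402 = n1579 := rfl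
theorem F7238 : act 3 n1579 = n1579 := d15_2 D1402 D1579 (iv D1579) (iv D1402) F5707
theorem F7239 : act 4 n1579 = n1455 := d16_2 (iv F6483) D1579 (iv D1455)
theorem F7240 : act 6 n1579 = n1579 := d18_2 F6484 D1579 (iv D1579)
theorem F7241 : act 8 n1579 = n1408 := d20_2 (iv F6485) D1579 (iv D1408)
def n1580 : Q := act 5 n1402
theorem D1580 : act 5 n1402 = n1580 := rfl
theorem F7242 : act 1 n1580 = n1404 := d11_1 D1580 (iv D1404) (iv F6482)
theorem F7243 : act 3 n1580 = n1403 := d22_1 D1580 (iv D1403) D1402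
theorem F7244 : act 8 n1580 = n1409 := d32_2 (iv F6485) D1580 (iv D1409)
theorem F7245 : act 6 n1512 = n1580 := d23_0 F7243 (iv F6491) D1512
def n1581 : Q := act 7 n1402
theorem D1581 : act 7 n1402 = n1581 := rfl
theorem F7246 : act 1 n1581 = n1405 := d13_1 D1581 (iv D1405) (iv F6482)
theorem F7247 : act 4 n1581 = n1457 := d28_1 D1581 (iv D1457) (iv F6483)
theorem F7248 : act 6 n1581 = n1581 := d33_1 D1581 (iv D1581) F6484
def n1582 : Q := act 4 n1404
theorem D1582 : act 4 n1404 = n1582 := rfl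
theorem F7249 : act 0 n1582 = n1582 := d3_1 D1582 (iv D1582) F6492
theorem F7250 : act 3 n1582 = n1420 := d21_1 D1582 (iv D1420) F5769 (iv F5716) (iv F6493)
theorem F7251 : act 5 n1582 = n1459 := d26_2 D1404 D1582 (iv D1459) (iv D1278) (iv F5711)
theorem F7252 : act 6 n1582 = n1490 := d27_2 F6495 D1582 F6849
theorem F7253 : act 8 n1582 = n1412 := d29_2 (iv F6494) D1582 (iv D1412)
def n1583 : Q := act 7 n1404
theorem D1583 : act 7 n1404 = n1583 := rfl
theorem F7254 : act 0 n1583 = n1583 := d6_1 D1583 (iv D1583) F6492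
theorem F7255 : act 3 n1583 = n1506 := d24_1 D1583 (iv D1506) F6106 (iv F5717) (iv F6493)
theorem F7256 : act 5 n1583 = n1405 := d31_1 D1583 (iv D1405) D1404
theorem F7257 : act 6 n1583 = n1507 := d33_1 D1583 F6916 F6495
def n1584 : Q := act 8 n1405
theorem D1584 : act 8 n1405 = n1584 := rfl
theorem F7258 : act 0 n1584 = n1584 := d7_1 D1584 (iv D1584) F6496
theorem F7259 : act 4 n1584 = n1462 := d29_1 D1584 (iv D1462) (iv F6497)
theorem F7260 : act 6 n1584 = n1584 := d34_1 D1584 (iv D1584) F6498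
theorem F7261 : act 7 n1584 = n1415 := d35_1 D1584 (iv D1415) (iv D1237) (iv F5713) D1405
def n1585 : Q := act 2 n1406
theorem D1585 : act 2 n1406 = n1585 := rfl
theorem F7262 : act 0 n1585 = n1408 := d1_1 D1585 (iv D1408) (iv F6499)
theorem F7263 : act 3 n1585 = n1585 := d15_2 D1406 D1585 (iv D1585) (iv D1406) F5722
theorem F7264 : act 4 n1585 = n1463 := d16_2 (iv F6501) D1585 (iv D1463)
theorem F7265 : act 6 n1585 = n1585 := d18_2 F6502 D1585 (iv D1585)
def n1586 : Q := act 5 n1406
theorem D1586 : act 5 n1406 = n1586 := rfl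
theorem F7266 : act 0 n1586 = n1409 := d4_1 D1586 (iv D1409) (iv F6499)
theorem F7267 : act 1 n1586 = n1586 := d11_1 D1586 (iv D1586) F6500
theorem F7268 : act 3 n1586 = n1407 := d22_1 D1586 (iv D1407) D1406
def n1587 : Q := act 7 n1406
theorem D1587 : act 7 n1406 = n1587 := rfl
theorem F7269 : act 0 n1587 = n1410 := d6_1 D1587 (iv D1410) (iv F6499)
theorem F7270 : act 1 n1587 = n1587 := d13_1 D1587 (iv D1587) F6500
theorem F7271 : act 3 n1587 = n1587 := d24_1 D1587 (iv D1587) (iv D1406) F5724 D1406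
theorem F7272 : act 4 n1587 = n1465 := d28_1 D1587 (iv D1465) (iv F6501)
theorem F7273 : act 6 n1587 = n1587 := d33_1 D1587 (iv D1587) F6502
def n1588 : Q := act 6 n1407
theorem D1588 : act 6 n1407 = n1588 := rfl
theorem F7274 : act 0 n1588 = n1411 := d5_1 D1588 (iv D1411) (iv F6503)
theorem F7275 : act 1 n1588 = n1588 := d12_1 D1588 (iv D1588) F6504
theorem F7276 : act 2 n1588 = n1588 := d18_1 D1588 (iv D1588) F6505
theorem F7277 : act 4 n1588 = n1424 := d27_1 D1588 (iv D1424) (iv F6506)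
theorem F7278 : act 5 n1588 = n1588 := d30_1 D1588 (iv D1588) (iv D1407) F5723 D1407
theorem F7279 : act 7 n1588 = n1588 := d33_2 F6507 D1588 (iv D1588)
theorem F7280 : act 8 n1588 = n1511 := d34_2 F7236 D1588 F7237
def n1589 : Q := act 5 n1408
theorem D1589 : act 5 n1408 = n1589 := rfl
theorem F7281 : act 2 n1589 = n1409 := d17_1 D1589 (iv D1409) D1408
theorem F7282 : act 3 n1589 = n1589 := d22_1 D1589 (iv D1589) F6508
def n1590 : Q := act 7 n1408
theorem D1590 : act 7 n1408 = n1590 := rfl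
theorem F7283 : act 2 n1590 = n1410 := d19_1 D1590 (iv D1410) D1408
theorem F7284 : act 4 n1590 = n1468 := d28_1 D1590 (iv D1468) (iv F6509)
theorem F7285 : act 6 n1590 = n1590 := d33_1 D1590 (iv D1590) F6510
def n1591 : Q := act 4 n1409
theorem D1591 : act 4 n1409 = n1591 := rfl
theorem F7286 : act 1 n1591 = n1412 := d10_1 D1591 (iv D1412) (iv F6511)
theorem F7287 : act 3 n1591 = n1427 := d21_1 D1591 (iv D1427) F5786 (iv F5730) (iv F6512)
theorem F7288 : act 5 n1591 = n1469 := d26_2 D1409 D1591 (iv D1469) (iv D1284) (iv F5726)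
def n1592 : Q := act 6 n1409
theorem D1592 : act 6 n1409 = n1592 := rfl
theorem F7289 : act 1 n1592 = n1413 := d12_1 D1592 (iv D1413) (iv F6511)
theorem F7290 : act 3 n1592 = n1411 := d23_1 D1592 (iv D1411) (iv F6512)
theorem F7291 : act 5 n1592 = n1592 := d30_1 D1592 (iv D1592) (iv D1409) F5727 D1409
theorem F7292 : act 8 n1592 = n1512 := d34_2 F7244 D1592 F7245
def n1593 : Q := act 7 n1409
theorem D1593 : act 7 n1409 = n1593 := rfl
theorem F7293 : act 1 n1593 = n1414 := d13_1 D1593 (iv D1414) (iv F6511)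
theorem F7294 : act 3 n1593 = n1593 := d24_1 D1593 (iv D1593) F6512 F5731 (iv F6512)
theorem F7295 : act 5 n1593 = n1410 := d31_1 D1593 (iv D1410) D1409
def n1594 : Q := act 8 n1410
theorem D1594 : act 8 n1410 = n1594 := rfl
theorem F7296 : act 1 n1594 = n1415 := d14_1 D1594 (iv D1415) (iv F6513)
theorem F7297 : act 3 n1594 = n1594 := d25_1 D1594 (iv D1594) F6514
theorem F7298 : act 4 n1594 = n1472 := d29_1 D1594 (iv D1472) (iv F6515)
theorem F7299 : act 6 n1594 = n1594 := d34_1 D1594 (iv D1594) F6516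
def n1595 : Q := act 6 n1412
theorem D1595 : act 6 n1412 = n1595 := rfl
theorem F7300 : act 0 n1595 = n1595 := d5_1 D1595 (iv D1595) F6523
theorem F7301 : act 3 n1595 = n1431 := d23_1 D1595 (iv D1431) (iv F6524)
theorem F7302 : act 4 n1595 = n1413 := d27_1 D1595 (iv D1413) D1412
theorem F7303 : act 8 n1595 = n1490 := d34_2 F7253 D1595 (iv F7252)
def n1596 : Q := act 7 n1412
theorem D1596 : act 7 n1412 = n1596 := rfl
theorem F7304 : act 0 n1596 = n1596 := d6_1 D1596 (iv D1596) F6523
theorem F7305 : act 4 n1596 = n1414 := d28_1 D1596 (iv D1414) D1412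
theorem F7306 : act 5 n1596 = n1474 := d31_1 D1596 (iv D1474) (iv F6525)
def n1597 : Q := act 7 n1413
theorem D1597 : act 7 n1413 = n1597 := rfl
theorem F7307 : act 0 n1597 = n1597 := d6_1 D1597 (iv D1597) F6526
theorem F7308 : act 3 n1597 = n1597 := d24_1 D1597 (iv D1597) F6527 F5742 (iv F6527)
theorem F7309 : act 5 n1597 = n1597 := d31_1 D1597 (iv D1597) F6528
theorem F7310 : act 6 n1597 = n1414 := d33_1 D1597 (iv D1414) D1413
def n1598 : Q := act 8 n1414
theorem D1598 : act 8 n1414 = n1598 := rfl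
theorem F7311 : act 0 n1598 = n1598 := d7_1 D1598 (iv D1598) F6530
theorem F7312 : act 3 n1598 = n1598 := d25_1 D1598 (iv D1598) F6531
theorem F7313 : act 5 n1598 = n1415 := d32_1 D1598 (iv D1415) (iv F6532)
def n1599 : Q := act 5 n1416
theorem D1599 : act 5 n1416 = n1599 := rfl
theorem F7314 : act 0 n1599 = n1419 := d4_1 D1599 (iv D1419) (iv F6537)
theorem F7315 : act 1 n1599 = n1599 := d11_1 D1599 (iv D1599) F6538
theorem F7316 : act 2 n1599 = n1481 := d17_1 D1599 F6823 F6543
theorem F7317 : act 3 n1599 = n1417 := d22_1 D1599 (iv D1417) D1416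
theorem F7318 : act 6 n1599 = n1485 := d30_2 (iv F6540) D1599 F6837 F6036 (iv F5817)
theorem F7319 : act 7 n1599 = n1478 := d31_2 (iv F6541) D1599 (iv D1478)
theorem F7320 : act 8 n1599 = n1422 := d32_2 (iv F6542) D1599 (iv D1422)
def n1600 : Q := act 5 n1418
theorem D1600 : act 5 n1418 = n1600 := rfl
theorem F7321 : act 0 n1600 = n1481 := d4_1 D1600 F6823 (iv F6550)
theorem F7322 : act 1 n1600 = n1600 := d11_1 D1600 (iv D1600) F6551
theorem F7323 : act 2 n1600 = n1419 := d17_1 D1600 (iv D1419) D1418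
theorem F7324 : act 3 n1600 = n1600 := d22_1 D1600 (iv D1600) F6552
theorem F7325 : act 6 n1600 = n1487 := d30_2 (iv F6554) D1600 F6843 F6049 (iv F5825)
theorem F7326 : act 7 n1600 = n1477 := d31_2 (iv F6555) D1600 (iv D1477)
theorem F7327 : act 8 n1600 = n1425 := d32_2 (iv F6556) D1600 (iv D1425)
def n1601 : Q := act 4 n1419
theorem D1601 : act 4 n1419 = n1601 := rfl
theorem F7328 : act 1 n1601 = n1420 := d10_1 D1601 (iv D1420) (iv F6557)
theorem F7329 : act 5 n1601 = n1479 := d26_2 D1419 D1601 (iv D1479) (iv D1294) (iv F5758)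
theorem F7330 : act 6 n1601 = n1489 := d27_2 (iv F6559) D1601 F6847
theorem F7331 : act 7 n1601 = n1488 := d28_2 (iv F6560) D1601 F6845
theorem F7332 : act 8 n1601 = n1427 := d29_2 (iv F6561) D1601 (iv D1427)
def n1602 : Q := act 5 n1421
theorem D1602 : act 5 n1421 = n1602 := rfl
theorem F7333 : act 0 n1602 = n1425 := d4_1 D1602 (iv D1425) (iv F6568)
theorem F7334 : act 1 n1602 = n1433 := d11_1 D1602 F6628 F6573
theorem F7335 : act 2 n1602 = n1422 := d17_1 D1602 (iv D1422) D1421
theorem F7336 : act 3 n1602 = n1602 := d22_1 D1602 (iv D1602) F6569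
theorem F7337 : act 6 n1602 = n1429 := d30_2 (iv F6571) D1602 F6609 F5790 F5833
theorem F7338 : act 7 n1602 = n1428 := d31_2 F6574 D1602 F6605
theorem F7339 : act 8 n1602 = n1481 := d32_2 (iv F6572) D1602 F6823
def n1603 : Q := act 4 n1422
theorem D1603 : act 4 n1422 = n1603 := rfl
theorem F7340 : act 0 n1603 = n1427 := d3_1 D1603 (iv D1427) (iv F6575)
theorem F7341 : act 1 n1603 = n1603 := d10_1 D1603 (iv D1603) F6576
theorem F7342 : act 5 n1603 = n1484 := d26_2 D1422 D1603 (iv D1484) (iv D1301) (iv F5775)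
def n1604 : Q := act 6 n1422
theorem D1604 : act 6 n1422 = n1604 := rfl
theorem F7343 : act 0 n1604 = n1428 := d5_1 D1604 (iv D1428) (iv F6575)
theorem F7344 : act 1 n1604 = n1604 := d12_1 D1604 (iv D1604) F6576
theorem F7345 : act 2 n1604 = n1429 := d18_1 D1604 (iv F7337) F7335
theorem F7346 : act 3 n1604 = n1424 := d23_1 D1604 (iv D1424) (iv F6577)
theorem F7347 : act 5 n1604 = n1426 := d30_1 D1604 F6598 (iv D1257) (iv F5776) D1422
theorem F7348 : act 8 n1604 = n1485 := d34_2 F7320 D1604 (iv F7318)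
theorem F7349 : act 7 n1425 = n1604 := d35_5 F7348 (iv D1485) (iv F6806) (iv F7326) F7327
def n1605 : Q := act 7 n1422
theorem D1605 : act 7 n1422 = n1605 := rfl
theorem F7350 : act 0 n1605 = n1429 := d6_1 D1605 (iv D1429) (iv F6575)
theorem F7351 : act 1 n1605 = n1605 := d13_1 D1605 (iv D1605) F6576
theorem F7352 : act 2 n1605 = n1428 := d19_1 D1605 (iv F7338) F7335
theorem F7353 : act 3 n1605 = n1605 := d24_1 D1605 (iv D1605) F6577 F5780 (iv F6577)
theorem F7354 : act 5 n1605 = n1423 := d31_1 D1605 (iv D1423) D1422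
theorem F7355 : act 6 n1605 = n1425 := d33_1 D1605 F7349 (iv D1604)
theorem F7356 : act 8 n1605 = n1487 := d35_2 F7320 D1605 (iv D1487) (iv F6812) (iv F7319)
def n1606 : Q := act 4 n1425
theorem D1606 : act 4 n1425 = n1606 := rfl
theorem F7357 : act 1 n1606 = n1606 := d10_1 D1606 (iv D1606) F6591
theorem F7358 : act 2 n1606 = n1427 := d16_1 D1606 (iv D1427) (iv F6592)
theorem F7359 : act 5 n1606 = n1486 := d26_2 D1425 D1606 (iv D1486) (iv D1304) (iv F5783)
def n1607 : Q := act 6 n1427
theorem D1607 : act 6 n1427 = n1607 := rfl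
theorem F7360 : act 1 n1607 = n1431 := d12_1 D1607 (iv D1431) (iv F6601)
theorem F7361 : act 4 n1607 = n1428 := d27_1 D1607 (iv D1428) D1427
theorem F7362 : act 8 n1607 = n1489 := d34_2 F7332 D1607 (iv F7330)
def n1608 : Q := act 7 n1427
theorem D1608 : act 7 n1427 = n1608 := rfl
theorem F7363 : act 1 n1608 = n1432 := d13_1 D1608 (iv D1432) (iv F6601)
theorem F7364 : act 4 n1608 = n1429 := d28_1 D1608 (iv D1429) D1427
theorem F7365 : act 5 n1608 = n1489 := d31_1 D1608 (iv D1489) (iv F6602)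
def n1609 : Q := act 8 n1429
theorem D1609 : act 8 n1429 = n1609 := rfl
theorem F7366 : act 0 n1609 = n1487 := d7_1 D1609 (iv F7356) F7350
theorem F7367 : act 1 n1609 = n1434 := d14_1 D1609 (iv D1434) (iv F6607)
theorem F7368 : act 2 n1609 = n1485 := d20_1 D1609 (iv F7348) F7345
theorem F7369 : act 3 n1609 = n1609 := d25_1 D1609 (iv D1609) F6608
theorem F7370 : act 5 n1609 = n1430 := d32_1 D1609 (iv D1430) (iv F6609)
theorem F7371 : act 6 n1609 = n1481 := d34_1 D1609 (iv F7339) F7337
theorem F7372 : act 7 n1609 = n1480 := d35_1 D1609 F6820 (iv F6560) F6561 D1429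
def n1610 : Q := act 5 n1431
theorem D1610 : act 5 n1431 = n1610 := rfl
theorem F7373 : act 0 n1610 = n1610 := d4_1 D1610 (iv D1610) F6617
theorem F7374 : act 2 n1610 = n1610 := d17_1 D1610 (iv D1610) F6618
theorem F7375 : act 4 n1610 = n1434 := d26_1 D1610 F6634 F5811 (iv F5802) (iv F6619)
theorem F7376 : act 6 n1610 = n1483 := d30_2 D1431 D1610 F6831 (iv D1309) (iv F5798)
theorem F7377 : act 8 n1610 = n1432 := d32_2 (iv F6620) D1610 F6624
theorem F7378 : act 7 n1482 = n1610 := d35_5 F7377 (iv D1432) (iv F6567) F6566 (iv F6827)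
def n1611 : Q := act 7 n1431
theorem D1611 : act 7 n1431 = n1611 := rfl
theorem F7379 : act 0 n1611 = n1611 := d6_1 D1611 (iv D1611) F6617
theorem F7380 : act 2 n1611 = n1611 := d19_1 D1611 (iv D1611) F6618
theorem F7381 : act 4 n1611 = n1433 := d28_1 D1611 (iv D1433) (iv F6619)
theorem F7382 : act 5 n1611 = n1482 := d31_1 D1611 F7378 (iv D1610)
theorem F7383 : act 6 n1611 = n1432 := d33_1 D1611 (iv D1432) D1431
theorem F7384 : act 8 n1611 = n1483 := d35_2 (iv F6620) D1611 (iv D1483) F6015 D1310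
def n1612 : Q := act 3 n1432
theorem D1612 : act 3 n1432 = n1612 := rfl
theorem F7385 : act 0 n1612 = n1612 := d2_1 D1612 (iv D1612) F6621
theorem F7386 : act 4 n1612 = n1612 := d21_2 (iv F6623) D1612 (iv D1612) F6623 F5806
theorem F7387 : act 5 n1612 = n1490 := d22_2 (iv F6624) D1612 (iv D1490)
def n1613 : Q := act 5 n1435
theorem D1613 : act 5 n1435 = n1613 := rfl
theorem F7388 : act 0 n1613 = n1613 := d4_1 D1613 (iv D1613) F6637
theorem F7389 : act 1 n1613 = n1491 := d11_1 D1613 (iv D1491) (iv F6638)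
theorem F7390 : act 2 n1613 = n1613 := d17_1 D1613 (iv D1613) F6639
theorem F7391 : act 3 n1613 = n1436 := d22_1 D1613 (iv D1436) D1435
theorem F7392 : act 8 n1613 = n1613 := d32_2 F6642 D1613 (iv D1613)
def n1614 : Q := act 7 n1435
theorem D1614 : act 7 n1435 = n1614 := rfl
theorem F7393 : act 0 n1614 = n1614 := d6_1 D1614 (iv D1614) F6637
theorem F7394 : act 1 n1614 = n1492 := d13_1 D1614 (iv D1492) (iv F6638)
theorem F7395 : act 2 n1614 = n1614 := d19_1 D1614 (iv D1614) F6639
theorem F7396 : act 3 n1614 = n1441 := d24_1 D1614 (iv D1441) (iv D1266) (iv F5875) D1435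
theorem F7397 : act 4 n1614 = n1614 := d28_1 D1614 (iv D1614) F6640
theorem F7398 : act 6 n1614 = n1614 := d33_1 D1614 (iv D1614) F6641
def n1615 : Q := act 6 n1436
theorem D1615 : act 6 n1436 = n1615 := rfl
theorem F7399 : act 0 n1615 = n1615 := d5_1 D1615 (iv D1615) F6643
theorem F7400 : act 1 n1615 = n1549 := d12_1 D1615 (iv D1549) (iv F6644)
theorem F7401 : act 2 n1615 = n1437 := d18_1 D1615 (iv D1437) (iv F6645)
theorem F7402 : act 4 n1615 = n1615 := d27_1 D1615 (iv D1615) F6646
theorem F7403 : act 5 n1615 = n1615 := d30_1 D1615 (iv D1615) (iv D1436) F5874 D1436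
theorem F7404 : act 7 n1615 = n1442 := d33_2 (iv F6647) D1615 (iv D1442)
theorem F7405 : act 8 n1615 = n1615 := d34_2 F6648 D1615 (iv D1615)
def n1616 : Q := act 2 n1438
theorem D1616 : act 2 n1438 = n1616 := rfl
theorem F7406 : act 0 n1616 = n1545 := d1_1 D1616 F7085 (iv F6656)
theorem F7407 : act 1 n1616 = n1455 := d8_1 D1616 (iv D1455) F5933 (iv F5890) (iv F6657)
theorem F7408 : act 3 n1616 = n1515 := d15_2 D1438 D1616 (iv D1515) (iv D1333) (iv F5885)
theorem F7409 : act 6 n1616 = n1616 := d18_2 F6658 D1616 (iv D1616)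
theorem F7410 : act 8 n1616 = n1445 := d20_2 (iv F6659) D1616 (iv D1445)
def n1617 : Q := act 5 n1438
theorem D1617 : act 5 n1438 = n1617 := rfl
theorem F7411 : act 0 n1617 = n1551 := d4_1 D1617 F7108 (iv F6656)
theorem F7412 : act 1 n1617 = n1440 := d11_1 D1617 (iv D1440) (iv F6657)
theorem F7413 : act 3 n1617 = n1439 := d22_1 D1617 (iv D1439) D1438
theorem F7414 : act 8 n1617 = n1446 := d32_2 (iv F6659) D1617 (iv D1446)
def n1618 : Q := act 7 n1438
theorem D1618 : act 7 n1438 = n1618 := rfl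
theorem F7415 : act 0 n1618 = n1500 := d6_1 D1618 F6891 (iv F6656)
theorem F7416 : act 1 n1618 = n1441 := d13_1 D1618 (iv D1441) (iv F6657)
theorem F7417 : act 3 n1618 = n1492 := d24_1 D1618 (iv D1492) F6064 (iv F5887) D1438
theorem F7418 : act 6 n1618 = n1618 := d33_1 D1618 (iv D1618) F6658
def n1619 : Q := act 6 n1439
theorem D1619 : act 6 n1439 = n1619 := rfl
theorem F7419 : act 0 n1619 = n1550 := d5_1 D1619 F7106 (iv F6660)
theorem F7420 : act 1 n1619 = n1442 := d12_1 D1619 (iv D1442) (iv F6661)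
theorem F7421 : act 2 n1619 = n1517 := d18_1 D1619 (iv D1517) (iv F6662)
theorem F7422 : act 4 n1619 = n1619 := d27_1 D1619 (iv D1619) F6663
theorem F7423 : act 5 n1619 = n1619 := d30_1 D1619 (iv D1619) (iv D1439) F5886 D1439
theorem F7424 : act 7 n1619 = n1549 := d33_2 (iv F6664) D1619 (iv D1549)
theorem F7425 : act 8 n1619 = n1448 := d34_2 (iv F6665) D1619 (iv D1448)
def n1620 : Q := act 4 n1440
theorem D1620 : act 4 n1440 = n1620 := rfl
theorem F7426 : act 0 n1620 = n1620 := d3_1 D1620 (iv D1620) F6666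
theorem F7427 : act 2 n1620 = n1459 := d16_1 D1620 (iv D1459) (iv F6667)
theorem F7428 : act 3 n1620 = n1620 := d21_1 D1620 (iv D1620) F6668 F5895 (iv F6668)
theorem F7429 : act 8 n1620 = n1449 := d29_2 (iv F6669) D1620 (iv D1449)
def n1621 : Q := act 6 n1440
theorem D1621 : act 6 n1440 = n1621 := rfl
theorem F7430 : act 0 n1621 = n1621 := d5_1 D1621 (iv D1621) F6666
theorem F7431 : act 2 n1621 = n1460 := d18_1 D1621 (iv D1460) (iv F6667)
theorem F7432 : act 3 n1621 = n1442 := d23_1 D1621 (iv D1442) (iv F6668)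
theorem F7433 : act 5 n1621 = n1621 := d30_1 D1621 (iv D1621) (iv D1440) F5891 D1440
theorem F7434 : act 8 n1621 = n1450 := d34_2 (iv F6669) D1621 (iv D1450)
def n1622 : Q := act 7 n1440
theorem D1622 : act 7 n1440 = n1622 := rfl
theorem F7435 : act 0 n1622 = n1622 := d6_1 D1622 (iv D1622) F6666
theorem F7436 : act 2 n1622 = n1461 := d19_1 D1622 (iv D1461) (iv F6667)
theorem F7437 : act 5 n1622 = n1441 := d31_1 D1622 (iv D1441) D1440
def n1623 : Q := act 8 n1441
theorem D1623 : act 8 n1441 = n1623 := rfl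
theorem F7438 : act 0 n1623 = n1623 := d7_1 D1623 (iv D1623) F6670
theorem F7439 : act 2 n1623 = n1462 := d20_1 D1623 (iv D1462) (iv F6671)
theorem F7440 : act 6 n1623 = n1623 := d34_1 D1623 (iv D1623) F6672
theorem F7441 : act 7 n1623 = n1452 := d35_1 D1623 (iv D1452) (iv D1273) (iv F5892) D1441
def n1624 : Q := act 2 n1443
theorem D1624 : act 2 n1443 = n1624 := rfl
theorem F7442 : act 0 n1624 = n1445 := d1_1 D1624 (iv D1445) (iv F6678)
theorem F7443 : act 3 n1624 = n1520 := d15_2 D1443 D1624 (iv D1520) (iv D1337) (iv F5905)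
theorem F7444 : act 6 n1624 = n1624 := d18_2 F6680 D1624 (iv D1624)
theorem F7445 : act 8 n1624 = n1545 := d20_2 (iv F6681) D1624 F7085
def n1625 : Q := act 5 n1443
theorem D1625 : act 5 n1443 = n1625 := rfl
theorem F7446 : act 0 n1625 = n1446 := d4_1 D1625 (iv D1446) (iv F6678)
theorem F7447 : act 1 n1625 = n1625 := d11_1 D1625 (iv D1625) F6679
theorem F7448 : act 3 n1625 = n1444 := d22_1 D1625 (iv D1444) D1443
theorem F7449 : act 8 n1625 = n1551 := d32_2 (iv F6681) D1625 F7108
def n1626 : Q := act 7 n1443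
theorem D1626 : act 7 n1443 = n1626 := rfl
theorem F7450 : act 0 n1626 = n1447 := d6_1 D1626 (iv D1447) (iv F6678)
theorem F7451 : act 1 n1626 = n1626 := d13_1 D1626 (iv D1626) F6679
theorem F7452 : act 3 n1626 = n1626 := d24_1 D1626 (iv D1626) (iv D1443) F5907 D1443
theorem F7453 : act 6 n1626 = n1626 := d33_1 D1626 (iv D1626) F6680
def n1627 : Q := act 6 n1444
theorem D1627 : act 6 n1444 = n1627 := rfl
theorem F7454 : act 0 n1627 = n1448 := d5_1 D1627 (iv D1448) (iv F6682)
theorem F7455 : act 1 n1627 = n1627 := d12_1 D1627 (iv D1627) F6683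
theorem F7456 : act 2 n1627 = n1523 := d18_1 D1627 (iv D1523) (iv F6684)
theorem F7457 : act 4 n1627 = n1627 := d27_1 D1627 (iv D1627) F6685
theorem F7458 : act 5 n1627 = n1627 := d30_1 D1627 (iv D1627) (iv D1444) F5906 D1444
theorem F7459 : act 7 n1627 = n1627 := d33_2 F6686 D1627 (iv D1627)
theorem F7460 : act 8 n1627 = n1550 := d34_2 (iv F6687) D1627 F7106
def n1628 : Q := act 5 n1445
theorem D1628 : act 5 n1445 = n1628 := rfl
theorem F7461 : act 1 n1628 = n1467 := d11_1 D1628 (iv D1467) (iv F6688)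
theorem F7462 : act 2 n1628 = n1446 := d17_1 D1628 (iv D1446) D1445
theorem F7463 : act 3 n1628 = n1524 := d22_1 D1628 (iv D1524) (iv F6689)
def n1629 : Q := act 7 n1445
theorem D1629 : act 7 n1445 = n1629 := rfl
theorem F7464 : act 1 n1629 = n1468 := d13_1 D1629 (iv D1468) (iv F6688)
theorem F7465 : act 2 n1629 = n1447 := d19_1 D1629 (iv D1447) D1445
theorem F7466 : act 6 n1629 = n1629 := d33_1 D1629 (iv D1629) F6690
def n1630 : Q := act 4 n1446
theorem D1630 : act 4 n1446 = n1630 := rfl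
theorem F7467 : act 1 n1630 = n1449 := d10_1 D1630 (iv D1449) (iv F6691)
theorem F7468 : act 3 n1630 = n1630 := d21_1 D1630 (iv D1630) F6692 F5913 (iv F6692)
def n1631 : Q := act 6 n1446
theorem D1631 : act 6 n1446 = n1631 := rfl
theorem F7469 : act 1 n1631 = n1450 := d12_1 D1631 (iv D1450) (iv F6691)
theorem F7470 : act 3 n1631 = n1448 := d23_1 D1631 (iv D1448) (iv F6692)
theorem F7471 : act 5 n1631 = n1631 := d30_1 D1631 (iv D1631) (iv D1446) F5910 D1446
def n1632 : Q := act 7 n1446
theorem D1632 : act 7 n1446 = n1632 := rfl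
theorem F7472 : act 1 n1632 = n1451 := d13_1 D1632 (iv D1451) (iv F6691)
theorem F7473 : act 3 n1632 = n1632 := d24_1 D1632 (iv D1632) F6692 F5914 (iv F6692)
theorem F7474 : act 5 n1632 = n1447 := d31_1 D1632 (iv D1447) D1446
def n1633 : Q := act 8 n1447
theorem D1633 : act 8 n1447 = n1633 := rfl
theorem F7475 : act 1 n1633 = n1452 := d14_1 D1633 (iv D1452) (iv F6693)
theorem F7476 : act 3 n1633 = n1633 := d25_1 D1633 (iv D1633) F6694
theorem F7477 : act 6 n1633 = n1633 := d34_1 D1633 (iv D1633) F6695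
def n1634 : Q := act 6 n1449
theorem D1634 : act 6 n1449 = n1634 := rfl
theorem F7478 : act 0 n1634 = n1634 := d5_1 D1634 (iv D1634) F6701
theorem F7479 : act 2 n1634 = n1473 := d18_1 D1634 (iv D1473) (iv F6702)
theorem F7480 : act 3 n1634 = n1634 := d23_1 D1634 (iv D1634) F6703
theorem F7481 : act 4 n1634 = n1450 := d27_1 D1634 (iv D1450) D1449
def n1635 : Q := act 7 n1449
theorem D1635 : act 7 n1449 = n1635 := rfl
theorem F7482 : act 0 n1635 = n1635 := d6_1 D1635 (iv D1635) F6701
theorem F7483 : act 2 n1635 = n1474 := d19_1 D1635 (iv D1474) (iv F6702)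
theorem F7484 : act 4 n1635 = n1451 := d28_1 D1635 (iv D1451) D1449
def n1636 : Q := act 7 n1450
theorem D1636 : act 7 n1450 = n1636 := rfl
theorem F7485 : act 0 n1636 = n1636 := d6_1 D1636 (iv D1636) F6704
theorem F7486 : act 2 n1636 = n1475 := d19_1 D1636 (iv D1475) (iv F6705)
theorem F7487 : act 3 n1636 = n1636 := d24_1 D1636 (iv D1636) F6706 F5926 (iv F6706)
theorem F7488 : act 5 n1636 = n1636 := d31_1 D1636 (iv D1636) F6707
theorem F7489 : act 6 n1636 = n1451 := d33_1 D1636 (iv D1451) D1450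
def n1637 : Q := act 8 n1451
theorem D1637 : act 8 n1451 = n1637 := rfl
theorem F7490 : act 0 n1637 = n1637 := d7_1 D1637 (iv D1637) F6708
theorem F7491 : act 2 n1637 = n1476 := d20_1 D1637 (iv D1476) (iv F6709)
theorem F7492 : act 3 n1637 = n1637 := d25_1 D1637 (iv D1637) F6710
theorem F7493 : act 5 n1637 = n1452 := d32_1 D1637 (iv D1452) (iv F6711)
def n1638 : Q := act 2 n1453
theorem D1638 : act 2 n1453 = n1638 := rfl
theorem F7494 : act 0 n1638 = n1455 := d1_1 D1638 (iv D1455) (iv F6716)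
theorem F7495 : act 3 n1638 = n1534 := d15_2 D1453 D1638 (iv D1534) (iv D1347) (iv F5929)
theorem F7496 : act 6 n1638 = n1638 := d18_2 F6718 D1638 (iv D1638)
theorem F7497 : act 8 n1638 = n1463 := d20_2 (iv F6719) D1638 (iv D1463)
def n1639 : Q := act 5 n1453
theorem D1639 : act 5 n1453 = n1639 := rfl
theorem F7498 : act 0 n1639 = n1456 := d4_1 D1639 (iv D1456) (iv F6716)
theorem F7499 : act 1 n1639 = n1639 := d11_1 D1639 (iv D1639) F6717
theorem F7500 : act 3 n1639 = n1454 := d22_1 D1639 (iv D1454) D1453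
theorem F7501 : act 8 n1639 = n1464 := d32_2 (iv F6719) D1639 (iv D1464)
theorem F7502 : act 6 n1548 = n1639 := d23_0 F7500 (iv F6726) D1548
def n1640 : Q := act 7 n1453
theorem D1640 : act 7 n1453 = n1640 := rfl
theorem F7503 : act 0 n1640 = n1457 := d6_1 D1640 (iv D1457) (iv F6716)
theorem F7504 : act 1 n1640 = n1640 := d13_1 D1640 (iv D1640) F6717
theorem F7505 : act 3 n1640 = n1640 := d24_1 D1640 (iv D1640) (iv D1453) F5931 D1453
theorem F7506 : act 6 n1640 = n1640 := d33_1 D1640 (iv D1640) F6718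
def n1641 : Q := act 5 n1455
theorem D1641 : act 5 n1455 = n1641 := rfl
theorem F7507 : act 2 n1641 = n1456 := d17_1 D1641 (iv D1456) D1455
theorem F7508 : act 3 n1641 = n1536 := d22_1 D1641 (iv D1536) (iv F6727)
theorem F7509 : act 8 n1641 = n1467 := d32_2 (iv F6729) D1641 (iv D1467)
def n1642 : Q := act 7 n1455
theorem D1642 : act 7 n1455 = n1642 := rfl
theorem F7510 : act 2 n1642 = n1457 := d19_1 D1642 (iv D1457) D1455
theorem F7511 : act 6 n1642 = n1642 := d33_1 D1642 (iv D1642) F6728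
def n1643 : Q := act 4 n1456
theorem D1643 : act 4 n1456 = n1643 := rfl
theorem F7512 : act 1 n1643 = n1459 := d10_1 D1643 (iv D1459) (iv F6730)
theorem F7513 : act 3 n1643 = n1479 := d21_1 D1643 (iv D1479) F6001 (iv F5938) (iv F6731)
theorem F7514 : act 8 n1643 = n1469 := d29_2 (iv F6732) D1643 (iv D1469)
def n1644 : Q := act 6 n1456
theorem D1644 : act 6 n1456 = n1644 := rfl
theorem F7515 : act 0 n1644 = n1548 := d5_1 D1644 F7502 F7498
theorem F7516 : act 1 n1644 = n1460 := d12_1 D1644 (iv D1460) (iv F6730)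
theorem F7517 : act 3 n1644 = n1458 := d23_1 D1644 (iv D1458) (iv F6731)
theorem F7518 : act 5 n1644 = n1644 := d30_1 D1644 (iv D1644) (iv D1456) F5934 D1456
theorem F7519 : act 8 n1644 = n1470 := d34_2 (iv F6732) D1644 (iv D1470)
def n1645 : Q := act 7 n1456
theorem D1645 : act 7 n1456 = n1645 := rfl
theorem F7520 : act 1 n1645 = n1461 := d13_1 D1645 (iv D1461) (iv F6730)
theorem F7521 : act 3 n1645 = n1645 := d24_1 D1645 (iv D1645) F6731 F5939 (iv F6731)
theorem F7522 : act 5 n1645 = n1457 := d31_1 D1645 (iv D1457) D1456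
def n1646 : Q := act 8 n1457
theorem D1646 : act 8 n1457 = n1646 := rfl
theorem F7523 : act 1 n1646 = n1462 := d14_1 D1646 (iv D1462) (iv F6733)
theorem F7524 : act 3 n1646 = n1646 := d25_1 D1646 (iv D1646) F6734
theorem F7525 : act 6 n1646 = n1646 := d34_1 D1646 (iv D1646) F6735
theorem F7526 : act 7 n1646 = n1472 := d35_1 D1646 (iv D1472) (iv D1285) (iv F5935) D1457
def n1647 : Q := act 6 n1459
theorem D1647 : act 6 n1459 = n1647 := rfl
theorem F7527 : act 0 n1647 = n1647 := d5_1 D1647 (iv D1647) F6743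
theorem F7528 : act 3 n1647 = n1482 := d23_1 D1647 (iv D1482) (iv F6744)
theorem F7529 : act 4 n1647 = n1460 := d27_1 D1647 (iv D1460) D1459
theorem F7530 : act 8 n1647 = n1473 := d34_2 (iv F6745) D1647 (iv D1473)
def n1648 : Q := act 7 n1459
theorem D1648 : act 7 n1459 = n1648 := rfl
theorem F7531 : act 0 n1648 = n1648 := d6_1 D1648 (iv D1648) F6743
theorem F7532 : act 4 n1648 = n1461 := d28_1 D1648 (iv D1461) D1459
def n1649 : Q := act 7 n1460
theorem D1649 : act 7 n1460 = n1649 := rfl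
theorem F7533 : act 0 n1649 = n1649 := d6_1 D1649 (iv D1649) F6746
theorem F7534 : act 3 n1649 = n1649 := d24_1 D1649 (iv D1649) F6747 F5951 (iv F6747)
theorem F7535 : act 5 n1649 = n1649 := d31_1 D1649 (iv D1649) F6748
theorem F7536 : act 6 n1649 = n1461 := d33_1 D1649 (iv D1461) D1460
def n1650 : Q := act 8 n1461
theorem D1650 : act 8 n1461 = n1650 := rfl
theorem F7537 : act 0 n1650 = n1650 := d7_1 D1650 (iv D1650) F6750
theorem F7538 : act 3 n1650 = n1650 := d25_1 D1650 (iv D1650) F6751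
theorem F7539 : act 5 n1650 = n1462 := d32_1 D1650 (iv D1462) (iv F6752)
theorem F7540 : act 7 n1650 = n1476 := d35_1 D1650 (iv D1476) (iv D1289) (iv F5943) D1461
def n1651 : Q := act 1 n1463
theorem D1651 : act 1 n1463 = n1651 := rfl
theorem F7541 : act 2 n1651 = n1651 := d8_2 D1463 D1651 (iv D1651) (iv D1463) F5954
theorem F7542 : act 3 n1651 = n1537 := d9_2 (iv F6758) D1651 F7058
theorem F7543 : act 6 n1651 = n1651 := d12_2 F6759 D1651 (iv D1651)
def n1652 : Q := act 5 n1463
theorem D1652 : act 5 n1463 = n1652 := rfl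
theorem F7544 : act 0 n1652 = n1467 := d4_1 D1652 (iv D1467) (iv F6757)
theorem F7545 : act 2 n1652 = n1464 := d17_1 D1652 (iv D1464) D1463
theorem F7546 : act 3 n1652 = n1541 := d22_1 D1652 (iv D1541) (iv F6758)
def n1653 : Q := act 7 n1463
theorem D1653 : act 7 n1463 = n1653 := rfl
theorem F7547 : act 0 n1653 = n1468 := d6_1 D1653 (iv D1468) (iv F6757)
theorem F7548 : act 2 n1653 = n1465 := d19_1 D1653 (iv D1465) D1463
theorem F7549 : act 6 n1653 = n1653 := d33_1 D1653 (iv D1653) F6759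
def n1654 : Q := act 4 n1464
theorem D1654 : act 4 n1464 = n1654 := rfl
theorem F7550 : act 0 n1654 = n1469 := d3_1 D1654 (iv D1469) (iv F6760)
theorem F7551 : act 1 n1654 = n1654 := d10_1 D1654 (iv D1654) F6761
theorem F7552 : act 3 n1654 = n1484 := d21_1 D1654 (iv D1484) F6032 (iv F5959) (iv F6762)
def n1655 : Q := act 6 n1464
theorem D1655 : act 6 n1464 = n1655 := rfl
theorem F7553 : act 0 n1655 = n1470 := d5_1 D1655 (iv D1470) (iv F6760)
theorem F7554 : act 1 n1655 = n1655 := d12_1 D1655 (iv D1655) F6761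
theorem F7555 : act 3 n1655 = n1466 := d23_1 D1655 (iv D1466) (iv F6762)
theorem F7556 : act 5 n1655 = n1655 := d30_1 D1655 (iv D1655) (iv D1464) F5955 D1464
theorem F7557 : act 8 n1655 = n1548 := d34_2 F7501 D1655 F7502
def n1656 : Q := act 7 n1464
theorem D1656 : act 7 n1464 = n1656 := rfl
theorem F7558 : act 0 n1656 = n1471 := d6_1 D1656 (iv D1471) (iv F6760)
theorem F7559 : act 1 n1656 = n1656 := d13_1 D1656 (iv D1656) F6761
theorem F7560 : act 3 n1656 = n1495 := d24_1 D1656 (iv D1495) F6070 (iv F5960) (iv F6762)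
theorem F7561 : act 5 n1656 = n1465 := d31_1 D1656 (iv D1465) D1464
def n1657 : Q := act 8 n1465
theorem D1657 : act 8 n1465 = n1657 := rfl
theorem F7562 : act 0 n1657 = n1472 := d7_1 D1657 (iv D1472) (iv F6763)
theorem F7563 : act 1 n1657 = n1657 := d14_1 D1657 (iv D1657) F6764
theorem F7564 : act 3 n1657 = n1496 := d25_1 D1657 (iv D1496) (iv F6765)
theorem F7565 : act 6 n1657 = n1657 := d34_1 D1657 (iv D1657) F6766
def n1658 : Q := act 4 n1467
theorem D1658 : act 4 n1467 = n1658 := rfl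
theorem F7566 : act 2 n1658 = n1469 := d16_1 D1658 (iv D1469) (iv F6774)
def n1659 : Q := act 6 n1467
theorem D1659 : act 6 n1467 = n1659 := rfl
theorem F7567 : act 2 n1659 = n1470 := d18_1 D1659 (iv D1470) (iv F6774)
theorem F7568 : act 3 n1659 = n1543 := d23_1 D1659 (iv D1543) (iv F6775)
theorem F7569 : act 5 n1659 = n1659 := d30_1 D1659 (iv D1659) (iv D1467) F5962 D1467
def n1660 : Q := act 7 n1467
theorem D1660 : act 7 n1467 = n1660 := rfl
theorem F7570 : act 2 n1660 = n1471 := d19_1 D1660 (iv D1471) (iv F6774)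
theorem F7571 : act 5 n1660 = n1468 := d31_1 D1660 (iv D1468) D1467
def n1661 : Q := act 3 n1468
theorem D1661 : act 3 n1468 = n1661 := rfl
theorem F7572 : act 2 n1661 = n1500 := d15_1 D1661 (iv D1500) F6087 (iv F5966) (iv F6776)
theorem F7573 : act 6 n1661 = n1661 := d23_2 F6777 D1661 (iv D1661)
theorem F7574 : act 7 n1661 = n1545 := d24_2 D1468 D1661 (iv D1545) (iv D1361) (iv F5961)
def n1662 : Q := act 8 n1468
theorem D1662 : act 8 n1468 = n1662 := rfl
theorem F7575 : act 2 n1662 = n1472 := d20_1 D1662 (iv D1472) (iv F6776)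
theorem F7576 : act 6 n1662 = n1662 := d34_1 D1662 (iv D1662) F6777
def n1663 : Q := act 6 n1469
theorem D1663 : act 6 n1469 = n1663 := rfl
theorem F7577 : act 1 n1663 = n1473 := d12_1 D1663 (iv D1473) (iv F6778)
theorem F7578 : act 3 n1663 = n1488 := d23_1 D1663 (iv D1488) (iv F6779)
theorem F7579 : act 4 n1663 = n1470 := d27_1 D1663 (iv D1470) D1469
def n1664 : Q := act 7 n1469
theorem D1664 : act 7 n1469 = n1664 := rfl
theorem F7580 : act 1 n1664 = n1474 := d13_1 D1664 (iv D1474) (iv F6778)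
theorem F7581 : act 4 n1664 = n1471 := d28_1 D1664 (iv D1471) D1469
def n1665 : Q := act 7 n1470
theorem D1665 : act 7 n1470 = n1665 := rfl
theorem F7582 : act 1 n1665 = n1475 := d13_1 D1665 (iv D1475) (iv F6780)
theorem F7583 : act 3 n1665 = n1504 := d24_1 D1665 (iv D1504) F6095 (iv F5972) (iv F6781)
theorem F7584 : act 5 n1665 = n1665 := d31_1 D1665 (iv D1665) F6782
theorem F7585 : act 6 n1665 = n1471 := d33_1 D1665 (iv D1471) D1470
def n1666 : Q := act 8 n1471
theorem D1666 : act 8 n1471 = n1666 := rfl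
theorem F7586 : act 1 n1666 = n1476 := d14_1 D1666 (iv D1476) (iv F6783)
theorem F7587 : act 3 n1666 = n1505 := d25_1 D1666 (iv D1505) (iv F6784)
theorem F7588 : act 5 n1666 = n1472 := d32_1 D1666 (iv D1472) (iv F6785)
def n1667 : Q := act 5 n1473
theorem D1667 : act 5 n1473 = n1667 := rfl
theorem F7589 : act 0 n1667 = n1667 := d4_1 D1667 (iv D1667) F6789
theorem F7590 : act 3 n1667 = n1483 := d22_1 D1667 F6831 (iv F6790)
theorem F7591 : act 4 n1667 = n1667 := d26_1 D1667 (iv D1667) F6791 F5977 (iv F6791)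
def n1668 : Q := act 7 n1473
theorem D1668 : act 7 n1473 = n1668 := rfl
theorem F7592 : act 0 n1668 = n1668 := d6_1 D1668 (iv D1668) F6789
theorem F7593 : act 4 n1668 = n1475 := d28_1 D1668 (iv D1475) (iv F6791)
theorem F7594 : act 6 n1668 = n1474 := d33_1 D1668 (iv D1474) D1473
def n1669 : Q := act 3 n1474
theorem D1669 : act 3 n1474 = n1669 := rfl
theorem F7595 : act 0 n1669 = n1669 := d2_1 D1669 (iv D1669) F6792
theorem F7596 : act 4 n1669 = n1507 := d21_2 (iv F6793) D1669 (iv D1507) F6111 (iv F5979)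
theorem F7597 : act 7 n1669 = n1490 := d24_2 D1474 D1669 (iv D1490) (iv D1310) (iv F5974)
def n1670 : Q := act 8 n1474
theorem D1670 : act 8 n1474 = n1670 := rfl
theorem F7598 : act 0 n1670 = n1670 := d7_1 D1670 (iv D1670) F6792
theorem F7599 : act 4 n1670 = n1476 := d29_1 D1670 (iv D1476) (iv F6793)
def n1671 : Q := act 8 n1475
theorem D1671 : act 8 n1475 = n1671 := rfl
theorem F7600 : act 0 n1671 = n1671 := d7_1 D1671 (iv D1671) F6794
theorem F7601 : act 3 n1671 = n1509 := d25_1 D1671 (iv D1509) (iv F6795)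
theorem F7602 : act 5 n1671 = n1671 := d32_1 D1671 (iv D1671) F6796
theorem F7603 : act 6 n1671 = n1476 := d34_1 D1671 (iv D1476) (iv F6797)
def n1672 : Q := act 4 n1477
theorem D1672 : act 4 n1477 = n1672 := rfl
theorem F7604 : act 0 n1672 = n1479 := d3_1 D1672 (iv D1479) (iv F6801)
theorem F7605 : act 1 n1672 = n1672 := d10_1 D1672 (iv D1672) F6802
theorem F7606 : act 2 n1672 = n1488 := d16_1 D1672 F6845 (iv F6803)
theorem F7607 : act 6 n1672 = n1486 := d27_2 (iv F6805) D1672 (iv D1486)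
theorem F7608 : act 8 n1672 = n1484 := d29_2 (iv F6806) D1672 (iv D1484)
def n1673 : Q := act 4 n1478
theorem D1673 : act 4 n1478 = n1673 := rfl
theorem F7609 : act 0 n1673 = n1488 := d3_1 D1673 F6845 (iv F6807)
theorem F7610 : act 1 n1673 = n1673 := d10_1 D1673 (iv D1673) F6808
theorem F7611 : act 2 n1673 = n1479 := d16_1 D1673 (iv D1479) (iv F6809)
theorem F7612 : act 6 n1673 = n1484 := d27_2 (iv F6811) D1673 (iv D1484)
theorem F7613 : act 8 n1673 = n1486 := d29_2 (iv F6812) D1673 (iv D1486)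
def n1674 : Q := act 6 n1479
theorem D1674 : act 6 n1479 = n1674 := rfl
theorem F7614 : act 0 n1674 = n1486 := d5_1 D1674 (iv F7607) F7604
theorem F7615 : act 1 n1674 = n1482 := d12_1 D1674 (iv D1482) (iv F6813)
theorem F7616 : act 2 n1674 = n1484 := d18_1 D1674 (iv F7612) F7611
theorem F7617 : act 4 n1674 = n1480 := d27_1 D1674 (iv D1480) D1479
theorem F7618 : act 8 n1674 = n1488 := d34_2 (iv F6814) D1674 (iv D1488)
def n1675 : Q := act 7 n1479
theorem D1675 : act 7 n1479 = n1675 := rfl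
theorem F7619 : act 1 n1675 = n1483 := d13_1 D1675 (iv D1483) (iv F6813)
theorem F7620 : act 4 n1675 = n1481 := d28_1 D1675 (iv D1481) D1479
theorem F7621 : act 5 n1675 = n1488 := d31_1 D1675 (iv F7331) F7329
def n1676 : Q := act 7 n1484
theorem D1676 : act 7 n1484 = n1676 := rfl
theorem F7622 : act 0 n1676 = n1489 := d6_1 D1676 (iv D1489) (iv F6832)
theorem F7623 : act 1 n1676 = n1676 := d13_1 D1676 (iv D1676) F6833
theorem F7624 : act 4 n1676 = n1485 := d28_1 D1676 (iv D1485) D1484
def n1677 : Q := act 3 n1486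
theorem D1677 : act 3 n1486 = n1677 := rfl
theorem F7625 : act 1 n1677 = n1677 := d9_1 D1677 (iv D1677) F6838
theorem F7626 : act 4 n1677 = n1548 := d21_2 D1486 D1677 (iv D1548) (iv D1369) (iv F6045)
def n1678 : Q := act 7 n1486
theorem D1678 : act 7 n1486 = n1678 := rfl
theorem F7627 : act 1 n1678 = n1678 := d13_1 D1678 (iv D1678) F6838
theorem F7628 : act 2 n1678 = n1489 := d19_1 D1678 (iv D1489) (iv F6839)
theorem F7629 : act 4 n1678 = n1487 := d28_1 D1678 (iv D1487) D1486
def n1679 : Q := act 3 n1489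
theorem D1679 : act 3 n1489 = n1679 := rfl
theorem F7630 : act 1 n1679 = n1490 := d9_1 D1679 (iv D1490) (iv F6846)
theorem F7631 : act 4 n1679 = n1512 := d21_2 (iv F6847) D1679 (iv D1512) F6142 (iv F6055)
def n1680 : Q := act 2 n1490
theorem D1680 : act 2 n1490 = n1680 := rfl
theorem F7632 : act 0 n1680 = n1680 := d1_1 D1680 (iv D1680) F6848
theorem F7633 : act 3 n1680 = n1680 := d15_2 D1490 D1680 (iv D1680) (iv D1490) F6061
theorem F7634 : act 4 n1680 = n1513 := d16_2 (iv F6849) D1680 (iv D1513)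
def n1681 : Q := act 4 n1491
theorem D1681 : act 4 n1491 = n1681 := rfl
theorem F7635 : act 0 n1681 = n1497 := d3_1 D1681 (iv D1497) (iv F6850)
theorem F7636 : act 2 n1681 = n1493 := d16_1 D1681 (iv D1493) (iv F6851)
theorem F7637 : act 3 n1681 = n1681 := d21_1 D1681 (iv D1681) F6852 F6314 (iv F6852)
theorem F7638 : act 5 n1681 = n1681 := d26_2 D1491 D1681 (iv D1681) (iv D1491) F6065
theorem F7639 : act 8 n1681 = n1681 := d29_2 F6853 D1681 (iv D1681)
def n1682 : Q := act 6 n1491
theorem D1682 : act 6 n1491 = n1682 := rfl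
theorem F7640 : act 0 n1682 = n1498 := d5_1 D1682 (iv D1498) (iv F6850)
theorem F7641 : act 2 n1682 = n1494 := d18_1 D1682 (iv D1494) (iv F6851)
theorem F7642 : act 3 n1682 = n1549 := d23_1 D1682 (iv D1549) (iv F6852)
theorem F7643 : act 5 n1682 = n1682 := d30_1 D1682 (iv D1682) (iv D1491) F6066 D1491
theorem F7644 : act 8 n1682 = n1682 := d34_2 F6853 D1682 (iv D1682)
def n1683 : Q := act 7 n1491
theorem D1683 : act 7 n1491 = n1683 := rfl
theorem F7645 : act 0 n1683 = n1499 := d6_1 D1683 (iv D1499) (iv F6850)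
theorem F7646 : act 2 n1683 = n1495 := d19_1 D1683 (iv D1495) (iv F6851)
theorem F7647 : act 5 n1683 = n1492 := d31_1 D1683 (iv D1492) D1491
def n1684 : Q := act 8 n1492
theorem D1684 : act 8 n1492 = n1684 := rfl
theorem F7648 : act 0 n1684 = n1501 := d7_1 D1684 (iv D1501) (iv F6854)
theorem F7649 : act 2 n1684 = n1496 := d20_1 D1684 (iv D1496) (iv F6855)
theorem F7650 : act 4 n1684 = n1684 := d29_1 D1684 (iv D1684) F6856
theorem F7651 : act 6 n1684 = n1684 := d34_1 D1684 (iv D1684) F6857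
theorem F7652 : act 7 n1684 = n1684 := d35_1 D1684 (iv D1684) (iv D1492) F6067 D1492
def n1685 : Q := act 6 n1493
theorem D1685 : act 6 n1493 = n1685 := rfl
theorem F7653 : act 0 n1685 = n1502 := d5_1 D1685 (iv D1502) (iv F6858)
theorem F7654 : act 1 n1685 = n1685 := d12_1 D1685 (iv D1685) F6859
theorem F7655 : act 3 n1685 = n1510 := d23_1 D1685 (iv D1510) (iv F6860)
theorem F7656 : act 4 n1685 = n1494 := d27_1 D1685 (iv D1494) D1493
theorem F7657 : act 8 n1685 = n1685 := d34_2 F6862 D1685 (iv D1685)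
def n1686 : Q := act 7 n1493
theorem D1686 : act 7 n1493 = n1686 := rfl
theorem F7658 : act 0 n1686 = n1503 := d6_1 D1686 (iv D1503) (iv F6858)
theorem F7659 : act 1 n1686 = n1686 := d13_1 D1686 (iv D1686) F6859
theorem F7660 : act 4 n1686 = n1495 := d28_1 D1686 (iv D1495) D1493
theorem F7661 : act 5 n1686 = n1686 := d31_1 D1686 (iv D1686) F6861
def n1687 : Q := act 7 n1494
theorem D1687 : act 7 n1494 = n1687 := rfl
theorem F7662 : act 0 n1687 = n1504 := d6_1 D1687 (iv D1504) (iv F6863)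
theorem F7663 : act 1 n1687 = n1687 := d13_1 D1687 (iv D1687) F6864
theorem F7664 : act 5 n1687 = n1687 := d31_1 D1687 (iv D1687) F6866
theorem F7665 : act 6 n1687 = n1495 := d33_1 D1687 (iv D1495) D1494
def n1688 : Q := act 8 n1495
theorem D1688 : act 8 n1495 = n1688 := rfl
theorem F7666 : act 0 n1688 = n1505 := d7_1 D1688 (iv D1505) (iv F6868)
theorem F7667 : act 1 n1688 = n1688 := d14_1 D1688 (iv D1688) F6869
theorem F7668 : act 5 n1688 = n1496 := d32_1 D1688 (iv D1496) (iv F6870)
theorem F7669 : act 7 n1688 = n1688 := d35_1 D1688 (iv D1688) (iv D1495) F6071 D1495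
def n1689 : Q := act 6 n1497
theorem D1689 : act 6 n1497 = n1689 := rfl
theorem F7670 : act 1 n1689 = n1689 := d12_1 D1689 (iv D1689) F6876
theorem F7671 : act 2 n1689 = n1502 := d18_1 D1689 (iv D1502) (iv F6877)
theorem F7672 : act 3 n1689 = n1689 := d23_1 D1689 (iv D1689) F6878
theorem F7673 : act 4 n1689 = n1498 := d27_1 D1689 (iv D1498) D1497
theorem F7674 : act 8 n1689 = n1689 := d34_2 F6880 D1689 (iv D1689)
def n1690 : Q := act 7 n1497
theorem D1690 : act 7 n1497 = n1690 := rfl
theorem F7675 : act 1 n1690 = n1690 := d13_1 D1690 (iv D1690) F6876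
theorem F7676 : act 2 n1690 = n1503 := d19_1 D1690 (iv D1503) (iv F6877)
theorem F7677 : act 4 n1690 = n1499 := d28_1 D1690 (iv D1499) D1497
theorem F7678 : act 5 n1690 = n1690 := d31_1 D1690 (iv D1690) F6879
def n1691 : Q := act 7 n1498
theorem D1691 : act 7 n1498 = n1691 := rfl
theorem F7679 : act 1 n1691 = n1691 := d13_1 D1691 (iv D1691) F6881
theorem F7680 : act 2 n1691 = n1504 := d19_1 D1691 (iv D1504) (iv F6882)
theorem F7681 : act 5 n1691 = n1691 := d31_1 D1691 (iv D1691) F6884
theorem F7682 : act 6 n1691 = n1499 := d33_1 D1691 (iv D1499) D1498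
def n1692 : Q := act 3 n1499
theorem D1692 : act 3 n1499 = n1692 := rfl
theorem F7683 : act 1 n1692 = n1692 := d9_1 D1692 (iv D1692) F6886
theorem F7684 : act 5 n1692 = n1500 := d22_2 (iv F6888) D1692 (iv D1500)
theorem F7685 : act 7 n1692 = n1551 := d24_2 D1499 D1692 (iv D1551) (iv D1373) (iv F6084)
def n1693 : Q := act 8 n1499
theorem D1693 : act 8 n1499 = n1693 := rfl
theorem F7686 : act 1 n1693 = n1693 := d14_1 D1693 (iv D1693) F6886
theorem F7687 : act 2 n1693 = n1505 := d20_1 D1693 (iv D1505) (iv F6887)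
theorem F7688 : act 5 n1693 = n1501 := d32_1 D1693 (iv D1501) (iv F6888)
theorem F7689 : act 7 n1693 = n1693 := d35_1 D1693 (iv D1693) (iv D1499) F6085 D1499
def n1694 : Q := act 4 n1500
theorem D1694 : act 4 n1500 = n1694 := rfl
theorem F7690 : act 1 n1694 = n1694 := d10_1 D1694 (iv D1694) F6889
theorem F7691 : act 3 n1694 = n1694 := d21_1 D1694 (iv D1694) (iv D1500) F6088 D1500
theorem F7692 : act 6 n1694 = n1694 := d27_2 F6890 D1694 (iv D1694)
theorem F7693 : act 7 n1694 = n1552 := d28_2 (iv F6891) D1694 (iv D1552)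
def n1695 : Q := act 8 n1500
theorem D1695 : act 8 n1500 = n1695 := rfl
theorem F7694 : act 1 n1695 = n1695 := d14_1 D1695 (iv D1695) F6889
theorem F7695 : act 3 n1695 = n1501 := d25_1 D1695 (iv D1501) D1500
theorem F7696 : act 6 n1695 = n1695 := d34_1 D1695 (iv D1695) F6890
def n1696 : Q := act 7 n1502
theorem D1696 : act 7 n1502 = n1696 := rfl
theorem F7697 : act 1 n1696 = n1506 := d13_1 D1696 (iv D1506) (iv F6897)
theorem F7698 : act 4 n1696 = n1504 := d28_1 D1696 (iv D1504) (iv F6899)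
theorem F7699 : act 6 n1696 = n1503 := d33_1 D1696 (iv D1503) D1502
def n1697 : Q := act 3 n1503
theorem D1697 : act 3 n1503 = n1697 := rfl
theorem F7700 : act 1 n1697 = n1507 := d9_1 D1697 (iv D1507) (iv F6901)
theorem F7701 : act 5 n1697 = n1697 := d22_2 F6903 D1697 (iv D1697)
theorem F7702 : act 7 n1697 = n1512 := d24_2 D1503 D1697 (iv D1512) (iv D1329) (iv F6091)
def n1698 : Q := act 8 n1503
theorem D1698 : act 8 n1503 = n1698 := rfl
theorem F7703 : act 1 n1698 = n1508 := d14_1 D1698 (iv D1508) (iv F6901)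
theorem F7704 : act 4 n1698 = n1505 := d29_1 D1698 (iv D1505) (iv F6902)
theorem F7705 : act 5 n1698 = n1698 := d32_1 D1698 (iv D1698) F6903
theorem F7706 : act 7 n1698 = n1698 := d35_1 D1698 (iv D1698) (iv D1503) F6093 D1503
def n1699 : Q := act 8 n1504
theorem D1699 : act 8 n1504 = n1699 := rfl
theorem F7707 : act 1 n1699 = n1509 := d14_1 D1699 (iv D1509) (iv F6904)
theorem F7708 : act 5 n1699 = n1699 := d32_1 D1699 (iv D1699) F6905
theorem F7709 : act 6 n1699 = n1505 := d34_1 D1699 (iv D1505) (iv F6906)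
theorem F7710 : act 7 n1699 = n1699 := d35_1 D1699 (iv D1699) (iv D1504) F6097 D1504
def n1700 : Q := act 8 n1506
theorem D1700 : act 8 n1506 = n1700 := rfl
theorem F7711 : act 0 n1700 = n1700 := d7_1 D1700 (iv D1700) F6910
theorem F7712 : act 2 n1700 = n1700 := d20_1 D1700 (iv D1700) F6911
theorem F7713 : act 4 n1700 = n1509 := d29_1 D1700 (iv D1509) (iv F6912)
theorem F7714 : act 6 n1700 = n1508 := d34_1 D1700 (iv D1508) (iv F6913)
theorem F7715 : act 7 n1700 = n1700 := d35_1 D1700 (iv D1700) (iv D1506) F6108 D1506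
def n1701 : Q := act 2 n1507
theorem D1701 : act 2 n1507 = n1701 := rfl
theorem F7716 : act 0 n1701 = n1701 := d1_1 D1701 (iv D1701) F6914
theorem F7717 : act 3 n1701 = n1701 := d15_2 D1507 D1701 (iv D1701) (iv D1507) F6110
theorem F7718 : act 5 n1701 = n1701 := d17_2 F6915 D1701 (iv D1701)
theorem F7719 : act 7 n1701 = n1513 := d19_2 (iv F6916) D1701 (iv D1513)
def n1702 : Q := act 8 n1507
theorem D1702 : act 8 n1507 = n1702 := rfl
theorem F7720 : act 0 n1702 = n1702 := d7_1 D1702 (iv D1702) F6914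
theorem F7721 : act 3 n1702 = n1508 := d25_1 D1702 (iv D1508) D1507
theorem F7722 : act 5 n1702 = n1702 := d32_1 D1702 (iv D1702) F6915
def n1703 : Q := act 3 n1511
theorem D1703 : act 3 n1511 = n1703 := rfl
theorem F7723 : act 0 n1703 = n1512 := d2_1 D1703 (iv D1512) (iv F6932)
theorem F7724 : act 1 n1703 = n1703 := d9_1 D1703 (iv D1703) F6933
theorem F7725 : act 5 n1703 = n1703 := d22_2 F6936 D1703 (iv D1703)
def n1704 : Q := act 2 n1512
theorem D1704 : act 2 n1512 = n1704 := rfl
theorem F7726 : act 3 n1704 = n1704 := d15_2 D1512 D1704 (iv D1704) (iv D1512) F6141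
theorem F7727 : act 5 n1704 = n1704 := d17_2 F6938 D1704 (iv D1704)
def n1705 : Q := act 1 n1513
theorem D1705 : act 1 n1513 = n1705 := rfl
theorem F7728 : act 3 n1705 = n1514 := d9_2 (iv F6940) D1705 (iv D1514)
theorem F7729 : act 5 n1705 = n1705 := d11_2 F6941 D1705 (iv D1705)
def n1706 : Q := act 0 n1514
theorem D1706 : act 0 n1514 = n1706 := rfl
theorem F7730 : act 1 n1706 = n1706 := d0_2 D1514 D1706 (iv D1706) (iv D1514) F6146
theorem F7731 : act 2 n1706 = n1706 := d1_2 F6942 D1706 (iv D1706)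
theorem F7732 : act 4 n1706 = n1706 := d3_2 F6943 D1706 (iv D1706)
theorem F7733 : act 5 n1706 = n1706 := d4_2 F6944 D1706 (iv D1706)
theorem F7734 : act 6 n1706 = n1553 := d5_2 (iv F7157) D1706 (iv F7151)
theorem F7735 : act 7 n1706 = n1706 := d6_2 F6945 D1706 (iv D1706)
def n1707 : Q := act 5 n1515
theorem D1707 : act 5 n1515 = n1707 := rfl
theorem F7736 : act 0 n1707 = n1544 := d4_1 D1707 F7084 (iv F6946)
theorem F7737 : act 1 n1707 = n1536 := d11_1 D1707 (iv D1536) (iv F6947)
theorem F7738 : act 2 n1707 = n1516 := d17_1 D1707 (iv D1516) D1515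
theorem F7739 : act 7 n1707 = n1541 := d31_2 (iv F6950) D1707 (iv D1541)
theorem F7740 : act 8 n1707 = n1524 := d32_2 (iv F6951) D1707 (iv D1524)
def n1708 : Q := act 4 n1516
theorem D1708 : act 4 n1516 = n1708 := rfl
theorem F7741 : act 0 n1708 = n1546 := d3_1 D1708 F7089 (iv F6952)
theorem F7742 : act 1 n1708 = n1518 := d10_1 D1708 (iv D1518) (iv F6953)
theorem F7743 : act 3 n1708 = n1708 := d21_1 D1708 (iv D1708) F6954 F6165 (iv F6954)
theorem F7744 : act 5 n1708 = n1708 := d26_2 D1516 D1708 (iv D1708) (iv D1516) F6159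
theorem F7745 : act 7 n1708 = n1539 := d28_2 (iv F6955) D1708 F7071
theorem F7746 : act 8 n1708 = n1526 := d29_2 (iv F6956) D1708 (iv D1526)
theorem F7747 : act 6 n1540 = n1708 := d33_3 F7745 (iv D1539) D1540
def n1709 : Q := act 6 n1516
theorem D1709 : act 6 n1516 = n1709 := rfl
theorem F7748 : act 0 n1709 = n1547 := d5_1 D1709 F7094 (iv F6952)
theorem F7749 : act 1 n1709 = n1519 := d12_1 D1709 (iv D1519) (iv F6953)
theorem F7750 : act 3 n1709 = n1517 := d23_1 D1709 (iv D1517) (iv F6954)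
theorem F7751 : act 4 n1709 = n1540 := d27_1 D1709 F7747 (iv D1708)
theorem F7752 : act 5 n1709 = n1709 := d30_1 D1709 (iv D1709) (iv D1516) F6160 D1516
theorem F7753 : act 7 n1709 = n1538 := d33_2 (iv F6955) D1709 (iv F7067)
theorem F7754 : act 8 n1709 = n1527 := d34_2 (iv F6956) D1709 (iv D1527)
def n1710 : Q := act 1 n1520
theorem D1710 : act 1 n1520 = n1710 := rfl
theorem F7755 : act 0 n1710 = n1537 := d0_1 D1710 F7058 F6267 (iv F6189) (iv F6977)
theorem F7756 : act 2 n1710 = n1529 := d8_2 D1520 D1710 F7013 F6215 (iv F6180)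
theorem F7757 : act 4 n1710 = n1710 := d10_2 F6978 D1710 (iv D1710)
theorem F7758 : act 6 n1710 = n1710 := d12_2 F6979 D1710 (iv D1710)
theorem F7759 : act 8 n1710 = n1525 := d14_2 (iv F6980) D1710 F6999
theorem F7760 : act 7 n1534 = n1710 := d35_5 F7759 (iv D1525) (iv F6951) F6950 (iv F7049)
def n1711 : Q := act 5 n1520
theorem D1711 : act 5 n1520 = n1711 := rfl
theorem F7761 : act 0 n1711 = n1524 := d4_1 D1711 (iv D1524) (iv F6977)
theorem F7762 : act 2 n1711 = n1521 := d17_1 D1711 (iv D1521) D1520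
theorem F7763 : act 8 n1711 = n1544 := d32_2 (iv F6980) D1711 F7084
def n1712 : Q := act 7 n1520
theorem D1712 : act 7 n1520 = n1712 := rfl
theorem F7764 : act 0 n1712 = n1525 := d6_1 D1712 (iv D1525) (iv F6977)
theorem F7765 : act 1 n1712 = n1534 := d13_1 D1712 F7760 (iv D1710)
theorem F7766 : act 2 n1712 = n1522 := d19_1 D1712 (iv D1522) D1520
theorem F7767 : act 4 n1712 = n1712 := d28_1 D1712 (iv D1712) F6978
theorem F7768 : act 6 n1712 = n1712 := d33_1 D1712 (iv D1712) F6979
theorem F7769 : act 8 n1712 = n1537 := d35_2 (iv F6980) D1712 (iv D1537) F6233 D1361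
def n1713 : Q := act 4 n1521
theorem D1713 : act 4 n1521 = n1713 := rfl
theorem F7770 : act 0 n1713 = n1526 := d3_1 D1713 (iv D1526) (iv F6981)
theorem F7771 : act 1 n1713 = n1532 := d10_1 D1713 F7035 (iv F6982)
theorem F7772 : act 3 n1713 = n1713 := d21_1 D1713 (iv D1713) F6983 F6186 (iv F6983)
theorem F7773 : act 5 n1713 = n1713 := d26_2 D1521 D1713 (iv D1713) (iv D1521) F6181
theorem F7774 : act 8 n1713 = n1546 := d29_2 (iv F6984) D1713 F7089
theorem F7775 : act 7 n1527 = n1713 := d35_5 F7774 (iv D1546) (iv F7066) (iv F7753) F7754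
theorem F7776 : act 6 n1713 = n1528 := d33_1 F7775 (iv D1528) D1527
def n1714 : Q := act 6 n1521
theorem D1714 : act 6 n1521 = n1714 := rfl
theorem F7777 : act 0 n1714 = n1527 := d5_1 D1714 (iv D1527) (iv F6981)
theorem F7778 : act 1 n1714 = n1531 := d12_1 D1714 F7029 (iv F6982)
theorem F7779 : act 3 n1714 = n1523 := d23_1 D1714 (iv D1523) (iv F6983)
theorem F7780 : act 4 n1714 = n1528 := d27_1 D1714 (iv F7776) (iv D1713)
theorem F7781 : act 5 n1714 = n1714 := d30_1 D1714 (iv D1714) (iv D1521) F6182 D1521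
theorem F7782 : act 8 n1714 = n1547 := d34_2 (iv F6984) D1714 F7094
theorem F7783 : act 7 n1526 = n1714 := d35_5 F7782 (iv D1547) (iv F7073) (iv F7745) F7746
def n1715 : Q := act 7 n1521
theorem D1715 : act 7 n1521 = n1715 := rfl
theorem F7784 : act 0 n1715 = n1528 := d6_1 D1715 (iv D1528) (iv F6981)
theorem F7785 : act 1 n1715 = n1530 := d13_1 D1715 (iv F7024) (iv F6982)
theorem F7786 : act 3 n1715 = n1715 := d24_1 D1715 (iv D1715) F6983 F6187 (iv F6983)
theorem F7787 : act 4 n1715 = n1527 := d28_1 D1715 F7775 (iv D1713)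
theorem F7788 : act 5 n1715 = n1522 := d31_1 D1715 (iv D1522) D1521
theorem F7789 : act 6 n1715 = n1526 := d33_1 D1715 F7783 (iv D1714)
theorem F7790 : act 8 n1715 = n1540 := d35_2 (iv F6984) D1715 (iv D1540) F6236 D1364
def n1716 : Q := act 4 n1524
theorem D1716 : act 4 n1524 = n1716 := rfl
theorem F7791 : act 1 n1716 = n1542 := d10_1 D1716 (iv D1542) (iv F6997)
theorem F7792 : act 2 n1716 = n1526 := d16_1 D1716 (iv D1526) (iv F6998)
theorem F7793 : act 5 n1716 = n1716 := d26_2 D1524 D1716 (iv D1716) (iv D1524) F6190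
def n1717 : Q := act 6 n1524
theorem D1717 : act 6 n1524 = n1717 := rfl
theorem F7794 : act 1 n1717 = n1543 := d12_1 D1717 (iv D1543) (iv F6997)
theorem F7795 : act 2 n1717 = n1527 := d18_1 D1717 (iv D1527) (iv F6998)
theorem F7796 : act 5 n1717 = n1717 := d30_1 D1717 (iv D1717) (iv D1524) F6191 D1524
def n1718 : Q := act 7 n1524
theorem D1718 : act 7 n1524 = n1718 := rfl
theorem F7797 : act 1 n1718 = n1544 := d13_1 D1718 (iv D1544) (iv F6997)
theorem F7798 : act 2 n1718 = n1528 := d19_1 D1718 (iv D1528) (iv F6998)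
theorem F7799 : act 5 n1718 = n1525 := d31_1 D1718 (iv D1525) D1524
def n1719 : Q := act 3 n1525
theorem D1719 : act 3 n1525 = n1719 := rfl
theorem F7800 : act 1 n1719 = n1545 := d9_1 D1719 (iv D1545) (iv F6999)
theorem F7801 : act 2 n1719 = n1719 := d15_1 D1719 (iv D1719) F7000 F6195 (iv F7000)
theorem F7802 : act 6 n1719 = n1719 := d23_2 F7002 D1719 (iv D1719)
def n1720 : Q := act 8 n1528
theorem D1720 : act 8 n1528 = n1720 := rfl
theorem F7803 : act 0 n1720 = n1540 := d7_1 D1720 (iv F7790) F7784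
theorem F7804 : act 1 n1720 = n1533 := d14_1 D1720 (iv D1533) (iv F7009)
theorem F7805 : act 3 n1720 = n1720 := d25_1 D1720 (iv D1720) F7010
theorem F7806 : act 4 n1720 = n1547 := d29_1 D1720 (iv F7782) F7780
theorem F7807 : act 5 n1720 = n1529 := d32_1 D1720 (iv D1529) (iv F7011)
theorem F7808 : act 6 n1720 = n1546 := d34_1 D1720 (iv F7774) F7776
theorem F7809 : act 7 n1720 = n1535 := d35_1 D1720 F7053 (iv F6955) F6956 D1528
def n1721 : Q := act 5 n1534
theorem D1721 : act 5 n1534 = n1721 := rfl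
theorem F7810 : act 0 n1721 = n1536 := d4_1 D1721 (iv D1536) (iv F7046)
theorem F7811 : act 2 n1721 = n1535 := d17_1 D1721 (iv D1535) D1534
theorem F7812 : act 8 n1721 = n1541 := d32_2 (iv F7049) D1721 (iv D1541)
theorem F7813 : act 4 n1543 = n1721 := d16_0 F7811 F7054 (iv F7081)
theorem F7814 : act 6 n1542 = n1721 := d18_0 F7811 (iv F7055) (iv F7079)
def n1722 : Q := act 4 n1536
theorem D1722 : act 4 n1536 = n1722 := rfl
theorem F7815 : act 0 n1722 = n1543 := d3_1 D1722 F7813 F7810
theorem F7816 : act 2 n1722 = n1538 := d16_1 D1722 (iv D1538) (iv F7056)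
theorem F7817 : act 5 n1722 = n1722 := d26_2 D1536 D1722 (iv D1722) (iv D1536) F6231
theorem F7818 : act 8 n1722 = n1542 := d29_2 (iv F7057) D1722 (iv D1542)
theorem F7819 : act 6 n1541 = n1722 := d34_3 F7818 F7814 F7812
def n1723 : Q := act 6 n1536
theorem D1723 : act 6 n1536 = n1723 := rfl
theorem F7820 : act 0 n1723 = n1542 := d5_1 D1723 F7814 F7810
theorem F7821 : act 2 n1723 = n1539 := d18_1 D1723 (iv D1539) (iv F7056)
theorem F7822 : act 4 n1723 = n1541 := d27_1 D1723 F7819 (iv D1722)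
theorem F7823 : act 5 n1723 = n1723 := d30_1 D1723 (iv D1723) (iv D1536) F6232 D1536
theorem F7824 : act 8 n1723 = n1543 := d34_2 (iv F7057) D1723 (iv D1543)
def n1724 : Q := act 7 n1536
theorem D1724 : act 7 n1536 = n1724 := rfl
theorem F7825 : act 1 n1724 = n1541 := d13_1 D1724 (iv F7739) F7737
theorem F7826 : act 2 n1724 = n1540 := d19_1 D1724 (iv D1540) (iv F7056)
theorem F7827 : act 5 n1724 = n1537 := d31_1 D1724 (iv D1537) D1536
def n1725 : Q := act 3 n1542
theorem D1725 : act 3 n1542 = n1725 := rfl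
theorem F7828 : act 2 n1725 = n1548 := d15_1 D1725 (iv D1548) F6309 (iv F6284) (iv F7079)
theorem F7829 : act 5 n1725 = n1725 := d22_2 F7080 D1725 (iv D1725)
def n1726 : Q := act 7 n1542
theorem D1726 : act 7 n1542 = n1726 := rfl
theorem F7830 : act 2 n1726 = n1546 := d19_1 D1726 (iv D1546) (iv F7079)
theorem F7831 : act 4 n1726 = n1544 := d28_1 D1726 (iv D1544) D1542
theorem F7832 : act 5 n1726 = n1726 := d31_1 D1726 (iv D1726) F7080
def n1727 : Q := act 7 n1543
theorem D1727 : act 7 n1543 = n1727 := rfl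
theorem F7833 : act 2 n1727 = n1547 := d19_1 D1727 (iv D1547) (iv F7081)
theorem F7834 : act 5 n1727 = n1727 := d31_1 D1727 (iv D1727) F7082
theorem F7835 : act 6 n1727 = n1544 := d33_1 D1727 (iv D1544) D1543
def n1728 : Q := act 3 n1544
theorem D1728 : act 3 n1544 = n1728 := rfl
theorem F7836 : act 2 n1728 = n1551 := d15_1 D1728 (iv D1551) F6328 (iv F6290) (iv F7083)
theorem F7837 : act 5 n1728 = n1545 := d22_2 (iv F7084) D1728 (iv D1545)
def n1729 : Q := act 4 n1545
theorem D1729 : act 4 n1545 = n1729 := rfl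
theorem F7838 : act 2 n1729 = n1552 := d16_1 D1729 (iv D1552) (iv F7085)
theorem F7839 : act 3 n1729 = n1729 := d21_1 D1729 (iv D1729) (iv D1545) F6281 D1545
theorem F7840 : act 6 n1729 = n1729 := d27_2 F7086 D1729 (iv D1729)
def n1730 : Q := act 7 n1548
theorem D1730 : act 7 n1548 = n1730 := rfl
theorem F7841 : act 1 n1730 = n1730 := d13_1 D1730 (iv D1730) F7095
theorem F7842 : act 3 n1730 = n1730 := d24_1 D1730 (iv D1730) (iv D1548) F6311 D1548
theorem F7843 : act 5 n1730 = n1730 := d31_1 D1730 (iv D1730) F7096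
def n1731 : Q := act 3 n1550
theorem D1731 : act 3 n1550 = n1731 := rfl
theorem F7844 : act 1 n1731 = n1731 := d9_1 D1731 (iv D1731) F7102
theorem F7845 : act 5 n1731 = n1731 := d22_2 F7105 D1731 (iv D1731)
theorem F7846 : act 6 n1731 = n1551 := d23_2 (iv F7106) D1731 (iv D1551)
def n1732 : Q := act 4 n1551
theorem D1732 : act 4 n1551 = n1732 := rfl
theorem F7847 : act 1 n1732 = n1732 := d10_1 D1732 (iv D1732) F7107
theorem F7848 : act 3 n1732 = n1732 := d21_1 D1732 (iv D1732) (iv D1551) F6329 D1551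
def n1733 : Q := act 5 n1552
theorem D1733 : act 5 n1552 = n1733 := rfl
theorem F7849 : act 1 n1733 = n1733 := d11_1 D1733 (iv D1733) F7109
theorem F7850 : act 3 n1733 = n1553 := d22_1 D1733 (iv D1553) (iv F7110)
def n1734 : Q := act 3 n1554
theorem D1734 : act 3 n1554 = n1734 := rfl
theorem F7851 : act 0 n1734 = n1555 := d2_1 D1734 (iv D1555) (iv F7116)
theorem F7852 : act 1 n1734 = n1734 := d9_1 D1734 (iv D1734) F7117
theorem F7853 : act 4 n1734 = n1734 := d21_2 D1554 D1734 (iv D1734) (iv D1554) F6391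
theorem F7854 : act 6 n1734 = n1734 := d23_2 F7119 D1734 (iv D1734)
theorem F7855 : act 8 n1734 = n1734 := d25_2 F7121 D1734 (iv D1734)
def n1735 : Q := act 5 n1554
theorem D1735 : act 5 n1554 = n1735 := rfl
theorem F7856 : act 0 n1735 = n1556 := d4_1 D1735 (iv D1556) (iv F7116)
theorem F7857 : act 1 n1735 = n1735 := d11_1 D1735 (iv D1735) F7117
theorem F7858 : act 2 n1735 = n1735 := d17_1 D1735 (iv D1735) F7118
theorem F7859 : act 4 n1735 = n1735 := d26_1 D1735 (iv D1735) (iv D1554) F6392 D1554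
theorem F7860 : act 7 n1735 = n1565 := d31_2 (iv F7120) D1735 (iv D1565)
theorem F7861 : act 8 n1735 = n1735 := d32_2 F7121 D1735 (iv D1735)
def n1736 : Q := act 2 n1555
theorem D1736 : act 2 n1555 = n1736 := rfl
theorem F7862 : act 1 n1736 = n1736 := d8_1 D1736 (iv D1736) F7122 F6402 (iv F7122)
theorem F7863 : act 3 n1736 = n1736 := d15_2 D1555 D1736 (iv D1736) (iv D1555) F6397
theorem F7864 : act 4 n1736 = n1736 := d16_2 F7123 D1736 (iv D1736)
theorem F7865 : act 6 n1736 = n1736 := d18_2 F7124 D1736 (iv D1736)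
theorem F7866 : act 8 n1736 = n1736 := d20_2 F7125 D1736 (iv D1736)
def n1737 : Q := act 5 n1555
theorem D1737 : act 5 n1555 = n1737 := rfl
theorem F7867 : act 1 n1737 = n1557 := d11_1 D1737 (iv D1557) (iv F7122)
theorem F7868 : act 3 n1737 = n1556 := d22_1 D1737 (iv D1556) D1555
theorem F7869 : act 8 n1737 = n1737 := d32_2 F7125 D1737 (iv D1737)
def n1738 : Q := act 7 n1555
theorem D1738 : act 7 n1555 = n1738 := rfl
theorem F7870 : act 1 n1738 = n1558 := d13_1 D1738 (iv D1558) (iv F7122)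
theorem F7871 : act 3 n1738 = n1568 := d24_1 D1738 (iv D1568) (iv D1393) (iv F6399) D1555
theorem F7872 : act 4 n1738 = n1738 := d28_1 D1738 (iv D1738) F7123
theorem F7873 : act 6 n1738 = n1738 := d33_1 D1738 (iv D1738) F7124
def n1739 : Q := act 6 n1556
theorem D1739 : act 6 n1556 = n1739 := rfl
theorem F7874 : act 1 n1739 = n1559 := d12_1 D1739 (iv D1559) (iv F7126)
theorem F7875 : act 2 n1739 = n1739 := d18_1 D1739 (iv D1739) F7127
theorem F7876 : act 4 n1739 = n1739 := d27_1 D1739 (iv D1739) F7128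
theorem F7877 : act 5 n1739 = n1739 := d30_1 D1739 (iv D1739) (iv D1556) F6398 D1556
theorem F7878 : act 7 n1739 = n1569 := d33_2 (iv F7129) D1739 (iv D1569)
theorem F7879 : act 8 n1739 = n1739 := d34_2 F7130 D1739 (iv D1739)
def n1740 : Q := act 4 n1557
theorem D1740 : act 4 n1557 = n1740 := rfl
theorem F7880 : act 0 n1740 = n1740 := d3_1 D1740 (iv D1740) F7131
theorem F7881 : act 2 n1740 = n1740 := d16_1 D1740 (iv D1740) F7132
theorem F7882 : act 3 n1740 = n1740 := d21_1 D1740 (iv D1740) F7133 F6408 (iv F7133)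
theorem F7883 : act 5 n1740 = n1740 := d26_2 D1557 D1740 (iv D1740) (iv D1557) F6403
theorem F7884 : act 8 n1740 = n1740 := d29_2 F7134 D1740 (iv D1740)
def n1741 : Q := act 6 n1557
theorem D1741 : act 6 n1557 = n1741 := rfl
theorem F7885 : act 0 n1741 = n1741 := d5_1 D1741 (iv D1741) F7131
theorem F7886 : act 2 n1741 = n1741 := d18_1 D1741 (iv D1741) F7132
theorem F7887 : act 3 n1741 = n1559 := d23_1 D1741 (iv D1559) (iv F7133)
theorem F7888 : act 5 n1741 = n1741 := d30_1 D1741 (iv D1741) (iv D1557) F6404 D1557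
theorem F7889 : act 8 n1741 = n1741 := d34_2 F7134 D1741 (iv D1741)
def n1742 : Q := act 7 n1557
theorem D1742 : act 7 n1557 = n1742 := rfl
theorem F7890 : act 0 n1742 = n1742 := d6_1 D1742 (iv D1742) F7131
theorem F7891 : act 2 n1742 = n1742 := d19_1 D1742 (iv D1742) F7132
theorem F7892 : act 3 n1742 = n1572 := d24_1 D1742 (iv D1572) F6448 (iv F6409) (iv F7133)
theorem F7893 : act 5 n1742 = n1558 := d31_1 D1742 (iv D1558) D1557
def n1743 : Q := act 8 n1558
theorem D1743 : act 8 n1558 = n1743 := rfl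
theorem F7894 : act 0 n1743 = n1743 := d7_1 D1743 (iv D1743) F7135
theorem F7895 : act 2 n1743 = n1743 := d20_1 D1743 (iv D1743) F7136
theorem F7896 : act 3 n1743 = n1573 := d25_1 D1743 (iv D1573) (iv F7137)
theorem F7897 : act 4 n1743 = n1743 := d29_1 D1743 (iv D1743) F7138
theorem F7898 : act 6 n1743 = n1743 := d34_1 D1743 (iv D1743) F7139
theorem F7899 : act 7 n1743 = n1743 := d35_1 D1743 (iv D1743) (iv D1558) F6405 D1558
def n1744 : Q := act 2 n1560
theorem D1744 : act 2 n1560 = n1744 := rfl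
theorem F7900 : act 0 n1744 = n1729 := d1_1 D1744 F7838 (iv F7146)
theorem F7901 : act 1 n1744 = n1579 := d8_1 D1744 (iv D1579) F6482 (iv F6425) (iv F7147)
theorem F7902 : act 3 n1744 = n1744 := d15_2 D1560 D1744 (iv D1744) (iv D1560) F6420
theorem F7903 : act 4 n1744 = n1616 := d16_2 (iv F7148) D1744 (iv D1616)
theorem F7904 : act 6 n1744 = n1744 := d18_2 F7149 D1744 (iv D1744)
theorem F7905 : act 8 n1744 = n1566 := d20_2 (iv F7150) D1744 (iv D1566)
def n1745 : Q := act 5 n1560
theorem D1745 : act 5 n1560 = n1745 := rfl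
theorem F7906 : act 0 n1745 = n1733 := d4_1 D1745 (iv D1733) (iv F7146)
theorem F7907 : act 1 n1745 = n1562 := d11_1 D1745 (iv D1562) (iv F7147)
theorem F7908 : act 3 n1745 = n1561 := d22_1 D1745 (iv D1561) D1560
theorem F7909 : act 8 n1745 = n1567 := d32_2 (iv F7150) D1745 (iv D1567)
theorem F7910 : act 6 n1705 = n1745 := d23_0 F7908 (iv F7157) (iv F7728)
def n1746 : Q := act 7 n1560
theorem D1746 : act 7 n1560 = n1746 := rfl
theorem F7911 : act 0 n1746 = n1694 := d6_1 D1746 F7693 (iv F7146)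
theorem F7912 : act 1 n1746 = n1563 := d13_1 D1746 (iv D1563) (iv F7147)
theorem F7913 : act 3 n1746 = n1746 := d24_1 D1746 (iv D1746) (iv D1560) F6422 D1560
theorem F7914 : act 4 n1746 = n1618 := d28_1 D1746 (iv D1618) (iv F7148)
theorem F7915 : act 6 n1746 = n1746 := d33_1 D1746 (iv D1746) F7149
def n1747 : Q := act 4 n1562
theorem D1747 : act 4 n1562 = n1747 := rfl
theorem F7916 : act 0 n1747 = n1747 := d3_1 D1747 (iv D1747) F7158
theorem F7917 : act 2 n1747 = n1582 := d16_1 D1747 (iv D1582) (iv F7159)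
theorem F7918 : act 3 n1747 = n1747 := d21_1 D1747 (iv D1747) F7160 F6431 (iv F7160)
theorem F7919 : act 5 n1747 = n1620 := d26_2 D1562 D1747 (iv D1620) (iv D1440) (iv F6426)
theorem F7920 : act 6 n1747 = n1680 := d27_2 F7162 D1747 F7634
theorem F7921 : act 8 n1747 = n1570 := d29_2 (iv F7161) D1747 (iv D1570)
def n1748 : Q := act 7 n1562
theorem D1748 : act 7 n1562 = n1748 := rfl
theorem F7922 : act 0 n1748 = n1748 := d6_1 D1748 (iv D1748) F7158
theorem F7923 : act 2 n1748 = n1583 := d19_1 D1748 (iv D1583) (iv F7159)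
theorem F7924 : act 3 n1748 = n1748 := d24_1 D1748 (iv D1748) F7160 F6432 (iv F7160)
theorem F7925 : act 5 n1748 = n1563 := d31_1 D1748 (iv D1563) D1562
theorem F7926 : act 6 n1748 = n1701 := d33_1 D1748 F7719 F7162
def n1749 : Q := act 8 n1563
theorem D1749 : act 8 n1563 = n1749 := rfl
theorem F7927 : act 0 n1749 = n1749 := d7_1 D1749 (iv D1749) F7163
theorem F7928 : act 2 n1749 = n1584 := d20_1 D1749 (iv D1584) (iv F7164)
theorem F7929 : act 3 n1749 = n1749 := d25_1 D1749 (iv D1749) F7165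
theorem F7930 : act 4 n1749 = n1623 := d29_1 D1749 (iv D1623) (iv F7166)
theorem F7931 : act 6 n1749 = n1749 := d34_1 D1749 (iv D1749) F7167
theorem F7932 : act 7 n1749 = n1573 := d35_1 D1749 (iv D1573) (iv D1396) (iv F6428) D1563
def n1750 : Q := act 2 n1564
theorem D1750 : act 2 n1564 = n1750 := rfl
theorem F7933 : act 0 n1750 = n1566 := d1_1 D1750 (iv D1566) (iv F7168)
theorem F7934 : act 3 n1750 = n1750 := d15_2 D1564 D1750 (iv D1750) (iv D1564) F6437
theorem F7935 : act 4 n1750 = n1624 := d16_2 (iv F7170) D1750 (iv D1624)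
theorem F7936 : act 6 n1750 = n1750 := d18_2 F7171 D1750 (iv D1750)
theorem F7937 : act 8 n1750 = n1729 := d20_2 (iv F7172) D1750 F7838
def n1751 : Q := act 5 n1564
theorem D1751 : act 5 n1564 = n1751 := rfl
theorem F7938 : act 0 n1751 = n1567 := d4_1 D1751 (iv D1567) (iv F7168)
theorem F7939 : act 1 n1751 = n1751 := d11_1 D1751 (iv D1751) F7169
theorem F7940 : act 3 n1751 = n1565 := d22_1 D1751 (iv D1565) D1564
theorem F7941 : act 8 n1751 = n1733 := d32_2 (iv F7172) D1751 (iv D1733)
def n1752 : Q := act 7 n1564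
theorem D1752 : act 7 n1564 = n1752 := rfl
theorem F7942 : act 0 n1752 = n1568 := d6_1 D1752 (iv D1568) (iv F7168)
theorem F7943 : act 1 n1752 = n1752 := d13_1 D1752 (iv D1752) F7169
theorem F7944 : act 4 n1752 = n1626 := d28_1 D1752 (iv D1626) (iv F7170)
theorem F7945 : act 6 n1752 = n1752 := d33_1 D1752 (iv D1752) F7171
def n1753 : Q := act 6 n1565
theorem D1753 : act 6 n1565 = n1753 := rfl
theorem F7946 : act 0 n1753 = n1569 := d5_1 D1753 (iv D1569) (iv F7173)
theorem F7947 : act 1 n1753 = n1753 := d12_1 D1753 (iv D1753) F7174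
theorem F7948 : act 2 n1753 = n1753 := d18_1 D1753 (iv D1753) F7175
theorem F7949 : act 4 n1753 = n1753 := d27_1 D1753 (iv D1753) F7176
theorem F7950 : act 5 n1753 = n1753 := d30_1 D1753 (iv D1753) (iv D1565) F6438 D1565
theorem F7951 : act 8 n1753 = n1706 := d34_2 (iv F7177) D1753 F7734
def n1754 : Q := act 5 n1566
theorem D1754 : act 5 n1566 = n1754 := rfl
theorem F7952 : act 1 n1754 = n1589 := d11_1 D1754 (iv D1589) (iv F7178)
theorem F7953 : act 2 n1754 = n1567 := d17_1 D1754 (iv D1567) D1566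
theorem F7954 : act 3 n1754 = n1754 := d22_1 D1754 (iv D1754) F7179
def n1755 : Q := act 7 n1566
theorem D1755 : act 7 n1566 = n1755 := rfl
theorem F7955 : act 1 n1755 = n1590 := d13_1 D1755 (iv D1590) (iv F7178)
theorem F7956 : act 2 n1755 = n1568 := d19_1 D1755 (iv D1568) D1566
theorem F7957 : act 4 n1755 = n1629 := d28_1 D1755 (iv D1629) (iv F7180)
theorem F7958 : act 6 n1755 = n1755 := d33_1 D1755 (iv D1755) F7181
def n1756 : Q := act 4 n1567
theorem D1756 : act 4 n1567 = n1756 := rfl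
theorem F7959 : act 1 n1756 = n1570 := d10_1 D1756 (iv D1570) (iv F7182)
theorem F7960 : act 3 n1756 = n1756 := d21_1 D1756 (iv D1756) F7183 F6445 (iv F7183)
theorem F7961 : act 5 n1756 = n1630 := d26_2 D1567 D1756 (iv D1630) (iv D1446) (iv F6441)
def n1757 : Q := act 6 n1567
theorem D1757 : act 6 n1567 = n1757 := rfl
theorem F7962 : act 1 n1757 = n1571 := d12_1 D1757 (iv D1571) (iv F7182)
theorem F7963 : act 3 n1757 = n1569 := d23_1 D1757 (iv D1569) (iv F7183)
theorem F7964 : act 5 n1757 = n1757 := d30_1 D1757 (iv D1757) (iv D1567) F6442 D1567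
theorem F7965 : act 8 n1757 = n1705 := d34_2 F7909 D1757 F7910
def n1758 : Q := act 7 n1567
theorem D1758 : act 7 n1567 = n1758 := rfl
theorem F7966 : act 1 n1758 = n1572 := d13_1 D1758 (iv D1572) (iv F7182)
theorem F7967 : act 5 n1758 = n1568 := d31_1 D1758 (iv D1568) D1567
def n1759 : Q := act 8 n1568
theorem D1759 : act 8 n1568 = n1759 := rfl
theorem F7968 : act 1 n1759 = n1573 := d14_1 D1759 (iv D1573) (iv F7184)
theorem F7969 : act 4 n1759 = n1633 := d29_1 D1759 (iv D1633) (iv F7185)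
theorem F7970 : act 6 n1759 = n1759 := d34_1 D1759 (iv D1759) F7186
def n1760 : Q := act 6 n1570
theorem D1760 : act 6 n1570 = n1760 := rfl
theorem F7971 : act 0 n1760 = n1760 := d5_1 D1760 (iv D1760) F7192
theorem F7972 : act 2 n1760 = n1595 := d18_1 D1760 (iv D1595) (iv F7193)
theorem F7973 : act 3 n1760 = n1760 := d23_1 D1760 (iv D1760) F7194
theorem F7974 : act 4 n1760 = n1571 := d27_1 D1760 (iv D1571) D1570
theorem F7975 : act 8 n1760 = n1680 := d34_2 F7921 D1760 (iv F7920)
def n1761 : Q := act 7 n1570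
theorem D1761 : act 7 n1570 = n1761 := rfl
theorem F7976 : act 0 n1761 = n1761 := d6_1 D1761 (iv D1761) F7192
theorem F7977 : act 2 n1761 = n1596 := d19_1 D1761 (iv D1596) (iv F7193)
theorem F7978 : act 4 n1761 = n1572 := d28_1 D1761 (iv D1572) D1570
theorem F7979 : act 5 n1761 = n1635 := d31_1 D1761 (iv D1635) (iv F7195)
def n1762 : Q := act 7 n1571
theorem D1762 : act 7 n1571 = n1762 := rfl
theorem F7980 : act 0 n1762 = n1762 := d6_1 D1762 (iv D1762) F7196
theorem F7981 : act 2 n1762 = n1597 := d19_1 D1762 (iv D1597) (iv F7197)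
theorem F7982 : act 5 n1762 = n1762 := d31_1 D1762 (iv D1762) F7199
theorem F7983 : act 6 n1762 = n1572 := d33_1 D1762 (iv D1572) D1571
def n1763 : Q := act 8 n1572
theorem D1763 : act 8 n1572 = n1763 := rfl
theorem F7984 : act 0 n1763 = n1763 := d7_1 D1763 (iv D1763) F7201
theorem F7985 : act 2 n1763 = n1598 := d20_1 D1763 (iv D1598) (iv F7202)
theorem F7986 : act 5 n1763 = n1573 := d32_1 D1763 (iv D1573) (iv F7203)
def n1764 : Q := act 3 n1574
theorem D1764 : act 3 n1574 = n1764 := rfl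
theorem F7987 : act 0 n1764 = n1575 := d2_1 D1764 (iv D1575) (iv F7208)
theorem F7988 : act 1 n1764 = n1764 := d9_1 D1764 (iv D1764) F7209
theorem F7989 : act 4 n1764 = n1764 := d21_2 D1574 D1764 (iv D1764) (iv D1574) F6460
theorem F7990 : act 5 n1764 = n1685 := d22_2 (iv F7211) D1764 F7655
theorem F7991 : act 6 n1764 = n1764 := d23_2 F7212 D1764 (iv D1764)
theorem F7992 : act 8 n1764 = n1764 := d25_2 F7214 D1764 (iv D1764)
def n1765 : Q := act 2 n1575
theorem D1765 : act 2 n1575 = n1765 := rfl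
theorem F7993 : act 1 n1765 = n1765 := d8_1 D1765 (iv D1765) F7215 F6472 (iv F7215)
theorem F7994 : act 3 n1765 = n1765 := d15_2 D1575 D1765 (iv D1765) (iv D1575) F6466
theorem F7995 : act 4 n1765 = n1765 := d16_2 F7216 D1765 (iv D1765)
theorem F7996 : act 5 n1765 = n1689 := d17_2 (iv F7217) D1765 F7671
theorem F7997 : act 6 n1765 = n1765 := d18_2 F7218 D1765 (iv D1765)
theorem F7998 : act 8 n1765 = n1765 := d20_2 F7219 D1765 (iv D1765)
def n1766 : Q := act 7 n1575
theorem D1766 : act 7 n1575 = n1766 := rfl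
theorem F7999 : act 1 n1766 = n1576 := d13_1 D1766 (iv D1576) (iv F7215)
theorem F8000 : act 3 n1766 = n1581 := d24_1 D1766 (iv D1581) (iv D1402) (iv F6469) D1575
theorem F8001 : act 4 n1766 = n1766 := d28_1 D1766 (iv D1766) F7216
theorem F8002 : act 5 n1766 = n1696 := d31_1 D1766 (iv D1696) (iv F7217)
theorem F8003 : act 6 n1766 = n1766 := d33_1 D1766 (iv D1766) F7218
def n1767 : Q := act 8 n1576
theorem D1767 : act 8 n1576 = n1767 := rfl
theorem F8004 : act 0 n1767 = n1767 := d7_1 D1767 (iv D1767) F7220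
theorem F8005 : act 2 n1767 = n1767 := d20_1 D1767 (iv D1767) F7221
theorem F8006 : act 3 n1767 = n1584 := d25_1 D1767 (iv D1584) (iv F7222)
theorem F8007 : act 4 n1767 = n1767 := d29_1 D1767 (iv D1767) F7223
theorem F8008 : act 5 n1767 = n1700 := d32_1 D1767 (iv D1700) (iv F7224)
theorem F8009 : act 6 n1767 = n1767 := d34_1 D1767 (iv D1767) F7225
theorem F8010 : act 7 n1767 = n1767 := d35_1 D1767 (iv D1767) (iv D1576) F6476 D1576
def n1768 : Q := act 2 n1577
theorem D1768 : act 2 n1577 = n1768 := rfl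
theorem F8011 : act 0 n1768 = n1579 := d1_1 D1768 (iv D1579) (iv F7226)
theorem F8012 : act 3 n1768 = n1768 := d15_2 D1577 D1768 (iv D1768) (iv D1577) F6479
theorem F8013 : act 4 n1768 = n1638 := d16_2 (iv F7228) D1768 (iv D1638)
theorem F8014 : act 6 n1768 = n1768 := d18_2 F7229 D1768 (iv D1768)
theorem F8015 : act 8 n1768 = n1585 := d20_2 (iv F7230) D1768 (iv D1585)
def n1769 : Q := act 5 n1577
theorem D1769 : act 5 n1577 = n1769 := rfl
theorem F8016 : act 0 n1769 = n1580 := d4_1 D1769 (iv D1580) (iv F7226)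
theorem F8017 : act 1 n1769 = n1769 := d11_1 D1769 (iv D1769) F7227
theorem F8018 : act 3 n1769 = n1578 := d22_1 D1769 (iv D1578) D1577
theorem F8019 : act 8 n1769 = n1586 := d32_2 (iv F7230) D1769 (iv D1586)
theorem F8020 : act 6 n1703 = n1769 := d23_0 F8018 (iv F7237) D1703
def n1770 : Q := act 7 n1577
theorem D1770 : act 7 n1577 = n1770 := rfl
theorem F8021 : act 0 n1770 = n1581 := d6_1 D1770 (iv D1581) (iv F7226)
theorem F8022 : act 1 n1770 = n1770 := d13_1 D1770 (iv D1770) F7227
theorem F8023 : act 4 n1770 = n1640 := d28_1 D1770 (iv D1640) (iv F7228)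
theorem F8024 : act 6 n1770 = n1770 := d33_1 D1770 (iv D1770) F7229
def n1771 : Q := act 5 n1579
theorem D1771 : act 5 n1579 = n1771 := rfl
theorem F8025 : act 2 n1771 = n1580 := d17_1 D1771 (iv D1580) D1579
theorem F8026 : act 3 n1771 = n1771 := d22_1 D1771 (iv D1771) F7238
theorem F8027 : act 8 n1771 = n1589 := d32_2 (iv F7241) D1771 (iv D1589)
theorem F8028 : act 6 n1704 = n1771 := d18_0 F8025 (iv F7245) D1704
def n1772 : Q := act 7 n1579
theorem D1772 : act 7 n1579 = n1772 := rfl
theorem F8029 : act 2 n1772 = n1581 := d19_1 D1772 (iv D1581) D1579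
theorem F8030 : act 4 n1772 = n1642 := d28_1 D1772 (iv D1642) (iv F7239)
theorem F8031 : act 6 n1772 = n1772 := d33_1 D1772 (iv D1772) F7240
def n1773 : Q := act 4 n1580
theorem D1773 : act 4 n1580 = n1773 := rfl
theorem F8032 : act 1 n1773 = n1582 := d10_1 D1773 (iv D1582) (iv F7242)
theorem F8033 : act 3 n1773 = n1601 := d21_1 D1773 (iv D1601) F6558 (iv F6488) (iv F7243)
theorem F8034 : act 5 n1773 = n1643 := d26_2 D1580 D1773 (iv D1643) (iv D1456) (iv F6483)
theorem F8035 : act 6 n1773 = n1679 := d27_2 F7245 D1773 F7631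
theorem F8036 : act 8 n1773 = n1591 := d29_2 (iv F7244) D1773 (iv D1591)
def n1774 : Q := act 7 n1580
theorem D1774 : act 7 n1580 = n1774 := rfl
theorem F8037 : act 1 n1774 = n1583 := d13_1 D1774 (iv D1583) (iv F7242)
theorem F8038 : act 3 n1774 = n1696 := d24_1 D1774 (iv D1696) F6898 (iv F6489) (iv F7243)
theorem F8039 : act 5 n1774 = n1581 := d31_1 D1774 (iv D1581) D1580
theorem F8040 : act 6 n1774 = n1697 := d33_1 D1774 F7702 F7245
def n1775 : Q := act 8 n1581
theorem D1775 : act 8 n1581 = n1775 := rfl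
theorem F8041 : act 1 n1775 = n1584 := d14_1 D1775 (iv D1584) (iv F7246)
theorem F8042 : act 4 n1775 = n1646 := d29_1 D1775 (iv D1646) (iv F7247)
theorem F8043 : act 6 n1775 = n1775 := d34_1 D1775 (iv D1775) F7248
theorem F8044 : act 7 n1775 = n1594 := d35_1 D1775 (iv D1594) (iv D1410) (iv F6485) D1581
def n1776 : Q := act 7 n1582
theorem D1776 : act 7 n1582 = n1776 := rfl
theorem F8045 : act 0 n1776 = n1776 := d6_1 D1776 (iv D1776) F7249
theorem F8046 : act 3 n1776 = n1668 := d24_1 D1776 (iv D1668) F6790 (iv F6566) (iv F7250)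
theorem F8047 : act 4 n1776 = n1583 := d28_1 D1776 (iv D1583) D1582
theorem F8048 : act 5 n1776 = n1648 := d31_1 D1776 (iv D1648) (iv F7251)
theorem F8049 : act 6 n1776 = n1669 := d33_1 D1776 F7597 (iv F7252)
def n1777 : Q := act 8 n1583
theorem D1777 : act 8 n1583 = n1777 := rfl
theorem F8050 : act 0 n1777 = n1777 := d7_1 D1777 (iv D1777) F7254
theorem F8051 : act 3 n1777 = n1700 := d25_1 D1777 (iv D1700) (iv F7255)
theorem F8052 : act 5 n1777 = n1584 := d32_1 D1777 (iv D1584) (iv F7256)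
theorem F8053 : act 6 n1777 = n1702 := d34_1 D1777 (iv D1702) (iv F7257)
theorem F8054 : act 7 n1777 = n1598 := d35_1 D1777 (iv D1598) (iv D1414) (iv F6494) D1583
def n1778 : Q := act 1 n1585
theorem D1778 : act 1 n1585 = n1778 := rfl
theorem F8055 : act 2 n1778 = n1778 := d8_2 D1585 D1778 (iv D1778) (iv D1585) F6500
theorem F8056 : act 3 n1778 = n1778 := d9_2 F7263 D1778 (iv D1778)
theorem F8057 : act 4 n1778 = n1651 := d10_2 (iv F7264) D1778 (iv D1651)
theorem F8058 : act 6 n1778 = n1778 := d12_2 F7265 D1778 (iv D1778)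
def n1779 : Q := act 5 n1585
theorem D1779 : act 5 n1585 = n1779 := rfl
theorem F8059 : act 0 n1779 = n1589 := d4_1 D1779 (iv D1589) (iv F7262)
theorem F8060 : act 2 n1779 = n1586 := d17_1 D1779 (iv D1586) D1585
theorem F8061 : act 3 n1779 = n1779 := d22_1 D1779 (iv D1779) F7263
def n1780 : Q := act 7 n1585
theorem D1780 : act 7 n1585 = n1780 := rfl
theorem F8062 : act 0 n1780 = n1590 := d6_1 D1780 (iv D1590) (iv F7262)
theorem F8063 : act 2 n1780 = n1587 := d19_1 D1780 (iv D1587) D1585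
theorem F8064 : act 4 n1780 = n1653 := d28_1 D1780 (iv D1653) (iv F7264)
theorem F8065 : act 6 n1780 = n1780 := d33_1 D1780 (iv D1780) F7265
def n1781 : Q := act 4 n1586
theorem D1781 : act 4 n1586 = n1781 := rfl
theorem F8066 : act 0 n1781 = n1591 := d3_1 D1781 (iv D1591) (iv F7266)
theorem F8067 : act 1 n1781 = n1781 := d10_1 D1781 (iv D1781) F7267
theorem F8068 : act 3 n1781 = n1603 := d21_1 D1781 (iv D1603) F6577 (iv F6506) (iv F7268)
theorem F8069 : act 5 n1781 = n1654 := d26_2 D1586 D1781 (iv D1654) (iv D1464) (iv F6501)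
def n1782 : Q := act 6 n1586
theorem D1782 : act 6 n1586 = n1782 := rfl
theorem F8070 : act 0 n1782 = n1592 := d5_1 D1782 (iv D1592) (iv F7266)
theorem F8071 : act 1 n1782 = n1782 := d12_1 D1782 (iv D1782) F7267
theorem F8072 : act 3 n1782 = n1588 := d23_1 D1782 (iv D1588) (iv F7268)
theorem F8073 : act 5 n1782 = n1782 := d30_1 D1782 (iv D1782) (iv D1586) F6502 D1586
theorem F8074 : act 8 n1782 = n1703 := d34_2 F8019 D1782 F8020
def n1783 : Q := act 7 n1586
theorem D1783 : act 7 n1586 = n1783 := rfl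
theorem F8075 : act 0 n1783 = n1593 := d6_1 D1783 (iv D1593) (iv F7266)
theorem F8076 : act 1 n1783 = n1783 := d13_1 D1783 (iv D1783) F7267
theorem F8077 : act 3 n1783 = n1783 := d24_1 D1783 (iv D1783) F7268 F6507 (iv F7268)
theorem F8078 : act 5 n1783 = n1587 := d31_1 D1783 (iv D1587) D1586
def n1784 : Q := act 8 n1587
theorem D1784 : act 8 n1587 = n1784 := rfl
theorem F8079 : act 0 n1784 = n1594 := d7_1 D1784 (iv D1594) (iv F7269)
theorem F8080 : act 1 n1784 = n1784 := d14_1 D1784 (iv D1784) F7270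
theorem F8081 : act 3 n1784 = n1784 := d25_1 D1784 (iv D1784) F7271
theorem F8082 : act 4 n1784 = n1657 := d29_1 D1784 (iv D1657) (iv F7272)
theorem F8083 : act 6 n1784 = n1784 := d34_1 D1784 (iv D1784) F7273
def n1785 : Q := act 4 n1589
theorem D1785 : act 4 n1589 = n1785 := rfl
theorem F8084 : act 2 n1785 = n1591 := d16_1 D1785 (iv D1591) (iv F7281)
theorem F8085 : act 5 n1785 = n1658 := d26_2 D1589 D1785 (iv D1658) (iv D1467) (iv F6509)
def n1786 : Q := act 6 n1589
theorem D1786 : act 6 n1589 = n1786 := rfl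
theorem F8086 : act 2 n1786 = n1592 := d18_1 D1786 (iv D1592) (iv F7281)
theorem F8087 : act 3 n1786 = n1786 := d23_1 D1786 (iv D1786) F7282
theorem F8088 : act 5 n1786 = n1786 := d30_1 D1786 (iv D1786) (iv D1589) F6510 D1589
theorem F8089 : act 8 n1786 = n1704 := d34_2 F8027 D1786 F8028
def n1787 : Q := act 7 n1589
theorem D1787 : act 7 n1589 = n1787 := rfl
theorem F8090 : act 2 n1787 = n1593 := d19_1 D1787 (iv D1593) (iv F7281)
theorem F8091 : act 5 n1787 = n1590 := d31_1 D1787 (iv D1590) D1589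
def n1788 : Q := act 3 n1590
theorem D1788 : act 3 n1590 = n1788 := rfl
theorem F8092 : act 2 n1788 = n1788 := d15_1 D1788 (iv D1788) F7283 F6514 (iv F7283)
theorem F8093 : act 6 n1788 = n1788 := d23_2 F7285 D1788 (iv D1788)
theorem F8094 : act 7 n1788 = n1788 := d24_2 D1590 D1788 (iv D1788) (iv D1590) F6508
def n1789 : Q := act 8 n1590
theorem D1789 : act 8 n1590 = n1789 := rfl
theorem F8095 : act 2 n1789 = n1594 := d20_1 D1789 (iv D1594) (iv F7283)
theorem F8096 : act 4 n1789 = n1662 := d29_1 D1789 (iv D1662) (iv F7284)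
theorem F8097 : act 6 n1789 = n1789 := d34_1 D1789 (iv D1789) F7285
def n1790 : Q := act 6 n1591
theorem D1790 : act 6 n1591 = n1790 := rfl
theorem F8098 : act 1 n1790 = n1595 := d12_1 D1790 (iv D1595) (iv F7286)
theorem F8099 : act 3 n1790 = n1607 := d23_1 D1790 (iv D1607) (iv F7287)
theorem F8100 : act 4 n1790 = n1592 := d27_1 D1790 (iv D1592) D1591
theorem F8101 : act 8 n1790 = n1679 := d34_2 F8036 D1790 (iv F8035)
def n1791 : Q := act 7 n1591
theorem D1791 : act 7 n1591 = n1791 := rfl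
theorem F8102 : act 1 n1791 = n1596 := d13_1 D1791 (iv D1596) (iv F7286)
theorem F8103 : act 4 n1791 = n1593 := d28_1 D1791 (iv D1593) D1591
theorem F8104 : act 5 n1791 = n1664 := d31_1 D1791 (iv D1664) (iv F7288)
def n1792 : Q := act 7 n1592
theorem D1792 : act 7 n1592 = n1792 := rfl
theorem F8105 : act 1 n1792 = n1597 := d13_1 D1792 (iv D1597) (iv F7289)
theorem F8106 : act 3 n1792 = n1792 := d24_1 D1792 (iv D1792) F7290 F6521 (iv F7290)
theorem F8107 : act 5 n1792 = n1792 := d31_1 D1792 (iv D1792) F7291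
theorem F8108 : act 6 n1792 = n1593 := d33_1 D1792 (iv D1593) D1592
def n1793 : Q := act 8 n1593
theorem D1793 : act 8 n1593 = n1793 := rfl
theorem F8109 : act 1 n1793 = n1598 := d14_1 D1793 (iv D1598) (iv F7293)
theorem F8110 : act 3 n1793 = n1793 := d25_1 D1793 (iv D1793) F7294
theorem F8111 : act 5 n1793 = n1594 := d32_1 D1793 (iv D1594) (iv F7295)
def n1794 : Q := act 5 n1595
theorem D1794 : act 5 n1595 = n1794 := rfl
theorem F8112 : act 0 n1794 = n1794 := d4_1 D1794 (iv D1794) F7300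
theorem F8113 : act 3 n1794 = n1610 := d22_1 D1794 (iv D1610) (iv F7301)
theorem F8114 : act 4 n1794 = n1794 := d26_1 D1794 (iv D1794) F7302 F6528 (iv F7302)
theorem F8115 : act 6 n1794 = n1667 := d30_2 D1595 D1794 (iv D1667) (iv D1473) (iv F6525)
theorem F8116 : act 8 n1794 = n1612 := d32_2 (iv F7303) D1794 F7387
def n1795 : Q := act 7 n1595
theorem D1795 : act 7 n1595 = n1795 := rfl
theorem F8117 : act 0 n1795 = n1795 := d6_1 D1795 (iv D1795) F7300
theorem F8118 : act 4 n1795 = n1597 := d28_1 D1795 (iv D1597) (iv F7302)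
theorem F8119 : act 6 n1795 = n1596 := d33_1 D1795 (iv D1596) D1595
def n1796 : Q := act 3 n1596
theorem D1796 : act 3 n1596 = n1796 := rfl
theorem F8120 : act 0 n1796 = n1796 := d2_1 D1796 (iv D1796) F7304
theorem F8121 : act 4 n1796 = n1796 := d21_2 (iv F7305) D1796 (iv D1796) F7305 F6531
theorem F8122 : act 5 n1796 = n1669 := d22_2 (iv F7306) D1796 (iv D1669)
theorem F8123 : act 7 n1796 = n1612 := d24_2 D1596 D1796 (iv D1612) (iv D1432) (iv F6524)
def n1797 : Q := act 8 n1596
theorem D1797 : act 8 n1596 = n1797 := rfl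
theorem F8124 : act 0 n1797 = n1797 := d7_1 D1797 (iv D1797) F7304
theorem F8125 : act 4 n1797 = n1598 := d29_1 D1797 (iv D1598) (iv F7305)
theorem F8126 : act 5 n1797 = n1670 := d32_1 D1797 (iv D1670) (iv F7306)
def n1798 : Q := act 8 n1597
theorem D1798 : act 8 n1597 = n1798 := rfl
theorem F8127 : act 0 n1798 = n1798 := d7_1 D1798 (iv D1798) F7307
theorem F8128 : act 3 n1798 = n1798 := d25_1 D1798 (iv D1798) F7308
theorem F8129 : act 5 n1798 = n1798 := d32_1 D1798 (iv D1798) F7309
theorem F8130 : act 6 n1798 = n1598 := d34_1 D1798 (iv D1598) (iv F7310)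
theorem F8131 : act 7 n1798 = n1702 := d35_1 D1798 (iv D1702) F6916 (iv F6529) D1597
def n1799 : Q := act 4 n1599
theorem D1799 : act 4 n1599 = n1799 := rfl
theorem F8132 : act 0 n1799 = n1601 := d3_1 D1799 (iv D1601) (iv F7314)
theorem F8133 : act 1 n1799 = n1799 := d10_1 D1799 (iv D1799) F7315
theorem F8134 : act 2 n1799 = n1675 := d16_1 D1799 F7620 (iv F7316)
theorem F8135 : act 5 n1799 = n1672 := d26_2 D1599 D1799 (iv D1672) (iv D1477) (iv F6539)
theorem F8136 : act 6 n1799 = n1676 := d27_2 (iv F7318) D1799 F7624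
theorem F8137 : act 7 n1799 = n1673 := d28_2 (iv F7319) D1799 (iv D1673)
theorem F8138 : act 8 n1799 = n1603 := d29_2 (iv F7320) D1799 (iv D1603)
def n1800 : Q := act 4 n1600
theorem D1800 : act 4 n1600 = n1800 := rfl
theorem F8139 : act 0 n1800 = n1675 := d3_1 D1800 F7620 (iv F7321)
theorem F8140 : act 1 n1800 = n1800 := d10_1 D1800 (iv D1800) F7322
theorem F8141 : act 2 n1800 = n1601 := d16_1 D1800 (iv D1601) (iv F7323)
theorem F8142 : act 5 n1800 = n1673 := d26_2 D1600 D1800 (iv D1673) (iv D1478) (iv F6553)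
theorem F8143 : act 6 n1800 = n1678 := d27_2 (iv F7325) D1800 F7629
theorem F8144 : act 7 n1800 = n1672 := d28_2 (iv F7326) D1800 (iv D1672)
theorem F8145 : act 8 n1800 = n1606 := d29_2 (iv F7327) D1800 (iv D1606)
def n1801 : Q := act 4 n1602
theorem D1801 : act 4 n1602 = n1801 := rfl
theorem F8146 : act 0 n1801 = n1606 := d3_1 D1801 (iv D1606) (iv F7333)
theorem F8147 : act 1 n1801 = n1611 := d10_1 D1801 F7381 (iv F7334)
theorem F8148 : act 2 n1801 = n1603 := d16_1 D1801 (iv D1603) (iv F7335)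
theorem F8149 : act 5 n1801 = n1674 := d26_2 D1602 D1801 F7617 F6819 (iv F6570)
theorem F8150 : act 6 n1801 = n1608 := d27_2 (iv F7337) D1801 F7364
theorem F8151 : act 7 n1801 = n1607 := d28_2 (iv F7338) D1801 F7361
theorem F8152 : act 8 n1801 = n1675 := d29_2 (iv F7339) D1801 F7620
def n1802 : Q := act 6 n1603
theorem D1802 : act 6 n1603 = n1802 := rfl
theorem F8153 : act 0 n1802 = n1607 := d5_1 D1802 (iv D1607) (iv F7340)
theorem F8154 : act 1 n1802 = n1802 := d12_1 D1802 (iv D1802) F7341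
theorem F8155 : act 2 n1802 = n1608 := d18_1 D1802 (iv F8150) F8148
theorem F8156 : act 4 n1802 = n1604 := d27_1 D1802 (iv D1604) D1603
theorem F8157 : act 5 n1802 = n1678 := d30_1 D1802 (iv F8143) F8142 F7612 (iv F7342)
theorem F8158 : act 8 n1802 = n1676 := d34_2 F8138 D1802 (iv F8136)
theorem F8159 : act 7 n1606 = n1802 := d35_5 F8158 (iv D1676) (iv F7608) (iv F8144) F8145
def n1803 : Q := act 7 n1603
theorem D1803 : act 7 n1603 = n1803 := rfl
theorem F8160 : act 0 n1803 = n1608 := d6_1 D1803 (iv D1608) (iv F7340)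
theorem F8161 : act 1 n1803 = n1803 := d13_1 D1803 (iv D1803) F7341
theorem F8162 : act 2 n1803 = n1607 := d19_1 D1803 (iv F8151) F8148
theorem F8163 : act 4 n1803 = n1605 := d28_1 D1803 (iv D1605) D1603
theorem F8164 : act 5 n1803 = n1676 := d31_1 D1803 (iv D1676) (iv F7342)
theorem F8165 : act 6 n1803 = n1606 := d33_1 D1803 F8159 (iv D1802)
theorem F8166 : act 8 n1803 = n1678 := d35_2 F8138 D1803 (iv D1678) (iv F7613) (iv F8137)
def n1804 : Q := act 3 n1606
theorem D1804 : act 3 n1606 = n1804 := rfl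
theorem F8167 : act 1 n1804 = n1804 := d9_1 D1804 (iv D1804) F7357
theorem F8168 : act 4 n1804 = n1804 := d21_2 D1606 D1804 (iv D1804) (iv D1606) F6593
theorem F8169 : act 5 n1804 = n1677 := d22_2 (iv F7359) D1804 (iv D1677)
def n1805 : Q := act 5 n1607
theorem D1805 : act 5 n1607 = n1805 := rfl
theorem F8170 : act 0 n1805 = n1678 := d4_1 D1805 (iv F8157) F8153
theorem F8171 : act 1 n1805 = n1610 := d11_1 D1805 (iv D1610) (iv F7360)
theorem F8172 : act 2 n1805 = n1676 := d17_1 D1805 (iv F8164) F8162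
theorem F8173 : act 4 n1805 = n1609 := d26_1 D1805 F7370 F6614 (iv F6605) (iv F7361)
theorem F8174 : act 6 n1805 = n1675 := d30_2 D1607 D1805 F7621 (iv D1488) (iv F6602)
theorem F8175 : act 7 n1805 = n1674 := d31_2 F8151 D1805 (iv F8149)
theorem F8176 : act 8 n1805 = n1608 := d32_2 (iv F7362) D1805 F7365
def n1806 : Q := act 3 n1608
theorem D1806 : act 3 n1608 = n1806 := rfl
theorem F8177 : act 1 n1806 = n1612 := d9_1 D1806 (iv D1612) (iv F7363)
theorem F8178 : act 4 n1806 = n1806 := d21_2 (iv F7364) D1806 (iv D1806) F7364 F6608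
theorem F8179 : act 5 n1806 = n1679 := d22_2 (iv F7365) D1806 (iv D1679)
def n1807 : Q := act 3 n1611
theorem D1807 : act 3 n1611 = n1807 := rfl
theorem F8180 : act 0 n1807 = n1807 := d2_1 D1807 (iv D1807) F7379
theorem F8181 : act 4 n1807 = n1807 := d21_2 (iv F7381) D1807 (iv D1807) F7381 F6627
theorem F8182 : act 5 n1807 = n1647 := d22_2 (iv F7382) D1807 F7528
theorem F8183 : act 6 n1807 = n1612 := d23_2 (iv F7383) D1807 (iv D1612)
theorem F8184 : act 8 n1807 = n1667 := d25_2 (iv F7384) D1807 F7590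
def n1808 : Q := act 2 n1612
theorem D1808 : act 2 n1612 = n1808 := rfl
theorem F8185 : act 0 n1808 = n1808 := d1_1 D1808 (iv D1808) F7385
theorem F8186 : act 3 n1808 = n1808 := d15_2 D1612 D1808 (iv D1808) (iv D1612) F6622
theorem F8187 : act 4 n1808 = n1808 := d16_2 F7386 D1808 (iv D1808)
theorem F8188 : act 5 n1808 = n1680 := d17_2 (iv F7387) D1808 (iv D1680)
def n1809 : Q := act 4 n1613
theorem D1809 : act 4 n1613 = n1809 := rfl
theorem F8189 : act 0 n1809 = n1809 := d3_1 D1809 (iv D1809) F7388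
theorem F8190 : act 1 n1809 = n1681 := d10_1 D1809 (iv D1681) (iv F7389)
theorem F8191 : act 2 n1809 = n1809 := d16_1 D1809 (iv D1809) F7390
theorem F8192 : act 3 n1809 = n1809 := d21_1 D1809 (iv D1809) F7391 F6646 (iv F7391)
theorem F8193 : act 5 n1809 = n1809 := d26_2 D1613 D1809 (iv D1809) (iv D1613) F6640
theorem F8194 : act 8 n1809 = n1809 := d29_2 F7392 D1809 (iv D1809)
def n1810 : Q := act 6 n1613
theorem D1810 : act 6 n1613 = n1810 := rfl
theorem F8195 : act 0 n1810 = n1810 := d5_1 D1810 (iv D1810) F7388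
theorem F8196 : act 1 n1810 = n1682 := d12_1 D1810 (iv D1682) (iv F7389)
theorem F8197 : act 2 n1810 = n1810 := d18_1 D1810 (iv D1810) F7390
theorem F8198 : act 3 n1810 = n1615 := d23_1 D1810 (iv D1615) (iv F7391)
theorem F8199 : act 5 n1810 = n1810 := d30_1 D1810 (iv D1810) (iv D1613) F6641 D1613
theorem F8200 : act 8 n1810 = n1810 := d34_2 F7392 D1810 (iv D1810)
def n1811 : Q := act 7 n1613
theorem D1811 : act 7 n1613 = n1811 := rfl
theorem F8201 : act 0 n1811 = n1811 := d6_1 D1811 (iv D1811) F7388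
theorem F8202 : act 1 n1811 = n1683 := d13_1 D1811 (iv D1683) (iv F7389)
theorem F8203 : act 2 n1811 = n1811 := d19_1 D1811 (iv D1811) F7390
theorem F8204 : act 3 n1811 = n1622 := d24_1 D1811 (iv D1622) F6668 (iv F6647) (iv F7391)
theorem F8205 : act 5 n1811 = n1614 := d31_1 D1811 (iv D1614) D1613
def n1812 : Q := act 8 n1614
theorem D1812 : act 8 n1614 = n1812 := rfl
theorem F8206 : act 0 n1812 = n1812 := d7_1 D1812 (iv D1812) F7393
theorem F8207 : act 1 n1812 = n1684 := d14_1 D1812 (iv D1684) (iv F7394)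
theorem F8208 : act 2 n1812 = n1812 := d20_1 D1812 (iv D1812) F7395
theorem F8209 : act 3 n1812 = n1623 := d25_1 D1812 (iv D1623) (iv F7396)
theorem F8210 : act 4 n1812 = n1812 := d29_1 D1812 (iv D1812) F7397
theorem F8211 : act 6 n1812 = n1812 := d34_1 D1812 (iv D1812) F7398
theorem F8212 : act 7 n1812 = n1812 := d35_1 D1812 (iv D1812) (iv D1614) F6642 D1614
def n1813 : Q := act 5 n1616
theorem D1813 : act 5 n1616 = n1813 := rfl
theorem F8213 : act 0 n1813 = n1728 := d4_1 D1813 F7837 (iv F7406)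
theorem F8214 : act 1 n1813 = n1641 := d11_1 D1813 (iv D1641) (iv F7407)
theorem F8215 : act 2 n1813 = n1617 := d17_1 D1813 (iv D1617) D1616
theorem F8216 : act 3 n1813 = n1707 := d22_1 D1813 (iv D1707) (iv F7408)
theorem F8217 : act 8 n1813 = n1628 := d32_2 (iv F7410) D1813 (iv D1628)
def n1814 : Q := act 7 n1616
theorem D1814 : act 7 n1616 = n1814 := rfl
theorem F8218 : act 0 n1814 = n1661 := d6_1 D1814 F7574 (iv F7406)
theorem F8219 : act 1 n1814 = n1642 := d13_1 D1814 (iv D1642) (iv F7407)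
theorem F8220 : act 2 n1814 = n1618 := d19_1 D1814 (iv D1618) D1616
theorem F8221 : act 3 n1814 = n1653 := d24_1 D1814 (iv D1653) F6758 (iv F6950) (iv F7408)
theorem F8222 : act 6 n1814 = n1814 := d33_1 D1814 (iv D1814) F7409
def n1815 : Q := act 4 n1617
theorem D1815 : act 4 n1617 = n1815 := rfl
theorem F8223 : act 0 n1815 = n1732 := d3_1 D1815 (iv D1732) (iv F7411)
theorem F8224 : act 1 n1815 = n1620 := d10_1 D1815 (iv D1620) (iv F7412)
theorem F8225 : act 3 n1815 = n1815 := d21_1 D1815 (iv D1815) F7413 F6663 (iv F7413)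
theorem F8226 : act 8 n1815 = n1630 := d29_2 (iv F7414) D1815 (iv D1630)
def n1816 : Q := act 6 n1617
theorem D1816 : act 6 n1617 = n1816 := rfl
theorem F8227 : act 0 n1816 = n1731 := d5_1 D1816 F7846 (iv F7411)
theorem F8228 : act 1 n1816 = n1621 := d12_1 D1816 (iv D1621) (iv F7412)
theorem F8229 : act 3 n1816 = n1619 := d23_1 D1816 (iv D1619) (iv F7413)
theorem F8230 : act 5 n1816 = n1816 := d30_1 D1816 (iv D1816) (iv D1617) F6658 D1617
theorem F8231 : act 8 n1816 = n1631 := d34_2 (iv F7414) D1816 (iv D1631)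
def n1817 : Q := act 7 n1617
theorem D1817 : act 7 n1617 = n1817 := rfl
theorem F8232 : act 0 n1817 = n1692 := d6_1 D1817 F7685 (iv F7411)
theorem F8233 : act 1 n1817 = n1622 := d13_1 D1817 (iv D1622) (iv F7412)
theorem F8234 : act 3 n1817 = n1683 := d24_1 D1817 (iv D1683) F6852 (iv F6664) (iv F7413)
theorem F8235 : act 5 n1817 = n1618 := d31_1 D1817 (iv D1618) D1617
def n1818 : Q := act 8 n1618
theorem D1818 : act 8 n1618 = n1818 := rfl
theorem F8236 : act 0 n1818 = n1695 := d7_1 D1818 (iv D1695) (iv F7415)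
theorem F8237 : act 1 n1818 = n1623 := d14_1 D1818 (iv D1623) (iv F7416)
theorem F8238 : act 3 n1818 = n1684 := d25_1 D1818 (iv D1684) (iv F7417)
theorem F8239 : act 6 n1818 = n1818 := d34_1 D1818 (iv D1818) F7418
theorem F8240 : act 7 n1818 = n1633 := d35_1 D1818 (iv D1633) (iv D1447) (iv F6659) D1618
def n1819 : Q := act 6 n1620
theorem D1819 : act 6 n1620 = n1819 := rfl
theorem F8241 : act 0 n1819 = n1819 := d5_1 D1819 (iv D1819) F7426
theorem F8242 : act 2 n1819 = n1647 := d18_1 D1819 (iv D1647) (iv F7427)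
theorem F8243 : act 3 n1819 = n1819 := d23_1 D1819 (iv D1819) F7428
theorem F8244 : act 4 n1819 = n1621 := d27_1 D1819 (iv D1621) D1620
theorem F8245 : act 8 n1819 = n1634 := d34_2 (iv F7429) D1819 (iv D1634)
def n1820 : Q := act 7 n1620
theorem D1820 : act 7 n1620 = n1820 := rfl
theorem F8246 : act 0 n1820 = n1820 := d6_1 D1820 (iv D1820) F7426
theorem F8247 : act 2 n1820 = n1648 := d19_1 D1820 (iv D1648) (iv F7427)
theorem F8248 : act 4 n1820 = n1622 := d28_1 D1820 (iv D1622) D1620
def n1821 : Q := act 7 n1621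
theorem D1821 : act 7 n1621 = n1821 := rfl
theorem F8249 : act 0 n1821 = n1821 := d6_1 D1821 (iv D1821) F7430
theorem F8250 : act 2 n1821 = n1649 := d19_1 D1821 (iv D1649) (iv F7431)
theorem F8251 : act 5 n1821 = n1821 := d31_1 D1821 (iv D1821) F7433
theorem F8252 : act 6 n1821 = n1622 := d33_1 D1821 (iv D1622) D1621
def n1822 : Q := act 8 n1622
theorem D1822 : act 8 n1622 = n1822 := rfl
theorem F8253 : act 0 n1822 = n1822 := d7_1 D1822 (iv D1822) F7435
theorem F8254 : act 2 n1822 = n1650 := d20_1 D1822 (iv D1650) (iv F7436)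
theorem F8255 : act 5 n1822 = n1623 := d32_1 D1822 (iv D1623) (iv F7437)
theorem F8256 : act 7 n1822 = n1637 := d35_1 D1822 (iv D1637) (iv D1451) (iv F6669) D1622
def n1823 : Q := act 1 n1624
theorem D1823 : act 1 n1624 = n1823 := rfl
theorem F8257 : act 0 n1823 = n1651 := d0_1 D1823 (iv D1651) F6757 (iv F6688) (iv F7442)
theorem F8258 : act 2 n1823 = n1823 := d8_2 D1624 D1823 (iv D1823) (iv D1624) F6679
theorem F8259 : act 3 n1823 = n1710 := d9_2 (iv F7443) D1823 (iv D1710)
theorem F8260 : act 6 n1823 = n1823 := d12_2 F7444 D1823 (iv D1823)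
theorem F8261 : act 8 n1823 = n1719 := d14_2 (iv F7445) D1823 F7800
def n1824 : Q := act 5 n1624
theorem D1824 : act 5 n1624 = n1824 := rfl
theorem F8262 : act 0 n1824 = n1628 := d4_1 D1824 (iv D1628) (iv F7442)
theorem F8263 : act 2 n1824 = n1625 := d17_1 D1824 (iv D1625) D1624
theorem F8264 : act 3 n1824 = n1711 := d22_1 D1824 (iv D1711) (iv F7443)
theorem F8265 : act 8 n1824 = n1728 := d32_2 (iv F7445) D1824 F7837
def n1825 : Q := act 7 n1624
theorem D1825 : act 7 n1624 = n1825 := rfl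
theorem F8266 : act 0 n1825 = n1629 := d6_1 D1825 (iv D1629) (iv F7442)
theorem F8267 : act 2 n1825 = n1626 := d19_1 D1825 (iv D1626) D1624
theorem F8268 : act 6 n1825 = n1825 := d33_1 D1825 (iv D1825) F7444
def n1826 : Q := act 4 n1625
theorem D1826 : act 4 n1625 = n1826 := rfl
theorem F8269 : act 0 n1826 = n1630 := d3_1 D1826 (iv D1630) (iv F7446)
theorem F8270 : act 1 n1826 = n1826 := d10_1 D1826 (iv D1826) F7447
theorem F8271 : act 3 n1826 = n1826 := d21_1 D1826 (iv D1826) F7448 F6685 (iv F7448)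
theorem F8272 : act 8 n1826 = n1732 := d29_2 (iv F7449) D1826 (iv D1732)
def n1827 : Q := act 6 n1625
theorem D1827 : act 6 n1625 = n1827 := rfl
theorem F8273 : act 0 n1827 = n1631 := d5_1 D1827 (iv D1631) (iv F7446)
theorem F8274 : act 1 n1827 = n1827 := d12_1 D1827 (iv D1827) F7447
theorem F8275 : act 3 n1827 = n1627 := d23_1 D1827 (iv D1627) (iv F7448)
theorem F8276 : act 5 n1827 = n1827 := d30_1 D1827 (iv D1827) (iv D1625) F6680 D1625
theorem F8277 : act 8 n1827 = n1731 := d34_2 (iv F7449) D1827 F7846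
def n1828 : Q := act 7 n1625
theorem D1828 : act 7 n1625 = n1828 := rfl
theorem F8278 : act 0 n1828 = n1632 := d6_1 D1828 (iv D1632) (iv F7446)
theorem F8279 : act 1 n1828 = n1828 := d13_1 D1828 (iv D1828) F7447
theorem F8280 : act 3 n1828 = n1828 := d24_1 D1828 (iv D1828) F7448 F6686 (iv F7448)
theorem F8281 : act 5 n1828 = n1626 := d31_1 D1828 (iv D1626) D1625
def n1829 : Q := act 8 n1626
theorem D1829 : act 8 n1626 = n1829 := rfl
theorem F8282 : act 0 n1829 = n1633 := d7_1 D1829 (iv D1633) (iv F7450)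
theorem F8283 : act 1 n1829 = n1829 := d14_1 D1829 (iv D1829) F7451
theorem F8284 : act 3 n1829 = n1829 := d25_1 D1829 (iv D1829) F7452
theorem F8285 : act 6 n1829 = n1829 := d34_1 D1829 (iv D1829) F7453
theorem F8286 : act 7 n1829 = n1695 := d35_1 D1829 (iv D1695) F6891 (iv F6681) D1626
def n1830 : Q := act 4 n1628
theorem D1830 : act 4 n1628 = n1830 := rfl
theorem F8287 : act 1 n1830 = n1658 := d10_1 D1830 (iv D1658) (iv F7461)
theorem F8288 : act 2 n1830 = n1630 := d16_1 D1830 (iv D1630) (iv F7462)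
def n1831 : Q := act 6 n1628
theorem D1831 : act 6 n1628 = n1831 := rfl
theorem F8289 : act 1 n1831 = n1659 := d12_1 D1831 (iv D1659) (iv F7461)
theorem F8290 : act 2 n1831 = n1631 := d18_1 D1831 (iv D1631) (iv F7462)
theorem F8291 : act 3 n1831 = n1717 := d23_1 D1831 (iv D1717) (iv F7463)
theorem F8292 : act 5 n1831 = n1831 := d30_1 D1831 (iv D1831) (iv D1628) F6690 D1628
def n1832 : Q := act 7 n1628
theorem D1832 : act 7 n1628 = n1832 := rfl
theorem F8293 : act 1 n1832 = n1660 := d13_1 D1832 (iv D1660) (iv F7461)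
theorem F8294 : act 2 n1832 = n1632 := d19_1 D1832 (iv D1632) (iv F7462)
theorem F8295 : act 5 n1832 = n1629 := d31_1 D1832 (iv D1629) D1628
def n1833 : Q := act 3 n1629
theorem D1833 : act 3 n1629 = n1833 := rfl
theorem F8296 : act 1 n1833 = n1661 := d9_1 D1833 (iv D1661) (iv F7464)
theorem F8297 : act 2 n1833 = n1833 := d15_1 D1833 (iv D1833) F7465 F6694 (iv F7465)
theorem F8298 : act 6 n1833 = n1833 := d23_2 F7466 D1833 (iv D1833)
theorem F8299 : act 7 n1833 = n1719 := d24_2 D1629 D1833 (iv D1719) (iv D1525) (iv F6689)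
def n1834 : Q := act 8 n1629
theorem D1834 : act 8 n1629 = n1834 := rfl
theorem F8300 : act 1 n1834 = n1662 := d14_1 D1834 (iv D1662) (iv F7464)
theorem F8301 : act 2 n1834 = n1633 := d20_1 D1834 (iv D1633) (iv F7465)
theorem F8302 : act 6 n1834 = n1834 := d34_1 D1834 (iv D1834) F7466
def n1835 : Q := act 6 n1630
theorem D1835 : act 6 n1630 = n1835 := rfl
theorem F8303 : act 1 n1835 = n1634 := d12_1 D1835 (iv D1634) (iv F7467)
theorem F8304 : act 3 n1835 = n1835 := d23_1 D1835 (iv D1835) F7468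
theorem F8305 : act 4 n1835 = n1631 := d27_1 D1835 (iv D1631) D1630
def n1836 : Q := act 7 n1630
theorem D1836 : act 7 n1630 = n1836 := rfl
theorem F8306 : act 1 n1836 = n1635 := d13_1 D1836 (iv D1635) (iv F7467)
theorem F8307 : act 4 n1836 = n1632 := d28_1 D1836 (iv D1632) D1630
def n1837 : Q := act 7 n1631
theorem D1837 : act 7 n1631 = n1837 := rfl
theorem F8308 : act 1 n1837 = n1636 := d13_1 D1837 (iv D1636) (iv F7469)
theorem F8309 : act 3 n1837 = n1837 := d24_1 D1837 (iv D1837) F7470 F6700 (iv F7470)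
theorem F8310 : act 5 n1837 = n1837 := d31_1 D1837 (iv D1837) F7471
theorem F8311 : act 6 n1837 = n1632 := d33_1 D1837 (iv D1632) D1631
def n1838 : Q := act 8 n1632
theorem D1838 : act 8 n1632 = n1838 := rfl
theorem F8312 : act 1 n1838 = n1637 := d14_1 D1838 (iv D1637) (iv F7472)
theorem F8313 : act 3 n1838 = n1838 := d25_1 D1838 (iv D1838) F7473
theorem F8314 : act 5 n1838 = n1633 := d32_1 D1838 (iv D1633) (iv F7474)
def n1839 : Q := act 5 n1634
theorem D1839 : act 5 n1634 = n1839 := rfl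
theorem F8315 : act 0 n1839 = n1839 := d4_1 D1839 (iv D1839) F7478
theorem F8316 : act 2 n1839 = n1667 := d17_1 D1839 (iv D1667) (iv F7479)
theorem F8317 : act 3 n1839 = n1839 := d22_1 D1839 (iv D1839) F7480
theorem F8318 : act 4 n1839 = n1839 := d26_1 D1839 (iv D1839) F7481 F6707 (iv F7481)
def n1840 : Q := act 7 n1634
theorem D1840 : act 7 n1634 = n1840 := rfl
theorem F8319 : act 0 n1840 = n1840 := d6_1 D1840 (iv D1840) F7478
theorem F8320 : act 2 n1840 = n1668 := d19_1 D1840 (iv D1668) (iv F7479)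
theorem F8321 : act 4 n1840 = n1636 := d28_1 D1840 (iv D1636) (iv F7481)
theorem F8322 : act 6 n1840 = n1635 := d33_1 D1840 (iv D1635) D1634
def n1841 : Q := act 3 n1635
theorem D1841 : act 3 n1635 = n1841 := rfl
theorem F8323 : act 0 n1841 = n1841 := d2_1 D1841 (iv D1841) F7482
theorem F8324 : act 4 n1841 = n1841 := d21_2 (iv F7484) D1841 (iv D1841) F7484 F6710
theorem F8325 : act 7 n1841 = n1841 := d24_2 D1635 D1841 (iv D1841) (iv D1635) F6703
def n1842 : Q := act 8 n1635
theorem D1842 : act 8 n1635 = n1842 := rfl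
theorem F8326 : act 0 n1842 = n1842 := d7_1 D1842 (iv D1842) F7482
theorem F8327 : act 2 n1842 = n1670 := d20_1 D1842 (iv D1670) (iv F7483)
theorem F8328 : act 4 n1842 = n1637 := d29_1 D1842 (iv D1637) (iv F7484)
def n1843 : Q := act 8 n1636
theorem D1843 : act 8 n1636 = n1843 := rfl
theorem F8329 : act 0 n1843 = n1843 := d7_1 D1843 (iv D1843) F7485
theorem F8330 : act 2 n1843 = n1671 := d20_1 D1843 (iv D1671) (iv F7486)
theorem F8331 : act 3 n1843 = n1843 := d25_1 D1843 (iv D1843) F7487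
theorem F8332 : act 5 n1843 = n1843 := d32_1 D1843 (iv D1843) F7488
theorem F8333 : act 6 n1843 = n1637 := d34_1 D1843 (iv D1637) (iv F7489)
def n1844 : Q := act 1 n1638
theorem D1844 : act 1 n1638 = n1844 := rfl
theorem F8334 : act 0 n1844 = n1719 := d0_1 D1844 F7800 (iv F7406) F7407 (iv F7494)
theorem F8335 : act 2 n1844 = n1844 := d8_2 D1638 D1844 (iv D1844) (iv D1638) F6717
theorem F8336 : act 3 n1844 = n1712 := d9_2 (iv F7495) D1844 F7765
theorem F8337 : act 6 n1844 = n1844 := d12_2 F7496 D1844 (iv D1844)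
theorem F8338 : act 8 n1844 = n1651 := d14_2 (iv F7497) D1844 (iv D1651)
def n1845 : Q := act 5 n1638
theorem D1845 : act 5 n1638 = n1845 := rfl
theorem F8339 : act 0 n1845 = n1641 := d4_1 D1845 (iv D1641) (iv F7494)
theorem F8340 : act 2 n1845 = n1639 := d17_1 D1845 (iv D1639) D1638
theorem F8341 : act 3 n1845 = n1721 := d22_1 D1845 (iv D1721) (iv F7495)
theorem F8342 : act 8 n1845 = n1652 := d32_2 (iv F7497) D1845 (iv D1652)
theorem F8343 : act 6 n1725 = n1845 := d23_0 F8341 (iv F7814) D1725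
def n1846 : Q := act 7 n1638
theorem D1846 : act 7 n1638 = n1846 := rfl
theorem F8344 : act 0 n1846 = n1642 := d6_1 D1846 (iv D1642) (iv F7494)
theorem F8345 : act 2 n1846 = n1640 := d19_1 D1846 (iv D1640) D1638
theorem F8346 : act 6 n1846 = n1846 := d33_1 D1846 (iv D1846) F7496
def n1847 : Q := act 4 n1639
theorem D1847 : act 4 n1639 = n1847 := rfl
theorem F8347 : act 0 n1847 = n1643 := d3_1 D1847 (iv D1643) (iv F7498)
theorem F8348 : act 1 n1847 = n1847 := d10_1 D1847 (iv D1847) F7499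
theorem F8349 : act 3 n1847 = n1672 := d21_1 D1847 (iv D1672) F6804 (iv F6723) (iv F7500)
theorem F8350 : act 6 n1847 = n1677 := d27_2 F7502 D1847 F7626
theorem F8351 : act 8 n1847 = n1654 := d29_2 (iv F7501) D1847 (iv D1654)
def n1848 : Q := act 7 n1639
theorem D1848 : act 7 n1639 = n1848 := rfl
theorem F8352 : act 0 n1848 = n1645 := d6_1 D1848 (iv D1645) (iv F7498)
theorem F8353 : act 1 n1848 = n1848 := d13_1 D1848 (iv D1848) F7499
theorem F8354 : act 3 n1848 = n1848 := d24_1 D1848 (iv D1848) F7500 F6724 (iv F7500)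
theorem F8355 : act 5 n1848 = n1640 := d31_1 D1848 (iv D1640) D1639
theorem F8356 : act 6 n1848 = n1730 := d33_1 D1848 (iv D1730) F7502
def n1849 : Q := act 8 n1640
theorem D1849 : act 8 n1640 = n1849 := rfl
theorem F8357 : act 0 n1849 = n1646 := d7_1 D1849 (iv D1646) (iv F7503)
theorem F8358 : act 1 n1849 = n1849 := d14_1 D1849 (iv D1849) F7504
theorem F8359 : act 3 n1849 = n1849 := d25_1 D1849 (iv D1849) F7505
theorem F8360 : act 6 n1849 = n1849 := d34_1 D1849 (iv D1849) F7506
theorem F8361 : act 7 n1849 = n1657 := d35_1 D1849 (iv D1657) (iv D1465) (iv F6719) D1640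
def n1850 : Q := act 4 n1641
theorem D1850 : act 4 n1641 = n1850 := rfl
theorem F8362 : act 2 n1850 = n1643 := d16_1 D1850 (iv D1643) (iv F7507)
theorem F8363 : act 8 n1850 = n1658 := d29_2 (iv F7509) D1850 (iv D1658)
def n1851 : Q := act 6 n1641
theorem D1851 : act 6 n1641 = n1851 := rfl
theorem F8364 : act 0 n1851 = n1725 := d5_1 D1851 F8343 F8339
theorem F8365 : act 2 n1851 = n1644 := d18_1 D1851 (iv D1644) (iv F7507)
theorem F8366 : act 3 n1851 = n1723 := d23_1 D1851 (iv D1723) (iv F7508)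
theorem F8367 : act 5 n1851 = n1851 := d30_1 D1851 (iv D1851) (iv D1641) F6728 D1641
theorem F8368 : act 8 n1851 = n1659 := d34_2 (iv F7509) D1851 (iv D1659)
def n1852 : Q := act 7 n1641
theorem D1852 : act 7 n1641 = n1852 := rfl
theorem F8369 : act 2 n1852 = n1645 := d19_1 D1852 (iv D1645) (iv F7507)
theorem F8370 : act 5 n1852 = n1642 := d31_1 D1852 (iv D1642) D1641
def n1853 : Q := act 3 n1642
theorem D1853 : act 3 n1642 = n1853 := rfl
theorem F8371 : act 1 n1853 = n1653 := d9_1 D1853 (iv F8221) F8219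
theorem F8372 : act 2 n1853 = n1853 := d15_1 D1853 (iv D1853) F7510 F6734 (iv F7510)
theorem F8373 : act 6 n1853 = n1853 := d23_2 F7511 D1853 (iv D1853)
theorem F8374 : act 7 n1853 = n1651 := d24_2 D1642 D1853 F7542 (iv D1537) (iv F6727)
def n1854 : Q := act 8 n1642
theorem D1854 : act 8 n1642 = n1854 := rfl
theorem F8375 : act 2 n1854 = n1646 := d20_1 D1854 (iv D1646) (iv F7510)
theorem F8376 : act 6 n1854 = n1854 := d34_1 D1854 (iv D1854) F7511
theorem F8377 : act 7 n1854 = n1662 := d35_1 D1854 (iv D1662) (iv D1468) (iv F6729) D1642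
def n1855 : Q := act 6 n1643
theorem D1855 : act 6 n1643 = n1855 := rfl
theorem F8378 : act 0 n1855 = n1677 := d5_1 D1855 (iv F8350) F8347
theorem F8379 : act 1 n1855 = n1647 := d12_1 D1855 (iv D1647) (iv F7512)
theorem F8380 : act 3 n1855 = n1674 := d23_1 D1855 (iv D1674) (iv F7513)
theorem F8381 : act 4 n1855 = n1644 := d27_1 D1855 (iv D1644) D1643
theorem F8382 : act 8 n1855 = n1663 := d34_2 (iv F7514) D1855 (iv D1663)
def n1856 : Q := act 7 n1643
theorem D1856 : act 7 n1643 = n1856 := rfl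
theorem F8383 : act 1 n1856 = n1648 := d13_1 D1856 (iv D1648) (iv F7512)
theorem F8384 : act 4 n1856 = n1645 := d28_1 D1856 (iv D1645) D1643
def n1857 : Q := act 7 n1644
theorem D1857 : act 7 n1644 = n1857 := rfl
theorem F8385 : act 0 n1857 = n1730 := d6_1 D1857 (iv D1730) (iv F7515)
theorem F8386 : act 1 n1857 = n1649 := d13_1 D1857 (iv D1649) (iv F7516)
theorem F8387 : act 3 n1857 = n1857 := d24_1 D1857 (iv D1857) F7517 F6741 (iv F7517)
theorem F8388 : act 5 n1857 = n1857 := d31_1 D1857 (iv D1857) F7518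
theorem F8389 : act 6 n1857 = n1645 := d33_1 D1857 (iv D1645) D1644
def n1858 : Q := act 8 n1645
theorem D1858 : act 8 n1645 = n1858 := rfl
theorem F8390 : act 1 n1858 = n1650 := d14_1 D1858 (iv D1650) (iv F7520)
theorem F8391 : act 3 n1858 = n1858 := d25_1 D1858 (iv D1858) F7521
theorem F8392 : act 5 n1858 = n1646 := d32_1 D1858 (iv D1646) (iv F7522)
theorem F8393 : act 7 n1858 = n1666 := d35_1 D1858 (iv D1666) (iv D1471) (iv F6732) D1645
def n1859 : Q := act 7 n1647
theorem D1859 : act 7 n1647 = n1859 := rfl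
theorem F8394 : act 0 n1859 = n1859 := d6_1 D1859 (iv D1859) F7527
theorem F8395 : act 4 n1859 = n1649 := d28_1 D1859 (iv D1649) (iv F7529)
theorem F8396 : act 6 n1859 = n1648 := d33_1 D1859 (iv D1648) D1647
def n1860 : Q := act 3 n1648
theorem D1860 : act 3 n1648 = n1860 := rfl
theorem F8397 : act 0 n1860 = n1860 := d2_1 D1860 (iv D1860) F7531
theorem F8398 : act 4 n1860 = n1860 := d21_2 (iv F7532) D1860 (iv D1860) F7532 F6751
theorem F8399 : act 5 n1860 = n1668 := d22_2 F8048 D1860 (iv F8046)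
theorem F8400 : act 7 n1860 = n1667 := d24_2 D1648 D1860 F7590 (iv D1483) (iv F6744)
def n1861 : Q := act 8 n1648
theorem D1861 : act 8 n1648 = n1861 := rfl
theorem F8401 : act 0 n1861 = n1861 := d7_1 D1861 (iv D1861) F7531
theorem F8402 : act 4 n1861 = n1650 := d29_1 D1861 (iv D1650) (iv F7532)
theorem F8403 : act 7 n1861 = n1670 := d35_1 D1861 (iv D1670) (iv D1474) (iv F6745) D1648
def n1862 : Q := act 8 n1649
theorem D1862 : act 8 n1649 = n1862 := rfl
theorem F8404 : act 0 n1862 = n1862 := d7_1 D1862 (iv D1862) F7533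
theorem F8405 : act 3 n1862 = n1862 := d25_1 D1862 (iv D1862) F7534
theorem F8406 : act 5 n1862 = n1862 := d32_1 D1862 (iv D1862) F7535
theorem F8407 : act 6 n1862 = n1650 := d34_1 D1862 (iv D1650) (iv F7536)
theorem F8408 : act 7 n1862 = n1671 := d35_1 D1862 (iv D1671) (iv D1475) (iv F6749) D1649
def n1863 : Q := act 5 n1651
theorem D1863 : act 5 n1651 = n1863 := rfl
theorem F8409 : act 1 n1863 = n1652 := d11_1 D1863 (iv D1652) D1651
theorem F8410 : act 2 n1863 = n1863 := d17_1 D1863 (iv D1863) F7541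
theorem F8411 : act 3 n1863 = n1724 := d22_1 D1863 F7827 (iv F7542)
def n1864 : Q := act 4 n1652
theorem D1864 : act 4 n1652 = n1864 := rfl
theorem F8412 : act 0 n1864 = n1658 := d3_1 D1864 (iv D1658) (iv F7544)
theorem F8413 : act 2 n1864 = n1654 := d16_1 D1864 (iv D1654) (iv F7545)
def n1865 : Q := act 6 n1652
theorem D1865 : act 6 n1652 = n1865 := rfl
theorem F8414 : act 0 n1865 = n1659 := d5_1 D1865 (iv D1659) (iv F7544)
theorem F8415 : act 2 n1865 = n1655 := d18_1 D1865 (iv D1655) (iv F7545)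
theorem F8416 : act 3 n1865 = n1722 := d23_1 D1865 (iv F7819) (iv F7546)
theorem F8417 : act 5 n1865 = n1865 := d30_1 D1865 (iv D1865) (iv D1652) F6759 D1652
theorem F8418 : act 8 n1865 = n1725 := d34_2 F8342 D1865 F8343
def n1866 : Q := act 7 n1652
theorem D1866 : act 7 n1652 = n1866 := rfl
theorem F8419 : act 0 n1866 = n1660 := d6_1 D1866 (iv D1660) (iv F7544)
theorem F8420 : act 2 n1866 = n1656 := d19_1 D1866 (iv D1656) (iv F7545)
theorem F8421 : act 5 n1866 = n1653 := d31_1 D1866 (iv D1653) D1652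
def n1867 : Q := act 8 n1653
theorem D1867 : act 8 n1653 = n1867 := rfl
theorem F8422 : act 0 n1867 = n1662 := d7_1 D1867 (iv D1662) (iv F7547)
theorem F8423 : act 2 n1867 = n1657 := d20_1 D1867 (iv D1657) (iv F7548)
theorem F8424 : act 6 n1867 = n1867 := d34_1 D1867 (iv D1867) F7549
def n1868 : Q := act 6 n1654
theorem D1868 : act 6 n1654 = n1868 := rfl
theorem F8425 : act 0 n1868 = n1663 := d5_1 D1868 (iv D1663) (iv F7550)
theorem F8426 : act 1 n1868 = n1868 := d12_1 D1868 (iv D1868) F7551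
theorem F8427 : act 3 n1868 = n1673 := d23_1 D1868 F7612 (iv F7552)
theorem F8428 : act 4 n1868 = n1655 := d27_1 D1868 (iv D1655) D1654
theorem F8429 : act 8 n1868 = n1677 := d34_2 F8351 D1868 (iv F8350)
def n1869 : Q := act 7 n1654
theorem D1869 : act 7 n1654 = n1869 := rfl
theorem F8430 : act 0 n1869 = n1664 := d6_1 D1869 (iv D1664) (iv F7550)
theorem F8431 : act 1 n1869 = n1869 := d13_1 D1869 (iv D1869) F7551
theorem F8432 : act 4 n1869 = n1656 := d28_1 D1869 (iv D1656) D1654
def n1870 : Q := act 7 n1655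
theorem D1870 : act 7 n1655 = n1870 := rfl
theorem F8433 : act 0 n1870 = n1665 := d6_1 D1870 (iv D1665) (iv F7553)
theorem F8434 : act 1 n1870 = n1870 := d13_1 D1870 (iv D1870) F7554
theorem F8435 : act 3 n1870 = n1687 := d24_1 D1870 (iv D1687) F6865 (iv F6772) (iv F7555)
theorem F8436 : act 5 n1870 = n1870 := d31_1 D1870 (iv D1870) F7556
theorem F8437 : act 6 n1870 = n1656 := d33_1 D1870 (iv D1656) D1655
def n1871 : Q := act 8 n1656
theorem D1871 : act 8 n1656 = n1871 := rfl
theorem F8438 : act 0 n1871 = n1666 := d7_1 D1871 (iv D1666) (iv F7558)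
theorem F8439 : act 1 n1871 = n1871 := d14_1 D1871 (iv D1871) F7559
theorem F8440 : act 3 n1871 = n1688 := d25_1 D1871 (iv D1688) (iv F7560)
theorem F8441 : act 5 n1871 = n1657 := d32_1 D1871 (iv D1657) (iv F7561)
def n1872 : Q := act 3 n1658
theorem D1872 : act 3 n1658 = n1872 := rfl
theorem F8442 : act 2 n1872 = n1677 := d15_1 D1872 (iv D1677) F6839 (iv F6779) (iv F7566)
theorem F8443 : act 4 n1872 = n1725 := d21_2 D1658 D1872 (iv D1725) (iv D1542) (iv F6775)
def n1873 : Q := act 6 n1658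
theorem D1873 : act 6 n1658 = n1873 := rfl
theorem F8444 : act 2 n1873 = n1663 := d18_1 D1873 (iv D1663) (iv F7566)
theorem F8445 : act 4 n1873 = n1659 := d27_1 D1873 (iv D1659) D1658
def n1874 : Q := act 7 n1658
theorem D1874 : act 7 n1658 = n1874 := rfl
theorem F8446 : act 2 n1874 = n1664 := d19_1 D1874 (iv D1664) (iv F7566)
theorem F8447 : act 4 n1874 = n1660 := d28_1 D1874 (iv D1660) D1658
def n1875 : Q := act 7 n1659
theorem D1875 : act 7 n1659 = n1875 := rfl
theorem F8448 : act 2 n1875 = n1665 := d19_1 D1875 (iv D1665) (iv F7567)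
theorem F8449 : act 5 n1875 = n1875 := d31_1 D1875 (iv D1875) F7569
theorem F8450 : act 6 n1875 = n1660 := d33_1 D1875 (iv D1660) D1659
def n1876 : Q := act 3 n1660
theorem D1876 : act 3 n1660 = n1876 := rfl
theorem F8451 : act 2 n1876 = n1692 := d15_1 D1876 (iv D1692) F6887 (iv F6784) (iv F7570)
theorem F8452 : act 5 n1876 = n1661 := d22_2 (iv F7571) D1876 (iv D1661)
theorem F8453 : act 7 n1876 = n1728 := d24_2 D1660 D1876 (iv D1728) (iv D1544) (iv F6775)
def n1877 : Q := act 8 n1660
theorem D1877 : act 8 n1660 = n1877 := rfl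
theorem F8454 : act 2 n1877 = n1666 := d20_1 D1877 (iv D1666) (iv F7570)
theorem F8455 : act 5 n1877 = n1662 := d32_1 D1877 (iv D1662) (iv F7571)
def n1878 : Q := act 4 n1661
theorem D1878 : act 4 n1661 = n1878 := rfl
theorem F8456 : act 2 n1878 = n1694 := d16_1 D1878 (iv D1694) (iv F7572)
theorem F8457 : act 6 n1878 = n1878 := d27_2 F7573 D1878 (iv D1878)
theorem F8458 : act 7 n1878 = n1729 := d28_2 (iv F7574) D1878 (iv D1729)
def n1879 : Q := act 8 n1661
theorem D1879 : act 8 n1661 = n1879 := rfl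
theorem F8459 : act 2 n1879 = n1695 := d20_1 D1879 (iv D1695) (iv F7572)
theorem F8460 : act 3 n1879 = n1662 := d25_1 D1879 (iv D1662) D1661
theorem F8461 : act 6 n1879 = n1879 := d34_1 D1879 (iv D1879) F7573
def n1880 : Q := act 5 n1663
theorem D1880 : act 5 n1663 = n1880 := rfl
theorem F8462 : act 1 n1880 = n1667 := d11_1 D1880 (iv D1667) (iv F7577)
theorem F8463 : act 3 n1880 = n1675 := d22_1 D1880 F7621 (iv F7578)
theorem F8464 : act 4 n1880 = n1880 := d26_1 D1880 (iv D1880) F7579 F6782 (iv F7579)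
def n1881 : Q := act 7 n1663
theorem D1881 : act 7 n1663 = n1881 := rfl
theorem F8465 : act 1 n1881 = n1668 := d13_1 D1881 (iv D1668) (iv F7577)
theorem F8466 : act 4 n1881 = n1665 := d28_1 D1881 (iv D1665) (iv F7579)
theorem F8467 : act 6 n1881 = n1664 := d33_1 D1881 (iv D1664) D1663
def n1882 : Q := act 3 n1664
theorem D1882 : act 3 n1664 = n1882 := rfl
theorem F8468 : act 1 n1882 = n1669 := d9_1 D1882 (iv D1669) (iv F7580)
theorem F8469 : act 4 n1882 = n1697 := d21_2 (iv F7581) D1882 (iv D1697) F6902 (iv F6784)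
theorem F8470 : act 7 n1882 = n1679 := d24_2 D1664 D1882 (iv D1679) (iv D1489) (iv F6779)
def n1883 : Q := act 8 n1664
theorem D1883 : act 8 n1664 = n1883 := rfl
theorem F8471 : act 1 n1883 = n1670 := d14_1 D1883 (iv D1670) (iv F7580)
theorem F8472 : act 4 n1883 = n1666 := d29_1 D1883 (iv D1666) (iv F7581)
def n1884 : Q := act 8 n1665
theorem D1884 : act 8 n1665 = n1884 := rfl
theorem F8473 : act 1 n1884 = n1671 := d14_1 D1884 (iv D1671) (iv F7582)
theorem F8474 : act 3 n1884 = n1699 := d25_1 D1884 (iv D1699) (iv F7583)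
theorem F8475 : act 5 n1884 = n1884 := d32_1 D1884 (iv D1884) F7584
theorem F8476 : act 6 n1884 = n1666 := d34_1 D1884 (iv D1666) (iv F7585)
def n1885 : Q := act 8 n1668
theorem D1885 : act 8 n1668 = n1885 := rfl
theorem F8477 : act 0 n1885 = n1885 := d7_1 D1885 (iv D1885) F7592
theorem F8478 : act 4 n1885 = n1671 := d29_1 D1885 (iv D1671) (iv F7593)
theorem F8479 : act 6 n1885 = n1670 := d34_1 D1885 (iv D1670) (iv F7594)
def n1886 : Q := act 2 n1669
theorem D1886 : act 2 n1669 = n1886 := rfl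
theorem F8480 : act 0 n1886 = n1886 := d1_1 D1886 (iv D1886) F7595
theorem F8481 : act 4 n1886 = n1701 := d16_2 (iv F7596) D1886 (iv D1701)
theorem F8482 : act 7 n1886 = n1680 := d19_2 (iv F7597) D1886 (iv D1680)
def n1887 : Q := act 8 n1669
theorem D1887 : act 8 n1669 = n1887 := rfl
theorem F8483 : act 0 n1887 = n1887 := d7_1 D1887 (iv D1887) F7595
theorem F8484 : act 3 n1887 = n1670 := d25_1 D1887 (iv D1670) D1669
theorem F8485 : act 4 n1887 = n1702 := d29_1 D1887 (iv D1702) (iv F7596)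
def n1888 : Q := act 3 n1676
theorem D1888 : act 3 n1676 = n1888 := rfl
theorem F8486 : act 0 n1888 = n1679 := d2_1 D1888 (iv D1679) (iv F7622)
theorem F8487 : act 1 n1888 = n1888 := d9_1 D1888 (iv D1888) F7623
theorem F8488 : act 4 n1888 = n1703 := d21_2 (iv F7624) D1888 (iv D1703) F6935 (iv F6836)
def n1889 : Q := act 7 n1677
theorem D1889 : act 7 n1677 = n1889 := rfl
theorem F8489 : act 1 n1889 = n1889 := d13_1 D1889 (iv D1889) F7625
theorem F8490 : act 4 n1889 = n1730 := d28_1 D1889 (iv D1730) (iv F7626)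
def n1890 : Q := act 3 n1678
theorem D1890 : act 3 n1678 = n1890 := rfl
theorem F8491 : act 1 n1890 = n1890 := d9_1 D1890 (iv D1890) F7627
theorem F8492 : act 4 n1890 = n1890 := d21_2 (iv F7629) D1890 (iv D1890) F7629 F6842
def n1891 : Q := act 2 n1679
theorem D1891 : act 2 n1679 = n1891 := rfl
theorem F8493 : act 4 n1891 = n1704 := d16_2 (iv F7631) D1891 (iv D1704)
def n1892 : Q := act 1 n1680
theorem D1892 : act 1 n1680 = n1892 := rfl
theorem F8494 : act 3 n1892 = n1892 := d9_2 F7633 D1892 (iv D1892)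
theorem F8495 : act 4 n1892 = n1705 := d10_2 (iv F7634) D1892 (iv D1705)
def n1893 : Q := act 6 n1681
theorem D1893 : act 6 n1681 = n1893 := rfl
theorem F8496 : act 0 n1893 = n1689 := d5_1 D1893 (iv D1689) (iv F7635)
theorem F8497 : act 2 n1893 = n1685 := d18_1 D1893 (iv D1685) (iv F7636)
theorem F8498 : act 3 n1893 = n1893 := d23_1 D1893 (iv D1893) F7637
theorem F8499 : act 4 n1893 = n1682 := d27_1 D1893 (iv D1682) D1681
theorem F8500 : act 8 n1893 = n1893 := d34_2 F7639 D1893 (iv D1893)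
def n1894 : Q := act 7 n1681
theorem D1894 : act 7 n1681 = n1894 := rfl
theorem F8501 : act 0 n1894 = n1690 := d6_1 D1894 (iv D1690) (iv F7635)
theorem F8502 : act 2 n1894 = n1686 := d19_1 D1894 (iv D1686) (iv F7636)
theorem F8503 : act 4 n1894 = n1683 := d28_1 D1894 (iv D1683) D1681
theorem F8504 : act 5 n1894 = n1894 := d31_1 D1894 (iv D1894) F7638
def n1895 : Q := act 7 n1682
theorem D1895 : act 7 n1682 = n1895 := rfl
theorem F8505 : act 0 n1895 = n1691 := d6_1 D1895 (iv D1691) (iv F7640)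
theorem F8506 : act 2 n1895 = n1687 := d19_1 D1895 (iv D1687) (iv F7641)
theorem F8507 : act 5 n1895 = n1895 := d31_1 D1895 (iv D1895) F7643
theorem F8508 : act 6 n1895 = n1683 := d33_1 D1895 (iv D1683) D1682
def n1896 : Q := act 8 n1683
theorem D1896 : act 8 n1683 = n1896 := rfl
theorem F8509 : act 0 n1896 = n1693 := d7_1 D1896 (iv D1693) (iv F7645)
theorem F8510 : act 2 n1896 = n1688 := d20_1 D1896 (iv D1688) (iv F7646)
theorem F8511 : act 5 n1896 = n1684 := d32_1 D1896 (iv D1684) (iv F7647)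
theorem F8512 : act 7 n1896 = n1896 := d35_1 D1896 (iv D1896) (iv D1683) F6853 D1683
def n1897 : Q := act 7 n1685
theorem D1897 : act 7 n1685 = n1897 := rfl
theorem F8513 : act 0 n1897 = n1696 := d6_1 D1897 (iv D1696) (iv F7653)
theorem F8514 : act 1 n1897 = n1897 := d13_1 D1897 (iv D1897) F7654
theorem F8515 : act 4 n1897 = n1687 := d28_1 D1897 (iv D1687) (iv F7656)
theorem F8516 : act 6 n1897 = n1686 := d33_1 D1897 (iv D1686) D1685
def n1898 : Q := act 3 n1686
theorem D1898 : act 3 n1686 = n1898 := rfl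
theorem F8517 : act 0 n1898 = n1697 := d2_1 D1898 (iv D1697) (iv F7658)
theorem F8518 : act 1 n1898 = n1898 := d9_1 D1898 (iv D1898) F7659
theorem F8519 : act 5 n1898 = n1898 := d22_2 F7661 D1898 (iv D1898)
theorem F8520 : act 7 n1898 = n1703 := d24_2 D1686 D1898 (iv D1703) (iv D1511) (iv F6860)
def n1899 : Q := act 8 n1686
theorem D1899 : act 8 n1686 = n1899 := rfl
theorem F8521 : act 0 n1899 = n1698 := d7_1 D1899 (iv D1698) (iv F7658)
theorem F8522 : act 1 n1899 = n1899 := d14_1 D1899 (iv D1899) F7659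
theorem F8523 : act 4 n1899 = n1688 := d29_1 D1899 (iv D1688) (iv F7660)
theorem F8524 : act 5 n1899 = n1899 := d32_1 D1899 (iv D1899) F7661
theorem F8525 : act 7 n1899 = n1899 := d35_1 D1899 (iv D1899) (iv D1686) F6862 D1686
def n1900 : Q := act 8 n1687
theorem D1900 : act 8 n1687 = n1900 := rfl
theorem F8526 : act 0 n1900 = n1699 := d7_1 D1900 (iv D1699) (iv F7662)
theorem F8527 : act 1 n1900 = n1900 := d14_1 D1900 (iv D1900) F7663
theorem F8528 : act 5 n1900 = n1900 := d32_1 D1900 (iv D1900) F7664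
theorem F8529 : act 6 n1900 = n1688 := d34_1 D1900 (iv D1688) (iv F7665)
theorem F8530 : act 7 n1900 = n1900 := d35_1 D1900 (iv D1900) (iv D1687) F6867 D1687
def n1901 : Q := act 7 n1689
theorem D1901 : act 7 n1689 = n1901 := rfl
theorem F8531 : act 1 n1901 = n1901 := d13_1 D1901 (iv D1901) F7670
theorem F8532 : act 2 n1901 = n1696 := d19_1 D1901 (iv D1696) (iv F7671)
theorem F8533 : act 4 n1901 = n1691 := d28_1 D1901 (iv D1691) (iv F7673)
theorem F8534 : act 6 n1901 = n1690 := d33_1 D1901 (iv D1690) D1689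
def n1902 : Q := act 3 n1690
theorem D1902 : act 3 n1690 = n1902 := rfl
theorem F8535 : act 1 n1902 = n1902 := d9_1 D1902 (iv D1902) F7675
theorem F8536 : act 5 n1902 = n1902 := d22_2 F7678 D1902 (iv D1902)
theorem F8537 : act 7 n1902 = n1902 := d24_2 D1690 D1902 (iv D1902) (iv D1690) F6878
def n1903 : Q := act 8 n1690
theorem D1903 : act 8 n1690 = n1903 := rfl
theorem F8538 : act 1 n1903 = n1903 := d14_1 D1903 (iv D1903) F7675
theorem F8539 : act 2 n1903 = n1698 := d20_1 D1903 (iv D1698) (iv F7676)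
theorem F8540 : act 4 n1903 = n1693 := d29_1 D1903 (iv D1693) (iv F7677)
theorem F8541 : act 5 n1903 = n1903 := d32_1 D1903 (iv D1903) F7678
theorem F8542 : act 7 n1903 = n1903 := d35_1 D1903 (iv D1903) (iv D1690) F6880 D1690
def n1904 : Q := act 3 n1691
theorem D1904 : act 3 n1691 = n1904 := rfl
theorem F8543 : act 1 n1904 = n1904 := d9_1 D1904 (iv D1904) F7679
theorem F8544 : act 5 n1904 = n1904 := d22_2 F7681 D1904 (iv D1904)
theorem F8545 : act 6 n1904 = n1692 := d23_2 (iv F7682) D1904 (iv D1692)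
theorem F8546 : act 7 n1904 = n1731 := d24_2 D1691 D1904 (iv D1731) (iv D1550) (iv F6883)
def n1905 : Q := act 8 n1691
theorem D1905 : act 8 n1691 = n1905 := rfl
theorem F8547 : act 1 n1905 = n1905 := d14_1 D1905 (iv D1905) F7679
theorem F8548 : act 2 n1905 = n1699 := d20_1 D1905 (iv D1699) (iv F7680)
theorem F8549 : act 5 n1905 = n1905 := d32_1 D1905 (iv D1905) F7681
theorem F8550 : act 6 n1905 = n1693 := d34_1 D1905 (iv D1693) (iv F7682)
theorem F8551 : act 7 n1905 = n1905 := d35_1 D1905 (iv D1905) (iv D1691) F6885 D1691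
def n1906 : Q := act 4 n1692
theorem D1906 : act 4 n1692 = n1906 := rfl
theorem F8552 : act 1 n1906 = n1906 := d10_1 D1906 (iv D1906) F7683
theorem F8553 : act 7 n1906 = n1732 := d28_2 (iv F7685) D1906 (iv D1732)
def n1907 : Q := act 8 n1692
theorem D1907 : act 8 n1692 = n1907 := rfl
theorem F8554 : act 1 n1907 = n1907 := d14_1 D1907 (iv D1907) F7683
theorem F8555 : act 3 n1907 = n1693 := d25_1 D1907 (iv D1693) D1692
theorem F8556 : act 5 n1907 = n1695 := d32_1 D1907 (iv D1695) (iv F7684)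
def n1908 : Q := act 5 n1694
theorem D1908 : act 5 n1694 = n1908 := rfl
theorem F8557 : act 1 n1908 = n1908 := d11_1 D1908 (iv D1908) F7690
theorem F8558 : act 3 n1908 = n1908 := d22_1 D1908 (iv D1908) F7691
theorem F8559 : act 7 n1908 = n1733 := d31_2 (iv F7693) D1908 (iv D1733)
def n1909 : Q := act 8 n1694
theorem D1909 : act 8 n1694 = n1909 := rfl
theorem F8560 : act 1 n1909 = n1909 := d14_1 D1909 (iv D1909) F7690
theorem F8561 : act 3 n1909 = n1909 := d25_1 D1909 (iv D1909) F7691
theorem F8562 : act 4 n1909 = n1695 := d29_1 D1909 (iv D1695) D1694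
theorem F8563 : act 6 n1909 = n1909 := d34_1 D1909 (iv D1909) F7692
def n1910 : Q := act 8 n1696
theorem D1910 : act 8 n1696 = n1910 := rfl
theorem F8564 : act 1 n1910 = n1700 := d14_1 D1910 (iv D1700) (iv F7697)
theorem F8565 : act 4 n1910 = n1699 := d29_1 D1910 (iv D1699) (iv F7698)
theorem F8566 : act 6 n1910 = n1698 := d34_1 D1910 (iv D1698) (iv F7699)
theorem F8567 : act 7 n1910 = n1910 := d35_1 D1910 (iv D1910) (iv D1696) F6900 D1696
def n1911 : Q := act 2 n1697
theorem D1911 : act 2 n1697 = n1911 := rfl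
theorem F8568 : act 5 n1911 = n1911 := d17_2 F7701 D1911 (iv D1911)
theorem F8569 : act 7 n1911 = n1704 := d19_2 (iv F7702) D1911 (iv D1704)
def n1912 : Q := act 8 n1697
theorem D1912 : act 8 n1697 = n1912 := rfl
theorem F8570 : act 1 n1912 = n1702 := d14_1 D1912 (iv D1702) (iv F7700)
theorem F8571 : act 3 n1912 = n1698 := d25_1 D1912 (iv D1698) D1697
theorem F8572 : act 5 n1912 = n1912 := d32_1 D1912 (iv D1912) F7701
def n1913 : Q := act 1 n1701
theorem D1913 : act 1 n1701 = n1913 := rfl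
theorem F8573 : act 3 n1913 = n1913 := d9_2 F7717 D1913 (iv D1913)
theorem F8574 : act 5 n1913 = n1913 := d11_2 F7718 D1913 (iv D1913)
theorem F8575 : act 7 n1913 = n1705 := d13_2 (iv F7719) D1913 (iv D1705)
def n1914 : Q := act 8 n1701
theorem D1914 : act 8 n1701 = n1914 := rfl
theorem F8576 : act 0 n1914 = n1914 := d7_1 D1914 (iv D1914) F7716
theorem F8577 : act 2 n1914 = n1702 := d20_1 D1914 (iv D1702) D1701
theorem F8578 : act 3 n1914 = n1914 := d25_1 D1914 (iv D1914) F7717
theorem F8579 : act 5 n1914 = n1914 := d32_1 D1914 (iv D1914) F7718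
def n1915 : Q := act 2 n1703
theorem D1915 : act 2 n1703 = n1915 := rfl
theorem F8580 : act 0 n1915 = n1704 := d1_1 D1915 (iv D1704) (iv F7723)
theorem F8581 : act 3 n1915 = n1915 := d15_2 D1703 D1915 (iv D1915) (iv D1703) F6934
theorem F8582 : act 5 n1915 = n1915 := d17_2 F7725 D1915 (iv D1915)
def n1916 : Q := act 1 n1704
theorem D1916 : act 1 n1704 = n1916 := rfl
theorem F8583 : act 2 n1916 = n1705 := d8_2 D1704 D1916 (iv D1705) (iv D1513) (iv F6937)
theorem F8584 : act 3 n1916 = n1916 := d9_2 F7726 D1916 (iv D1916)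
theorem F8585 : act 5 n1916 = n1916 := d11_2 F7727 D1916 (iv D1916)
def n1917 : Q := act 0 n1705
theorem D1917 : act 0 n1705 = n1917 := rfl
theorem F8586 : act 1 n1917 = n1917 := d0_2 D1705 D1917 (iv D1917) (iv D1705) F6939
theorem F8587 : act 3 n1917 = n1706 := d2_2 (iv F7728) D1917 (iv D1706)
theorem F8588 : act 5 n1917 = n1917 := d4_2 F7729 D1917 (iv D1917)
theorem F8589 : act 6 n1917 = n1733 := d5_2 (iv F7910) D1917 (iv F7906)
def n1918 : Q := act 4 n1707
theorem D1918 : act 4 n1707 = n1918 := rfl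
theorem F8590 : act 0 n1918 = n1726 := d3_1 D1918 F7831 (iv F7736)
theorem F8591 : act 1 n1918 = n1722 := d10_1 D1918 (iv D1722) (iv F7737)
theorem F8592 : act 2 n1918 = n1708 := d16_1 D1918 (iv D1708) (iv F7738)
theorem F8593 : act 5 n1918 = n1918 := d26_2 D1707 D1918 (iv D1918) (iv D1707) F6948
theorem F8594 : act 7 n1918 = n1723 := d28_2 (iv F7739) D1918 F7822
theorem F8595 : act 8 n1918 = n1716 := d29_2 (iv F7740) D1918 (iv D1716)
theorem F8596 : act 6 n1724 = n1918 := d33_3 F8594 (iv D1723) D1724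
def n1919 : Q := act 6 n1707
theorem D1919 : act 6 n1707 = n1919 := rfl
theorem F8597 : act 0 n1919 = n1727 := d5_1 D1919 F7835 (iv F7736)
theorem F8598 : act 1 n1919 = n1723 := d12_1 D1919 (iv D1723) (iv F7737)
theorem F8599 : act 2 n1919 = n1709 := d18_1 D1919 (iv D1709) (iv F7738)
theorem F8600 : act 4 n1919 = n1724 := d27_1 D1919 F8596 (iv D1918)
theorem F8601 : act 5 n1919 = n1919 := d30_1 D1919 (iv D1919) (iv D1707) F6949 D1707
theorem F8602 : act 7 n1919 = n1722 := d33_2 (iv F7739) D1919 (iv F7819)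
theorem F8603 : act 8 n1919 = n1717 := d34_2 (iv F7740) D1919 (iv D1717)
def n1920 : Q := act 5 n1710
theorem D1920 : act 5 n1710 = n1920 := rfl
theorem F8604 : act 0 n1920 = n1724 := d4_1 D1920 F7827 (iv F7755)
theorem F8605 : act 1 n1920 = n1711 := d11_1 D1920 (iv D1711) D1710
theorem F8606 : act 2 n1920 = n1720 := d17_1 D1920 F7807 (iv F7756)
theorem F8607 : act 7 n1920 = n1721 := d31_2 F7760 D1920 (iv D1721)
theorem F8608 : act 8 n1920 = n1718 := d32_2 (iv F7759) D1920 F7799
theorem F8609 : act 4 n1727 = n1920 := d28_3 F8607 (iv F7813) D1727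
theorem F8610 : act 6 n1726 = n1920 := d33_3 F8607 (iv F7814) D1726
def n1921 : Q := act 4 n1711
theorem D1921 : act 4 n1711 = n1921 := rfl
theorem F8611 : act 0 n1921 = n1716 := d3_1 D1921 (iv D1716) (iv F7761)
theorem F8612 : act 1 n1921 = n1727 := d10_1 D1921 F8609 F8605
theorem F8613 : act 2 n1921 = n1713 := d16_1 D1921 (iv D1713) (iv F7762)
theorem F8614 : act 5 n1921 = n1921 := d26_2 D1711 D1921 (iv D1921) (iv D1711) F6978
theorem F8615 : act 8 n1921 = n1726 := d29_2 (iv F7763) D1921 F7831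
theorem F8616 : act 6 n1718 = n1921 := d34_3 F8615 F8610 F8608
theorem F8617 : act 7 n1717 = n1921 := d35_5 F8615 (iv D1726) (iv F7818) (iv F8602) F8603
def n1922 : Q := act 6 n1711
theorem D1922 : act 6 n1711 = n1922 := rfl
theorem F8618 : act 0 n1922 = n1717 := d5_1 D1922 (iv D1717) (iv F7761)
theorem F8619 : act 1 n1922 = n1726 := d12_1 D1922 F8610 F8605
theorem F8620 : act 2 n1922 = n1714 := d18_1 D1922 (iv D1714) (iv F7762)
theorem F8621 : act 4 n1922 = n1718 := d27_1 D1922 F8616 (iv D1921)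
theorem F8622 : act 5 n1922 = n1922 := d30_1 D1922 (iv D1922) (iv D1711) F6979 D1711
theorem F8623 : act 8 n1922 = n1727 := d34_2 (iv F7763) D1922 F7835
theorem F8624 : act 7 n1716 = n1922 := d35_5 F8623 (iv D1727) (iv F7824) (iv F8594) F8595
def n1923 : Q := act 7 n1711
theorem D1923 : act 7 n1711 = n1923 := rfl
theorem F8625 : act 0 n1923 = n1718 := d6_1 D1923 (iv D1718) (iv F7761)
theorem F8626 : act 1 n1923 = n1721 := d13_1 D1923 (iv F8607) F8605
theorem F8627 : act 2 n1923 = n1715 := d19_1 D1923 (iv D1715) (iv F7762)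
theorem F8628 : act 4 n1923 = n1717 := d28_1 D1923 F8617 (iv D1921)
theorem F8629 : act 5 n1923 = n1712 := d31_1 D1923 (iv D1712) D1711
theorem F8630 : act 6 n1923 = n1716 := d33_1 D1923 F8624 (iv D1922)
theorem F8631 : act 8 n1923 = n1724 := d35_2 (iv F7763) D1923 (iv D1724) F7057 D1544
def n1924 : Q := act 3 n1716
theorem D1924 : act 3 n1716 = n1924 := rfl
theorem F8632 : act 1 n1924 = n1725 := d9_1 D1924 (iv D1725) (iv F7791)
theorem F8633 : act 2 n1924 = n1924 := d15_1 D1924 (iv D1924) F7792 F7004 (iv F7792)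
theorem F8634 : act 5 n1924 = n1924 := d22_2 F7793 D1924 (iv D1924)
def n1925 : Q := act 3 n1718
theorem D1925 : act 3 n1718 = n1925 := rfl
theorem F8635 : act 1 n1925 = n1728 := d9_1 D1925 (iv D1728) (iv F7797)
theorem F8636 : act 2 n1925 = n1925 := d15_1 D1925 (iv D1925) F7798 F7010 (iv F7798)
theorem F8637 : act 5 n1925 = n1719 := d22_2 (iv F7799) D1925 (iv D1719)
def n1926 : Q := act 4 n1719
theorem D1926 : act 4 n1719 = n1926 := rfl
theorem F8638 : act 1 n1926 = n1729 := d10_1 D1926 (iv D1729) (iv F7800)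
theorem F8639 : act 2 n1926 = n1926 := d16_1 D1926 (iv D1926) F7801
theorem F8640 : act 3 n1926 = n1926 := d21_1 D1926 (iv D1926) (iv D1719) F7001 D1719
theorem F8641 : act 6 n1926 = n1926 := d27_2 F7802 D1926 (iv D1926)
def n1927 : Q := act 7 n1725
theorem D1927 : act 7 n1725 = n1927 := rfl
theorem F8642 : act 2 n1927 = n1730 := d19_1 D1927 (iv D1730) (iv F7828)
theorem F8643 : act 5 n1927 = n1927 := d31_1 D1927 (iv D1927) F7829
def n1928 : Q := act 3 n1726
theorem D1928 : act 3 n1726 = n1928 := rfl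
theorem F8644 : act 2 n1928 = n1928 := d15_1 D1928 (iv D1928) F7830 F7088 (iv F7830)
theorem F8645 : act 5 n1928 = n1928 := d22_2 F7832 D1928 (iv D1928)
def n1929 : Q := act 3 n1727
theorem D1929 : act 3 n1727 = n1929 := rfl
theorem F8646 : act 2 n1929 = n1731 := d15_1 D1929 (iv D1731) F7103 (iv F7092) (iv F7833)
theorem F8647 : act 5 n1929 = n1929 := d22_2 F7834 D1929 (iv D1929)
theorem F8648 : act 6 n1929 = n1728 := d23_2 (iv F7835) D1929 (iv D1728)
def n1930 : Q := act 4 n1728
theorem D1930 : act 4 n1728 = n1930 := rfl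
theorem F8649 : act 2 n1930 = n1732 := d16_1 D1930 (iv D1732) (iv F7836)
def n1931 : Q := act 5 n1729
theorem D1931 : act 5 n1729 = n1931 := rfl
theorem F8650 : act 2 n1931 = n1733 := d17_1 D1931 (iv D1733) (iv F7838)
theorem F8651 : act 3 n1931 = n1931 := d22_1 D1931 (iv D1931) F7839
def n1932 : Q := act 8 n1730
theorem D1932 : act 8 n1730 = n1932 := rfl
theorem F8652 : act 1 n1932 = n1932 := d14_1 D1932 (iv D1932) F7841
theorem F8653 : act 3 n1932 = n1932 := d25_1 D1932 (iv D1932) F7842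
theorem F8654 : act 5 n1932 = n1932 := d32_1 D1932 (iv D1932) F7843
def n1933 : Q := act 4 n1731
theorem D1933 : act 4 n1731 = n1933 := rfl
theorem F8655 : act 1 n1933 = n1933 := d10_1 D1933 (iv D1933) F7844
theorem F8656 : act 3 n1933 = n1933 := d21_1 D1933 (iv D1933) (iv D1731) F7104 D1731
theorem F8657 : act 6 n1933 = n1732 := d27_2 (iv F7846) D1933 (iv D1732)
def n1934 : Q := act 5 n1732
theorem D1934 : act 5 n1732 = n1934 := rfl
theorem F8658 : act 1 n1934 = n1934 := d11_1 D1934 (iv D1934) F7847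
theorem F8659 : act 3 n1934 = n1934 := d22_1 D1934 (iv D1934) F7848
theorem F8660 : act 4 n1934 = n1733 := d26_1 D1934 (iv D1733) (iv D1552) (iv F7108) D1732
def n1935 : Q := act 2 n1734
theorem D1935 : act 2 n1734 = n1935 := rfl
theorem F8661 : act 0 n1935 = n1736 := d1_1 D1935 (iv D1736) (iv F7851)
theorem F8662 : act 3 n1935 = n1935 := d15_2 D1734 D1935 (iv D1935) (iv D1734) F7118
theorem F8663 : act 4 n1935 = n1935 := d16_2 F7853 D1935 (iv D1935)
theorem F8664 : act 6 n1935 = n1935 := d18_2 F7854 D1935 (iv D1935)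
theorem F8665 : act 8 n1935 = n1935 := d20_2 F7855 D1935 (iv D1935)
def n1936 : Q := act 5 n1734
theorem D1936 : act 5 n1734 = n1936 := rfl
theorem F8666 : act 0 n1936 = n1737 := d4_1 D1936 (iv D1737) (iv F7851)
theorem F8667 : act 1 n1936 = n1936 := d11_1 D1936 (iv D1936) F7852
theorem F8668 : act 3 n1936 = n1735 := d22_1 D1936 (iv D1735) D1734
theorem F8669 : act 8 n1936 = n1936 := d32_2 F7855 D1936 (iv D1936)
def n1937 : Q := act 7 n1734
theorem D1937 : act 7 n1734 = n1937 := rfl
theorem F8670 : act 0 n1937 = n1738 := d6_1 D1937 (iv D1738) (iv F7851)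
theorem F8671 : act 1 n1937 = n1937 := d13_1 D1937 (iv D1937) F7852
theorem F8672 : act 3 n1937 = n1752 := d24_1 D1937 (iv D1752) (iv D1564) (iv F7120) D1734
theorem F8673 : act 4 n1937 = n1937 := d28_1 D1937 (iv D1937) F7853
theorem F8674 : act 6 n1937 = n1937 := d33_1 D1937 (iv D1937) F7854
def n1938 : Q := act 6 n1735
theorem D1938 : act 6 n1735 = n1938 := rfl
theorem F8675 : act 0 n1938 = n1739 := d5_1 D1938 (iv D1739) (iv F7856)
theorem F8676 : act 1 n1938 = n1938 := d12_1 D1938 (iv D1938) F7857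
theorem F8677 : act 2 n1938 = n1938 := d18_1 D1938 (iv D1938) F7858
theorem F8678 : act 4 n1938 = n1938 := d27_1 D1938 (iv D1938) F7859
theorem F8679 : act 5 n1938 = n1938 := d30_1 D1938 (iv D1938) (iv D1735) F7119 D1735
theorem F8680 : act 7 n1938 = n1753 := d33_2 (iv F7860) D1938 (iv D1753)
theorem F8681 : act 8 n1938 = n1938 := d34_2 F7861 D1938 (iv D1938)
def n1939 : Q := act 5 n1736
theorem D1939 : act 5 n1736 = n1939 := rfl
theorem F8682 : act 1 n1939 = n1939 := d11_1 D1939 (iv D1939) F7862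
theorem F8683 : act 2 n1939 = n1737 := d17_1 D1939 (iv D1737) D1736
theorem F8684 : act 3 n1939 = n1939 := d22_1 D1939 (iv D1939) F7863
theorem F8685 : act 8 n1939 = n1939 := d32_2 F7866 D1939 (iv D1939)
def n1940 : Q := act 7 n1736
theorem D1940 : act 7 n1736 = n1940 := rfl
theorem F8686 : act 1 n1940 = n1940 := d13_1 D1940 (iv D1940) F7862
theorem F8687 : act 2 n1940 = n1738 := d19_1 D1940 (iv D1738) D1736
theorem F8688 : act 4 n1940 = n1940 := d28_1 D1940 (iv D1940) F7864
theorem F8689 : act 6 n1940 = n1940 := d33_1 D1940 (iv D1940) F7865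
def n1941 : Q := act 4 n1737
theorem D1941 : act 4 n1737 = n1941 := rfl
theorem F8690 : act 1 n1941 = n1740 := d10_1 D1941 (iv D1740) (iv F7867)
theorem F8691 : act 3 n1941 = n1941 := d21_1 D1941 (iv D1941) F7868 F7128 (iv F7868)
theorem F8692 : act 5 n1941 = n1941 := d26_2 D1737 D1941 (iv D1941) (iv D1737) F7123
theorem F8693 : act 8 n1941 = n1941 := d29_2 F7869 D1941 (iv D1941)
def n1942 : Q := act 6 n1737
theorem D1942 : act 6 n1737 = n1942 := rfl
theorem F8694 : act 1 n1942 = n1741 := d12_1 D1942 (iv D1741) (iv F7867)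
theorem F8695 : act 3 n1942 = n1739 := d23_1 D1942 (iv D1739) (iv F7868)
theorem F8696 : act 5 n1942 = n1942 := d30_1 D1942 (iv D1942) (iv D1737) F7124 D1737
theorem F8697 : act 8 n1942 = n1942 := d34_2 F7869 D1942 (iv D1942)
def n1943 : Q := act 7 n1737
theorem D1943 : act 7 n1737 = n1943 := rfl
theorem F8698 : act 1 n1943 = n1742 := d13_1 D1943 (iv D1742) (iv F7867)
theorem F8699 : act 3 n1943 = n1758 := d24_1 D1943 (iv D1758) F7183 (iv F7129) (iv F7868)
theorem F8700 : act 5 n1943 = n1738 := d31_1 D1943 (iv D1738) D1737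
def n1944 : Q := act 8 n1738
theorem D1944 : act 8 n1738 = n1944 := rfl
theorem F8701 : act 1 n1944 = n1743 := d14_1 D1944 (iv D1743) (iv F7870)
theorem F8702 : act 3 n1944 = n1759 := d25_1 D1944 (iv D1759) (iv F7871)
theorem F8703 : act 4 n1944 = n1944 := d29_1 D1944 (iv D1944) F7872
theorem F8704 : act 6 n1944 = n1944 := d34_1 D1944 (iv D1944) F7873
theorem F8705 : act 7 n1944 = n1944 := d35_1 D1944 (iv D1944) (iv D1738) F7125 D1738
def n1945 : Q := act 6 n1740
theorem D1945 : act 6 n1740 = n1945 := rfl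
theorem F8706 : act 0 n1945 = n1945 := d5_1 D1945 (iv D1945) F7880
theorem F8707 : act 2 n1945 = n1945 := d18_1 D1945 (iv D1945) F7881
theorem F8708 : act 3 n1945 = n1945 := d23_1 D1945 (iv D1945) F7882
theorem F8709 : act 4 n1945 = n1741 := d27_1 D1945 (iv D1741) D1740
theorem F8710 : act 8 n1945 = n1945 := d34_2 F7884 D1945 (iv D1945)
def n1946 : Q := act 7 n1740
theorem D1946 : act 7 n1740 = n1946 := rfl
theorem F8711 : act 0 n1946 = n1946 := d6_1 D1946 (iv D1946) F7880
theorem F8712 : act 2 n1946 = n1946 := d19_1 D1946 (iv D1946) F7881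
theorem F8713 : act 4 n1946 = n1742 := d28_1 D1946 (iv D1742) D1740
theorem F8714 : act 5 n1946 = n1946 := d31_1 D1946 (iv D1946) F7883
def n1947 : Q := act 7 n1741
theorem D1947 : act 7 n1741 = n1947 := rfl
theorem F8715 : act 0 n1947 = n1947 := d6_1 D1947 (iv D1947) F7885
theorem F8716 : act 2 n1947 = n1947 := d19_1 D1947 (iv D1947) F7886
theorem F8717 : act 3 n1947 = n1762 := d24_1 D1947 (iv D1762) F7198 (iv F7144) (iv F7887)
theorem F8718 : act 5 n1947 = n1947 := d31_1 D1947 (iv D1947) F7888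
theorem F8719 : act 6 n1947 = n1742 := d33_1 D1947 (iv D1742) D1741
def n1948 : Q := act 8 n1742
theorem D1948 : act 8 n1742 = n1948 := rfl
theorem F8720 : act 0 n1948 = n1948 := d7_1 D1948 (iv D1948) F7890
theorem F8721 : act 2 n1948 = n1948 := d20_1 D1948 (iv D1948) F7891
theorem F8722 : act 3 n1948 = n1763 := d25_1 D1948 (iv D1763) (iv F7892)
theorem F8723 : act 5 n1948 = n1743 := d32_1 D1948 (iv D1743) (iv F7893)
theorem F8724 : act 7 n1948 = n1948 := d35_1 D1948 (iv D1948) (iv D1742) F7134 D1742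
def n1949 : Q := act 5 n1744
theorem D1949 : act 5 n1744 = n1949 := rfl
theorem F8725 : act 0 n1949 = n1931 := d4_1 D1949 (iv D1931) (iv F7900)
theorem F8726 : act 1 n1949 = n1771 := d11_1 D1949 (iv D1771) (iv F7901)
theorem F8727 : act 2 n1949 = n1745 := d17_1 D1949 (iv D1745) D1744
theorem F8728 : act 3 n1949 = n1949 := d22_1 D1949 (iv D1949) F7902
theorem F8729 : act 8 n1949 = n1754 := d32_2 (iv F7905) D1949 (iv D1754)
theorem F8730 : act 6 n1916 = n1949 := d18_0 F8727 (iv F7910) (iv F8583)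
def n1950 : Q := act 7 n1744
theorem D1950 : act 7 n1744 = n1950 := rfl
theorem F8731 : act 0 n1950 = n1878 := d6_1 D1950 F8458 (iv F7900)
theorem F8732 : act 1 n1950 = n1772 := d13_1 D1950 (iv D1772) (iv F7901)
theorem F8733 : act 2 n1950 = n1746 := d19_1 D1950 (iv D1746) D1744
theorem F8734 : act 4 n1950 = n1814 := d28_1 D1950 (iv D1814) (iv F7903)
theorem F8735 : act 6 n1950 = n1950 := d33_1 D1950 (iv D1950) F7904
def n1951 : Q := act 4 n1745
theorem D1951 : act 4 n1745 = n1951 := rfl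
theorem F8736 : act 0 n1951 = n1934 := d3_1 D1951 F8660 (iv F7906)
theorem F8737 : act 1 n1951 = n1747 := d10_1 D1951 (iv D1747) (iv F7907)
theorem F8738 : act 3 n1951 = n1951 := d21_1 D1951 (iv D1951) F7908 F7154 (iv F7908)
theorem F8739 : act 5 n1951 = n1815 := d26_2 D1745 D1951 (iv D1815) (iv D1617) (iv F7148)
theorem F8740 : act 6 n1951 = n1892 := d27_2 F7910 D1951 F8495
theorem F8741 : act 8 n1951 = n1756 := d29_2 (iv F7909) D1951 (iv D1756)
def n1952 : Q := act 7 n1745
theorem D1952 : act 7 n1745 = n1952 := rfl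
theorem F8742 : act 0 n1952 = n1908 := d6_1 D1952 F8559 (iv F7906)
theorem F8743 : act 1 n1952 = n1748 := d13_1 D1952 (iv D1748) (iv F7907)
theorem F8744 : act 3 n1952 = n1952 := d24_1 D1952 (iv D1952) F7908 F7155 (iv F7908)
theorem F8745 : act 5 n1952 = n1746 := d31_1 D1952 (iv D1746) D1745
theorem F8746 : act 6 n1952 = n1913 := d33_1 D1952 F8575 F7910
def n1953 : Q := act 8 n1746
theorem D1953 : act 8 n1746 = n1953 := rfl
theorem F8747 : act 0 n1953 = n1909 := d7_1 D1953 (iv D1909) (iv F7911)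
theorem F8748 : act 1 n1953 = n1749 := d14_1 D1953 (iv D1749) (iv F7912)
theorem F8749 : act 3 n1953 = n1953 := d25_1 D1953 (iv D1953) F7913
theorem F8750 : act 4 n1953 = n1818 := d29_1 D1953 (iv D1818) (iv F7914)
theorem F8751 : act 6 n1953 = n1953 := d34_1 D1953 (iv D1953) F7915
theorem F8752 : act 7 n1953 = n1759 := d35_1 D1953 (iv D1759) (iv D1568) (iv F7150) D1746
def n1954 : Q := act 7 n1747
theorem D1954 : act 7 n1747 = n1954 := rfl
theorem F8753 : act 0 n1954 = n1954 := d6_1 D1954 (iv D1954) F7916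
theorem F8754 : act 2 n1954 = n1776 := d19_1 D1954 (iv D1776) (iv F7917)
theorem F8755 : act 4 n1954 = n1748 := d28_1 D1954 (iv D1748) D1747
theorem F8756 : act 5 n1954 = n1820 := d31_1 D1954 (iv D1820) (iv F7919)
theorem F8757 : act 6 n1954 = n1886 := d33_1 D1954 F8482 (iv F7920)
def n1955 : Q := act 8 n1748
theorem D1955 : act 8 n1748 = n1955 := rfl
theorem F8758 : act 0 n1955 = n1955 := d7_1 D1955 (iv D1955) F7922
theorem F8759 : act 2 n1955 = n1777 := d20_1 D1955 (iv D1777) (iv F7923)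
theorem F8760 : act 3 n1955 = n1955 := d25_1 D1955 (iv D1955) F7924
theorem F8761 : act 5 n1955 = n1749 := d32_1 D1955 (iv D1749) (iv F7925)
theorem F8762 : act 6 n1955 = n1914 := d34_1 D1955 (iv D1914) (iv F7926)
theorem F8763 : act 7 n1955 = n1763 := d35_1 D1955 (iv D1763) (iv D1572) (iv F7161) D1748
def n1956 : Q := act 1 n1750
theorem D1956 : act 1 n1750 = n1956 := rfl
theorem F8764 : act 0 n1956 = n1778 := d0_1 D1956 (iv D1778) F7262 (iv F7178) (iv F7933)
theorem F8765 : act 2 n1956 = n1956 := d8_2 D1750 D1956 (iv D1956) (iv D1750) F7169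
theorem F8766 : act 3 n1956 = n1956 := d9_2 F7934 D1956 (iv D1956)
theorem F8767 : act 4 n1956 = n1823 := d10_2 (iv F7935) D1956 (iv D1823)
theorem F8768 : act 6 n1956 = n1956 := d12_2 F7936 D1956 (iv D1956)
theorem F8769 : act 8 n1956 = n1926 := d14_2 (iv F7937) D1956 F8638
def n1957 : Q := act 5 n1750
theorem D1957 : act 5 n1750 = n1957 := rfl
theorem F8770 : act 0 n1957 = n1754 := d4_1 D1957 (iv D1754) (iv F7933)
theorem F8771 : act 2 n1957 = n1751 := d17_1 D1957 (iv D1751) D1750
theorem F8772 : act 3 n1957 = n1957 := d22_1 D1957 (iv D1957) F7934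
theorem F8773 : act 8 n1957 = n1931 := d32_2 (iv F7937) D1957 (iv D1931)
def n1958 : Q := act 7 n1750
theorem D1958 : act 7 n1750 = n1958 := rfl
theorem F8774 : act 0 n1958 = n1755 := d6_1 D1958 (iv D1755) (iv F7933)
theorem F8775 : act 2 n1958 = n1752 := d19_1 D1958 (iv D1752) D1750
theorem F8776 : act 4 n1958 = n1825 := d28_1 D1958 (iv D1825) (iv F7935)
theorem F8777 : act 6 n1958 = n1958 := d33_1 D1958 (iv D1958) F7936
def n1959 : Q := act 4 n1751
theorem D1959 : act 4 n1751 = n1959 := rfl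
theorem F8778 : act 0 n1959 = n1756 := d3_1 D1959 (iv D1756) (iv F7938)
theorem F8779 : act 1 n1959 = n1959 := d10_1 D1959 (iv D1959) F7939
theorem F8780 : act 3 n1959 = n1959 := d21_1 D1959 (iv D1959) F7940 F7176 (iv F7940)
theorem F8781 : act 5 n1959 = n1826 := d26_2 D1751 D1959 (iv D1826) (iv D1625) (iv F7170)
theorem F8782 : act 8 n1959 = n1934 := d29_2 (iv F7941) D1959 F8660
def n1960 : Q := act 6 n1751
theorem D1960 : act 6 n1751 = n1960 := rfl
theorem F8783 : act 0 n1960 = n1757 := d5_1 D1960 (iv D1757) (iv F7938)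
theorem F8784 : act 1 n1960 = n1960 := d12_1 D1960 (iv D1960) F7939
theorem F8785 : act 3 n1960 = n1753 := d23_1 D1960 (iv D1753) (iv F7940)
theorem F8786 : act 5 n1960 = n1960 := d30_1 D1960 (iv D1960) (iv D1751) F7171 D1751
theorem F8787 : act 8 n1960 = n1917 := d34_2 (iv F7941) D1960 F8589
def n1961 : Q := act 7 n1751
theorem D1961 : act 7 n1751 = n1961 := rfl
theorem F8788 : act 0 n1961 = n1758 := d6_1 D1961 (iv D1758) (iv F7938)
theorem F8789 : act 1 n1961 = n1961 := d13_1 D1961 (iv D1961) F7939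
theorem F8790 : act 5 n1961 = n1752 := d31_1 D1961 (iv D1752) D1751
def n1962 : Q := act 8 n1752
theorem D1962 : act 8 n1752 = n1962 := rfl
theorem F8791 : act 0 n1962 = n1759 := d7_1 D1962 (iv D1759) (iv F7942)
theorem F8792 : act 1 n1962 = n1962 := d14_1 D1962 (iv D1962) F7943
theorem F8793 : act 4 n1962 = n1829 := d29_1 D1962 (iv D1829) (iv F7944)
theorem F8794 : act 6 n1962 = n1962 := d34_1 D1962 (iv D1962) F7945
theorem F8795 : act 7 n1962 = n1909 := d35_1 D1962 (iv D1909) F7693 (iv F7172) D1752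
def n1963 : Q := act 4 n1754
theorem D1963 : act 4 n1754 = n1963 := rfl
theorem F8796 : act 1 n1963 = n1785 := d10_1 D1963 (iv D1785) (iv F7952)
theorem F8797 : act 2 n1963 = n1756 := d16_1 D1963 (iv D1756) (iv F7953)
theorem F8798 : act 5 n1963 = n1830 := d26_2 D1754 D1963 (iv D1830) (iv D1628) (iv F7180)
def n1964 : Q := act 6 n1754
theorem D1964 : act 6 n1754 = n1964 := rfl
theorem F8799 : act 1 n1964 = n1786 := d12_1 D1964 (iv D1786) (iv F7952)
theorem F8800 : act 2 n1964 = n1757 := d18_1 D1964 (iv D1757) (iv F7953)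
theorem F8801 : act 3 n1964 = n1964 := d23_1 D1964 (iv D1964) F7954
theorem F8802 : act 5 n1964 = n1964 := d30_1 D1964 (iv D1964) (iv D1754) F7181 D1754
theorem F8803 : act 8 n1964 = n1916 := d34_2 F8729 D1964 F8730
def n1965 : Q := act 7 n1754
theorem D1965 : act 7 n1754 = n1965 := rfl
theorem F8804 : act 1 n1965 = n1787 := d13_1 D1965 (iv D1787) (iv F7952)
theorem F8805 : act 2 n1965 = n1758 := d19_1 D1965 (iv D1758) (iv F7953)
theorem F8806 : act 5 n1965 = n1755 := d31_1 D1965 (iv D1755) D1754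
def n1966 : Q := act 3 n1755
theorem D1966 : act 3 n1755 = n1966 := rfl
theorem F8807 : act 1 n1966 = n1788 := d9_1 D1966 (iv D1788) (iv F7955)
theorem F8808 : act 6 n1966 = n1966 := d23_2 F7958 D1966 (iv D1966)
theorem F8809 : act 7 n1966 = n1966 := d24_2 D1755 D1966 (iv D1966) (iv D1755) F7179
def n1967 : Q := act 8 n1755
theorem D1967 : act 8 n1755 = n1967 := rfl
theorem F8810 : act 1 n1967 = n1789 := d14_1 D1967 (iv D1789) (iv F7955)
theorem F8811 : act 2 n1967 = n1759 := d20_1 D1967 (iv D1759) (iv F7956)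
theorem F8812 : act 4 n1967 = n1834 := d29_1 D1967 (iv D1834) (iv F7957)
theorem F8813 : act 6 n1967 = n1967 := d34_1 D1967 (iv D1967) F7958
def n1968 : Q := act 6 n1756
theorem D1968 : act 6 n1756 = n1968 := rfl
theorem F8814 : act 1 n1968 = n1760 := d12_1 D1968 (iv D1760) (iv F7959)
theorem F8815 : act 3 n1968 = n1968 := d23_1 D1968 (iv D1968) F7960
theorem F8816 : act 4 n1968 = n1757 := d27_1 D1968 (iv D1757) D1756
theorem F8817 : act 8 n1968 = n1892 := d34_2 F8741 D1968 (iv F8740)
def n1969 : Q := act 7 n1756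
theorem D1969 : act 7 n1756 = n1969 := rfl
theorem F8818 : act 1 n1969 = n1761 := d13_1 D1969 (iv D1761) (iv F7959)
theorem F8819 : act 4 n1969 = n1758 := d28_1 D1969 (iv D1758) D1756
theorem F8820 : act 5 n1969 = n1836 := d31_1 D1969 (iv D1836) (iv F7961)
def n1970 : Q := act 7 n1757
theorem D1970 : act 7 n1757 = n1970 := rfl
theorem F8821 : act 1 n1970 = n1762 := d13_1 D1970 (iv D1762) (iv F7962)
theorem F8822 : act 5 n1970 = n1970 := d31_1 D1970 (iv D1970) F7964
theorem F8823 : act 6 n1970 = n1758 := d33_1 D1970 (iv D1758) D1757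
def n1971 : Q := act 8 n1758
theorem D1971 : act 8 n1758 = n1971 := rfl
theorem F8824 : act 1 n1971 = n1763 := d14_1 D1971 (iv D1763) (iv F7966)
theorem F8825 : act 5 n1971 = n1759 := d32_1 D1971 (iv D1759) (iv F7967)
def n1972 : Q := act 5 n1760
theorem D1972 : act 5 n1760 = n1972 := rfl
theorem F8826 : act 0 n1972 = n1972 := d4_1 D1972 (iv D1972) F7971
theorem F8827 : act 2 n1972 = n1794 := d17_1 D1972 (iv D1794) (iv F7972)
theorem F8828 : act 3 n1972 = n1972 := d22_1 D1972 (iv D1972) F7973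
theorem F8829 : act 4 n1972 = n1972 := d26_1 D1972 (iv D1972) F7974 F7199 (iv F7974)
theorem F8830 : act 6 n1972 = n1839 := d30_2 D1760 D1972 (iv D1839) (iv D1634) (iv F7195)
theorem F8831 : act 8 n1972 = n1808 := d32_2 (iv F7975) D1972 F8188
def n1973 : Q := act 7 n1760
theorem D1973 : act 7 n1760 = n1973 := rfl
theorem F8832 : act 0 n1973 = n1973 := d6_1 D1973 (iv D1973) F7971
theorem F8833 : act 2 n1973 = n1795 := d19_1 D1973 (iv D1795) (iv F7972)
theorem F8834 : act 4 n1973 = n1762 := d28_1 D1973 (iv D1762) (iv F7974)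
theorem F8835 : act 6 n1973 = n1761 := d33_1 D1973 (iv D1761) D1760
def n1974 : Q := act 3 n1761
theorem D1974 : act 3 n1761 = n1974 := rfl
theorem F8836 : act 0 n1974 = n1974 := d2_1 D1974 (iv D1974) F7976
theorem F8837 : act 5 n1974 = n1841 := d22_2 (iv F7979) D1974 (iv D1841)
theorem F8838 : act 7 n1974 = n1974 := d24_2 D1761 D1974 (iv D1974) (iv D1761) F7194
def n1975 : Q := act 8 n1761
theorem D1975 : act 8 n1761 = n1975 := rfl
theorem F8839 : act 0 n1975 = n1975 := d7_1 D1975 (iv D1975) F7976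
theorem F8840 : act 2 n1975 = n1797 := d20_1 D1975 (iv D1797) (iv F7977)
theorem F8841 : act 4 n1975 = n1763 := d29_1 D1975 (iv D1763) (iv F7978)
theorem F8842 : act 5 n1975 = n1842 := d32_1 D1975 (iv D1842) (iv F7979)
def n1976 : Q := act 8 n1762
theorem D1976 : act 8 n1762 = n1976 := rfl
theorem F8843 : act 0 n1976 = n1976 := d7_1 D1976 (iv D1976) F7980
theorem F8844 : act 2 n1976 = n1798 := d20_1 D1976 (iv D1798) (iv F7981)
theorem F8845 : act 5 n1976 = n1976 := d32_1 D1976 (iv D1976) F7982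
theorem F8846 : act 6 n1976 = n1763 := d34_1 D1976 (iv D1763) (iv F7983)
theorem F8847 : act 7 n1976 = n1914 := d35_1 D1976 (iv D1914) F7719 (iv F7200) D1762
def n1977 : Q := act 2 n1764
theorem D1977 : act 2 n1764 = n1977 := rfl
theorem F8848 : act 0 n1977 = n1765 := d1_1 D1977 (iv D1765) (iv F7987)
theorem F8849 : act 3 n1977 = n1977 := d15_2 D1764 D1977 (iv D1977) (iv D1764) F7210
theorem F8850 : act 4 n1977 = n1977 := d16_2 F7989 D1977 (iv D1977)
theorem F8851 : act 5 n1977 = n1893 := d17_2 (iv F7990) D1977 F8497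
theorem F8852 : act 6 n1977 = n1977 := d18_2 F7991 D1977 (iv D1977)
theorem F8853 : act 8 n1977 = n1977 := d20_2 F7992 D1977 (iv D1977)
def n1978 : Q := act 7 n1764
theorem D1978 : act 7 n1764 = n1978 := rfl
theorem F8854 : act 0 n1978 = n1766 := d6_1 D1978 (iv D1766) (iv F7987)
theorem F8855 : act 1 n1978 = n1978 := d13_1 D1978 (iv D1978) F7988
theorem F8856 : act 3 n1978 = n1770 := d24_1 D1978 (iv D1770) (iv D1577) (iv F7213) D1764
theorem F8857 : act 4 n1978 = n1978 := d28_1 D1978 (iv D1978) F7989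
theorem F8858 : act 5 n1978 = n1897 := d31_1 D1978 (iv D1897) (iv F7990)
theorem F8859 : act 6 n1978 = n1978 := d33_1 D1978 (iv D1978) F7991
def n1979 : Q := act 7 n1765
theorem D1979 : act 7 n1765 = n1979 := rfl
theorem F8860 : act 1 n1979 = n1979 := d13_1 D1979 (iv D1979) F7993
theorem F8861 : act 2 n1979 = n1766 := d19_1 D1979 (iv D1766) D1765
theorem F8862 : act 4 n1979 = n1979 := d28_1 D1979 (iv D1979) F7995
theorem F8863 : act 5 n1979 = n1901 := d31_1 D1979 (iv D1901) (iv F7996)
theorem F8864 : act 6 n1979 = n1979 := d33_1 D1979 (iv D1979) F7997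
def n1980 : Q := act 8 n1766
theorem D1980 : act 8 n1766 = n1980 := rfl
theorem F8865 : act 1 n1980 = n1767 := d14_1 D1980 (iv D1767) (iv F7999)
theorem F8866 : act 3 n1980 = n1775 := d25_1 D1980 (iv D1775) (iv F8000)
theorem F8867 : act 4 n1980 = n1980 := d29_1 D1980 (iv D1980) F8001
theorem F8868 : act 5 n1980 = n1910 := d32_1 D1980 (iv D1910) (iv F8002)
theorem F8869 : act 6 n1980 = n1980 := d34_1 D1980 (iv D1980) F8003
theorem F8870 : act 7 n1980 = n1980 := d35_1 D1980 (iv D1980) (iv D1766) F7219 D1766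
def n1981 : Q := act 1 n1768
theorem D1981 : act 1 n1768 = n1981 := rfl
theorem F8871 : act 0 n1981 = n1926 := d0_1 D1981 F8638 (iv F7900) F7901 (iv F8011)
theorem F8872 : act 2 n1981 = n1981 := d8_2 D1768 D1981 (iv D1981) (iv D1768) F7227
theorem F8873 : act 3 n1981 = n1981 := d9_2 F8012 D1981 (iv D1981)
theorem F8874 : act 4 n1981 = n1844 := d10_2 (iv F8013) D1981 (iv D1844)
theorem F8875 : act 6 n1981 = n1981 := d12_2 F8014 D1981 (iv D1981)
theorem F8876 : act 8 n1981 = n1778 := d14_2 (iv F8015) D1981 (iv D1778)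
def n1982 : Q := act 5 n1768
theorem D1982 : act 5 n1768 = n1982 := rfl
theorem F8877 : act 0 n1982 = n1771 := d4_1 D1982 (iv D1771) (iv F8011)
theorem F8878 : act 2 n1982 = n1769 := d17_1 D1982 (iv D1769) D1768
theorem F8879 : act 3 n1982 = n1982 := d22_1 D1982 (iv D1982) F8012
theorem F8880 : act 8 n1982 = n1779 := d32_2 (iv F8015) D1982 (iv D1779)
theorem F8881 : act 6 n1915 = n1982 := d18_0 F8878 (iv F8020) D1915
def n1983 : Q := act 7 n1768
theorem D1983 : act 7 n1768 = n1983 := rfl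
theorem F8882 : act 0 n1983 = n1772 := d6_1 D1983 (iv D1772) (iv F8011)
theorem F8883 : act 2 n1983 = n1770 := d19_1 D1983 (iv D1770) D1768
theorem F8884 : act 4 n1983 = n1846 := d28_1 D1983 (iv D1846) (iv F8013)
theorem F8885 : act 6 n1983 = n1983 := d33_1 D1983 (iv D1983) F8014
def n1984 : Q := act 4 n1769
theorem D1984 : act 4 n1769 = n1984 := rfl
theorem F8886 : act 0 n1984 = n1773 := d3_1 D1984 (iv D1773) (iv F8016)
theorem F8887 : act 1 n1984 = n1984 := d10_1 D1984 (iv D1984) F8017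
theorem F8888 : act 3 n1984 = n1799 := d21_1 D1984 (iv D1799) F7317 (iv F7234) (iv F8018)
theorem F8889 : act 5 n1984 = n1847 := d26_2 D1769 D1984 (iv D1847) (iv D1639) (iv F7228)
theorem F8890 : act 6 n1984 = n1888 := d27_2 F8020 D1984 F8488
theorem F8891 : act 8 n1984 = n1781 := d29_2 (iv F8019) D1984 (iv D1781)
def n1985 : Q := act 7 n1769
theorem D1985 : act 7 n1769 = n1985 := rfl
theorem F8892 : act 0 n1985 = n1774 := d6_1 D1985 (iv D1774) (iv F8016)
theorem F8893 : act 1 n1985 = n1985 := d13_1 D1985 (iv D1985) F8017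
theorem F8894 : act 3 n1985 = n1897 := d24_1 D1985 (iv D1897) F7655 (iv F7235) (iv F8018)
theorem F8895 : act 5 n1985 = n1770 := d31_1 D1985 (iv D1770) D1769
theorem F8896 : act 6 n1985 = n1898 := d33_1 D1985 F8520 F8020
def n1986 : Q := act 8 n1770
theorem D1986 : act 8 n1770 = n1986 := rfl
theorem F8897 : act 0 n1986 = n1775 := d7_1 D1986 (iv D1775) (iv F8021)
theorem F8898 : act 1 n1986 = n1986 := d14_1 D1986 (iv D1986) F8022
theorem F8899 : act 4 n1986 = n1849 := d29_1 D1986 (iv D1849) (iv F8023)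
theorem F8900 : act 6 n1986 = n1986 := d34_1 D1986 (iv D1986) F8024
theorem F8901 : act 7 n1986 = n1784 := d35_1 D1986 (iv D1784) (iv D1587) (iv F7230) D1770
def n1987 : Q := act 4 n1771
theorem D1987 : act 4 n1771 = n1987 := rfl
theorem F8902 : act 2 n1987 = n1773 := d16_1 D1987 (iv D1773) (iv F8025)
theorem F8903 : act 5 n1987 = n1850 := d26_2 D1771 D1987 (iv D1850) (iv D1641) (iv F7239)
theorem F8904 : act 6 n1987 = n1891 := d27_2 F8028 D1987 F8493
theorem F8905 : act 8 n1987 = n1785 := d29_2 (iv F8027) D1987 (iv D1785)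
def n1988 : Q := act 7 n1771
theorem D1988 : act 7 n1771 = n1988 := rfl
theorem F8906 : act 2 n1988 = n1774 := d19_1 D1988 (iv D1774) (iv F8025)
theorem F8907 : act 5 n1988 = n1772 := d31_1 D1988 (iv D1772) D1771
theorem F8908 : act 6 n1988 = n1911 := d33_1 D1988 F8569 F8028
def n1989 : Q := act 3 n1772
theorem D1989 : act 3 n1772 = n1989 := rfl
theorem F8909 : act 6 n1989 = n1989 := d23_2 F8031 D1989 (iv D1989)
theorem F8910 : act 7 n1989 = n1989 := d24_2 D1772 D1989 (iv D1989) (iv D1772) F7238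
def n1990 : Q := act 8 n1772
theorem D1990 : act 8 n1772 = n1990 := rfl
theorem F8911 : act 2 n1990 = n1775 := d20_1 D1990 (iv D1775) (iv F8029)
theorem F8912 : act 4 n1990 = n1854 := d29_1 D1990 (iv D1854) (iv F8030)
theorem F8913 : act 6 n1990 = n1990 := d34_1 D1990 (iv D1990) F8031
theorem F8914 : act 7 n1990 = n1789 := d35_1 D1990 (iv D1789) (iv D1590) (iv F7241) D1772
def n1991 : Q := act 7 n1773
theorem D1991 : act 7 n1773 = n1991 := rfl
theorem F8915 : act 1 n1991 = n1776 := d13_1 D1991 (iv D1776) (iv F8032)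
theorem F8916 : act 3 n1991 = n1881 := d24_1 D1991 (iv D1881) F7578 (iv F7331) (iv F8033)
theorem F8917 : act 4 n1991 = n1774 := d28_1 D1991 (iv D1774) D1773
theorem F8918 : act 5 n1991 = n1856 := d31_1 D1991 (iv D1856) (iv F8034)
theorem F8919 : act 6 n1991 = n1882 := d33_1 D1991 F8470 (iv F8035)
def n1992 : Q := act 8 n1774
theorem D1992 : act 8 n1774 = n1992 := rfl
theorem F8920 : act 1 n1992 = n1777 := d14_1 D1992 (iv D1777) (iv F8037)
theorem F8921 : act 3 n1992 = n1910 := d25_1 D1992 (iv D1910) (iv F8038)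
theorem F8922 : act 5 n1992 = n1775 := d32_1 D1992 (iv D1775) (iv F8039)
theorem F8923 : act 6 n1992 = n1912 := d34_1 D1992 (iv D1912) (iv F8040)
theorem F8924 : act 7 n1992 = n1793 := d35_1 D1992 (iv D1793) (iv D1593) (iv F7244) D1774
def n1993 : Q := act 8 n1776
theorem D1993 : act 8 n1776 = n1993 := rfl
theorem F8925 : act 0 n1993 = n1993 := d7_1 D1993 (iv D1993) F8045
theorem F8926 : act 3 n1993 = n1885 := d25_1 D1993 (iv D1885) (iv F8046)
theorem F8927 : act 4 n1993 = n1777 := d29_1 D1993 (iv D1777) (iv F8047)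
theorem F8928 : act 5 n1993 = n1861 := d32_1 D1993 (iv D1861) (iv F8048)
theorem F8929 : act 6 n1993 = n1887 := d34_1 D1993 (iv D1887) (iv F8049)
theorem F8930 : act 7 n1993 = n1797 := d35_1 D1993 (iv D1797) (iv D1596) (iv F7253) D1776
def n1994 : Q := act 5 n1778
theorem D1994 : act 5 n1778 = n1994 := rfl
theorem F8931 : act 1 n1994 = n1779 := d11_1 D1994 (iv D1779) D1778
theorem F8932 : act 2 n1994 = n1994 := d17_1 D1994 (iv D1994) F8055
theorem F8933 : act 3 n1994 = n1994 := d22_1 D1994 (iv D1994) F8056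
def n1995 : Q := act 7 n1778
theorem D1995 : act 7 n1778 = n1995 := rfl
theorem F8934 : act 1 n1995 = n1780 := d13_1 D1995 (iv D1780) D1778
theorem F8935 : act 2 n1995 = n1995 := d19_1 D1995 (iv D1995) F8055
theorem F8936 : act 4 n1995 = n1853 := d28_1 D1995 F8374 (iv F8057)
theorem F8937 : act 6 n1995 = n1995 := d33_1 D1995 (iv D1995) F8058
def n1996 : Q := act 4 n1779
theorem D1996 : act 4 n1779 = n1996 := rfl
theorem F8938 : act 0 n1996 = n1785 := d3_1 D1996 (iv D1785) (iv F8059)
theorem F8939 : act 2 n1996 = n1781 := d16_1 D1996 (iv D1781) (iv F8060)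
theorem F8940 : act 5 n1996 = n1864 := d26_2 D1779 D1996 (iv D1864) (iv D1652) (iv F7264)
def n1997 : Q := act 6 n1779
theorem D1997 : act 6 n1779 = n1997 := rfl
theorem F8941 : act 0 n1997 = n1786 := d5_1 D1997 (iv D1786) (iv F8059)
theorem F8942 : act 2 n1997 = n1782 := d18_1 D1997 (iv D1782) (iv F8060)
theorem F8943 : act 3 n1997 = n1997 := d23_1 D1997 (iv D1997) F8061
theorem F8944 : act 5 n1997 = n1997 := d30_1 D1997 (iv D1997) (iv D1779) F7265 D1779
theorem F8945 : act 8 n1997 = n1915 := d34_2 F8880 D1997 F8881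
def n1998 : Q := act 7 n1779
theorem D1998 : act 7 n1779 = n1998 := rfl
theorem F8946 : act 0 n1998 = n1787 := d6_1 D1998 (iv D1787) (iv F8059)
theorem F8947 : act 2 n1998 = n1783 := d19_1 D1998 (iv D1783) (iv F8060)
theorem F8948 : act 5 n1998 = n1780 := d31_1 D1998 (iv D1780) D1779
def n1999 : Q := act 3 n1780
theorem D1999 : act 3 n1780 = n1999 := rfl
theorem F8949 : act 0 n1999 = n1788 := d2_1 D1999 (iv D1788) (iv F8062)
theorem F8950 : act 2 n1999 = n1999 := d15_1 D1999 (iv D1999) F8063 F7271 (iv F8063)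
theorem F8951 : act 6 n1999 = n1999 := d23_2 F8065 D1999 (iv D1999)
theorem F8952 : act 7 n1999 = n1999 := d24_2 D1780 D1999 (iv D1999) (iv D1780) F7263
def n2000 : Q := act 8 n1780
theorem D2000 : act 8 n1780 = n2000 := rfl
theorem F8953 : act 0 n2000 = n1789 := d7_1 D2000 (iv D1789) (iv F8062)
theorem F8954 : act 2 n2000 = n1784 := d20_1 D2000 (iv D1784) (iv F8063)
theorem F8955 : act 4 n2000 = n1867 := d29_1 D2000 (iv D1867) (iv F8064)
theorem F8956 : act 6 n2000 = n2000 := d34_1 D2000 (iv D2000) F8065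
def n2001 : Q := act 6 n1781
theorem D2001 : act 6 n1781 = n2001 := rfl
theorem F8957 : act 0 n2001 = n1790 := d5_1 D2001 (iv D1790) (iv F8066)
theorem F8958 : act 1 n2001 = n2001 := d12_1 D2001 (iv D2001) F8067
theorem F8959 : act 3 n2001 = n1802 := d23_1 D2001 (iv D1802) (iv F8068)
theorem F8960 : act 4 n2001 = n1782 := d27_1 D2001 (iv D1782) D1781
theorem F8961 : act 8 n2001 = n1888 := d34_2 F8891 D2001 (iv F8890)
theorem F8962 : act 5 n1890 = n2001 := d22_0 F8959 F8157 D1890
def n2002 : Q := act 7 n1781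
theorem D2002 : act 7 n1781 = n2002 := rfl
theorem F8963 : act 0 n2002 = n1791 := d6_1 D2002 (iv D1791) (iv F8066)
theorem F8964 : act 1 n2002 = n2002 := d13_1 D2002 (iv D2002) F8067
theorem F8965 : act 4 n2002 = n1783 := d28_1 D2002 (iv D1783) D1781
theorem F8966 : act 5 n2002 = n1869 := d31_1 D2002 (iv D1869) (iv F8069)
def n2003 : Q := act 7 n1782
theorem D2003 : act 7 n1782 = n2003 := rfl
theorem F8967 : act 0 n2003 = n1792 := d6_1 D2003 (iv D1792) (iv F8070)
theorem F8968 : act 1 n2003 = n2003 := d13_1 D2003 (iv D2003) F8071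
theorem F8969 : act 3 n2003 = n2003 := d24_1 D2003 (iv D2003) F8072 F7279 (iv F8072)
theorem F8970 : act 5 n2003 = n2003 := d31_1 D2003 (iv D2003) F8073
theorem F8971 : act 6 n2003 = n1783 := d33_1 D2003 (iv D1783) D1782
def n2004 : Q := act 8 n1783
theorem D2004 : act 8 n1783 = n2004 := rfl
theorem F8972 : act 0 n2004 = n1793 := d7_1 D2004 (iv D1793) (iv F8075)
theorem F8973 : act 1 n2004 = n2004 := d14_1 D2004 (iv D2004) F8076
theorem F8974 : act 3 n2004 = n2004 := d25_1 D2004 (iv D2004) F8077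
theorem F8975 : act 5 n2004 = n1784 := d32_1 D2004 (iv D1784) (iv F8078)
def n2005 : Q := act 3 n1785
theorem D2005 : act 3 n1785 = n2005 := rfl
theorem F8976 : act 2 n2005 = n1804 := d15_1 D2005 (iv D1804) F7358 (iv F7287) (iv F8084)
theorem F8977 : act 4 n2005 = n2005 := d21_2 D1785 D2005 (iv D2005) (iv D1785) F7282
theorem F8978 : act 5 n2005 = n1872 := d22_2 (iv F8085) D2005 (iv D1872)
def n2006 : Q := act 6 n1785
theorem D2006 : act 6 n1785 = n2006 := rfl
theorem F8979 : act 2 n2006 = n1790 := d18_1 D2006 (iv D1790) (iv F8084)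
theorem F8980 : act 4 n2006 = n1786 := d27_1 D2006 (iv D1786) D1785
theorem F8981 : act 8 n2006 = n1891 := d34_2 F8905 D2006 (iv F8904)
def n2007 : Q := act 7 n1785
theorem D2007 : act 7 n1785 = n2007 := rfl
theorem F8982 : act 2 n2007 = n1791 := d19_1 D2007 (iv D1791) (iv F8084)
theorem F8983 : act 4 n2007 = n1787 := d28_1 D2007 (iv D1787) D1785
theorem F8984 : act 5 n2007 = n1874 := d31_1 D2007 (iv D1874) (iv F8085)
def n2008 : Q := act 7 n1786
theorem D2008 : act 7 n1786 = n2008 := rfl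
theorem F8985 : act 2 n2008 = n1792 := d19_1 D2008 (iv D1792) (iv F8086)
theorem F8986 : act 5 n2008 = n2008 := d31_1 D2008 (iv D2008) F8088
theorem F8987 : act 6 n2008 = n1787 := d33_1 D2008 (iv D1787) D1786
def n2009 : Q := act 3 n1787
theorem D2009 : act 3 n1787 = n2009 := rfl
theorem F8988 : act 2 n2009 = n2009 := d15_1 D2009 (iv D2009) F8090 F7294 (iv F8090)
theorem F8989 : act 5 n2009 = n1788 := d22_2 (iv F8091) D2009 (iv D1788)
theorem F8990 : act 7 n2009 = n2009 := d24_2 D1787 D2009 (iv D2009) (iv D1787) F7282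
def n2010 : Q := act 8 n1787
theorem D2010 : act 8 n1787 = n2010 := rfl
theorem F8991 : act 2 n2010 = n1793 := d20_1 D2010 (iv D1793) (iv F8090)
theorem F8992 : act 5 n2010 = n1789 := d32_1 D2010 (iv D1789) (iv F8091)
def n2011 : Q := act 4 n1788
theorem D2011 : act 4 n1788 = n2011 := rfl
theorem F8993 : act 2 n2011 = n2011 := d16_1 D2011 (iv D2011) F8092
theorem F8994 : act 3 n2011 = n1878 := d21_1 D2011 (iv D1878) (iv D1661) (iv F7284) D1788
theorem F8995 : act 6 n2011 = n2011 := d27_2 F8093 D2011 (iv D2011)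
theorem F8996 : act 7 n2011 = n2011 := d28_2 F8094 D2011 (iv D2011)
def n2012 : Q := act 8 n1788
theorem D2012 : act 8 n1788 = n2012 := rfl
theorem F8997 : act 2 n2012 = n2012 := d20_1 D2012 (iv D2012) F8092
theorem F8998 : act 3 n2012 = n1789 := d25_1 D2012 (iv D1789) D1788
theorem F8999 : act 6 n2012 = n2012 := d34_1 D2012 (iv D2012) F8093
def n2013 : Q := act 5 n1790
theorem D2013 : act 5 n1790 = n2013 := rfl
theorem F9000 : act 0 n2013 = n1890 := d4_1 D2013 F8962 F8957
theorem F9001 : act 1 n2013 = n1794 := d11_1 D2013 (iv D1794) (iv F8098)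
theorem F9002 : act 3 n2013 = n1805 := d22_1 D2013 (iv D1805) (iv F8099)
theorem F9003 : act 4 n2013 = n2013 := d26_1 D2013 (iv D2013) F8100 F7291 (iv F8100)
theorem F9004 : act 6 n2013 = n1880 := d30_2 D1790 D2013 (iv D1880) (iv D1663) (iv F7288)
theorem F9005 : act 8 n2013 = n1806 := d32_2 (iv F8101) D2013 F8179
def n2014 : Q := act 7 n1790
theorem D2014 : act 7 n1790 = n2014 := rfl
theorem F9006 : act 1 n2014 = n1795 := d13_1 D2014 (iv D1795) (iv F8098)
theorem F9007 : act 4 n2014 = n1792 := d28_1 D2014 (iv D1792) (iv F8100)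
theorem F9008 : act 6 n2014 = n1791 := d33_1 D2014 (iv D1791) D1790
def n2015 : Q := act 3 n1791
theorem D2015 : act 3 n1791 = n2015 := rfl
theorem F9009 : act 1 n2015 = n1796 := d9_1 D2015 (iv D1796) (iv F8102)
theorem F9010 : act 4 n2015 = n2015 := d21_2 (iv F8103) D2015 (iv D2015) F8103 F7294
theorem F9011 : act 5 n2015 = n1882 := d22_2 (iv F8104) D2015 (iv D1882)
theorem F9012 : act 7 n2015 = n1806 := d24_2 D1791 D2015 (iv D1806) (iv D1608) (iv F7287)
def n2016 : Q := act 8 n1791
theorem D2016 : act 8 n1791 = n2016 := rfl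
theorem F9013 : act 1 n2016 = n1797 := d14_1 D2016 (iv D1797) (iv F8102)
theorem F9014 : act 4 n2016 = n1793 := d29_1 D2016 (iv D1793) (iv F8103)
theorem F9015 : act 5 n2016 = n1883 := d32_1 D2016 (iv D1883) (iv F8104)
def n2017 : Q := act 8 n1792
theorem D2017 : act 8 n1792 = n2017 := rfl
theorem F9016 : act 1 n2017 = n1798 := d14_1 D2017 (iv D1798) (iv F8105)
theorem F9017 : act 3 n2017 = n2017 := d25_1 D2017 (iv D2017) F8106
theorem F9018 : act 5 n2017 = n2017 := d32_1 D2017 (iv D2017) F8107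
theorem F9019 : act 6 n2017 = n1793 := d34_1 D2017 (iv D1793) (iv F8108)
theorem F9020 : act 7 n2017 = n1912 := d35_1 D2017 (iv D1912) F7702 (iv F7292) D1792
def n2018 : Q := act 7 n1794
theorem D2018 : act 7 n1794 = n2018 := rfl
theorem F9021 : act 0 n2018 = n2018 := d6_1 D2018 (iv D2018) F8112
theorem F9022 : act 3 n2018 = n1859 := d24_1 D2018 (iv D1859) F7528 F7378 (iv F8113)
theorem F9023 : act 4 n2018 = n2018 := d28_1 D2018 (iv D2018) F8114
theorem F9024 : act 5 n2018 = n1795 := d31_1 D2018 (iv D1795) D1794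
theorem F9025 : act 6 n2018 = n1860 := d33_1 D2018 F8400 (iv F8115)
def n2019 : Q := act 3 n1795
theorem D2019 : act 3 n1795 = n2019 := rfl
theorem F9026 : act 0 n2019 = n2019 := d2_1 D2019 (iv D2019) F8117
theorem F9027 : act 4 n2019 = n2019 := d21_2 (iv F8118) D2019 (iv D2019) F8118 F7308
theorem F9028 : act 5 n2019 = n1859 := d22_2 F9024 D2019 (iv F9022)
theorem F9029 : act 6 n2019 = n1796 := d23_2 (iv F8119) D2019 (iv D1796)
theorem F9030 : act 7 n2019 = n1807 := d24_2 D1795 D2019 (iv D1807) (iv D1611) (iv F7301)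
def n2020 : Q := act 8 n1795
theorem D2020 : act 8 n1795 = n2020 := rfl
theorem F9031 : act 0 n2020 = n2020 := d7_1 D2020 (iv D2020) F8117
theorem F9032 : act 4 n2020 = n1798 := d29_1 D2020 (iv D1798) (iv F8118)
theorem F9033 : act 6 n2020 = n1797 := d34_1 D2020 (iv D1797) (iv F8119)
theorem F9034 : act 7 n2020 = n1887 := d35_1 D2020 (iv D1887) F7597 (iv F7303) D1795
def n2021 : Q := act 2 n1796
theorem D2021 : act 2 n1796 = n2021 := rfl
theorem F9035 : act 0 n2021 = n2021 := d1_1 D2021 (iv D2021) F8120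
theorem F9036 : act 4 n2021 = n2021 := d16_2 F8121 D2021 (iv D2021)
theorem F9037 : act 5 n2021 = n1886 := d17_2 (iv F8122) D2021 (iv D1886)
theorem F9038 : act 7 n2021 = n1808 := d19_2 (iv F8123) D2021 (iv D1808)
def n2022 : Q := act 8 n1796
theorem D2022 : act 8 n1796 = n2022 := rfl
theorem F9039 : act 0 n2022 = n2022 := d7_1 D2022 (iv D2022) F8120
theorem F9040 : act 3 n2022 = n1797 := d25_1 D2022 (iv D1797) D1796
theorem F9041 : act 4 n2022 = n2022 := d29_1 D2022 (iv D2022) F8121
theorem F9042 : act 5 n2022 = n1887 := d32_1 D2022 (iv D1887) (iv F8122)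
def n2023 : Q := act 3 n1800
theorem D2023 : act 3 n1800 = n2023 := rfl
theorem F9043 : act 0 n2023 = n1880 := d2_1 D2023 F8463 (iv F8139)
theorem F9044 : act 1 n2023 = n2023 := d9_1 D2023 (iv D2023) F8140
theorem F9045 : act 4 n2023 = n2023 := d21_2 D1800 D2023 (iv D2023) (iv D1800) F7324
theorem F9046 : act 5 n2023 = n1868 := d22_2 (iv F8142) D2023 F8427
theorem F9047 : act 6 n2023 = n1890 := d23_2 (iv F8143) D2023 (iv D1890)
theorem F9048 : act 8 n2023 = n1804 := d25_2 (iv F8145) D2023 (iv D1804)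
def n2024 : Q := act 3 n1801
theorem D2024 : act 3 n1801 = n2024 := rfl
theorem F9049 : act 0 n2024 = n1804 := d2_1 D2024 (iv D1804) (iv F8146)
theorem F9050 : act 1 n2024 = n1807 := d9_1 D2024 (iv D1807) (iv F8147)
theorem F9051 : act 4 n2024 = n2024 := d21_2 D1801 D2024 (iv D2024) (iv D1801) F7336
theorem F9052 : act 5 n2024 = n1855 := d22_2 (iv F8149) D2024 F8380
theorem F9053 : act 6 n2024 = n1806 := d23_2 (iv F8150) D2024 (iv D1806)
theorem F9054 : act 8 n2024 = n1880 := d25_2 (iv F8152) D2024 F8463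
def n2025 : Q := act 3 n1803
theorem D2025 : act 3 n1803 = n2025 := rfl
theorem F9055 : act 0 n2025 = n1806 := d2_1 D2025 (iv D1806) (iv F8160)
theorem F9056 : act 1 n2025 = n2025 := d9_1 D2025 (iv D2025) F8161
theorem F9057 : act 4 n2025 = n2025 := d21_2 (iv F8163) D2025 (iv D2025) F8163 F7353
theorem F9058 : act 5 n2025 = n1888 := d22_2 (iv F8164) D2025 (iv D1888)
theorem F9059 : act 6 n2025 = n1804 := d23_2 (iv F8165) D2025 (iv D1804)
theorem F9060 : act 8 n2025 = n1890 := d25_2 (iv F8166) D2025 (iv D1890)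
def n2026 : Q := act 7 n1804
theorem D2026 : act 7 n1804 = n2026 := rfl
theorem F9061 : act 1 n2026 = n2026 := d13_1 D2026 (iv D2026) F8167
theorem F9062 : act 4 n2026 = n2026 := d28_1 D2026 (iv D2026) F8168
theorem F9063 : act 5 n2026 = n1889 := d31_1 D2026 (iv D1889) (iv F8169)
def n2027 : Q := act 2 n1806
theorem D2027 : act 2 n1806 = n2027 := rfl
theorem F9064 : act 4 n2027 = n2027 := d16_2 F8178 D2027 (iv D2027)
theorem F9065 : act 5 n2027 = n1891 := d17_2 (iv F8179) D2027 (iv D1891)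
def n2028 : Q := act 2 n1807
theorem D2028 : act 2 n1807 = n2028 := rfl
theorem F9066 : act 0 n2028 = n2028 := d1_1 D2028 (iv D2028) F8180
theorem F9067 : act 3 n2028 = n2028 := d15_2 D1807 D2028 (iv D2028) (iv D1807) F7380
theorem F9068 : act 4 n2028 = n2028 := d16_2 F8181 D2028 (iv D2028)
theorem F9069 : act 5 n2028 = n1819 := d17_2 (iv F8182) D2028 F8242
theorem F9070 : act 6 n2028 = n1808 := d18_2 (iv F8183) D2028 (iv D1808)
theorem F9071 : act 8 n2028 = n1839 := d20_2 (iv F8184) D2028 F8316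
def n2029 : Q := act 1 n1808
theorem D2029 : act 1 n1808 = n2029 := rfl
theorem F9072 : act 3 n2029 = n2029 := d9_2 F8186 D2029 (iv D2029)
theorem F9073 : act 4 n2029 = n2029 := d10_2 F8187 D2029 (iv D2029)
theorem F9074 : act 5 n2029 = n1892 := d11_2 (iv F8188) D2029 (iv D1892)
def n2030 : Q := act 6 n1809
theorem D2030 : act 6 n1809 = n2030 := rfl
theorem F9075 : act 0 n2030 = n2030 := d5_1 D2030 (iv D2030) F8189
theorem F9076 : act 1 n2030 = n1893 := d12_1 D2030 (iv D1893) (iv F8190)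
theorem F9077 : act 2 n2030 = n2030 := d18_1 D2030 (iv D2030) F8191
theorem F9078 : act 3 n2030 = n2030 := d23_1 D2030 (iv D2030) F8192
theorem F9079 : act 4 n2030 = n1810 := d27_1 D2030 (iv D1810) D1809
theorem F9080 : act 8 n2030 = n2030 := d34_2 F8194 D2030 (iv D2030)
def n2031 : Q := act 7 n1809
theorem D2031 : act 7 n1809 = n2031 := rfl
theorem F9081 : act 0 n2031 = n2031 := d6_1 D2031 (iv D2031) F8189
theorem F9082 : act 1 n2031 = n1894 := d13_1 D2031 (iv D1894) (iv F8190)
theorem F9083 : act 2 n2031 = n2031 := d19_1 D2031 (iv D2031) F8191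
theorem F9084 : act 4 n2031 = n1811 := d28_1 D2031 (iv D1811) D1809
theorem F9085 : act 5 n2031 = n2031 := d31_1 D2031 (iv D2031) F8193
def n2032 : Q := act 7 n1810
theorem D2032 : act 7 n1810 = n2032 := rfl
theorem F9086 : act 0 n2032 = n2032 := d6_1 D2032 (iv D2032) F8195
theorem F9087 : act 1 n2032 = n1895 := d13_1 D2032 (iv D1895) (iv F8196)
theorem F9088 : act 2 n2032 = n2032 := d19_1 D2032 (iv D2032) F8197
theorem F9089 : act 3 n2032 = n1821 := d24_1 D2032 (iv D1821) F7432 (iv F7404) (iv F8198)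
theorem F9090 : act 5 n2032 = n2032 := d31_1 D2032 (iv D2032) F8199
theorem F9091 : act 6 n2032 = n1811 := d33_1 D2032 (iv D1811) D1810
def n2033 : Q := act 8 n1811
theorem D2033 : act 8 n1811 = n2033 := rfl
theorem F9092 : act 0 n2033 = n2033 := d7_1 D2033 (iv D2033) F8201
theorem F9093 : act 1 n2033 = n1896 := d14_1 D2033 (iv D1896) (iv F8202)
theorem F9094 : act 2 n2033 = n2033 := d20_1 D2033 (iv D2033) F8203
theorem F9095 : act 3 n2033 = n1822 := d25_1 D2033 (iv D1822) (iv F8204)
theorem F9096 : act 5 n2033 = n1812 := d32_1 D2033 (iv D1812) (iv F8205)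
theorem F9097 : act 7 n2033 = n2033 := d35_1 D2033 (iv D2033) (iv D1811) F7392 D1811
def n2034 : Q := act 4 n1813
theorem D2034 : act 4 n1813 = n2034 := rfl
theorem F9098 : act 0 n2034 = n1930 := d3_1 D2034 (iv D1930) (iv F8213)
theorem F9099 : act 1 n2034 = n1850 := d10_1 D2034 (iv D1850) (iv F8214)
theorem F9100 : act 2 n2034 = n1815 := d16_1 D2034 (iv D1815) (iv F8215)
theorem F9101 : act 8 n2034 = n1830 := d29_2 (iv F8217) D2034 (iv D1830)
def n2035 : Q := act 6 n1813
theorem D2035 : act 6 n1813 = n2035 := rfl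
theorem F9102 : act 0 n2035 = n1929 := d5_1 D2035 F8648 (iv F8213)
theorem F9103 : act 1 n2035 = n1851 := d12_1 D2035 (iv D1851) (iv F8214)
theorem F9104 : act 2 n2035 = n1816 := d18_1 D2035 (iv D1816) (iv F8215)
theorem F9105 : act 3 n2035 = n1919 := d23_1 D2035 (iv D1919) (iv F8216)
theorem F9106 : act 5 n2035 = n2035 := d30_1 D2035 (iv D2035) (iv D1813) F7409 D1813
theorem F9107 : act 8 n2035 = n1831 := d34_2 (iv F8217) D2035 (iv D1831)
def n2036 : Q := act 7 n1813
theorem D2036 : act 7 n1813 = n2036 := rfl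
theorem F9108 : act 0 n2036 = n1876 := d6_1 D2036 F8453 (iv F8213)
theorem F9109 : act 1 n2036 = n1852 := d13_1 D2036 (iv D1852) (iv F8214)
theorem F9110 : act 2 n2036 = n1817 := d19_1 D2036 (iv D1817) (iv F8215)
theorem F9111 : act 3 n2036 = n1866 := d24_1 D2036 (iv D1866) F7546 (iv F7739) (iv F8216)
theorem F9112 : act 5 n2036 = n1814 := d31_1 D2036 (iv D1814) D1813
def n2037 : Q := act 8 n1814
theorem D2037 : act 8 n1814 = n2037 := rfl
theorem F9113 : act 0 n2037 = n1879 := d7_1 D2037 (iv D1879) (iv F8218)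
theorem F9114 : act 1 n2037 = n1854 := d14_1 D2037 (iv D1854) (iv F8219)
theorem F9115 : act 2 n2037 = n1818 := d20_1 D2037 (iv D1818) (iv F8220)
theorem F9116 : act 3 n2037 = n1867 := d25_1 D2037 (iv D1867) (iv F8221)
theorem F9117 : act 6 n2037 = n2037 := d34_1 D2037 (iv D2037) F8222
theorem F9118 : act 7 n2037 = n1834 := d35_1 D2037 (iv D1834) (iv D1629) (iv F7410) D1814
def n2038 : Q := act 6 n1815
theorem D2038 : act 6 n1815 = n2038 := rfl
theorem F9119 : act 0 n2038 = n1933 := d5_1 D2038 F8657 (iv F8223)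
theorem F9120 : act 1 n2038 = n1819 := d12_1 D2038 (iv D1819) (iv F8224)
theorem F9121 : act 3 n2038 = n2038 := d23_1 D2038 (iv D2038) F8225
theorem F9122 : act 4 n2038 = n1816 := d27_1 D2038 (iv D1816) D1815
theorem F9123 : act 8 n2038 = n1835 := d34_2 (iv F8226) D2038 (iv D1835)
def n2039 : Q := act 7 n1815
theorem D2039 : act 7 n1815 = n2039 := rfl
theorem F9124 : act 0 n2039 = n1906 := d6_1 D2039 F8553 (iv F8223)
theorem F9125 : act 1 n2039 = n1820 := d13_1 D2039 (iv D1820) (iv F8224)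
theorem F9126 : act 4 n2039 = n1817 := d28_1 D2039 (iv D1817) D1815
def n2040 : Q := act 7 n1816
theorem D2040 : act 7 n1816 = n2040 := rfl
theorem F9127 : act 0 n2040 = n1904 := d6_1 D2040 F8546 (iv F8227)
theorem F9128 : act 1 n2040 = n1821 := d13_1 D2040 (iv D1821) (iv F8228)
theorem F9129 : act 3 n2040 = n1895 := d24_1 D2040 (iv D1895) F7642 (iv F7424) (iv F8229)
theorem F9130 : act 5 n2040 = n2040 := d31_1 D2040 (iv D2040) F8230
theorem F9131 : act 6 n2040 = n1817 := d33_1 D2040 (iv D1817) D1816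
def n2041 : Q := act 8 n1817
theorem D2041 : act 8 n1817 = n2041 := rfl
theorem F9132 : act 0 n2041 = n1907 := d7_1 D2041 (iv D1907) (iv F8232)
theorem F9133 : act 1 n2041 = n1822 := d14_1 D2041 (iv D1822) (iv F8233)
theorem F9134 : act 3 n2041 = n1896 := d25_1 D2041 (iv D1896) (iv F8234)
theorem F9135 : act 5 n2041 = n1818 := d32_1 D2041 (iv D1818) (iv F8235)
theorem F9136 : act 7 n2041 = n1838 := d35_1 D2041 (iv D1838) (iv D1632) (iv F7414) D1817
def n2042 : Q := act 7 n1819
theorem D2042 : act 7 n1819 = n2042 := rfl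
theorem F9137 : act 0 n2042 = n2042 := d6_1 D2042 (iv D2042) F8241
theorem F9138 : act 2 n2042 = n1859 := d19_1 D2042 (iv D1859) (iv F8242)
theorem F9139 : act 4 n2042 = n1821 := d28_1 D2042 (iv D1821) (iv F8244)
theorem F9140 : act 6 n2042 = n1820 := d33_1 D2042 (iv D1820) D1819
def n2043 : Q := act 3 n1820
theorem D2043 : act 3 n1820 = n2043 := rfl
theorem F9141 : act 0 n2043 = n2043 := d2_1 D2043 (iv D2043) F8246
theorem F9142 : act 7 n2043 = n2043 := d24_2 D1820 D2043 (iv D2043) (iv D1820) F7428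
def n2044 : Q := act 8 n1820
theorem D2044 : act 8 n1820 = n2044 := rfl
theorem F9143 : act 0 n2044 = n2044 := d7_1 D2044 (iv D2044) F8246
theorem F9144 : act 2 n2044 = n1861 := d20_1 D2044 (iv D1861) (iv F8247)
theorem F9145 : act 4 n2044 = n1822 := d29_1 D2044 (iv D1822) (iv F8248)
theorem F9146 : act 7 n2044 = n1842 := d35_1 D2044 (iv D1842) (iv D1635) (iv F7429) D1820
def n2045 : Q := act 8 n1821
theorem D2045 : act 8 n1821 = n2045 := rfl
theorem F9147 : act 0 n2045 = n2045 := d7_1 D2045 (iv D2045) F8249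
theorem F9148 : act 2 n2045 = n1862 := d20_1 D2045 (iv D1862) (iv F8250)
theorem F9149 : act 5 n2045 = n2045 := d32_1 D2045 (iv D2045) F8251
theorem F9150 : act 6 n2045 = n1822 := d34_1 D2045 (iv D1822) (iv F8252)
theorem F9151 : act 7 n2045 = n1843 := d35_1 D2045 (iv D1843) (iv D1636) (iv F7434) D1821
def n2046 : Q := act 5 n1823
theorem D2046 : act 5 n1823 = n2046 := rfl
theorem F9152 : act 0 n2046 = n1863 := d4_1 D2046 (iv D1863) (iv F8257)
theorem F9153 : act 1 n2046 = n1824 := d11_1 D2046 (iv D1824) D1823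
theorem F9154 : act 2 n2046 = n2046 := d17_1 D2046 (iv D2046) F8258
theorem F9155 : act 3 n2046 = n1920 := d22_1 D2046 (iv D1920) (iv F8259)
theorem F9156 : act 8 n2046 = n1925 := d32_2 (iv F8261) D2046 F8637
theorem F9157 : act 6 n1928 = n2046 := d23_0 F9155 (iv F8610) D1928
def n2047 : Q := act 7 n1823
theorem D2047 : act 7 n1823 = n2047 := rfl
theorem F9158 : act 0 n2047 = n1853 := d6_1 D2047 F8374 (iv F8257)
theorem F9159 : act 1 n2047 = n1825 := d13_1 D2047 (iv D1825) D1823
theorem F9160 : act 2 n2047 = n2047 := d19_1 D2047 (iv D2047) F8258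
theorem F9161 : act 3 n2047 = n1846 := d24_1 D2047 (iv D1846) F7495 F7760 (iv F8259)
theorem F9162 : act 6 n2047 = n2047 := d33_1 D2047 (iv D2047) F8260
def n2048 : Q := act 4 n1824
theorem D2048 : act 4 n1824 = n2048 := rfl
theorem F9163 : act 0 n2048 = n1830 := d3_1 D2048 (iv D1830) (iv F8262)
theorem F9164 : act 2 n2048 = n1826 := d16_1 D2048 (iv D1826) (iv F8263)
theorem F9165 : act 8 n2048 = n1930 := d29_2 (iv F8265) D2048 (iv D1930)
def n2049 : Q := act 6 n1824
theorem D2049 : act 6 n1824 = n2049 := rfl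
theorem F9166 : act 0 n2049 = n1831 := d5_1 D2049 (iv D1831) (iv F8262)
theorem F9167 : act 1 n2049 = n1928 := d12_1 D2049 F9157 F9153
theorem F9168 : act 2 n2049 = n1827 := d18_1 D2049 (iv D1827) (iv F8263)
theorem F9169 : act 3 n2049 = n1922 := d23_1 D2049 (iv D1922) (iv F8264)
theorem F9170 : act 5 n2049 = n2049 := d30_1 D2049 (iv D2049) (iv D1824) F7444 D1824
theorem F9171 : act 8 n2049 = n1929 := d34_2 (iv F8265) D2049 F8648
def n2050 : Q := act 7 n1824
theorem D2050 : act 7 n1824 = n2050 := rfl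
theorem F9172 : act 0 n2050 = n1832 := d6_1 D2050 (iv D1832) (iv F8262)
theorem F9173 : act 2 n2050 = n1828 := d19_1 D2050 (iv D1828) (iv F8263)
theorem F9174 : act 5 n2050 = n1825 := d31_1 D2050 (iv D1825) D1824
def n2051 : Q := act 3 n1825
theorem D2051 : act 3 n1825 = n2051 := rfl
theorem F9175 : act 0 n2051 = n1833 := d2_1 D2051 (iv D1833) (iv F8266)
theorem F9176 : act 1 n2051 = n1846 := d9_1 D2051 (iv F9161) F9159
theorem F9177 : act 2 n2051 = n2051 := d15_1 D2051 (iv D2051) F8267 F7452 (iv F8267)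
theorem F9178 : act 6 n2051 = n2051 := d23_2 F8268 D2051 (iv D2051)
theorem F9179 : act 7 n2051 = n1844 := d24_2 D1825 D2051 F8336 (iv D1712) (iv F7443)
def n2052 : Q := act 8 n1825
theorem D2052 : act 8 n1825 = n2052 := rfl
theorem F9180 : act 0 n2052 = n1834 := d7_1 D2052 (iv D1834) (iv F8266)
theorem F9181 : act 2 n2052 = n1829 := d20_1 D2052 (iv D1829) (iv F8267)
theorem F9182 : act 6 n2052 = n2052 := d34_1 D2052 (iv D2052) F8268
theorem F9183 : act 7 n2052 = n1879 := d35_1 D2052 (iv D1879) F7574 (iv F7445) D1825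
def n2053 : Q := act 6 n1826
theorem D2053 : act 6 n1826 = n2053 := rfl
theorem F9184 : act 0 n2053 = n1835 := d5_1 D2053 (iv D1835) (iv F8269)
theorem F9185 : act 1 n2053 = n2053 := d12_1 D2053 (iv D2053) F8270
theorem F9186 : act 3 n2053 = n2053 := d23_1 D2053 (iv D2053) F8271
theorem F9187 : act 4 n2053 = n1827 := d27_1 D2053 (iv D1827) D1826
theorem F9188 : act 8 n2053 = n1933 := d34_2 (iv F8272) D2053 F8657
def n2054 : Q := act 7 n1826
theorem D2054 : act 7 n1826 = n2054 := rfl
theorem F9189 : act 0 n2054 = n1836 := d6_1 D2054 (iv D1836) (iv F8269)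
theorem F9190 : act 1 n2054 = n2054 := d13_1 D2054 (iv D2054) F8270
theorem F9191 : act 4 n2054 = n1828 := d28_1 D2054 (iv D1828) D1826
def n2055 : Q := act 7 n1827
theorem D2055 : act 7 n1827 = n2055 := rfl
theorem F9192 : act 0 n2055 = n1837 := d6_1 D2055 (iv D1837) (iv F8273)
theorem F9193 : act 1 n2055 = n2055 := d13_1 D2055 (iv D2055) F8274
theorem F9194 : act 3 n2055 = n2055 := d24_1 D2055 (iv D2055) F8275 F7459 (iv F8275)
theorem F9195 : act 5 n2055 = n2055 := d31_1 D2055 (iv D2055) F8276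
theorem F9196 : act 6 n2055 = n1828 := d33_1 D2055 (iv D1828) D1827
def n2056 : Q := act 8 n1828
theorem D2056 : act 8 n1828 = n2056 := rfl
theorem F9197 : act 0 n2056 = n1838 := d7_1 D2056 (iv D1838) (iv F8278)
theorem F9198 : act 1 n2056 = n2056 := d14_1 D2056 (iv D2056) F8279
theorem F9199 : act 3 n2056 = n2056 := d25_1 D2056 (iv D2056) F8280
theorem F9200 : act 5 n2056 = n1829 := d32_1 D2056 (iv D1829) (iv F8281)
theorem F9201 : act 7 n2056 = n1907 := d35_1 D2056 (iv D1907) F7685 (iv F7449) D1828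
def n2057 : Q := act 3 n1830
theorem D2057 : act 3 n1830 = n2057 := rfl
theorem F9202 : act 1 n2057 = n1872 := d9_1 D2057 (iv D1872) (iv F8287)
theorem F9203 : act 2 n2057 = n2057 := d15_1 D2057 (iv D2057) F8288 F7468 (iv F8288)
theorem F9204 : act 4 n2057 = n1924 := d21_2 D1830 D2057 (iv D1924) (iv D1716) (iv F7463)
def n2058 : Q := act 6 n1830
theorem D2058 : act 6 n1830 = n2058 := rfl
theorem F9205 : act 1 n2058 = n1873 := d12_1 D2058 (iv D1873) (iv F8287)
theorem F9206 : act 2 n2058 = n1835 := d18_1 D2058 (iv D1835) (iv F8288)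
theorem F9207 : act 4 n2058 = n1831 := d27_1 D2058 (iv D1831) D1830
def n2059 : Q := act 7 n1830
theorem D2059 : act 7 n1830 = n2059 := rfl
theorem F9208 : act 1 n2059 = n1874 := d13_1 D2059 (iv D1874) (iv F8287)
theorem F9209 : act 2 n2059 = n1836 := d19_1 D2059 (iv D1836) (iv F8288)
theorem F9210 : act 4 n2059 = n1832 := d28_1 D2059 (iv D1832) D1830
def n2060 : Q := act 7 n1831
theorem D2060 : act 7 n1831 = n2060 := rfl
theorem F9211 : act 1 n2060 = n1875 := d13_1 D2060 (iv D1875) (iv F8289)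
theorem F9212 : act 2 n2060 = n1837 := d19_1 D2060 (iv D1837) (iv F8290)
theorem F9213 : act 5 n2060 = n2060 := d31_1 D2060 (iv D2060) F8292
theorem F9214 : act 6 n2060 = n1832 := d33_1 D2060 (iv D1832) D1831
def n2061 : Q := act 3 n1832
theorem D2061 : act 3 n1832 = n2061 := rfl
theorem F9215 : act 1 n2061 = n1876 := d9_1 D2061 (iv D1876) (iv F8293)
theorem F9216 : act 2 n2061 = n2061 := d15_1 D2061 (iv D2061) F8294 F7473 (iv F8294)
theorem F9217 : act 5 n2061 = n1833 := d22_2 (iv F8295) D2061 (iv D1833)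
theorem F9218 : act 7 n2061 = n1925 := d24_2 D1832 D2061 (iv D1925) (iv D1718) (iv F7463)
def n2062 : Q := act 8 n1832
theorem D2062 : act 8 n1832 = n2062 := rfl
theorem F9219 : act 1 n2062 = n1877 := d14_1 D2062 (iv D1877) (iv F8293)
theorem F9220 : act 2 n2062 = n1838 := d20_1 D2062 (iv D1838) (iv F8294)
theorem F9221 : act 5 n2062 = n1834 := d32_1 D2062 (iv D1834) (iv F8295)
def n2063 : Q := act 4 n1833
theorem D2063 : act 4 n1833 = n2063 := rfl
theorem F9222 : act 1 n2063 = n1878 := d10_1 D2063 (iv D1878) (iv F8296)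
theorem F9223 : act 2 n2063 = n2063 := d16_1 D2063 (iv D2063) F8297
theorem F9224 : act 6 n2063 = n2063 := d27_2 F8298 D2063 (iv D2063)
theorem F9225 : act 7 n2063 = n1926 := d28_2 (iv F8299) D2063 (iv D1926)
def n2064 : Q := act 8 n1833
theorem D2064 : act 8 n1833 = n2064 := rfl
theorem F9226 : act 1 n2064 = n1879 := d14_1 D2064 (iv D1879) (iv F8296)
theorem F9227 : act 2 n2064 = n2064 := d20_1 D2064 (iv D2064) F8297
theorem F9228 : act 3 n2064 = n1834 := d25_1 D2064 (iv D1834) D1833
theorem F9229 : act 6 n2064 = n2064 := d34_1 D2064 (iv D2064) F8298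
def n2065 : Q := act 5 n1835
theorem D2065 : act 5 n1835 = n2065 := rfl
theorem F9230 : act 1 n2065 = n1839 := d11_1 D2065 (iv D1839) (iv F8303)
theorem F9231 : act 3 n2065 = n2065 := d22_1 D2065 (iv D2065) F8304
theorem F9232 : act 4 n2065 = n2065 := d26_1 D2065 (iv D2065) F8305 F7471 (iv F8305)
def n2066 : Q := act 7 n1835
theorem D2066 : act 7 n1835 = n2066 := rfl
theorem F9233 : act 1 n2066 = n1840 := d13_1 D2066 (iv D1840) (iv F8303)
theorem F9234 : act 4 n2066 = n1837 := d28_1 D2066 (iv D1837) (iv F8305)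
theorem F9235 : act 6 n2066 = n1836 := d33_1 D2066 (iv D1836) D1835
def n2067 : Q := act 3 n1836
theorem D2067 : act 3 n1836 = n2067 := rfl
theorem F9236 : act 1 n2067 = n1841 := d9_1 D2067 (iv D1841) (iv F8306)
theorem F9237 : act 4 n2067 = n2067 := d21_2 (iv F8307) D2067 (iv D2067) F8307 F7473
theorem F9238 : act 7 n2067 = n2067 := d24_2 D1836 D2067 (iv D2067) (iv D1836) F7468
def n2068 : Q := act 8 n1836
theorem D2068 : act 8 n1836 = n2068 := rfl
theorem F9239 : act 1 n2068 = n1842 := d14_1 D2068 (iv D1842) (iv F8306)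
theorem F9240 : act 4 n2068 = n1838 := d29_1 D2068 (iv D1838) (iv F8307)
def n2069 : Q := act 8 n1837
theorem D2069 : act 8 n1837 = n2069 := rfl
theorem F9241 : act 1 n2069 = n1843 := d14_1 D2069 (iv D1843) (iv F8308)
theorem F9242 : act 3 n2069 = n2069 := d25_1 D2069 (iv D2069) F8309
theorem F9243 : act 5 n2069 = n2069 := d32_1 D2069 (iv D2069) F8310
theorem F9244 : act 6 n2069 = n1838 := d34_1 D2069 (iv D1838) (iv F8311)
def n2070 : Q := act 7 n1839
theorem D2070 : act 7 n1839 = n2070 := rfl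
theorem F9245 : act 0 n2070 = n2070 := d6_1 D2070 (iv D2070) F8315
theorem F9246 : act 2 n2070 = n1860 := d19_1 D2070 F8400 (iv F8316)
theorem F9247 : act 4 n2070 = n2070 := d28_1 D2070 (iv D2070) F8318
theorem F9248 : act 5 n2070 = n1840 := d31_1 D2070 (iv D1840) D1839
def n2071 : Q := act 3 n1840
theorem D2071 : act 3 n1840 = n2071 := rfl
theorem F9249 : act 0 n2071 = n2071 := d2_1 D2071 (iv D2071) F8319
theorem F9250 : act 4 n2071 = n2071 := d21_2 (iv F8321) D2071 (iv D2071) F8321 F7487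
theorem F9251 : act 6 n2071 = n1841 := d23_2 (iv F8322) D2071 (iv D1841)
theorem F9252 : act 7 n2071 = n2071 := d24_2 D1840 D2071 (iv D2071) (iv D1840) F7480
def n2072 : Q := act 8 n1840
theorem D2072 : act 8 n1840 = n2072 := rfl
theorem F9253 : act 0 n2072 = n2072 := d7_1 D2072 (iv D2072) F8319
theorem F9254 : act 2 n2072 = n1885 := d20_1 D2072 (iv D1885) (iv F8320)
theorem F9255 : act 4 n2072 = n1843 := d29_1 D2072 (iv D1843) (iv F8321)
theorem F9256 : act 6 n2072 = n1842 := d34_1 D2072 (iv D1842) (iv F8322)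
def n2073 : Q := act 2 n1841
theorem D2073 : act 2 n1841 = n2073 := rfl
theorem F9257 : act 0 n2073 = n2073 := d1_1 D2073 (iv D2073) F8323
theorem F9258 : act 3 n2073 = n1886 := d15_2 D1841 D2073 (iv D1886) (iv D1669) (iv F7483)
theorem F9259 : act 4 n2073 = n2073 := d16_2 F8324 D2073 (iv D2073)
theorem F9260 : act 7 n2073 = n2073 := d19_2 F8325 D2073 (iv D2073)
def n2074 : Q := act 8 n1841
theorem D2074 : act 8 n1841 = n2074 := rfl
theorem F9261 : act 0 n2074 = n2074 := d7_1 D2074 (iv D2074) F8323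
theorem F9262 : act 3 n2074 = n1842 := d25_1 D2074 (iv D1842) D1841
theorem F9263 : act 4 n2074 = n2074 := d29_1 D2074 (iv D2074) F8324
def n2075 : Q := act 5 n1844
theorem D2075 : act 5 n1844 = n2075 := rfl
theorem F9264 : act 0 n2075 = n1925 := d4_1 D2075 F8637 (iv F8334)
theorem F9265 : act 1 n2075 = n1845 := d11_1 D2075 (iv D1845) D1844
theorem F9266 : act 2 n2075 = n2075 := d17_1 D2075 (iv D2075) F8335
theorem F9267 : act 3 n2075 = n1923 := d22_1 D2075 F8629 (iv F8336)
theorem F9268 : act 8 n2075 = n1863 := d32_2 (iv F8338) D2075 (iv D1863)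
theorem F9269 : act 6 n1924 = n2075 := d23_0 F9267 F8630 D1924
def n2076 : Q := act 4 n1845
theorem D2076 : act 4 n1845 = n2076 := rfl
theorem F9270 : act 0 n2076 = n1850 := d3_1 D2076 (iv D1850) (iv F8339)
theorem F9271 : act 2 n2076 = n1847 := d16_1 D2076 (iv D1847) (iv F8340)
theorem F9272 : act 3 n2076 = n1873 := d21_1 D2076 F8445 F7568 F7813 (iv F8341)
theorem F9273 : act 6 n2076 = n1872 := d27_2 F8343 D2076 F8443
theorem F9274 : act 8 n2076 = n1864 := d29_2 (iv F8342) D2076 (iv D1864)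
def n2077 : Q := act 7 n1845
theorem D2077 : act 7 n1845 = n2077 := rfl
theorem F9275 : act 0 n2077 = n1852 := d6_1 D2077 (iv D1852) (iv F8339)
theorem F9276 : act 2 n2077 = n1848 := d19_1 D2077 (iv D1848) (iv F8340)
theorem F9277 : act 5 n2077 = n1846 := d31_1 D2077 (iv D1846) D1845
theorem F9278 : act 6 n2077 = n1927 := d33_1 D2077 (iv D1927) F8343
def n2078 : Q := act 8 n1846
theorem D2078 : act 8 n1846 = n2078 := rfl
theorem F9279 : act 0 n2078 = n1854 := d7_1 D2078 (iv D1854) (iv F8344)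
theorem F9280 : act 2 n2078 = n1849 := d20_1 D2078 (iv D1849) (iv F8345)
theorem F9281 : act 6 n2078 = n2078 := d34_1 D2078 (iv D2078) F8346
theorem F9282 : act 7 n2078 = n1867 := d35_1 D2078 (iv D1867) (iv D1653) (iv F7497) D1846
def n2079 : Q := act 7 n1847
theorem D2079 : act 7 n1847 = n2079 := rfl
theorem F9283 : act 0 n2079 = n1856 := d6_1 D2079 (iv D1856) (iv F8347)
theorem F9284 : act 1 n2079 = n2079 := d13_1 D2079 (iv D2079) F8348
theorem F9285 : act 4 n2079 = n1848 := d28_1 D2079 (iv D1848) D1847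
theorem F9286 : act 6 n2079 = n1889 := d33_1 D2079 (iv D1889) (iv F8350)
def n2080 : Q := act 8 n1848
theorem D2080 : act 8 n1848 = n2080 := rfl
theorem F9287 : act 0 n2080 = n1858 := d7_1 D2080 (iv D1858) (iv F8352)
theorem F9288 : act 1 n2080 = n2080 := d14_1 D2080 (iv D2080) F8353
theorem F9289 : act 3 n2080 = n2080 := d25_1 D2080 (iv D2080) F8354
theorem F9290 : act 5 n2080 = n1849 := d32_1 D2080 (iv D1849) (iv F8355)
theorem F9291 : act 6 n2080 = n1932 := d34_1 D2080 (iv D1932) (iv F8356)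
theorem F9292 : act 7 n2080 = n1871 := d35_1 D2080 (iv D1871) (iv D1656) (iv F7501) D1848
def n2081 : Q := act 3 n1850
theorem D2081 : act 3 n1850 = n2081 := rfl
theorem F9293 : act 0 n2081 = n1873 := d2_1 D2081 (iv F9272) F9270
theorem F9294 : act 2 n2081 = n1868 := d15_1 D2081 F8427 F7611 (iv F7513) (iv F8362)
theorem F9295 : act 4 n2081 = n1865 := d21_2 D1850 D2081 F8416 (iv D1722) (iv F7508)
theorem F9296 : act 8 n2081 = n1872 := d25_2 (iv F8363) D2081 (iv D1872)
theorem F9297 : act 6 n1864 = n2081 := d34_3 F9296 (iv F9273) F9274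
def n2082 : Q := act 6 n1850
theorem D2082 : act 6 n1850 = n2082 := rfl
theorem F9298 : act 0 n2082 = n1872 := d5_1 D2082 (iv F9273) F9270
theorem F9299 : act 2 n2082 = n1855 := d18_1 D2082 (iv D1855) (iv F8362)
theorem F9300 : act 3 n2082 = n1864 := d23_1 D2082 F9297 (iv D2081)
theorem F9301 : act 4 n2082 = n1851 := d27_1 D2082 (iv D1851) D1850
theorem F9302 : act 8 n2082 = n1873 := d34_2 (iv F8363) D2082 (iv D1873)
def n2083 : Q := act 7 n1850
theorem D2083 : act 7 n1850 = n2083 := rfl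
theorem F9303 : act 2 n2083 = n1856 := d19_1 D2083 (iv D1856) (iv F8362)
theorem F9304 : act 4 n2083 = n1852 := d28_1 D2083 (iv D1852) D1850
def n2084 : Q := act 7 n1851
theorem D2084 : act 7 n1851 = n2084 := rfl
theorem F9305 : act 0 n2084 = n1927 := d6_1 D2084 (iv D1927) (iv F8364)
theorem F9306 : act 2 n2084 = n1857 := d19_1 D2084 (iv D1857) (iv F8365)
theorem F9307 : act 5 n2084 = n2084 := d31_1 D2084 (iv D2084) F8367
theorem F9308 : act 6 n2084 = n1852 := d33_1 D2084 (iv D1852) D1851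
def n2085 : Q := act 3 n1852
theorem D2085 : act 3 n1852 = n2085 := rfl
theorem F9309 : act 1 n2085 = n1866 := d9_1 D2085 (iv F9111) F9109
theorem F9310 : act 2 n2085 = n2085 := d15_1 D2085 (iv D2085) F8369 F7521 (iv F8369)
theorem F9311 : act 5 n2085 = n1853 := d22_2 (iv F8370) D2085 (iv D1853)
theorem F9312 : act 7 n2085 = n1863 := d24_2 D1852 D2085 F8411 (iv D1724) (iv F7508)
def n2086 : Q := act 8 n1852
theorem D2086 : act 8 n1852 = n2086 := rfl
theorem F9313 : act 2 n2086 = n1858 := d20_1 D2086 (iv D1858) (iv F8369)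
theorem F9314 : act 5 n2086 = n1854 := d32_1 D2086 (iv D1854) (iv F8370)
theorem F9315 : act 7 n2086 = n1877 := d35_1 D2086 (iv D1877) (iv D1660) (iv F7509) D1852
def n2087 : Q := act 8 n1853
theorem D2087 : act 8 n1853 = n2087 := rfl
theorem F9316 : act 1 n2087 = n1867 := d14_1 D2087 (iv D1867) (iv F8371)
theorem F9317 : act 2 n2087 = n2087 := d20_1 D2087 (iv D2087) F8372
theorem F9318 : act 3 n2087 = n1854 := d25_1 D2087 (iv D1854) D1853
theorem F9319 : act 6 n2087 = n2087 := d34_1 D2087 (iv D2087) F8373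
def n2088 : Q := act 7 n1855
theorem D2088 : act 7 n1855 = n2088 := rfl
theorem F9320 : act 0 n2088 = n1889 := d6_1 D2088 (iv D1889) (iv F8378)
theorem F9321 : act 1 n2088 = n1859 := d13_1 D2088 (iv D1859) (iv F8379)
theorem F9322 : act 4 n2088 = n1857 := d28_1 D2088 (iv D1857) (iv F8381)
theorem F9323 : act 6 n2088 = n1856 := d33_1 D2088 (iv D1856) D1855
def n2089 : Q := act 3 n1856
theorem D2089 : act 3 n1856 = n2089 := rfl
theorem F9324 : act 1 n2089 = n1860 := d9_1 D2089 (iv D1860) (iv F8383)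
theorem F9325 : act 4 n2089 = n2089 := d21_2 (iv F8384) D2089 (iv D2089) F8384 F7521
theorem F9326 : act 5 n2089 = n1881 := d22_2 F8918 D2089 (iv F8916)
theorem F9327 : act 7 n2089 = n1880 := d24_2 D1856 D2089 F8463 (iv D1675) (iv F7513)
def n2090 : Q := act 8 n1856
theorem D2090 : act 8 n1856 = n2090 := rfl
theorem F9328 : act 1 n2090 = n1861 := d14_1 D2090 (iv D1861) (iv F8383)
theorem F9329 : act 4 n2090 = n1858 := d29_1 D2090 (iv D1858) (iv F8384)
theorem F9330 : act 7 n2090 = n1883 := d35_1 D2090 (iv D1883) (iv D1664) (iv F7514) D1856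
def n2091 : Q := act 8 n1857
theorem D2091 : act 8 n1857 = n2091 := rfl
theorem F9331 : act 0 n2091 = n1932 := d7_1 D2091 (iv D1932) (iv F8385)
theorem F9332 : act 1 n2091 = n1862 := d14_1 D2091 (iv D1862) (iv F8386)
theorem F9333 : act 3 n2091 = n2091 := d25_1 D2091 (iv D2091) F8387
theorem F9334 : act 5 n2091 = n2091 := d32_1 D2091 (iv D2091) F8388
theorem F9335 : act 6 n2091 = n1858 := d34_1 D2091 (iv D1858) (iv F8389)
theorem F9336 : act 7 n2091 = n1884 := d35_1 D2091 (iv D1884) (iv D1665) (iv F7519) D1857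
def n2092 : Q := act 8 n1859
theorem D2092 : act 8 n1859 = n2092 := rfl
theorem F9337 : act 0 n2092 = n2092 := d7_1 D2092 (iv D2092) F8394
theorem F9338 : act 4 n2092 = n1862 := d29_1 D2092 (iv D1862) (iv F8395)
theorem F9339 : act 6 n2092 = n1861 := d34_1 D2092 (iv D1861) (iv F8396)
theorem F9340 : act 7 n2092 = n1885 := d35_1 D2092 (iv D1885) (iv D1668) (iv F7530) D1859
def n2093 : Q := act 8 n1860
theorem D2093 : act 8 n1860 = n2093 := rfl
theorem F9341 : act 0 n2093 = n2093 := d7_1 D2093 (iv D2093) F8397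
theorem F9342 : act 3 n2093 = n1861 := d25_1 D2093 (iv D1861) D1860
theorem F9343 : act 4 n2093 = n2093 := d29_1 D2093 (iv D2093) F8398
theorem F9344 : act 5 n2093 = n1885 := d32_1 D2093 (iv D1885) (iv F8399)
def n2094 : Q := act 4 n1863
theorem D2094 : act 4 n1863 = n2094 := rfl
theorem F9345 : act 1 n2094 = n1864 := d10_1 D2094 (iv D1864) (iv F8409)
theorem F9346 : act 2 n2094 = n2094 := d16_1 D2094 (iv D2094) F8410
def n2095 : Q := act 6 n1863
theorem D2095 : act 6 n1863 = n2095 := rfl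
theorem F9347 : act 0 n2095 = n1928 := d5_1 D2095 F9157 F9152
theorem F9348 : act 1 n2095 = n1865 := d12_1 D2095 (iv D1865) (iv F8409)
theorem F9349 : act 2 n2095 = n2095 := d18_1 D2095 (iv D2095) F8410
theorem F9350 : act 3 n2095 = n1918 := d23_1 D2095 (iv F8596) (iv F8411)
theorem F9351 : act 5 n2095 = n2095 := d30_1 D2095 (iv D2095) (iv D1863) F7543 D1863
theorem F9352 : act 8 n2095 = n1924 := d34_2 F9268 D2095 F9269
def n2096 : Q := act 7 n1864
theorem D2096 : act 7 n1864 = n2096 := rfl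
theorem F9353 : act 0 n2096 = n1874 := d6_1 D2096 (iv D1874) (iv F8412)
theorem F9354 : act 2 n2096 = n1869 := d19_1 D2096 (iv D1869) (iv F8413)
theorem F9355 : act 4 n2096 = n1866 := d28_1 D2096 (iv D1866) D1864
def n2097 : Q := act 7 n1865
theorem D2097 : act 7 n1865 = n2097 := rfl
theorem F9356 : act 0 n2097 = n1875 := d6_1 D2097 (iv D1875) (iv F8414)
theorem F9357 : act 2 n2097 = n1870 := d19_1 D2097 (iv D1870) (iv F8415)
theorem F9358 : act 5 n2097 = n2097 := d31_1 D2097 (iv D2097) F8417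
theorem F9359 : act 6 n2097 = n1866 := d33_1 D2097 (iv D1866) D1865
def n2098 : Q := act 8 n1866
theorem D2098 : act 8 n1866 = n2098 := rfl
theorem F9360 : act 0 n2098 = n1877 := d7_1 D2098 (iv D1877) (iv F8419)
theorem F9361 : act 2 n2098 = n1871 := d20_1 D2098 (iv D1871) (iv F8420)
theorem F9362 : act 5 n2098 = n1867 := d32_1 D2098 (iv D1867) (iv F8421)
def n2099 : Q := act 7 n1868
theorem D2099 : act 7 n1868 = n2099 := rfl
theorem F9363 : act 0 n2099 = n1881 := d6_1 D2099 (iv D1881) (iv F8425)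
theorem F9364 : act 1 n2099 = n2099 := d13_1 D2099 (iv D2099) F8426
theorem F9365 : act 4 n2099 = n1870 := d28_1 D2099 (iv D1870) (iv F8428)
theorem F9366 : act 6 n2099 = n1869 := d33_1 D2099 (iv D1869) D1868
def n2100 : Q := act 3 n1869
theorem D2100 : act 3 n1869 = n2100 := rfl
theorem F9367 : act 0 n2100 = n1882 := d2_1 D2100 (iv D1882) (iv F8430)
theorem F9368 : act 1 n2100 = n2100 := d9_1 D2100 (iv D2100) F8431
theorem F9369 : act 4 n2100 = n1898 := d21_2 (iv F8432) D2100 (iv D1898) F7660 (iv F7560)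
theorem F9370 : act 7 n2100 = n1888 := d24_2 D1869 D2100 (iv D1888) (iv D1676) (iv F7552)
def n2101 : Q := act 8 n1869
theorem D2101 : act 8 n1869 = n2101 := rfl
theorem F9371 : act 0 n2101 = n1883 := d7_1 D2101 (iv D1883) (iv F8430)
theorem F9372 : act 1 n2101 = n2101 := d14_1 D2101 (iv D2101) F8431
theorem F9373 : act 4 n2101 = n1871 := d29_1 D2101 (iv D1871) (iv F8432)
def n2102 : Q := act 8 n1870
theorem D2102 : act 8 n1870 = n2102 := rfl
theorem F9374 : act 0 n2102 = n1884 := d7_1 D2102 (iv D1884) (iv F8433)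
theorem F9375 : act 1 n2102 = n2102 := d14_1 D2102 (iv D2102) F8434
theorem F9376 : act 3 n2102 = n1900 := d25_1 D2102 (iv D1900) (iv F8435)
theorem F9377 : act 5 n2102 = n2102 := d32_1 D2102 (iv D2102) F8436
theorem F9378 : act 6 n2102 = n1871 := d34_1 D2102 (iv D1871) (iv F8437)
theorem F9379 : act 7 n2102 = n1932 := d35_1 D2102 (iv D1932) (iv D1730) (iv F7557) D1870
def n2103 : Q := act 7 n1872
theorem D2103 : act 7 n1872 = n2103 := rfl
theorem F9380 : act 2 n2103 = n1889 := d19_1 D2103 (iv D1889) (iv F8442)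
theorem F9381 : act 4 n2103 = n1927 := d28_1 D2103 (iv D1927) (iv F8443)
def n2104 : Q := act 5 n1873
theorem D2104 : act 5 n1873 = n2104 := rfl
theorem F9382 : act 2 n2104 = n1880 := d17_1 D2104 (iv D1880) (iv F8444)
theorem F9383 : act 4 n2104 = n2104 := d26_1 D2104 (iv D2104) F8445 F7569 (iv F8445)
def n2105 : Q := act 7 n1873
theorem D2105 : act 7 n1873 = n2105 := rfl
theorem F9384 : act 2 n2105 = n1881 := d19_1 D2105 (iv D1881) (iv F8444)
theorem F9385 : act 4 n2105 = n1875 := d28_1 D2105 (iv D1875) (iv F8445)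
theorem F9386 : act 6 n2105 = n1874 := d33_1 D2105 (iv D1874) D1873
def n2106 : Q := act 3 n1874
theorem D2106 : act 3 n1874 = n2106 := rfl
def n2107 : Q := act 8 n1874
theorem D2107 : act 8 n1874 = n2107 := rfl
theorem F9387 : act 2 n2107 = n1883 := d20_1 D2107 (iv D1883) (iv F8446)
theorem F9388 : act 4 n2107 = n1877 := d29_1 D2107 (iv D1877) (iv F8447)
def n2108 : Q := act 3 n1875
theorem D2108 : act 3 n1875 = n2108 := rfl
theorem F9389 : act 2 n2108 = n1904 := d15_1 D2108 (iv D1904) F7680 (iv F7583) (iv F8448)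
theorem F9390 : act 5 n2108 = n2108 := d22_2 F8449 D2108 (iv D2108)
theorem F9391 : act 6 n2108 = n1876 := d23_2 (iv F8450) D2108 (iv D1876)
theorem F9392 : act 7 n2108 = n1929 := d24_2 D1875 D2108 (iv D1929) (iv D1727) (iv F7568)
def n2109 : Q := act 8 n1875
theorem D2109 : act 8 n1875 = n2109 := rfl
theorem F9393 : act 2 n2109 = n1884 := d20_1 D2109 (iv D1884) (iv F8448)
theorem F9394 : act 5 n2109 = n2109 := d32_1 D2109 (iv D2109) F8449
theorem F9395 : act 6 n2109 = n1877 := d34_1 D2109 (iv D1877) (iv F8450)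
def n2110 : Q := act 4 n1876
theorem D2110 : act 4 n1876 = n2110 := rfl
theorem F9396 : act 2 n2110 = n1906 := d16_1 D2110 (iv D1906) (iv F8451)
theorem F9397 : act 7 n2110 = n1930 := d28_2 (iv F8453) D2110 (iv D1930)
def n2111 : Q := act 8 n1876
theorem D2111 : act 8 n1876 = n2111 := rfl
theorem F9398 : act 2 n2111 = n1907 := d20_1 D2111 (iv D1907) (iv F8451)
theorem F9399 : act 3 n2111 = n1877 := d25_1 D2111 (iv D1877) D1876
theorem F9400 : act 5 n2111 = n1879 := d32_1 D2111 (iv D1879) (iv F8452)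
def n2112 : Q := act 5 n1878
theorem D2112 : act 5 n1878 = n2112 := rfl
theorem F9401 : act 2 n2112 = n1908 := d17_1 D2112 (iv D1908) (iv F8456)
theorem F9402 : act 7 n2112 = n1931 := d31_2 (iv F8458) D2112 (iv D1931)
def n2113 : Q := act 8 n1878
theorem D2113 : act 8 n1878 = n2113 := rfl
theorem F9403 : act 2 n2113 = n1909 := d20_1 D2113 (iv D1909) (iv F8456)
theorem F9404 : act 4 n2113 = n1879 := d29_1 D2113 (iv D1879) D1878
theorem F9405 : act 6 n2113 = n2113 := d34_1 D2113 (iv D2113) F8457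
def n2114 : Q := act 8 n1881
theorem D2114 : act 8 n1881 = n2114 := rfl
theorem F9406 : act 1 n2114 = n1885 := d14_1 D2114 (iv D1885) (iv F8465)
theorem F9407 : act 4 n2114 = n1884 := d29_1 D2114 (iv D1884) (iv F8466)
theorem F9408 : act 6 n2114 = n1883 := d34_1 D2114 (iv D1883) (iv F8467)
def n2115 : Q := act 2 n1882
theorem D2115 : act 2 n1882 = n2115 := rfl
theorem F9409 : act 4 n2115 = n1911 := d16_2 (iv F8469) D2115 (iv D1911)
theorem F9410 : act 7 n2115 = n1891 := d19_2 (iv F8470) D2115 (iv D1891)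
def n2116 : Q := act 8 n1882
theorem D2116 : act 8 n1882 = n2116 := rfl
theorem F9411 : act 1 n2116 = n1887 := d14_1 D2116 (iv D1887) (iv F8468)
theorem F9412 : act 3 n2116 = n1883 := d25_1 D2116 (iv D1883) D1882
theorem F9413 : act 4 n2116 = n1912 := d29_1 D2116 (iv D1912) (iv F8469)
def n2117 : Q := act 1 n1886
theorem D2117 : act 1 n1886 = n2117 := rfl
theorem F9414 : act 4 n2117 = n1913 := d10_2 (iv F8481) D2117 (iv D1913)
theorem F9415 : act 7 n2117 = n1892 := d13_2 (iv F8482) D2117 (iv D1892)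
def n2118 : Q := act 8 n1886
theorem D2118 : act 8 n1886 = n2118 := rfl
theorem F9416 : act 0 n2118 = n2118 := d7_1 D2118 (iv D2118) F8480
theorem F9417 : act 2 n2118 = n1887 := d20_1 D2118 (iv D1887) D1886
theorem F9418 : act 4 n2118 = n1914 := d29_1 D2118 (iv D1914) (iv F8481)
def n2119 : Q := act 2 n1888
theorem D2119 : act 2 n1888 = n2119 := rfl
theorem F9419 : act 0 n2119 = n1891 := d1_1 D2119 (iv D1891) (iv F8486)
theorem F9420 : act 4 n2119 = n1915 := d16_2 (iv F8488) D2119 (iv D1915)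
def n2120 : Q := act 3 n1889
theorem D2120 : act 3 n1889 = n2120 := rfl
theorem F9421 : act 1 n2120 = n2120 := d9_1 D2120 (iv D2120) F8489
theorem F9422 : act 4 n2120 = n2120 := d21_2 (iv F8490) D2120 (iv D2120) F8490 F7842
theorem F9423 : act 7 n2120 = n1890 := d24_2 D1889 D2120 (iv D1890) (iv D1678) D1677
def n2121 : Q := act 8 n1889
theorem D2121 : act 8 n1889 = n2121 := rfl
theorem F9424 : act 1 n2121 = n2121 := d14_1 D2121 (iv D2121) F8489
theorem F9425 : act 4 n2121 = n1932 := d29_1 D2121 (iv D1932) (iv F8490)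
def n2122 : Q := act 2 n1890
theorem D2122 : act 2 n1890 = n2122 := rfl
theorem F9426 : act 3 n2122 = n1891 := d15_2 D1890 D2122 (iv D1891) (iv D1679) (iv F7628)
theorem F9427 : act 4 n2122 = n2122 := d16_2 F8492 D2122 (iv D2122)
def n2123 : Q := act 1 n1891
theorem D2123 : act 1 n1891 = n2123 := rfl
theorem F9428 : act 2 n2123 = n1892 := d8_2 D1891 D2123 (iv D1892) (iv D1680) (iv F7630)
theorem F9429 : act 4 n2123 = n1916 := d10_2 (iv F8493) D2123 (iv D1916)
def n2124 : Q := act 0 n1892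
theorem D2124 : act 0 n1892 = n2124 := rfl
theorem F9430 : act 1 n2124 = n2124 := d0_2 D1892 D2124 (iv D2124) (iv D1892) F7632
theorem F9431 : act 3 n2124 = n2124 := d2_2 F8494 D2124 (iv D2124)
theorem F9432 : act 4 n2124 = n1917 := d3_2 (iv F8495) D2124 (iv D1917)
theorem F9433 : act 6 n2124 = n1934 := d5_2 F8740 D2124 (iv F8736)
def n2125 : Q := act 7 n1893
theorem D2125 : act 7 n1893 = n2125 := rfl
theorem F9434 : act 0 n2125 = n1901 := d6_1 D2125 (iv D1901) (iv F8496)
theorem F9435 : act 2 n2125 = n1897 := d19_1 D2125 (iv D1897) (iv F8497)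
theorem F9436 : act 4 n2125 = n1895 := d28_1 D2125 (iv D1895) (iv F8499)
theorem F9437 : act 6 n2125 = n1894 := d33_1 D2125 (iv D1894) D1893
def n2126 : Q := act 3 n1894
theorem D2126 : act 3 n1894 = n2126 := rfl
theorem F9438 : act 0 n2126 = n1902 := d2_1 D2126 (iv D1902) (iv F8501)
theorem F9439 : act 5 n2126 = n2126 := d22_2 F8504 D2126 (iv D2126)
theorem F9440 : act 7 n2126 = n2126 := d24_2 D1894 D2126 (iv D2126) (iv D1894) F7637
def n2127 : Q := act 8 n1894
theorem D2127 : act 8 n1894 = n2127 := rfl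
theorem F9441 : act 0 n2127 = n1903 := d7_1 D2127 (iv D1903) (iv F8501)
theorem F9442 : act 2 n2127 = n1899 := d20_1 D2127 (iv D1899) (iv F8502)
theorem F9443 : act 4 n2127 = n1896 := d29_1 D2127 (iv D1896) (iv F8503)
theorem F9444 : act 5 n2127 = n2127 := d32_1 D2127 (iv D2127) F8504
theorem F9445 : act 7 n2127 = n2127 := d35_1 D2127 (iv D2127) (iv D1894) F7639 D1894
def n2128 : Q := act 8 n1895
theorem D2128 : act 8 n1895 = n2128 := rfl
theorem F9446 : act 0 n2128 = n1905 := d7_1 D2128 (iv D1905) (iv F8505)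
theorem F9447 : act 2 n2128 = n1900 := d20_1 D2128 (iv D1900) (iv F8506)
theorem F9448 : act 5 n2128 = n2128 := d32_1 D2128 (iv D2128) F8507
theorem F9449 : act 6 n2128 = n1896 := d34_1 D2128 (iv D1896) (iv F8508)
theorem F9450 : act 7 n2128 = n2128 := d35_1 D2128 (iv D2128) (iv D1895) F7644 D1895
def n2129 : Q := act 8 n1897
theorem D2129 : act 8 n1897 = n2129 := rfl
theorem F9451 : act 0 n2129 = n1910 := d7_1 D2129 (iv D1910) (iv F8513)
theorem F9452 : act 1 n2129 = n2129 := d14_1 D2129 (iv D2129) F8514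
theorem F9453 : act 4 n2129 = n1900 := d29_1 D2129 (iv D1900) (iv F8515)
theorem F9454 : act 6 n2129 = n1899 := d34_1 D2129 (iv D1899) (iv F8516)
theorem F9455 : act 7 n2129 = n2129 := d35_1 D2129 (iv D2129) (iv D1897) F7657 D1897
def n2130 : Q := act 2 n1898
theorem D2130 : act 2 n1898 = n2130 := rfl
theorem F9456 : act 0 n2130 = n1911 := d1_1 D2130 (iv D1911) (iv F8517)
theorem F9457 : act 5 n2130 = n2130 := d17_2 F8519 D2130 (iv D2130)
theorem F9458 : act 7 n2130 = n1915 := d19_2 (iv F8520) D2130 (iv D1915)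
def n2131 : Q := act 8 n1898
theorem D2131 : act 8 n1898 = n2131 := rfl
theorem F9459 : act 0 n2131 = n1912 := d7_1 D2131 (iv D1912) (iv F8517)
theorem F9460 : act 1 n2131 = n2131 := d14_1 D2131 (iv D2131) F8518
theorem F9461 : act 3 n2131 = n1899 := d25_1 D2131 (iv D1899) D1898
theorem F9462 : act 5 n2131 = n2131 := d32_1 D2131 (iv D2131) F8519
def n2132 : Q := act 3 n1901
theorem D2132 : act 3 n1901 = n2132 := rfl
theorem F9463 : act 1 n2132 = n2132 := d9_1 D2132 (iv D2132) F8531
theorem F9464 : act 6 n2132 = n1902 := d23_2 (iv F8534) D2132 (iv D1902)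
theorem F9465 : act 7 n2132 = n2132 := d24_2 D1901 D2132 (iv D2132) (iv D1901) F7672
def n2133 : Q := act 8 n1901
theorem D2133 : act 8 n1901 = n2133 := rfl
theorem F9466 : act 1 n2133 = n2133 := d14_1 D2133 (iv D2133) F8531
theorem F9467 : act 2 n2133 = n1910 := d20_1 D2133 (iv D1910) (iv F8532)
theorem F9468 : act 4 n2133 = n1905 := d29_1 D2133 (iv D1905) (iv F8533)
theorem F9469 : act 6 n2133 = n1903 := d34_1 D2133 (iv D1903) (iv F8534)
theorem F9470 : act 7 n2133 = n2133 := d35_1 D2133 (iv D2133) (iv D1901) F7674 D1901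
def n2134 : Q := act 2 n1902
theorem D2134 : act 2 n1902 = n2134 := rfl
theorem F9471 : act 3 n2134 = n1911 := d15_2 D1902 D2134 (iv D1911) (iv D1697) (iv F7676)
theorem F9472 : act 5 n2134 = n2134 := d17_2 F8536 D2134 (iv D2134)
theorem F9473 : act 7 n2134 = n2134 := d19_2 F8537 D2134 (iv D2134)
def n2135 : Q := act 4 n1902
theorem D2135 : act 4 n1902 = n2135 := rfl
theorem F9474 : act 1 n2135 = n2135 := d10_1 D2135 (iv D2135) F8535
theorem F9475 : act 3 n2135 = n1906 := d21_1 D2135 (iv D1906) (iv D1692) (iv F7677) D1902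
theorem F9476 : act 7 n2135 = n2135 := d28_2 F8537 D2135 (iv D2135)
def n2136 : Q := act 8 n1902
theorem D2136 : act 8 n1902 = n2136 := rfl
theorem F9477 : act 1 n2136 = n2136 := d14_1 D2136 (iv D2136) F8535
theorem F9478 : act 3 n2136 = n1903 := d25_1 D2136 (iv D1903) D1902
theorem F9479 : act 5 n2136 = n2136 := d32_1 D2136 (iv D2136) F8536
def n2137 : Q := act 4 n1904
theorem D2137 : act 4 n1904 = n2137 := rfl
theorem F9480 : act 1 n2137 = n2137 := d10_1 D2137 (iv D2137) F8543
theorem F9481 : act 6 n2137 = n1906 := d27_2 (iv F8545) D2137 (iv D1906)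
theorem F9482 : act 7 n2137 = n1933 := d28_2 (iv F8546) D2137 (iv D1933)
def n2138 : Q := act 8 n1904
theorem D2138 : act 8 n1904 = n2138 := rfl
theorem F9483 : act 1 n2138 = n2138 := d14_1 D2138 (iv D2138) F8543
theorem F9484 : act 3 n2138 = n1905 := d25_1 D2138 (iv D1905) D1904
theorem F9485 : act 5 n2138 = n2138 := d32_1 D2138 (iv D2138) F8544
theorem F9486 : act 6 n2138 = n1907 := d34_1 D2138 (iv D1907) (iv F8545)
def n2139 : Q := act 5 n1906
theorem D2139 : act 5 n1906 = n2139 := rfl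
theorem F9487 : act 1 n2139 = n2139 := d11_1 D2139 (iv D2139) F8552
theorem F9488 : act 4 n2139 = n1908 := d26_1 D2139 (iv D1908) (iv D1694) (iv F7684) D1906
theorem F9489 : act 7 n2139 = n1934 := d31_2 (iv F8553) D2139 (iv D1934)
def n2140 : Q := act 8 n1906
theorem D2140 : act 8 n1906 = n2140 := rfl
theorem F9490 : act 1 n2140 = n2140 := d14_1 D2140 (iv D2140) F8552
theorem F9491 : act 4 n2140 = n1907 := d29_1 D2140 (iv D1907) D1906
def n2141 : Q := act 6 n1908
theorem D2141 : act 6 n1908 = n2141 := rfl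
theorem F9492 : act 0 n2141 = n1913 := d5_1 D2141 (iv F8746) F8742
theorem F9493 : act 1 n2141 = n2141 := d12_1 D2141 (iv D2141) F8557
theorem F9494 : act 3 n2141 = n2141 := d23_1 D2141 (iv D2141) F8558
theorem F9495 : act 5 n2141 = n2141 := d30_1 D2141 (iv D2141) (iv D1908) F7692 D1908
theorem F9496 : act 7 n2141 = n1917 := d33_2 (iv F8559) D2141 F8589
def n2142 : Q := act 8 n1908
theorem D2142 : act 8 n1908 = n2142 := rfl
theorem F9497 : act 1 n2142 = n2142 := d14_1 D2142 (iv D2142) F8557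
theorem F9498 : act 3 n2142 = n2142 := d25_1 D2142 (iv D2142) F8558
theorem F9499 : act 5 n2142 = n1909 := d32_1 D2142 (iv D1909) D1908
def n2143 : Q := act 1 n1911
theorem D2143 : act 1 n1911 = n2143 := rfl
theorem F9500 : act 2 n2143 = n1913 := d8_2 D1911 D2143 (iv D1913) (iv D1701) (iv F7700)
theorem F9501 : act 5 n2143 = n2143 := d11_2 F8568 D2143 (iv D2143)
theorem F9502 : act 7 n2143 = n1916 := d13_2 (iv F8569) D2143 (iv D1916)
def n2144 : Q := act 8 n1911
theorem D2144 : act 8 n1911 = n2144 := rfl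
theorem F9503 : act 2 n2144 = n1912 := d20_1 D2144 (iv D1912) D1911
theorem F9504 : act 5 n2144 = n2144 := d32_1 D2144 (iv D2144) F8568
def n2145 : Q := act 8 n1913
theorem D2145 : act 8 n1913 = n2145 := rfl
theorem F9505 : act 1 n2145 = n1914 := d14_1 D2145 (iv D1914) D1913
theorem F9506 : act 3 n2145 = n2145 := d25_1 D2145 (iv D2145) F8573
theorem F9507 : act 5 n2145 = n2145 := d32_1 D2145 (iv D2145) F8574
def n2146 : Q := act 1 n1915
theorem D2146 : act 1 n1915 = n2146 := rfl
theorem F9508 : act 2 n2146 = n2146 := d8_2 D1915 D2146 (iv D2146) (iv D1915) F7724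
theorem F9509 : act 3 n2146 = n2146 := d9_2 F8581 D2146 (iv D2146)
theorem F9510 : act 5 n2146 = n2146 := d11_2 F8582 D2146 (iv D2146)
def n2147 : Q := act 0 n1916
theorem D2147 : act 0 n1916 = n2147 := rfl
theorem F9511 : act 2 n2147 = n1917 := d1_2 (iv F8583) D2147 (iv D1917)
theorem F9512 : act 3 n2147 = n2147 := d2_2 F8584 D2147 (iv D2147)
theorem F9513 : act 5 n2147 = n2147 := d4_2 F8585 D2147 (iv D2147)
theorem F9514 : act 6 n2147 = n1931 := d5_2 (iv F8730) D2147 (iv F8725)
def n2148 : Q := act 3 n1921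
theorem D2148 : act 3 n1921 = n2148 := rfl
theorem F9515 : act 0 n2148 = n1924 := d2_1 D2148 (iv D1924) (iv F8611)
theorem F9516 : act 1 n2148 = n1929 := d9_1 D2148 (iv D1929) (iv F8612)
theorem F9517 : act 2 n2148 = n2148 := d15_1 D2148 (iv D2148) F8613 F7772 (iv F8613)
theorem F9518 : act 5 n2148 = n2148 := d22_2 F8614 D2148 (iv D2148)
theorem F9519 : act 6 n2148 = n1925 := d23_2 F8616 D2148 (iv D1925)
theorem F9520 : act 8 n2148 = n1928 := d25_2 (iv F8615) D2148 (iv D1928)
def n2149 : Q := act 7 n1924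
theorem D2149 : act 7 n1924 = n2149 := rfl
theorem F9521 : act 1 n2149 = n1927 := d13_1 D2149 (iv D1927) (iv F8632)
theorem F9522 : act 2 n2149 = n2149 := d19_1 D2149 (iv D2149) F8633
theorem F9523 : act 5 n2149 = n2149 := d31_1 D2149 (iv D2149) F8634
def n2150 : Q := act 4 n1925
theorem D2150 : act 4 n1925 = n2150 := rfl
theorem F9524 : act 1 n2150 = n1930 := d10_1 D2150 (iv D1930) (iv F8635)
theorem F9525 : act 2 n2150 = n2150 := d16_1 D2150 (iv D2150) F8636
def n2151 : Q := act 5 n1926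
theorem D2151 : act 5 n1926 = n2151 := rfl
theorem F9526 : act 1 n2151 = n1931 := d11_1 D2151 (iv D1931) (iv F8638)
theorem F9527 : act 2 n2151 = n2151 := d17_1 D2151 (iv D2151) F8639
theorem F9528 : act 3 n2151 = n2151 := d22_1 D2151 (iv D2151) F8640
def n2152 : Q := act 3 n1927
theorem D2152 : act 3 n1927 = n2152 := rfl
theorem F9529 : act 2 n2152 = n2152 := d15_1 D2152 (iv D2152) F8642 F7842 (iv F8642)
theorem F9530 : act 5 n2152 = n2152 := d22_2 F8643 D2152 (iv D2152)
theorem F9531 : act 7 n2152 = n1928 := d24_2 D1927 D2152 (iv D1928) (iv D1726) D1725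
def n2153 : Q := act 8 n1927
theorem D2153 : act 8 n1927 = n2153 := rfl
theorem F9532 : act 2 n2153 = n1932 := d20_1 D2153 (iv D1932) (iv F8642)
theorem F9533 : act 5 n2153 = n2153 := d32_1 D2153 (iv D2153) F8643
def n2154 : Q := act 4 n1928
theorem D2154 : act 4 n1928 = n2154 := rfl
theorem F9534 : act 2 n2154 = n2154 := d16_1 D2154 (iv D2154) F8644
theorem F9535 : act 3 n2154 = n1930 := d21_1 D2154 (iv D1930) (iv D1728) (iv F7831) D1928
def n2155 : Q := act 4 n1929
theorem D2155 : act 4 n1929 = n2155 := rfl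
theorem F9536 : act 2 n2155 = n1933 := d16_1 D2155 (iv D1933) (iv F8646)
theorem F9537 : act 6 n2155 = n1930 := d27_2 (iv F8648) D2155 (iv D1930)
def n2156 : Q := act 5 n1930
theorem D2156 : act 5 n1930 = n2156 := rfl
theorem F9538 : act 2 n2156 = n1934 := d17_1 D2156 (iv D1934) (iv F8649)
theorem F9539 : act 4 n2156 = n1931 := d26_1 D2156 (iv D1931) (iv D1729) (iv F7837) D1930
def n2157 : Q := act 5 n1933
theorem D2157 : act 5 n1933 = n2157 := rfl
theorem F9540 : act 1 n2157 = n2157 := d11_1 D2157 (iv D2157) F8655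
theorem F9541 : act 3 n2157 = n2157 := d22_1 D2157 (iv D2157) F8656
theorem F9542 : act 4 n2157 = n2157 := d26_1 D2157 (iv D2157) (iv D1933) F7845 D1933
def n2158 : Q := act 1 n1935
theorem D2158 : act 1 n1935 = n2158 := rfl
theorem F9543 : act 0 n2158 = n2158 := d0_1 D2158 (iv D2158) F8661 F7862 (iv F8661)
theorem F9544 : act 2 n2158 = n2158 := d8_2 D1935 D2158 (iv D2158) (iv D1935) F7852
theorem F9545 : act 3 n2158 = n2158 := d9_2 F8662 D2158 (iv D2158)
theorem F9546 : act 4 n2158 = n2158 := d10_2 F8663 D2158 (iv D2158)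
theorem F9547 : act 6 n2158 = n2158 := d12_2 F8664 D2158 (iv D2158)
theorem F9548 : act 8 n2158 = n2158 := d14_2 F8665 D2158 (iv D2158)
def n2159 : Q := act 5 n1935
theorem D2159 : act 5 n1935 = n2159 := rfl
theorem F9549 : act 0 n2159 = n1939 := d4_1 D2159 (iv D1939) (iv F8661)
theorem F9550 : act 2 n2159 = n1936 := d17_1 D2159 (iv D1936) D1935
theorem F9551 : act 3 n2159 = n2159 := d22_1 D2159 (iv D2159) F8662
theorem F9552 : act 8 n2159 = n2159 := d32_2 F8665 D2159 (iv D2159)
def n2160 : Q := act 7 n1935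
theorem D2160 : act 7 n1935 = n2160 := rfl
theorem F9553 : act 0 n2160 = n1940 := d6_1 D2160 (iv D1940) (iv F8661)
theorem F9554 : act 2 n2160 = n1937 := d19_1 D2160 (iv D1937) D1935
theorem F9555 : act 4 n2160 = n2160 := d28_1 D2160 (iv D2160) F8663
theorem F9556 : act 6 n2160 = n2160 := d33_1 D2160 (iv D2160) F8664
def n2161 : Q := act 4 n1936
theorem D2161 : act 4 n1936 = n2161 := rfl
theorem F9557 : act 0 n2161 = n1941 := d3_1 D2161 (iv D1941) (iv F8666)
theorem F9558 : act 1 n2161 = n2161 := d10_1 D2161 (iv D2161) F8667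
theorem F9559 : act 3 n2161 = n2161 := d21_1 D2161 (iv D2161) F8668 F7859 (iv F8668)
theorem F9560 : act 5 n2161 = n2161 := d26_2 D1936 D2161 (iv D2161) (iv D1936) F7853
theorem F9561 : act 8 n2161 = n2161 := d29_2 F8669 D2161 (iv D2161)
def n2162 : Q := act 6 n1936
theorem D2162 : act 6 n1936 = n2162 := rfl
theorem F9562 : act 0 n2162 = n1942 := d5_1 D2162 (iv D1942) (iv F8666)
theorem F9563 : act 1 n2162 = n2162 := d12_1 D2162 (iv D2162) F8667
theorem F9564 : act 3 n2162 = n1938 := d23_1 D2162 (iv D1938) (iv F8668)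
theorem F9565 : act 5 n2162 = n2162 := d30_1 D2162 (iv D2162) (iv D1936) F7854 D1936
theorem F9566 : act 8 n2162 = n2162 := d34_2 F8669 D2162 (iv D2162)
theorem F9567 : act 4 n1939 = n2162 := d38_3 (iv D1940) F7865 D1939 F9564 F8677 F8676 F8680 (iv D1753) (iv D1565) (iv D1392) F5668 F5100 F4594 F4065 F4064 F4063 (iv F4753) (iv F5463) (iv F6215) (iv F7013) F7017 F6223 D1535 F7054 F6287 (iv F5969) F5968 F5167 (iv D962) (iv D799) (iv D642) F2450 (iv D508) F1965 (iv F2056) F2055 F2054 D424 F2066 (iv F2595) (iv F3242) F3244 F2650 D556 F2666 F2665 (iv F3109) F3108 (iv F3058) D795 (iv F4436) (iv F5165) (iv F5976) (iv F6705) (iv F7469) D1837 F8311 F7474 (iv F7185) (iv F7871) (iv F8687) F8686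
theorem F9568 : act 2 n2162 = n1941 := d37_4 (iv F8680) F8679 F8678 (iv F9564) F8690 F7880 D1946 F8714 F8713 F7892 F7202 (iv F7293) (iv F8075) (iv D1783) (iv D1586) F6501 (iv D1281) F5149 F4641 F4120 F3453 D739 F3527 F2849 F2848 F2847 (iv F2652) (iv F3252) (iv D682) (iv D538) F2062 (iv D423) (iv F1949) F1948 F1951 (iv F1966) D509 F2456 (iv F3070) (iv F3786) (iv F4486) (iv F5151) D1282 F5959 (iv F6032) (iv F6817) F6816 F6016 (iv F6636) F6634 F5811 F5063 F4326 F3657 F3656 F3660 (iv F4281) (iv F4959) (iv F5684) (iv F6454) (iv F7187) (iv F7946)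
theorem F9569 : act 2 n2161 = n1942 := d1_2 F9568 (iv F9557) (iv F9562)
theorem F9570 : act 6 n1941 = n2159 := d18_2 D2162 F9568 F9550
theorem F9571 : act 6 n1939 = n2161 := d5_2 F9570 F9549 F9557
theorem F9572 : act 1 n2159 = n1945 := d12_1 F9570 (iv D1945) (iv F8690)
theorem F9573 : act 4 n2159 = n1942 := d27_1 F9570 (iv D1942) D1941
theorem F9574 : act 5 n1945 = n2158 := d11_2 D2159 F9572 (iv D2158)
def n2163 : Q := act 7 n1936
theorem D2163 : act 7 n1936 = n2163 := rfl
theorem F9575 : act 0 n2163 = n1943 := d6_1 D2163 (iv D1943) (iv F8666)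
theorem F9576 : act 1 n2163 = n2163 := d13_1 D2163 (iv D2163) F8667
theorem F9577 : act 3 n2163 = n1961 := d24_1 D2163 (iv D1961) F7940 (iv F7860) (iv F8668)
theorem F9578 : act 5 n2163 = n1937 := d31_1 D2163 (iv D1937) D1936
def n2164 : Q := act 8 n1937
theorem D2164 : act 8 n1937 = n2164 := rfl
theorem F9579 : act 0 n2164 = n1944 := d7_1 D2164 (iv D1944) (iv F8670)
theorem F9580 : act 1 n2164 = n2164 := d14_1 D2164 (iv D2164) F8671
theorem F9581 : act 3 n2164 = n1962 := d25_1 D2164 (iv D1962) (iv F8672)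
theorem F9582 : act 4 n2164 = n2164 := d29_1 D2164 (iv D2164) F8673
theorem F9583 : act 6 n2164 = n2164 := d34_1 D2164 (iv D2164) F8674
theorem F9584 : act 7 n2164 = n2164 := d35_1 D2164 (iv D2164) (iv D1937) F7855 D1937
def n2165 : Q := act 7 n1939
theorem D2165 : act 7 n1939 = n2165 := rfl
theorem F9585 : act 1 n2165 = n2165 := d13_1 D2165 (iv D2165) F8682
theorem F9586 : act 2 n2165 = n1943 := d19_1 D2165 (iv D1943) (iv F8683)
theorem F9587 : act 5 n2165 = n1940 := d31_1 D2165 (iv D1940) D1939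
def n2166 : Q := act 3 n1940
theorem D2166 : act 3 n1940 = n2166 := rfl
theorem F9588 : act 1 n2166 = n2166 := d9_1 D2166 (iv D2166) F8686
theorem F9589 : act 2 n2166 = n1966 := d15_1 D2166 (iv D1966) F7956 (iv F7871) (iv F8687)
theorem F9590 : act 6 n2166 = n2166 := d23_2 F8689 D2166 (iv D2166)
theorem F9591 : act 7 n2166 = n2166 := d24_2 D1940 D2166 (iv D2166) (iv D1940) F7863
def n2167 : Q := act 8 n1940
theorem D2167 : act 8 n1940 = n2167 := rfl
theorem F9592 : act 1 n2167 = n2167 := d14_1 D2167 (iv D2167) F8686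
theorem F9593 : act 2 n2167 = n1944 := d20_1 D2167 (iv D1944) (iv F8687)
theorem F9594 : act 4 n2167 = n2167 := d29_1 D2167 (iv D2167) F8688
theorem F9595 : act 6 n2167 = n2167 := d34_1 D2167 (iv D2167) F8689
theorem F9596 : act 7 n2167 = n2167 := d35_1 D2167 (iv D2167) (iv D1940) F7866 D1940
def n2168 : Q := act 7 n1941
theorem D2168 : act 7 n1941 = n2168 := rfl
theorem F9597 : act 1 n2168 = n1946 := d13_1 D2168 (iv D1946) (iv F8690)
theorem F9598 : act 4 n2168 = n1943 := d28_1 D2168 (iv D1943) D1941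
theorem F9599 : act 5 n2168 = n2168 := d31_1 D2168 (iv D2168) F8692
def n2169 : Q := act 7 n1942
theorem D2169 : act 7 n1942 = n2169 := rfl
theorem F9600 : act 1 n2169 = n1947 := d13_1 D2169 (iv D1947) (iv F8694)
theorem F9601 : act 3 n2169 = n1970 := d24_1 D2169 (iv D1970) F7963 (iv F7878) (iv F8695)
theorem F9602 : act 5 n2169 = n2169 := d31_1 D2169 (iv D2169) F8696
theorem F9603 : act 6 n2169 = n1943 := d33_1 D2169 (iv D1943) D1942
def n2170 : Q := act 8 n1943
theorem D2170 : act 8 n1943 = n2170 := rfl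
theorem F9604 : act 1 n2170 = n1948 := d14_1 D2170 (iv D1948) (iv F8698)
theorem F9605 : act 3 n2170 = n1971 := d25_1 D2170 (iv D1971) (iv F8699)
theorem F9606 : act 5 n2170 = n1944 := d32_1 D2170 (iv D1944) (iv F8700)
theorem F9607 : act 7 n2170 = n2170 := d35_1 D2170 (iv D2170) (iv D1943) F7869 D1943
def n2171 : Q := act 7 n1945
theorem D2171 : act 7 n1945 = n2171 := rfl
theorem F9608 : act 0 n2171 = n2171 := d6_1 D2171 (iv D2171) F8706
theorem F9609 : act 2 n2171 = n2171 := d19_1 D2171 (iv D2171) F8707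
theorem F9610 : act 4 n2171 = n1947 := d28_1 D2171 (iv D1947) (iv F8709)
theorem F9611 : act 6 n2171 = n1946 := d33_1 D2171 (iv D1946) D1945
def n2172 : Q := act 3 n1946
theorem D2172 : act 3 n1946 = n2172 := rfl
theorem F9612 : act 0 n2172 = n2172 := d2_1 D2172 (iv D2172) F8711
theorem F9613 : act 4 n2172 = n1974 := d21_2 (iv F8713) D2172 (iv D1974) F7978 (iv F7892)
theorem F9614 : act 5 n2172 = n2172 := d22_2 F8714 D2172 (iv D2172)
theorem F9615 : act 7 n2172 = n2172 := d24_2 D1946 D2172 (iv D2172) (iv D1946) F7882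
def n2173 : Q := act 8 n1946
theorem D2173 : act 8 n1946 = n2173 := rfl
theorem F9616 : act 0 n2173 = n2173 := d7_1 D2173 (iv D2173) F8711
theorem F9617 : act 2 n2173 = n2173 := d20_1 D2173 (iv D2173) F8712
theorem F9618 : act 4 n2173 = n1948 := d29_1 D2173 (iv D1948) (iv F8713)
theorem F9619 : act 5 n2173 = n2173 := d32_1 D2173 (iv D2173) F8714
theorem F9620 : act 7 n2173 = n2173 := d35_1 D2173 (iv D2173) (iv D1946) F7884 D1946
def n2174 : Q := act 8 n1947
theorem D2174 : act 8 n1947 = n2174 := rfl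
theorem F9621 : act 0 n2174 = n2174 := d7_1 D2174 (iv D2174) F8715
theorem F9622 : act 2 n2174 = n2174 := d20_1 D2174 (iv D2174) F8716
theorem F9623 : act 3 n2174 = n1976 := d25_1 D2174 (iv D1976) (iv F8717)
theorem F9624 : act 5 n2174 = n2174 := d32_1 D2174 (iv D2174) F8718
theorem F9625 : act 6 n2174 = n1948 := d34_1 D2174 (iv D1948) (iv F8719)
theorem F9626 : act 7 n2174 = n2174 := d35_1 D2174 (iv D2174) (iv D1947) F7889 D1947
def n2175 : Q := act 4 n1949
theorem D2175 : act 4 n1949 = n2175 := rfl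
theorem F9627 : act 0 n2175 = n2156 := d3_1 D2175 F9539 (iv F8725)
theorem F9628 : act 1 n2175 = n1987 := d10_1 D2175 (iv D1987) (iv F8726)
theorem F9629 : act 2 n2175 = n1951 := d16_1 D2175 (iv D1951) (iv F8727)
theorem F9630 : act 5 n2175 = n2034 := d26_2 D1949 D2175 (iv D2034) (iv D1813) (iv F7903)
theorem F9631 : act 6 n2175 = n2123 := d27_2 F8730 D2175 F9429
theorem F9632 : act 8 n2175 = n1963 := d29_2 (iv F8729) D2175 (iv D1963)
def n2176 : Q := act 7 n1949
theorem D2176 : act 7 n1949 = n2176 := rfl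
theorem F9633 : act 0 n2176 = n2112 := d6_1 D2176 F9402 (iv F8725)
theorem F9634 : act 1 n2176 = n1988 := d13_1 D2176 (iv D1988) (iv F8726)
theorem F9635 : act 2 n2176 = n1952 := d19_1 D2176 (iv D1952) (iv F8727)
theorem F9636 : act 5 n2176 = n1950 := d31_1 D2176 (iv D1950) D1949
theorem F9637 : act 6 n2176 = n2143 := d33_1 D2176 F9502 F8730
def n2177 : Q := act 3 n1950
theorem D2177 : act 3 n1950 = n2177 := rfl
theorem F9638 : act 0 n2177 = n2011 := d2_1 D2177 F8994 (iv F8731)
theorem F9639 : act 1 n2177 = n1989 := d9_1 D2177 (iv D1989) (iv F8732)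
theorem F9640 : act 2 n2177 = n2177 := d15_1 D2177 (iv D2177) F8733 F7913 (iv F8733)
theorem F9641 : act 4 n2177 = n1999 := d21_2 (iv F8734) D2177 (iv D1999) F8064 (iv F8221)
theorem F9642 : act 6 n2177 = n2177 := d23_2 F8735 D2177 (iv D2177)
theorem F9643 : act 7 n2177 = n2177 := d24_2 D1950 D2177 (iv D2177) (iv D1950) F7902
def n2178 : Q := act 8 n1950
theorem D2178 : act 8 n1950 = n2178 := rfl
theorem F9644 : act 0 n2178 = n2113 := d7_1 D2178 (iv D2113) (iv F8731)
theorem F9645 : act 1 n2178 = n1990 := d14_1 D2178 (iv D1990) (iv F8732)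
theorem F9646 : act 2 n2178 = n1953 := d20_1 D2178 (iv D1953) (iv F8733)
theorem F9647 : act 4 n2178 = n2037 := d29_1 D2178 (iv D2037) (iv F8734)
theorem F9648 : act 6 n2178 = n2178 := d34_1 D2178 (iv D2178) F8735
theorem F9649 : act 7 n2178 = n1967 := d35_1 D2178 (iv D1967) (iv D1755) (iv F7905) D1950
def n2179 : Q := act 7 n1951
theorem D2179 : act 7 n1951 = n2179 := rfl
theorem F9650 : act 0 n2179 = n2139 := d6_1 D2179 F9489 (iv F8736)
theorem F9651 : act 1 n2179 = n1954 := d13_1 D2179 (iv D1954) (iv F8737)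
theorem F9652 : act 4 n2179 = n1952 := d28_1 D2179 (iv D1952) D1951
theorem F9653 : act 5 n2179 = n2039 := d31_1 D2179 (iv D2039) (iv F8739)
theorem F9654 : act 6 n2179 = n2117 := d33_1 D2179 F9415 (iv F8740)
def n2180 : Q := act 8 n1952
theorem D2180 : act 8 n1952 = n2180 := rfl
theorem F9655 : act 0 n2180 = n2142 := d7_1 D2180 (iv D2142) (iv F8742)
theorem F9656 : act 1 n2180 = n1955 := d14_1 D2180 (iv D1955) (iv F8743)
theorem F9657 : act 3 n2180 = n2180 := d25_1 D2180 (iv D2180) F8744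
theorem F9658 : act 5 n2180 = n1953 := d32_1 D2180 (iv D1953) (iv F8745)
theorem F9659 : act 6 n2180 = n2145 := d34_1 D2180 (iv D2145) (iv F8746)
theorem F9660 : act 7 n2180 = n1971 := d35_1 D2180 (iv D1971) (iv D1758) (iv F7909) D1952
def n2181 : Q := act 3 n1954
theorem D2181 : act 3 n1954 = n2181 := rfl
theorem F9661 : act 0 n2181 = n2181 := d2_1 D2181 (iv D2181) F8753
theorem F9662 : act 2 n2181 = n2071 := d15_1 D2181 (iv D2071) F8320 (iv F8046) (iv F8754)
theorem F9663 : act 4 n2181 = n2181 := d21_2 (iv F8755) D2181 (iv D2181) F8755 F7924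
theorem F9664 : act 5 n2181 = n2043 := d22_2 (iv F8756) D2181 (iv D2043)
theorem F9665 : act 6 n2181 = n2073 := d23_2 (iv F8757) D2181 F9258
theorem F9666 : act 7 n2181 = n2181 := d24_2 D1954 D2181 (iv D2181) (iv D1954) F7918
def n2182 : Q := act 8 n1954
theorem D2182 : act 8 n1954 = n2182 := rfl
theorem F9667 : act 0 n2182 = n2182 := d7_1 D2182 (iv D2182) F8753
theorem F9668 : act 2 n2182 = n1993 := d20_1 D2182 (iv D1993) (iv F8754)
theorem F9669 : act 4 n2182 = n1955 := d29_1 D2182 (iv D1955) (iv F8755)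
theorem F9670 : act 5 n2182 = n2044 := d32_1 D2182 (iv D2044) (iv F8756)
theorem F9671 : act 6 n2182 = n2118 := d34_1 D2182 (iv D2118) (iv F8757)
theorem F9672 : act 7 n2182 = n1975 := d35_1 D2182 (iv D1975) (iv D1761) (iv F7921) D1954
def n2183 : Q := act 5 n1956
theorem D2183 : act 5 n1956 = n2183 := rfl
theorem F9673 : act 0 n2183 = n1994 := d4_1 D2183 (iv D1994) (iv F8764)
theorem F9674 : act 1 n2183 = n1957 := d11_1 D2183 (iv D1957) D1956
theorem F9675 : act 2 n2183 = n2183 := d17_1 D2183 (iv D2183) F8765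
theorem F9676 : act 3 n2183 = n2183 := d22_1 D2183 (iv D2183) F8766
theorem F9677 : act 8 n2183 = n2151 := d32_2 (iv F8769) D2183 (iv D2151)
def n2184 : Q := act 7 n1956
theorem D2184 : act 7 n1956 = n2184 := rfl
theorem F9678 : act 0 n2184 = n1995 := d6_1 D2184 (iv D1995) (iv F8764)
theorem F9679 : act 1 n2184 = n1958 := d13_1 D2184 (iv D1958) D1956
theorem F9680 : act 2 n2184 = n2184 := d19_1 D2184 (iv D2184) F8765
theorem F9681 : act 4 n2184 = n2047 := d28_1 D2184 (iv D2047) (iv F8767)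
theorem F9682 : act 6 n2184 = n2184 := d33_1 D2184 (iv D2184) F8768
def n2185 : Q := act 4 n1957
theorem D2185 : act 4 n1957 = n2185 := rfl
theorem F9683 : act 0 n2185 = n1963 := d3_1 D2185 (iv D1963) (iv F8770)
theorem F9684 : act 2 n2185 = n1959 := d16_1 D2185 (iv D1959) (iv F8771)
theorem F9685 : act 5 n2185 = n2048 := d26_2 D1957 D2185 (iv D2048) (iv D1824) (iv F7935)
theorem F9686 : act 8 n2185 = n2156 := d29_2 (iv F8773) D2185 F9539
def n2186 : Q := act 6 n1957
theorem D2186 : act 6 n1957 = n2186 := rfl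
theorem F9687 : act 0 n2186 = n1964 := d5_1 D2186 (iv D1964) (iv F8770)
theorem F9688 : act 2 n2186 = n1960 := d18_1 D2186 (iv D1960) (iv F8771)
theorem F9689 : act 3 n2186 = n2186 := d23_1 D2186 (iv D2186) F8772
theorem F9690 : act 5 n2186 = n2186 := d30_1 D2186 (iv D2186) (iv D1957) F7936 D1957
theorem F9691 : act 8 n2186 = n2147 := d34_2 (iv F8773) D2186 F9514
def n2187 : Q := act 7 n1957
theorem D2187 : act 7 n1957 = n2187 := rfl
theorem F9692 : act 0 n2187 = n1965 := d6_1 D2187 (iv D1965) (iv F8770)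
theorem F9693 : act 2 n2187 = n1961 := d19_1 D2187 (iv D1961) (iv F8771)
theorem F9694 : act 5 n2187 = n1958 := d31_1 D2187 (iv D1958) D1957
def n2188 : Q := act 3 n1958
theorem D2188 : act 3 n1958 = n2188 := rfl
theorem F9695 : act 0 n2188 = n1966 := d2_1 D2188 (iv D1966) (iv F8774)
theorem F9696 : act 6 n2188 = n2188 := d23_2 F8777 D2188 (iv D2188)
theorem F9697 : act 7 n2188 = n2188 := d24_2 D1958 D2188 (iv D2188) (iv D1958) F7934
def n2189 : Q := act 8 n1958
theorem D2189 : act 8 n1958 = n2189 := rfl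
theorem F9698 : act 0 n2189 = n1967 := d7_1 D2189 (iv D1967) (iv F8774)
theorem F9699 : act 2 n2189 = n1962 := d20_1 D2189 (iv D1962) (iv F8775)
theorem F9700 : act 4 n2189 = n2052 := d29_1 D2189 (iv D2052) (iv F8776)
theorem F9701 : act 6 n2189 = n2189 := d34_1 D2189 (iv D2189) F8777
theorem F9702 : act 7 n2189 = n2113 := d35_1 D2189 (iv D2113) F8458 (iv F7937) D1958
def n2190 : Q := act 6 n1959
theorem D2190 : act 6 n1959 = n2190 := rfl
theorem F9703 : act 0 n2190 = n1968 := d5_1 D2190 (iv D1968) (iv F8778)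
theorem F9704 : act 1 n2190 = n2190 := d12_1 D2190 (iv D2190) F8779
theorem F9705 : act 3 n2190 = n2190 := d23_1 D2190 (iv D2190) F8780
theorem F9706 : act 4 n2190 = n1960 := d27_1 D2190 (iv D1960) D1959
theorem F9707 : act 8 n2190 = n2124 := d34_2 (iv F8782) D2190 F9433
def n2191 : Q := act 7 n1959
theorem D2191 : act 7 n1959 = n2191 := rfl
theorem F9708 : act 0 n2191 = n1969 := d6_1 D2191 (iv D1969) (iv F8778)
theorem F9709 : act 1 n2191 = n2191 := d13_1 D2191 (iv D2191) F8779
theorem F9710 : act 4 n2191 = n1961 := d28_1 D2191 (iv D1961) D1959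
theorem F9711 : act 5 n2191 = n2054 := d31_1 D2191 (iv D2054) (iv F8781)
def n2192 : Q := act 7 n1960
theorem D2192 : act 7 n1960 = n2192 := rfl
theorem F9712 : act 0 n2192 = n1970 := d6_1 D2192 (iv D1970) (iv F8783)
theorem F9713 : act 1 n2192 = n2192 := d13_1 D2192 (iv D2192) F8784
theorem F9714 : act 5 n2192 = n2192 := d31_1 D2192 (iv D2192) F8786
theorem F9715 : act 6 n2192 = n1961 := d33_1 D2192 (iv D1961) D1960
def n2193 : Q := act 8 n1961
theorem D2193 : act 8 n1961 = n2193 := rfl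
theorem F9716 : act 0 n2193 = n1971 := d7_1 D2193 (iv D1971) (iv F8788)
theorem F9717 : act 1 n2193 = n2193 := d14_1 D2193 (iv D2193) F8789
theorem F9718 : act 5 n2193 = n1962 := d32_1 D2193 (iv D1962) (iv F8790)
theorem F9719 : act 7 n2193 = n2142 := d35_1 D2193 (iv D2142) F8559 (iv F7941) D1961
def n2194 : Q := act 3 n1963
theorem D2194 : act 3 n1963 = n2194 := rfl
theorem F9720 : act 1 n2194 = n2005 := d9_1 D2194 (iv D2005) (iv F8796)
theorem F9721 : act 2 n2194 = n2194 := d15_1 D2194 (iv D2194) F8797 F7960 (iv F8797)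
theorem F9722 : act 4 n2194 = n2194 := d21_2 D1963 D2194 (iv D2194) (iv D1963) F7954
theorem F9723 : act 5 n2194 = n2057 := d22_2 (iv F8798) D2194 (iv D2057)
def n2195 : Q := act 6 n1963
theorem D2195 : act 6 n1963 = n2195 := rfl
theorem F9724 : act 1 n2195 = n2006 := d12_1 D2195 (iv D2006) (iv F8796)
theorem F9725 : act 2 n2195 = n1968 := d18_1 D2195 (iv D1968) (iv F8797)
theorem F9726 : act 4 n2195 = n1964 := d27_1 D2195 (iv D1964) D1963
theorem F9727 : act 8 n2195 = n2123 := d34_2 F9632 D2195 (iv F9631)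
def n2196 : Q := act 7 n1963
theorem D2196 : act 7 n1963 = n2196 := rfl
theorem F9728 : act 1 n2196 = n2007 := d13_1 D2196 (iv D2007) (iv F8796)
theorem F9729 : act 2 n2196 = n1969 := d19_1 D2196 (iv D1969) (iv F8797)
theorem F9730 : act 4 n2196 = n1965 := d28_1 D2196 (iv D1965) D1963
theorem F9731 : act 5 n2196 = n2059 := d31_1 D2196 (iv D2059) (iv F8798)
def n2197 : Q := act 7 n1964
theorem D2197 : act 7 n1964 = n2197 := rfl
theorem F9732 : act 1 n2197 = n2008 := d13_1 D2197 (iv D2008) (iv F8799)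
theorem F9733 : act 2 n2197 = n1970 := d19_1 D2197 (iv D1970) (iv F8800)
theorem F9734 : act 5 n2197 = n2197 := d31_1 D2197 (iv D2197) F8802
theorem F9735 : act 6 n2197 = n1965 := d33_1 D2197 (iv D1965) D1964
def n2198 : Q := act 3 n1965
theorem D2198 : act 3 n1965 = n2198 := rfl
theorem F9736 : act 1 n2198 = n2009 := d9_1 D2198 (iv D2009) (iv F8804)
theorem F9737 : act 5 n2198 = n1966 := d22_2 (iv F8806) D2198 (iv D1966)
theorem F9738 : act 7 n2198 = n2198 := d24_2 D1965 D2198 (iv D2198) (iv D1965) F7954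
def n2199 : Q := act 8 n1965
theorem D2199 : act 8 n1965 = n2199 := rfl
theorem F9739 : act 1 n2199 = n2010 := d14_1 D2199 (iv D2010) (iv F8804)
theorem F9740 : act 2 n2199 = n1971 := d20_1 D2199 (iv D1971) (iv F8805)
theorem F9741 : act 5 n2199 = n1967 := d32_1 D2199 (iv D1967) (iv F8806)
def n2200 : Q := act 4 n1966
theorem D2200 : act 4 n1966 = n2200 := rfl
theorem F9742 : act 1 n2200 = n2011 := d10_1 D2200 (iv D2011) (iv F8807)
theorem F9743 : act 3 n2200 = n2063 := d21_1 D2200 (iv D2063) (iv D1833) (iv F7957) D1966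
theorem F9744 : act 6 n2200 = n2200 := d27_2 F8808 D2200 (iv D2200)
theorem F9745 : act 7 n2200 = n2200 := d28_2 F8809 D2200 (iv D2200)
def n2201 : Q := act 8 n1966
theorem D2201 : act 8 n1966 = n2201 := rfl
theorem F9746 : act 1 n2201 = n2012 := d14_1 D2201 (iv D2012) (iv F8807)
theorem F9747 : act 3 n2201 = n1967 := d25_1 D2201 (iv D1967) D1966
theorem F9748 : act 6 n2201 = n2201 := d34_1 D2201 (iv D2201) F8808
def n2202 : Q := act 5 n1968
theorem D2202 : act 5 n1968 = n2202 := rfl
theorem F9749 : act 1 n2202 = n1972 := d11_1 D2202 (iv D1972) (iv F8814)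
theorem F9750 : act 3 n2202 = n2202 := d22_1 D2202 (iv D2202) F8815
theorem F9751 : act 4 n2202 = n2202 := d26_1 D2202 (iv D2202) F8816 F7964 (iv F8816)
theorem F9752 : act 6 n2202 = n2065 := d30_2 D1968 D2202 (iv D2065) (iv D1835) (iv F7961)
theorem F9753 : act 8 n2202 = n2029 := d32_2 (iv F8817) D2202 F9074
def n2203 : Q := act 7 n1968
theorem D2203 : act 7 n1968 = n2203 := rfl
theorem F9754 : act 1 n2203 = n1973 := d13_1 D2203 (iv D1973) (iv F8814)
theorem F9755 : act 4 n2203 = n1970 := d28_1 D2203 (iv D1970) (iv F8816)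
theorem F9756 : act 6 n2203 = n1969 := d33_1 D2203 (iv D1969) D1968
def n2204 : Q := act 3 n1969
theorem D2204 : act 3 n1969 = n2204 := rfl
theorem F9757 : act 1 n2204 = n1974 := d9_1 D2204 (iv D1974) (iv F8818)
theorem F9758 : act 5 n2204 = n2067 := d22_2 (iv F8820) D2204 (iv D2067)
theorem F9759 : act 7 n2204 = n2204 := d24_2 D1969 D2204 (iv D2204) (iv D1969) F7960
def n2205 : Q := act 8 n1969
theorem D2205 : act 8 n1969 = n2205 := rfl
theorem F9760 : act 1 n2205 = n1975 := d14_1 D2205 (iv D1975) (iv F8818)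
theorem F9761 : act 4 n2205 = n1971 := d29_1 D2205 (iv D1971) (iv F8819)
theorem F9762 : act 5 n2205 = n2068 := d32_1 D2205 (iv D2068) (iv F8820)
def n2206 : Q := act 8 n1970
theorem D2206 : act 8 n1970 = n2206 := rfl
theorem F9763 : act 1 n2206 = n1976 := d14_1 D2206 (iv D1976) (iv F8821)
theorem F9764 : act 5 n2206 = n2206 := d32_1 D2206 (iv D2206) F8822
theorem F9765 : act 6 n2206 = n1971 := d34_1 D2206 (iv D1971) (iv F8823)
theorem F9766 : act 7 n2206 = n2145 := d35_1 D2206 (iv D2145) F8575 (iv F7965) D1970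
def n2207 : Q := act 7 n1972
theorem D2207 : act 7 n1972 = n2207 := rfl
theorem F9767 : act 0 n2207 = n2207 := d6_1 D2207 (iv D2207) F8826
theorem F9768 : act 2 n2207 = n2018 := d19_1 D2207 (iv D2018) (iv F8827)
theorem F9769 : act 4 n2207 = n2207 := d28_1 D2207 (iv D2207) F8829
theorem F9770 : act 5 n2207 = n1973 := d31_1 D2207 (iv D1973) D1972
theorem F9771 : act 6 n2207 = n2070 := d33_1 D2207 (iv D2070) (iv F8830)
def n2208 : Q := act 3 n1973
theorem D2208 : act 3 n1973 = n2208 := rfl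
theorem F9772 : act 0 n2208 = n2208 := d2_1 D2208 (iv D2208) F8832
theorem F9773 : act 6 n2208 = n1974 := d23_2 (iv F8835) D2208 (iv D1974)
theorem F9774 : act 7 n2208 = n2208 := d24_2 D1973 D2208 (iv D2208) (iv D1973) F7973
def n2209 : Q := act 8 n1973
theorem D2209 : act 8 n1973 = n2209 := rfl
theorem F9775 : act 0 n2209 = n2209 := d7_1 D2209 (iv D2209) F8832
theorem F9776 : act 2 n2209 = n2020 := d20_1 D2209 (iv D2020) (iv F8833)
theorem F9777 : act 4 n2209 = n1976 := d29_1 D2209 (iv D1976) (iv F8834)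
theorem F9778 : act 6 n2209 = n1975 := d34_1 D2209 (iv D1975) (iv F8835)
theorem F9779 : act 7 n2209 = n2118 := d35_1 D2209 (iv D2118) F8482 (iv F7975) D1973
def n2210 : Q := act 2 n1974
theorem D2210 : act 2 n1974 = n2210 := rfl
theorem F9780 : act 0 n2210 = n2210 := d1_1 D2210 (iv D2210) F8836
theorem F9781 : act 3 n2210 = n2021 := d15_2 D1974 D2210 (iv D2021) (iv D1796) (iv F7977)
theorem F9782 : act 5 n2210 = n2073 := d17_2 (iv F8837) D2210 (iv D2073)
theorem F9783 : act 7 n2210 = n2210 := d19_2 F8838 D2210 (iv D2210)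
def n2211 : Q := act 8 n1974
theorem D2211 : act 8 n1974 = n2211 := rfl
theorem F9784 : act 0 n2211 = n2211 := d7_1 D2211 (iv D2211) F8836
theorem F9785 : act 3 n2211 = n1975 := d25_1 D2211 (iv D1975) D1974
theorem F9786 : act 5 n2211 = n2074 := d32_1 D2211 (iv D2074) (iv F8837)
def n2212 : Q := act 1 n1977
theorem D2212 : act 1 n1977 = n2212 := rfl
theorem F9787 : act 0 n2212 = n2212 := d0_1 D2212 (iv D2212) F8848 F7993 (iv F8848)
theorem F9788 : act 2 n2212 = n2212 := d8_2 D1977 D2212 (iv D2212) (iv D1977) F7988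
theorem F9789 : act 3 n2212 = n2212 := d9_2 F8849 D2212 (iv D2212)
theorem F9790 : act 4 n2212 = n2212 := d10_2 F8850 D2212 (iv D2212)
theorem F9791 : act 5 n2212 = n2030 := d11_2 (iv F8851) D2212 F9076
theorem F9792 : act 6 n2212 = n2212 := d12_2 F8852 D2212 (iv D2212)
theorem F9793 : act 8 n2212 = n2212 := d14_2 F8853 D2212 (iv D2212)
def n2213 : Q := act 7 n1977
theorem D2213 : act 7 n1977 = n2213 := rfl
theorem F9794 : act 0 n2213 = n1979 := d6_1 D2213 (iv D1979) (iv F8848)
theorem F9795 : act 2 n2213 = n1978 := d19_1 D2213 (iv D1978) D1977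
theorem F9796 : act 4 n2213 = n2213 := d28_1 D2213 (iv D2213) F8850
theorem F9797 : act 5 n2213 = n2125 := d31_1 D2213 (iv D2125) (iv F8851)
theorem F9798 : act 6 n2213 = n2213 := d33_1 D2213 (iv D2213) F8852
def n2214 : Q := act 8 n1978
theorem D2214 : act 8 n1978 = n2214 := rfl
theorem F9799 : act 0 n2214 = n1980 := d7_1 D2214 (iv D1980) (iv F8854)
theorem F9800 : act 1 n2214 = n2214 := d14_1 D2214 (iv D2214) F8855
theorem F9801 : act 3 n2214 = n1986 := d25_1 D2214 (iv D1986) (iv F8856)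
theorem F9802 : act 4 n2214 = n2214 := d29_1 D2214 (iv D2214) F8857
theorem F9803 : act 5 n2214 = n2129 := d32_1 D2214 (iv D2129) (iv F8858)
theorem F9804 : act 6 n2214 = n2214 := d34_1 D2214 (iv D2214) F8859
theorem F9805 : act 7 n2214 = n2214 := d35_1 D2214 (iv D2214) (iv D1978) F7992 D1978
def n2215 : Q := act 3 n1979
theorem D2215 : act 3 n1979 = n2215 := rfl
theorem F9806 : act 1 n2215 = n2215 := d9_1 D2215 (iv D2215) F8860
theorem F9807 : act 2 n2215 = n1989 := d15_1 D2215 (iv D1989) F8029 (iv F8000) (iv F8861)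
theorem F9808 : act 5 n2215 = n2132 := d22_2 (iv F8863) D2215 (iv D2132)
theorem F9809 : act 6 n2215 = n2215 := d23_2 F8864 D2215 (iv D2215)
theorem F9810 : act 7 n2215 = n2215 := d24_2 D1979 D2215 (iv D2215) (iv D1979) F7994
def n2216 : Q := act 8 n1979
theorem D2216 : act 8 n1979 = n2216 := rfl
theorem F9811 : act 1 n2216 = n2216 := d14_1 D2216 (iv D2216) F8860
theorem F9812 : act 2 n2216 = n1980 := d20_1 D2216 (iv D1980) (iv F8861)
theorem F9813 : act 4 n2216 = n2216 := d29_1 D2216 (iv D2216) F8862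
theorem F9814 : act 5 n2216 = n2133 := d32_1 D2216 (iv D2133) (iv F8863)
theorem F9815 : act 6 n2216 = n2216 := d34_1 D2216 (iv D2216) F8864
theorem F9816 : act 7 n2216 = n2216 := d35_1 D2216 (iv D2216) (iv D1979) F7998 D1979
def n2217 : Q := act 5 n1981
theorem D2217 : act 5 n1981 = n2217 := rfl
theorem F9817 : act 0 n2217 = n2151 := d4_1 D2217 (iv D2151) (iv F8871)
theorem F9818 : act 1 n2217 = n1982 := d11_1 D2217 (iv D1982) D1981
theorem F9819 : act 2 n2217 = n2217 := d17_1 D2217 (iv D2217) F8872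
theorem F9820 : act 3 n2217 = n2217 := d22_1 D2217 (iv D2217) F8873
theorem F9821 : act 8 n2217 = n1994 := d32_2 (iv F8876) D2217 (iv D1994)
theorem F9822 : act 6 n2146 = n2217 := d12_0 F9818 (iv F8881) D2146
def n2218 : Q := act 7 n1981
theorem D2218 : act 7 n1981 = n2218 := rfl
theorem F9823 : act 0 n2218 = n2063 := d6_1 D2218 F9225 (iv F8871)
theorem F9824 : act 1 n2218 = n1983 := d13_1 D2218 (iv D1983) D1981
theorem F9825 : act 2 n2218 = n2218 := d19_1 D2218 (iv D2218) F8872
theorem F9826 : act 4 n2218 = n2051 := d28_1 D2218 F9179 (iv F8874)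
theorem F9827 : act 6 n2218 = n2218 := d33_1 D2218 (iv D2218) F8875
def n2219 : Q := act 4 n1982
theorem D2219 : act 4 n1982 = n2219 := rfl
theorem F9828 : act 0 n2219 = n1987 := d3_1 D2219 (iv D1987) (iv F8877)
theorem F9829 : act 2 n2219 = n1984 := d16_1 D2219 (iv D1984) (iv F8878)
theorem F9830 : act 5 n2219 = n2076 := d26_2 D1982 D2219 (iv D2076) (iv D1845) (iv F8013)
theorem F9831 : act 6 n2219 = n2119 := d27_2 F8881 D2219 F9420
theorem F9832 : act 8 n2219 = n1996 := d29_2 (iv F8880) D2219 (iv D1996)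
theorem F9833 : act 3 n2219 = n2104 := d37_3 (iv D1983) D1982 D2219 F9382 F8462 F7589 (iv F8400) F8399 F7593 F6795 F6114 (iv F6904) (iv F7662) (iv D1687) F6866 (iv F7656) F7655 F6929 F6928 F6927 (iv F6489) (iv D1403) (iv D1230) F4926 F4358 (iv D822) F3204 F2739 F2737 D576 D729 F3485 F3484 (iv F3307) F3310 (iv F3344) (iv F4030) (iv F4743) F4742 (iv F5524) (iv F6316) (iv F6961) F6960 F6959 (iv F7750) (iv F8599) F8598 F7820 D1726 F7832 F7831 D1728 F7836 F7107 (iv F7411) D1817 F8235 (iv F7914) F7913 (iv F8733) F8732 (iv F8882)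
def n2220 : Q := act 7 n1982
theorem D2220 : act 7 n1982 = n2220 := rfl
theorem F9834 : act 0 n2220 = n1988 := d6_1 D2220 (iv D1988) (iv F8877)
theorem F9835 : act 2 n2220 = n1985 := d19_1 D2220 (iv D1985) (iv F8878)
theorem F9836 : act 5 n2220 = n1983 := d31_1 D2220 (iv D1983) D1982
theorem F9837 : act 6 n2220 = n2130 := d33_1 D2220 F9458 F8881
def n2221 : Q := act 3 n1983
theorem D2221 : act 3 n1983 = n2221 := rfl
theorem F9838 : act 0 n2221 = n1989 := d2_1 D2221 (iv D1989) (iv F8882)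
theorem F9839 : act 6 n2221 = n2221 := d23_2 F8885 D2221 (iv D2221)
theorem F9840 : act 7 n2221 = n2221 := d24_2 D1983 D2221 (iv D2221) (iv D1983) F8012
def n2222 : Q := act 8 n1983
theorem D2222 : act 8 n1983 = n2222 := rfl
theorem F9841 : act 0 n2222 = n1990 := d7_1 D2222 (iv D1990) (iv F8882)
theorem F9842 : act 2 n2222 = n1986 := d20_1 D2222 (iv D1986) (iv F8883)
theorem F9843 : act 4 n2222 = n2078 := d29_1 D2222 (iv D2078) (iv F8884)
theorem F9844 : act 6 n2222 = n2222 := d34_1 D2222 (iv D2222) F8885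
theorem F9845 : act 7 n2222 = n2000 := d35_1 D2222 (iv D2000) (iv D1780) (iv F8015) D1983
def n2223 : Q := act 7 n1984
theorem D2223 : act 7 n1984 = n2223 := rfl
theorem F9846 : act 0 n2223 = n1991 := d6_1 D2223 (iv D1991) (iv F8886)
theorem F9847 : act 1 n2223 = n2223 := d13_1 D2223 (iv D2223) F8887
theorem F9848 : act 3 n2223 = n2099 := d24_1 D2223 (iv D2099) F8427 (iv F8137) (iv F8888)
theorem F9849 : act 4 n2223 = n1985 := d28_1 D2223 (iv D1985) D1984
theorem F9850 : act 5 n2223 = n2079 := d31_1 D2223 (iv D2079) (iv F8889)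
theorem F9851 : act 6 n2223 = n2100 := d33_1 D2223 F9370 (iv F8890)
def n2224 : Q := act 8 n1985
theorem D2224 : act 8 n1985 = n2224 := rfl
theorem F9852 : act 0 n2224 = n1992 := d7_1 D2224 (iv D1992) (iv F8892)
theorem F9853 : act 1 n2224 = n2224 := d14_1 D2224 (iv D2224) F8893
theorem F9854 : act 3 n2224 = n2129 := d25_1 D2224 (iv D2129) (iv F8894)
theorem F9855 : act 5 n2224 = n1986 := d32_1 D2224 (iv D1986) (iv F8895)
theorem F9856 : act 6 n2224 = n2131 := d34_1 D2224 (iv D2131) (iv F8896)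
theorem F9857 : act 7 n2224 = n2004 := d35_1 D2224 (iv D2004) (iv D1783) (iv F8019) D1985
def n2225 : Q := act 3 n1987
theorem D2225 : act 3 n1987 = n2225 := rfl
theorem F9858 : act 0 n2225 = n2104 := d2_1 D2225 (iv F9833) F9828
theorem F9859 : act 2 n2225 = n2023 := d15_1 D2225 (iv D2023) F8141 (iv F8033) (iv F8902)

end Cfsg.Agent.Helper17.Fi22aTC
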