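import Cfsg.Agent.Helper17.Fi22aTC.Facts1

set_option autoImplicit false
set_option linter.all false

noncomputable section

namespace Cfsg.Agent.Helper17.Fi22aTC

theorem F9860 : act 4 n2225 = n2225 := d21_2 D1987 D2225 (iv D2225) (iv D1987) F8026
theorem F9861 : act 5 n2225 = n2081 := d22_2 (iv F8903) D2225 (iv D2081)
theorem F9862 : act 6 n2225 = n2122 := d23_2 (iv F8904) D2225 F9426
theorem F9863 : act 8 n2225 = n2005 := d25_2 (iv F8905) D2225 (iv D2005)
def n2226 : Q := act 7 n1987
theorem D2226 : act 7 n1987 = n2226 := rfl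
theorem F9864 : act 2 n2226 = n1991 := d19_1 D2226 (iv D1991) (iv F8902)
theorem F9865 : act 4 n2226 = n1988 := d28_1 D2226 (iv D1988) D1987
theorem F9866 : act 5 n2226 = n2083 := d31_1 D2226 (iv D2083) (iv F8903)
theorem F9867 : act 6 n2226 = n2115 := d33_1 D2226 F9410 (iv F8904)
def n2227 : Q := act 3 n1988
theorem D2227 : act 3 n1988 = n2227 := rfl
theorem F9868 : act 2 n2227 = n2132 := d15_1 D2227 (iv D2132) F8532 (iv F8038) (iv F8906)
theorem F9869 : act 5 n2227 = n1989 := d22_2 (iv F8907) D2227 (iv D1989)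
theorem F9870 : act 6 n2227 = n2134 := d23_2 (iv F8908) D2227 F9471
theorem F9871 : act 7 n2227 = n2227 := d24_2 D1988 D2227 (iv D2227) (iv D1988) F8026
def n2228 : Q := act 8 n1988
theorem D2228 : act 8 n1988 = n2228 := rfl
theorem F9872 : act 2 n2228 = n1992 := d20_1 D2228 (iv D1992) (iv F8906)
theorem F9873 : act 5 n2228 = n1990 := d32_1 D2228 (iv D1990) (iv F8907)
theorem F9874 : act 6 n2228 = n2144 := d34_1 D2228 (iv D2144) (iv F8908)
theorem F9875 : act 7 n2228 = n2010 := d35_1 D2228 (iv D2010) (iv D1787) (iv F8027) D1988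
def n2229 : Q := act 4 n1989
theorem D2229 : act 4 n1989 = n2229 := rfl
theorem F9876 : act 1 n2229 = n1999 := d10_1 D2229 (iv F9641) F9639
theorem F9877 : act 3 n2229 = n1995 := d21_1 D2229 F8936 (iv D1853) (iv F8030) D1989
theorem F9878 : act 6 n2229 = n2229 := d27_2 F8909 D2229 (iv D2229)
theorem F9879 : act 7 n2229 = n2229 := d28_2 F8910 D2229 (iv D2229)
def n2230 : Q := act 8 n1989
theorem D2230 : act 8 n1989 = n2230 := rfl
theorem F9880 : act 3 n2230 = n1990 := d25_1 D2230 (iv D1990) D1989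
theorem F9881 : act 6 n2230 = n2230 := d34_1 D2230 (iv D2230) F8909
def n2231 : Q := act 8 n1991
theorem D2231 : act 8 n1991 = n2231 := rfl
theorem F9882 : act 1 n2231 = n1993 := d14_1 D2231 (iv D1993) (iv F8915)
theorem F9883 : act 3 n2231 = n2114 := d25_1 D2231 (iv D2114) (iv F8916)
theorem F9884 : act 4 n2231 = n1992 := d29_1 D2231 (iv D1992) (iv F8917)
theorem F9885 : act 5 n2231 = n2090 := d32_1 D2231 (iv D2090) (iv F8918)
theorem F9886 : act 6 n2231 = n2116 := d34_1 D2231 (iv D2116) (iv F8919)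
theorem F9887 : act 7 n2231 = n2016 := d35_1 D2231 (iv D2016) (iv D1791) (iv F8036) D1991
def n2232 : Q := act 4 n1994
theorem D2232 : act 4 n1994 = n2232 := rfl
theorem F9888 : act 1 n2232 = n1996 := d10_1 D2232 (iv D1996) (iv F8931)
theorem F9889 : act 2 n2232 = n2232 := d16_1 D2232 (iv D2232) F8932
theorem F9890 : act 5 n2232 = n2094 := d26_2 D1994 D2232 (iv D2094) (iv D1863) (iv F8057)
def n2233 : Q := act 6 n1994
theorem D2233 : act 6 n1994 = n2233 := rfl
theorem F9891 : act 1 n2233 = n1997 := d12_1 D2233 (iv D1997) (iv F8931)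
theorem F9892 : act 2 n2233 = n2233 := d18_1 D2233 (iv D2233) F8932
theorem F9893 : act 3 n2233 = n2233 := d23_1 D2233 (iv D2233) F8933
theorem F9894 : act 5 n2233 = n2233 := d30_1 D2233 (iv D2233) (iv D1994) F8058 D1994
theorem F9895 : act 8 n2233 = n2146 := d34_2 F9821 D2233 F9822
def n2234 : Q := act 7 n1994
theorem D2234 : act 7 n1994 = n2234 := rfl
theorem F9896 : act 1 n2234 = n1998 := d13_1 D2234 (iv D1998) (iv F8931)
theorem F9897 : act 2 n2234 = n2234 := d19_1 D2234 (iv D2234) F8932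
theorem F9898 : act 5 n2234 = n1995 := d31_1 D2234 (iv D1995) D1994
def n2235 : Q := act 8 n1995
theorem D2235 : act 8 n1995 = n2235 := rfl
theorem F9899 : act 1 n2235 = n2000 := d14_1 D2235 (iv D2000) (iv F8934)
theorem F9900 : act 2 n2235 = n2235 := d20_1 D2235 (iv D2235) F8935
theorem F9901 : act 4 n2235 = n2087 := d29_1 D2235 (iv D2087) (iv F8936)
theorem F9902 : act 6 n2235 = n2235 := d34_1 D2235 (iv D2235) F8937
def n2236 : Q := act 3 n1996
theorem D2236 : act 3 n1996 = n2236 := rfl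
theorem F9903 : act 0 n2236 = n2005 := d2_1 D2236 (iv D2005) (iv F8938)
theorem F9904 : act 2 n2236 = n2024 := d15_1 D2236 (iv D2024) F8148 (iv F8068) (iv F8939)
theorem F9905 : act 4 n2236 = n2236 := d21_2 D1996 D2236 (iv D2236) (iv D1996) F8061
theorem F9906 : act 5 n2236 = n2082 := d22_2 (iv F8940) D2236 F9300
theorem F9907 : act 8 n2236 = n2104 := d25_2 F9832 D2236 (iv F9833)
theorem F9908 : act 6 n2027 = n2236 := d30_0 F9906 (iv D2082) (iv F8903) F8904 (iv F9065)
def n2237 : Q := act 6 n1996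
theorem D2237 : act 6 n1996 = n2237 := rfl
theorem F9909 : act 0 n2237 = n2006 := d5_1 D2237 (iv D2006) (iv F8938)
theorem F9910 : act 2 n2237 = n2001 := d18_1 D2237 (iv D2001) (iv F8939)
theorem F9911 : act 3 n2237 = n2027 := d23_1 D2237 F9908 (iv D2236)
theorem F9912 : act 4 n2237 = n1997 := d27_1 D2237 (iv D1997) D1996
theorem F9913 : act 5 n2237 = n2122 := d30_1 D2237 (iv F9862) F9861 (iv F9297) (iv F8940)
theorem F9914 : act 8 n2237 = n2119 := d34_2 F9832 D2237 (iv F9831)
def n2238 : Q := act 7 n1996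
theorem D2238 : act 7 n1996 = n2238 := rfl
theorem F9915 : act 0 n2238 = n2007 := d6_1 D2238 (iv D2007) (iv F8938)
theorem F9916 : act 2 n2238 = n2002 := d19_1 D2238 (iv D2002) (iv F8939)
theorem F9917 : act 4 n2238 = n1998 := d28_1 D2238 (iv D1998) D1996
theorem F9918 : act 5 n2238 = n2096 := d31_1 D2238 (iv D2096) (iv F8940)
def n2239 : Q := act 7 n1997
theorem D2239 : act 7 n1997 = n2239 := rfl
theorem F9919 : act 0 n2239 = n2008 := d6_1 D2239 (iv D2008) (iv F8941)
theorem F9920 : act 2 n2239 = n2003 := d19_1 D2239 (iv D2003) (iv F8942)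
theorem F9921 : act 5 n2239 = n2239 := d31_1 D2239 (iv D2239) F8944
theorem F9922 : act 6 n2239 = n1998 := d33_1 D2239 (iv D1998) D1997
def n2240 : Q := act 3 n1998
theorem D2240 : act 3 n1998 = n2240 := rfl
theorem F9923 : act 0 n2240 = n2009 := d2_1 D2240 (iv D2009) (iv F8946)
theorem F9924 : act 2 n2240 = n2240 := d15_1 D2240 (iv D2240) F8947 F8077 (iv F8947)
theorem F9925 : act 5 n2240 = n1999 := d22_2 (iv F8948) D2240 (iv D1999)
theorem F9926 : act 7 n2240 = n2240 := d24_2 D1998 D2240 (iv D2240) (iv D1998) F8061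
def n2241 : Q := act 8 n1998
theorem D2241 : act 8 n1998 = n2241 := rfl
theorem F9927 : act 0 n2241 = n2010 := d7_1 D2241 (iv D2010) (iv F8946)
theorem F9928 : act 2 n2241 = n2004 := d20_1 D2241 (iv D2004) (iv F8947)
theorem F9929 : act 5 n2241 = n2000 := d32_1 D2241 (iv D2000) (iv F8948)
def n2242 : Q := act 8 n1999
theorem D2242 : act 8 n1999 = n2242 := rfl
theorem F9930 : act 0 n2242 = n2012 := d7_1 D2242 (iv D2012) (iv F8949)
theorem F9931 : act 2 n2242 = n2242 := d20_1 D2242 (iv D2242) F8950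
theorem F9932 : act 3 n2242 = n2000 := d25_1 D2242 (iv D2000) D1999
theorem F9933 : act 6 n2242 = n2242 := d34_1 D2242 (iv D2242) F8951
def n2243 : Q := act 7 n2001
theorem D2243 : act 7 n2001 = n2243 := rfl
theorem F9934 : act 0 n2243 = n2014 := d6_1 D2243 (iv D2014) (iv F8957)
theorem F9935 : act 1 n2243 = n2243 := d13_1 D2243 (iv D2243) F8958
theorem F9936 : act 3 n2243 = n2026 := d24_1 D2243 (iv D2026) (iv D1804) F8159 (iv F8959)
theorem F9937 : act 4 n2243 = n2003 := d28_1 D2243 (iv D2003) (iv F8960)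
theorem F9938 : act 5 n2243 = n2120 := d31_1 D2243 F9423 F8962
theorem F9939 : act 6 n2243 = n2002 := d33_1 D2243 (iv D2002) D2001
def n2244 : Q := act 3 n2002
theorem D2244 : act 3 n2002 = n2244 := rfl
theorem F9940 : act 0 n2244 = n2015 := d2_1 D2244 (iv D2015) (iv F8963)
theorem F9941 : act 1 n2244 = n2244 := d9_1 D2244 (iv D2244) F8964
theorem F9942 : act 4 n2244 = n2244 := d21_2 (iv F8965) D2244 (iv D2244) F8965 F8077
theorem F9943 : act 5 n2244 = n2100 := d22_2 (iv F8966) D2244 (iv D2100)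
theorem F9944 : act 6 n2244 = n2026 := d23_2 F9939 D2244 (iv F9936)
theorem F9945 : act 7 n2244 = n2025 := d24_2 D2002 D2244 (iv D2025) (iv D1803) (iv F8068)
def n2245 : Q := act 8 n2002
theorem D2245 : act 8 n2002 = n2245 := rfl
theorem F9946 : act 0 n2245 = n2016 := d7_1 D2245 (iv D2016) (iv F8963)
theorem F9947 : act 1 n2245 = n2245 := d14_1 D2245 (iv D2245) F8964
theorem F9948 : act 4 n2245 = n2004 := d29_1 D2245 (iv D2004) (iv F8965)
theorem F9949 : act 5 n2245 = n2101 := d32_1 D2245 (iv D2101) (iv F8966)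
def n2246 : Q := act 8 n2003
theorem D2246 : act 8 n2003 = n2246 := rfl
theorem F9950 : act 0 n2246 = n2017 := d7_1 D2246 (iv D2017) (iv F8967)
theorem F9951 : act 1 n2246 = n2246 := d14_1 D2246 (iv D2246) F8968
theorem F9952 : act 3 n2246 = n2246 := d25_1 D2246 (iv D2246) F8969
theorem F9953 : act 5 n2246 = n2246 := d32_1 D2246 (iv D2246) F8970
theorem F9954 : act 6 n2246 = n2004 := d34_1 D2246 (iv D2004) (iv F8971)
theorem F9955 : act 7 n2246 = n2131 := d35_1 D2246 (iv D2131) F8520 (iv F8074) D2003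
def n2247 : Q := act 6 n2005
theorem D2247 : act 6 n2005 = n2247 := rfl
theorem F9956 : act 0 n2247 = n2027 := d5_1 D2247 F9908 F9903
theorem F9957 : act 2 n2247 = n2025 := d18_1 D2247 F9059 (iv F8976)
theorem F9958 : act 3 n2247 = n2006 := d23_1 D2247 (iv D2006) D2005
theorem F9959 : act 4 n2247 = n2247 := d27_1 D2247 (iv D2247) F8977
theorem F9960 : act 5 n2247 = n2119 := d30_1 D2247 (iv F9831) F9830 F9273 (iv F8978)
theorem F9961 : act 8 n2247 = n2122 := d34_2 F9863 D2247 (iv F9862)
def n2248 : Q := act 7 n2005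
theorem D2248 : act 7 n2005 = n2248 := rfl
theorem F9962 : act 2 n2248 = n2026 := d19_1 D2248 (iv D2026) (iv F8976)
theorem F9963 : act 4 n2248 = n2248 := d28_1 D2248 (iv D2248) F8977
theorem F9964 : act 5 n2248 = n2103 := d31_1 D2248 (iv D2103) (iv F8978)
def n2249 : Q := act 5 n2006
theorem D2249 : act 5 n2006 = n2249 := rfl
theorem F9965 : act 0 n2249 = n2122 := d4_1 D2249 (iv F9913) F9909
theorem F9966 : act 2 n2249 = n2013 := d17_1 D2249 (iv D2013) (iv F8979)
theorem F9967 : act 3 n2249 = n2119 := d22_1 D2249 (iv F9960) F9958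
theorem F9968 : act 4 n2249 = n2249 := d26_1 D2249 (iv D2249) F8980 F8088 (iv F8980)
theorem F9969 : act 6 n2249 = n2104 := d30_2 D2006 D2249 (iv D2104) (iv D1873) (iv F8085)
theorem F9970 : act 8 n2249 = n2027 := d32_2 (iv F8981) D2249 F9065
def n2250 : Q := act 7 n2006
theorem D2250 : act 7 n2006 = n2250 := rfl
theorem F9971 : act 2 n2250 = n2014 := d19_1 D2250 (iv D2014) (iv F8979)
theorem F9972 : act 4 n2250 = n2008 := d28_1 D2250 (iv D2008) (iv F8980)
theorem F9973 : act 6 n2250 = n2007 := d33_1 D2250 (iv D2007) D2006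
def n2251 : Q := act 3 n2007
theorem D2251 : act 3 n2007 = n2251 := rfl
theorem F9974 : act 5 n2251 = n2106 := d22_2 (iv F8984) D2251 (iv D2106)
def n2252 : Q := act 8 n2007
theorem D2252 : act 8 n2007 = n2252 := rfl
theorem F9975 : act 2 n2252 = n2016 := d20_1 D2252 (iv D2016) (iv F8982)
theorem F9976 : act 4 n2252 = n2010 := d29_1 D2252 (iv D2010) (iv F8983)
theorem F9977 : act 5 n2252 = n2107 := d32_1 D2252 (iv D2107) (iv F8984)
def n2253 : Q := act 3 n2008
theorem D2253 : act 3 n2008 = n2253 := rfl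
theorem F9978 : act 2 n2253 = n2253 := d15_1 D2253 (iv D2253) F8985 F8106 (iv F8985)
theorem F9979 : act 5 n2253 = n2253 := d22_2 F8986 D2253 (iv D2253)
theorem F9980 : act 6 n2253 = n2009 := d23_2 (iv F8987) D2253 (iv D2009)
theorem F9981 : act 7 n2253 = n2253 := d24_2 D2008 D2253 (iv D2253) (iv D2008) F8087
def n2254 : Q := act 8 n2008
theorem D2254 : act 8 n2008 = n2254 := rfl
theorem F9982 : act 2 n2254 = n2017 := d20_1 D2254 (iv D2017) (iv F8985)
theorem F9983 : act 5 n2254 = n2254 := d32_1 D2254 (iv D2254) F8986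
theorem F9984 : act 6 n2254 = n2010 := d34_1 D2254 (iv D2010) (iv F8987)
theorem F9985 : act 7 n2254 = n2144 := d35_1 D2254 (iv D2144) F8569 (iv F8089) D2008
def n2255 : Q := act 4 n2009
theorem D2255 : act 4 n2009 = n2255 := rfl
theorem F9986 : act 2 n2255 = n2255 := d16_1 D2255 (iv D2255) F8988
theorem F9987 : act 7 n2255 = n2255 := d28_2 F8990 D2255 (iv D2255)
def n2256 : Q := act 8 n2009
theorem D2256 : act 8 n2009 = n2256 := rfl
theorem F9988 : act 2 n2256 = n2256 := d20_1 D2256 (iv D2256) F8988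
theorem F9989 : act 3 n2256 = n2010 := d25_1 D2256 (iv D2010) D2009
theorem F9990 : act 5 n2256 = n2012 := d32_1 D2256 (iv D2012) (iv F8989)
def n2257 : Q := act 5 n2011
theorem D2257 : act 5 n2011 = n2257 := rfl
theorem F9991 : act 2 n2257 = n2257 := d17_1 D2257 (iv D2257) F8993
theorem F9992 : act 3 n2257 = n2112 := d22_1 D2257 (iv D2112) (iv F8994)
theorem F9993 : act 7 n2257 = n2257 := d31_2 F8996 D2257 (iv D2257)
def n2258 : Q := act 8 n2011
theorem D2258 : act 8 n2011 = n2258 := rfl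
theorem F9994 : act 2 n2258 = n2258 := d20_1 D2258 (iv D2258) F8993
theorem F9995 : act 3 n2258 = n2113 := d25_1 D2258 (iv D2113) (iv F8994)
theorem F9996 : act 4 n2258 = n2012 := d29_1 D2258 (iv D2012) D2011
theorem F9997 : act 6 n2258 = n2258 := d34_1 D2258 (iv D2258) F8995
def n2259 : Q := act 7 n2012
theorem D2259 : act 7 n2012 = n2259 := rfl
theorem F9998 : act 2 n2259 = n2259 := d19_1 D2259 (iv D2259) F8997
theorem F9999 : act 6 n2259 = n2259 := d33_1 D2259 (iv D2259) F8999
theorem F10000 : act 8 n2259 = n2259 := d35_2 D2012 D2259 (iv D2259) (iv D2012) F8094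
def n2260 : Q := act 7 n2013
theorem D2260 : act 7 n2013 = n2260 := rfl
theorem F10001 : act 0 n2260 = n2120 := d6_1 D2260 F9423 (iv F9000)
theorem F10002 : act 1 n2260 = n2018 := d13_1 D2260 (iv D2018) (iv F9001)
theorem F10003 : act 3 n2260 = n2088 := d24_1 D2260 (iv D2088) F8380 (iv F8175) (iv F9002)
theorem F10004 : act 4 n2260 = n2260 := d28_1 D2260 (iv D2260) F9003
theorem F10005 : act 5 n2260 = n2014 := d31_1 D2260 (iv D2014) D2013
theorem F10006 : act 6 n2260 = n2089 := d33_1 D2260 F9327 (iv F9004)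
def n2261 : Q := act 3 n2014
theorem D2261 : act 3 n2014 = n2261 := rfl
theorem F10007 : act 0 n2261 = n2026 := d2_1 D2261 (iv F9936) F9934
theorem F10008 : act 1 n2261 = n2019 := d9_1 D2261 (iv D2019) (iv F9006)
theorem F10009 : act 4 n2261 = n2261 := d21_2 (iv F9007) D2261 (iv D2261) F9007 F8106
theorem F10010 : act 5 n2261 = n2088 := d22_2 F10005 D2261 (iv F10003)
theorem F10011 : act 6 n2261 = n2015 := d23_2 (iv F9008) D2261 (iv D2015)
theorem F10012 : act 7 n2261 = n2024 := d24_2 D2014 D2261 (iv D2024) F8151 (iv F8099)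
def n2262 : Q := act 8 n2014
theorem D2262 : act 8 n2014 = n2262 := rfl
theorem F10013 : act 1 n2262 = n2020 := d14_1 D2262 (iv D2020) (iv F9006)
theorem F10014 : act 4 n2262 = n2017 := d29_1 D2262 (iv D2017) (iv F9007)
theorem F10015 : act 6 n2262 = n2016 := d34_1 D2262 (iv D2016) (iv F9008)
theorem F10016 : act 7 n2262 = n2116 := d35_1 D2262 (iv D2116) F8470 (iv F8101) D2014
def n2263 : Q := act 2 n2015
theorem D2263 : act 2 n2015 = n2263 := rfl
theorem F10017 : act 4 n2263 = n2263 := d16_2 F9010 D2263 (iv D2263)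
theorem F10018 : act 5 n2263 = n2115 := d17_2 (iv F9011) D2263 (iv D2115)
theorem F10019 : act 7 n2263 = n2027 := d19_2 (iv F9012) D2263 (iv D2027)
def n2264 : Q := act 8 n2015
theorem D2264 : act 8 n2015 = n2264 := rfl
theorem F10020 : act 1 n2264 = n2022 := d14_1 D2264 (iv D2022) (iv F9009)
theorem F10021 : act 3 n2264 = n2016 := d25_1 D2264 (iv D2016) D2015
theorem F10022 : act 4 n2264 = n2264 := d29_1 D2264 (iv D2264) F9010
theorem F10023 : act 5 n2264 = n2116 := d32_1 D2264 (iv D2116) (iv F9011)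
def n2265 : Q := act 8 n2018
theorem D2265 : act 8 n2018 = n2265 := rfl
theorem F10024 : act 0 n2265 = n2265 := d7_1 D2265 (iv D2265) F9021
theorem F10025 : act 3 n2265 = n2092 := d25_1 D2265 (iv D2092) (iv F9022)
theorem F10026 : act 4 n2265 = n2265 := d29_1 D2265 (iv D2265) F9023
theorem F10027 : act 5 n2265 = n2020 := d32_1 D2265 (iv D2020) (iv F9024)
theorem F10028 : act 6 n2265 = n2093 := d34_1 D2265 (iv D2093) (iv F9025)
theorem F10029 : act 7 n2265 = n2022 := d35_1 D2265 (iv D2022) F8123 (iv F8116) D2018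
def n2266 : Q := act 2 n2019
theorem D2266 : act 2 n2019 = n2266 := rfl
theorem F10030 : act 0 n2266 = n2266 := d1_1 D2266 (iv D2266) F9026
theorem F10031 : act 4 n2266 = n2266 := d16_2 F9027 D2266 (iv D2266)
theorem F10032 : act 5 n2266 = n2042 := d17_2 (iv F9028) D2266 F9138
theorem F10033 : act 6 n2266 = n2021 := d18_2 (iv F9029) D2266 (iv D2021)
theorem F10034 : act 7 n2266 = n2028 := d19_2 (iv F9030) D2266 (iv D2028)
def n2267 : Q := act 8 n2019
theorem D2267 : act 8 n2019 = n2267 := rfl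
theorem F10035 : act 0 n2267 = n2267 := d7_1 D2267 (iv D2267) F9026
theorem F10036 : act 3 n2267 = n2020 := d25_1 D2267 (iv D2020) D2019
theorem F10037 : act 4 n2267 = n2267 := d29_1 D2267 (iv D2267) F9027
theorem F10038 : act 5 n2267 = n2092 := d32_1 D2267 (iv D2092) (iv F9028)
theorem F10039 : act 6 n2267 = n2022 := d34_1 D2267 (iv D2022) (iv F9029)
theorem F10040 : act 7 n2267 = n2093 := d35_1 D2267 (iv D2093) F8400 (iv F8184) (iv F9030)
def n2268 : Q := act 1 n2021
theorem D2268 : act 1 n2021 = n2268 := rfl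
theorem F10041 : act 4 n2268 = n2268 := d10_2 F9036 D2268 (iv D2268)
theorem F10042 : act 5 n2268 = n2117 := d11_2 (iv F9037) D2268 (iv D2117)
theorem F10043 : act 7 n2268 = n2029 := d13_2 (iv F9038) D2268 (iv D2029)
def n2269 : Q := act 8 n2021
theorem D2269 : act 8 n2021 = n2269 := rfl
theorem F10044 : act 0 n2269 = n2269 := d7_1 D2269 (iv D2269) F9035
theorem F10045 : act 2 n2269 = n2022 := d20_1 D2269 (iv D2022) D2021
theorem F10046 : act 4 n2269 = n2269 := d29_1 D2269 (iv D2269) F9036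
theorem F10047 : act 5 n2269 = n2118 := d32_1 D2269 (iv D2118) (iv F9037)
def n2270 : Q := act 7 n2023
theorem D2270 : act 7 n2023 = n2270 := rfl
theorem F10048 : act 0 n2270 = n2089 := d6_1 D2270 F9327 (iv F9043)
theorem F10049 : act 1 n2270 = n2270 := d13_1 D2270 (iv D2270) F9044
theorem F10050 : act 3 n2270 = n2079 := d24_1 D2270 (iv D2079) F8349 (iv F8144) D2023
theorem F10051 : act 4 n2270 = n2270 := d28_1 D2270 (iv D2270) F9045
theorem F10052 : act 5 n2270 = n2099 := d31_1 D2270 (iv D2099) (iv F9046)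
theorem F10053 : act 6 n2270 = n2120 := d33_1 D2270 F9423 (iv F9047)
def n2271 : Q := act 8 n2026
theorem D2271 : act 8 n2026 = n2271 := rfl
theorem F10054 : act 1 n2271 = n2271 := d14_1 D2271 (iv D2271) F9061
theorem F10055 : act 4 n2271 = n2271 := d29_1 D2271 (iv D2271) F9062
theorem F10056 : act 5 n2271 = n2121 := d32_1 D2271 (iv D2121) (iv F9063)
def n2272 : Q := act 1 n2027
theorem D2272 : act 1 n2027 = n2272 := rfl
theorem F10057 : act 2 n2272 = n2029 := d8_2 D2027 D2272 (iv D2029) (iv D1808) (iv F8177)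
theorem F10058 : act 4 n2272 = n2272 := d10_2 F9064 D2272 (iv D2272)
theorem F10059 : act 5 n2272 = n2123 := d11_2 (iv F9065) D2272 (iv D2123)
def n2273 : Q := act 1 n2028
theorem D2273 : act 1 n2028 = n2273 := rfl
theorem F10060 : act 3 n2273 = n2273 := d9_2 F9067 D2273 (iv D2273)
theorem F10061 : act 4 n2273 = n2273 := d10_2 F9068 D2273 (iv D2273)
theorem F10062 : act 5 n2273 = n2038 := d11_2 (iv F9069) D2273 F9120
theorem F10063 : act 6 n2273 = n2029 := d12_2 (iv F9070) D2273 (iv D2029)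
theorem F10064 : act 8 n2273 = n2065 := d14_2 (iv F9071) D2273 F9230
theorem F10065 : act 0 n2157 = n2273 := d4_3 F10062 F9119 D2157
def n2274 : Q := act 0 n2029
theorem D2274 : act 0 n2029 = n2274 := rfl
theorem F10066 : act 1 n2274 = n2274 := d0_2 D2029 D2274 (iv D2274) (iv D2029) F8185
theorem F10067 : act 3 n2274 = n2274 := d2_2 F9072 D2274 (iv D2274)
theorem F10068 : act 4 n2274 = n2274 := d3_2 F9073 D2274 (iv D2274)
theorem F10069 : act 5 n2274 = n2124 := d4_2 (iv F9074) D2274 (iv D2124)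
theorem F10070 : act 6 n2274 = n2157 := d5_2 F10063 D2274 F10065
def n2275 : Q := act 7 n2030
theorem D2275 : act 7 n2030 = n2275 := rfl
theorem F10071 : act 0 n2275 = n2275 := d6_1 D2275 (iv D2275) F9075
theorem F10072 : act 1 n2275 = n2125 := d13_1 D2275 (iv D2125) (iv F9076)
theorem F10073 : act 2 n2275 = n2275 := d19_1 D2275 (iv D2275) F9077
theorem F10074 : act 4 n2275 = n2032 := d28_1 D2275 (iv D2032) (iv F9079)
theorem F10075 : act 6 n2275 = n2031 := d33_1 D2275 (iv D2031) D2030
def n2276 : Q := act 3 n2031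
theorem D2276 : act 3 n2031 = n2276 := rfl
theorem F10076 : act 0 n2276 = n2276 := d2_1 D2276 (iv D2276) F9081
theorem F10077 : act 1 n2276 = n2126 := d9_1 D2276 (iv D2126) (iv F9082)
theorem F10078 : act 4 n2276 = n2043 := d21_2 (iv F9084) D2276 (iv D2043) F8248 (iv F8204)
theorem F10079 : act 5 n2276 = n2276 := d22_2 F9085 D2276 (iv D2276)
theorem F10080 : act 7 n2276 = n2276 := d24_2 D2031 D2276 (iv D2276) (iv D2031) F8192
def n2277 : Q := act 8 n2031
theorem D2277 : act 8 n2031 = n2277 := rfl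
theorem F10081 : act 0 n2277 = n2277 := d7_1 D2277 (iv D2277) F9081
theorem F10082 : act 1 n2277 = n2127 := d14_1 D2277 (iv D2127) (iv F9082)
theorem F10083 : act 2 n2277 = n2277 := d20_1 D2277 (iv D2277) F9083
theorem F10084 : act 4 n2277 = n2033 := d29_1 D2277 (iv D2033) (iv F9084)
theorem F10085 : act 5 n2277 = n2277 := d32_1 D2277 (iv D2277) F9085
theorem F10086 : act 7 n2277 = n2277 := d35_1 D2277 (iv D2277) (iv D2031) F8194 D2031
def n2278 : Q := act 8 n2032
theorem D2278 : act 8 n2032 = n2278 := rfl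
theorem F10087 : act 0 n2278 = n2278 := d7_1 D2278 (iv D2278) F9086
theorem F10088 : act 1 n2278 = n2128 := d14_1 D2278 (iv D2128) (iv F9087)
theorem F10089 : act 2 n2278 = n2278 := d20_1 D2278 (iv D2278) F9088
theorem F10090 : act 3 n2278 = n2045 := d25_1 D2278 (iv D2045) (iv F9089)
theorem F10091 : act 5 n2278 = n2278 := d32_1 D2278 (iv D2278) F9090
theorem F10092 : act 6 n2278 = n2033 := d34_1 D2278 (iv D2033) (iv F9091)
theorem F10093 : act 7 n2278 = n2278 := d35_1 D2278 (iv D2278) (iv D2032) F8200 D2032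
def n2279 : Q := act 3 n2034
theorem D2279 : act 3 n2034 = n2279 := rfl
theorem F10094 : act 0 n2279 = n2154 := d2_1 D2279 F9535 (iv F9098)
theorem F10095 : act 1 n2279 = n2081 := d9_1 D2279 (iv D2081) (iv F9099)
theorem F10096 : act 2 n2279 = n2279 := d15_1 D2279 (iv D2279) F9100 F8225 (iv F9100)
theorem F10097 : act 4 n2279 = n2095 := d21_2 D2034 D2279 F9350 (iv D1918) (iv F8216)
theorem F10098 : act 8 n2279 = n2057 := d25_2 (iv F9101) D2279 (iv D2057)
theorem F10099 : act 6 n2094 = n2279 := d27_0 F10097 (iv D2095) D2094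
def n2280 : Q := act 6 n2034
theorem D2280 : act 6 n2034 = n2280 := rfl
theorem F10100 : act 0 n2280 = n2155 := d5_1 D2280 F9537 (iv F9098)
theorem F10101 : act 1 n2280 = n2082 := d12_1 D2280 (iv D2082) (iv F9099)
theorem F10102 : act 2 n2280 = n2038 := d18_1 D2280 (iv D2038) (iv F9100)
theorem F10103 : act 3 n2280 = n2094 := d23_1 D2280 F10099 (iv D2279)
theorem F10104 : act 4 n2280 = n2035 := d27_1 D2280 (iv D2035) D2034
theorem F10105 : act 8 n2280 = n2058 := d34_2 (iv F9101) D2280 (iv D2058)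
def n2281 : Q := act 7 n2034
theorem D2281 : act 7 n2034 = n2281 := rfl
theorem F10106 : act 0 n2281 = n2110 := d6_1 D2281 F9397 (iv F9098)
theorem F10107 : act 1 n2281 = n2083 := d13_1 D2281 (iv D2083) (iv F9099)
theorem F10108 : act 2 n2281 = n2039 := d19_1 D2281 (iv D2039) (iv F9100)
theorem F10109 : act 4 n2281 = n2036 := d28_1 D2281 (iv D2036) D2034
def n2282 : Q := act 7 n2035
theorem D2282 : act 7 n2035 = n2282 := rfl
theorem F10110 : act 0 n2282 = n2108 := d6_1 D2282 F9392 (iv F9102)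
theorem F10111 : act 1 n2282 = n2084 := d13_1 D2282 (iv D2084) (iv F9103)
theorem F10112 : act 2 n2282 = n2040 := d19_1 D2282 (iv D2040) (iv F9104)
theorem F10113 : act 3 n2282 = n2097 := d24_1 D2282 (iv D2097) F8416 (iv F8602) (iv F9105)
theorem F10114 : act 5 n2282 = n2282 := d31_1 D2282 (iv D2282) F9106
theorem F10115 : act 6 n2282 = n2036 := d33_1 D2282 (iv D2036) D2035
def n2283 : Q := act 8 n2036
theorem D2283 : act 8 n2036 = n2283 := rfl
theorem F10116 : act 0 n2283 = n2111 := d7_1 D2283 (iv D2111) (iv F9108)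
theorem F10117 : act 1 n2283 = n2086 := d14_1 D2283 (iv D2086) (iv F9109)
theorem F10118 : act 2 n2283 = n2041 := d20_1 D2283 (iv D2041) (iv F9110)
theorem F10119 : act 3 n2283 = n2098 := d25_1 D2283 (iv D2098) (iv F9111)
theorem F10120 : act 5 n2283 = n2037 := d32_1 D2283 (iv D2037) (iv F9112)
theorem F10121 : act 7 n2283 = n2062 := d35_1 D2283 (iv D2062) (iv D1832) (iv F8217) D2036
def n2284 : Q := act 7 n2038
theorem D2284 : act 7 n2038 = n2284 := rfl
theorem F10122 : act 0 n2284 = n2137 := d6_1 D2284 F9482 (iv F9119)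
theorem F10123 : act 1 n2284 = n2042 := d13_1 D2284 (iv D2042) (iv F9120)
theorem F10124 : act 4 n2284 = n2040 := d28_1 D2284 (iv D2040) (iv F9122)
theorem F10125 : act 6 n2284 = n2039 := d33_1 D2284 (iv D2039) D2038
def n2285 : Q := act 3 n2039
theorem D2285 : act 3 n2039 = n2285 := rfl
theorem F10126 : act 0 n2285 = n2135 := d2_1 D2285 F9475 (iv F9124)
theorem F10127 : act 1 n2285 = n2043 := d9_1 D2285 (iv D2043) (iv F9125)
theorem F10128 : act 4 n2285 = n2126 := d21_2 (iv F9126) D2285 (iv D2126) F8503 (iv F8234)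
theorem F10129 : act 7 n2285 = n2285 := d24_2 D2039 D2285 (iv D2285) (iv D2039) F8225
def n2286 : Q := act 8 n2039
theorem D2286 : act 8 n2039 = n2286 := rfl
theorem F10130 : act 0 n2286 = n2140 := d7_1 D2286 (iv D2140) (iv F9124)
theorem F10131 : act 1 n2286 = n2044 := d14_1 D2286 (iv D2044) (iv F9125)
theorem F10132 : act 4 n2286 = n2041 := d29_1 D2286 (iv D2041) (iv F9126)
theorem F10133 : act 7 n2286 = n2068 := d35_1 D2286 (iv D2068) (iv D1836) (iv F8226) D2039
def n2287 : Q := act 8 n2040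
theorem D2287 : act 8 n2040 = n2287 := rfl
theorem F10134 : act 0 n2287 = n2138 := d7_1 D2287 (iv D2138) (iv F9127)
theorem F10135 : act 1 n2287 = n2045 := d14_1 D2287 (iv D2045) (iv F9128)
theorem F10136 : act 3 n2287 = n2128 := d25_1 D2287 (iv D2128) (iv F9129)
theorem F10137 : act 5 n2287 = n2287 := d32_1 D2287 (iv D2287) F9130
theorem F10138 : act 6 n2287 = n2041 := d34_1 D2287 (iv D2041) (iv F9131)
theorem F10139 : act 7 n2287 = n2069 := d35_1 D2287 (iv D2069) (iv D1837) (iv F8231) D2040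
def n2288 : Q := act 3 n2042
theorem D2288 : act 3 n2042 = n2288 := rfl
theorem F10140 : act 0 n2288 = n2288 := d2_1 D2288 (iv D2288) F9137
theorem F10141 : act 6 n2288 = n2043 := d23_2 (iv F9140) D2288 (iv D2043)
theorem F10142 : act 7 n2288 = n2288 := d24_2 D2042 D2288 (iv D2288) (iv D2042) F8243
def n2289 : Q := act 8 n2042
theorem D2289 : act 8 n2042 = n2289 := rfl
theorem F10143 : act 0 n2289 = n2289 := d7_1 D2289 (iv D2289) F9137
theorem F10144 : act 2 n2289 = n2092 := d20_1 D2289 (iv D2092) (iv F9138)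
theorem F10145 : act 4 n2289 = n2045 := d29_1 D2289 (iv D2045) (iv F9139)
theorem F10146 : act 6 n2289 = n2044 := d34_1 D2289 (iv D2044) (iv F9140)
theorem F10147 : act 7 n2289 = n2072 := d35_1 D2289 (iv D2072) (iv D1840) (iv F8245) D2042
def n2290 : Q := act 2 n2043
theorem D2290 : act 2 n2043 = n2290 := rfl
theorem F10148 : act 0 n2290 = n2290 := d1_1 D2290 (iv D2290) F9141
theorem F10149 : act 3 n2290 = n2070 := d15_2 D2043 D2290 F9246 (iv D1860) (iv F8247)
theorem F10150 : act 5 n2290 = n2071 := d17_2 F9664 D2290 (iv F9662)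
theorem F10151 : act 7 n2290 = n2290 := d19_2 F9142 D2290 (iv D2290)
def n2291 : Q := act 8 n2043
theorem D2291 : act 8 n2043 = n2291 := rfl
theorem F10152 : act 0 n2291 = n2291 := d7_1 D2291 (iv D2291) F9141
theorem F10153 : act 3 n2291 = n2044 := d25_1 D2291 (iv D2044) D2043
def n2292 : Q := act 4 n2046
theorem D2292 : act 4 n2046 = n2292 := rfl
theorem F10154 : act 0 n2292 = n2094 := d3_1 D2292 (iv D2094) (iv F9152)
theorem F10155 : act 1 n2292 = n2048 := d10_1 D2292 (iv D2048) (iv F9153)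
theorem F10156 : act 2 n2292 = n2292 := d16_1 D2292 (iv D2292) F9154
theorem F10157 : act 3 n2292 = n2155 := d21_1 D2292 (iv D2155) (iv D1929) F8609 (iv F9155)
theorem F10158 : act 6 n2292 = n2154 := d27_2 F9157 D2292 (iv D2154)
theorem F10159 : act 8 n2292 = n2150 := d29_2 (iv F9156) D2292 (iv D2150)
def n2293 : Q := act 7 n2046
theorem D2293 : act 7 n2046 = n2293 := rfl
theorem F10160 : act 0 n2293 = n2085 := d6_1 D2293 F9312 (iv F9152)
theorem F10161 : act 1 n2293 = n2050 := d13_1 D2293 (iv D2050) (iv F9153)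
theorem F10162 : act 2 n2293 = n2293 := d19_1 D2293 (iv D2293) F9154
theorem F10163 : act 3 n2293 = n2077 := d24_1 D2293 (iv D2077) F8341 (iv F8607) (iv F9155)
theorem F10164 : act 5 n2293 = n2047 := d31_1 D2293 (iv D2047) D2046
theorem F10165 : act 6 n2293 = n2152 := d33_1 D2293 F9531 F9157
def n2294 : Q := act 8 n2047
theorem D2294 : act 8 n2047 = n2294 := rfl
theorem F10166 : act 0 n2294 = n2087 := d7_1 D2294 (iv D2087) (iv F9158)
theorem F10167 : act 1 n2294 = n2052 := d14_1 D2294 (iv D2052) (iv F9159)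
theorem F10168 : act 2 n2294 = n2294 := d20_1 D2294 (iv D2294) F9160
theorem F10169 : act 3 n2294 = n2078 := d25_1 D2294 (iv D2078) (iv F9161)
theorem F10170 : act 6 n2294 = n2294 := d34_1 D2294 (iv D2294) F9162
theorem F10171 : act 7 n2294 = n2064 := d35_1 D2294 (iv D2064) F8299 (iv F8261) D2047
def n2295 : Q := act 3 n2048
theorem D2295 : act 3 n2048 = n2295 := rfl
theorem F10172 : act 0 n2295 = n2057 := d2_1 D2295 (iv D2057) (iv F9163)
theorem F10173 : act 1 n2295 = n2155 := d9_1 D2295 (iv F10157) F10155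
theorem F10174 : act 2 n2295 = n2295 := d15_1 D2295 (iv D2295) F9164 F8271 (iv F9164)
theorem F10175 : act 4 n2295 = n2148 := d21_2 D2048 D2295 (iv D2148) (iv D1921) (iv F8264)
theorem F10176 : act 8 n2295 = n2154 := d25_2 (iv F9165) D2295 F9535
theorem F10177 : act 6 n2150 = n2295 := d34_3 F10176 (iv F10158) F10159
def n2296 : Q := act 6 n2048
theorem D2296 : act 6 n2048 = n2296 := rfl
theorem F10178 : act 0 n2296 = n2058 := d5_1 D2296 (iv D2058) (iv F9163)
theorem F10179 : act 1 n2296 = n2154 := d12_1 D2296 (iv F10158) F10155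
theorem F10180 : act 2 n2296 = n2053 := d18_1 D2296 (iv D2053) (iv F9164)
theorem F10181 : act 3 n2296 = n2150 := d23_1 D2296 F10177 (iv D2295)
theorem F10182 : act 4 n2296 = n2049 := d27_1 D2296 (iv D2049) D2048
theorem F10183 : act 8 n2296 = n2155 := d34_2 (iv F9165) D2296 F9537
def n2297 : Q := act 7 n2048
theorem D2297 : act 7 n2048 = n2297 := rfl
theorem F10184 : act 0 n2297 = n2059 := d6_1 D2297 (iv D2059) (iv F9163)
theorem F10185 : act 2 n2297 = n2054 := d19_1 D2297 (iv D2054) (iv F9164)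
theorem F10186 : act 4 n2297 = n2050 := d28_1 D2297 (iv D2050) D2048
def n2298 : Q := act 7 n2049
theorem D2298 : act 7 n2049 = n2298 := rfl
theorem F10187 : act 0 n2298 = n2060 := d6_1 D2298 (iv D2060) (iv F9166)
theorem F10188 : act 1 n2298 = n2152 := d13_1 D2298 F9531 (iv F9167)
theorem F10189 : act 2 n2298 = n2055 := d19_1 D2298 (iv D2055) (iv F9168)
theorem F10190 : act 3 n2298 = n2149 := d24_1 D2298 (iv D2149) (iv D1924) F8624 (iv F9169)
theorem F10191 : act 5 n2298 = n2298 := d31_1 D2298 (iv D2298) F9170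
theorem F10192 : act 6 n2298 = n2050 := d33_1 D2298 (iv D2050) D2049
def n2299 : Q := act 3 n2050
theorem D2299 : act 3 n2050 = n2299 := rfl
theorem F10193 : act 0 n2299 = n2061 := d2_1 D2299 (iv D2061) (iv F9172)
theorem F10194 : act 1 n2299 = n2077 := d9_1 D2299 (iv F10163) F10161
theorem F10195 : act 2 n2299 = n2299 := d15_1 D2299 (iv D2299) F9173 F8280 (iv F9173)
theorem F10196 : act 5 n2299 = n2051 := d22_2 (iv F9174) D2299 (iv D2051)
theorem F10197 : act 6 n2299 = n2149 := d23_2 F10192 D2299 (iv F10190)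
theorem F10198 : act 7 n2299 = n2075 := d24_2 D2050 D2299 F9267 (iv D1923) (iv F8264)
def n2300 : Q := act 8 n2050
theorem D2300 : act 8 n2050 = n2300 := rfl
theorem F10199 : act 0 n2300 = n2062 := d7_1 D2300 (iv D2062) (iv F9172)
theorem F10200 : act 2 n2300 = n2056 := d20_1 D2300 (iv D2056) (iv F9173)
theorem F10201 : act 5 n2300 = n2052 := d32_1 D2300 (iv D2052) (iv F9174)
theorem F10202 : act 7 n2300 = n2111 := d35_1 D2300 (iv D2111) F8453 (iv F8265) D2050
def n2301 : Q := act 8 n2051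
theorem D2301 : act 8 n2051 = n2301 := rfl
theorem F10203 : act 0 n2301 = n2064 := d7_1 D2301 (iv D2064) (iv F9175)
theorem F10204 : act 1 n2301 = n2078 := d14_1 D2301 (iv D2078) (iv F9176)
theorem F10205 : act 2 n2301 = n2301 := d20_1 D2301 (iv D2301) F9177
theorem F10206 : act 3 n2301 = n2052 := d25_1 D2301 (iv D2052) D2051
theorem F10207 : act 6 n2301 = n2301 := d34_1 D2301 (iv D2301) F9178
theorem F10208 : act 7 n2301 = n2087 := d35_1 D2301 (iv D2087) F8374 (iv F8338) (iv F9179)
def n2302 : Q := act 5 n2053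
theorem D2302 : act 5 n2053 = n2302 := rfl
theorem F10209 : act 0 n2302 = n2065 := d4_1 D2302 (iv D2065) (iv F9184)
theorem F10210 : act 1 n2302 = n2302 := d11_1 D2302 (iv D2302) F9185
theorem F10211 : act 3 n2302 = n2302 := d22_1 D2302 (iv D2302) F9186
theorem F10212 : act 4 n2302 = n2302 := d26_1 D2302 (iv D2302) F9187 F8276 (iv F9187)
theorem F10213 : act 8 n2302 = n2157 := d32_2 (iv F9188) D2302 (iv D2157)
def n2303 : Q := act 7 n2053
theorem D2303 : act 7 n2053 = n2303 := rfl
theorem F10214 : act 0 n2303 = n2066 := d6_1 D2303 (iv D2066) (iv F9184)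
theorem F10215 : act 1 n2303 = n2303 := d13_1 D2303 (iv D2303) F9185
theorem F10216 : act 4 n2303 = n2055 := d28_1 D2303 (iv D2055) (iv F9187)
theorem F10217 : act 6 n2303 = n2054 := d33_1 D2303 (iv D2054) D2053
def n2304 : Q := act 3 n2054
theorem D2304 : act 3 n2054 = n2304 := rfl
theorem F10218 : act 0 n2304 = n2067 := d2_1 D2304 (iv D2067) (iv F9189)
theorem F10219 : act 1 n2304 = n2304 := d9_1 D2304 (iv D2304) F9190
theorem F10220 : act 4 n2304 = n2304 := d21_2 (iv F9191) D2304 (iv D2304) F9191 F8280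
theorem F10221 : act 7 n2304 = n2304 := d24_2 D2054 D2304 (iv D2304) (iv D2054) F8271
def n2305 : Q := act 8 n2054
theorem D2305 : act 8 n2054 = n2305 := rfl
theorem F10222 : act 0 n2305 = n2068 := d7_1 D2305 (iv D2068) (iv F9189)
theorem F10223 : act 1 n2305 = n2305 := d14_1 D2305 (iv D2305) F9190
theorem F10224 : act 4 n2305 = n2056 := d29_1 D2305 (iv D2056) (iv F9191)
theorem F10225 : act 7 n2305 = n2140 := d35_1 D2305 (iv D2140) F8553 (iv F8272) D2054
def n2306 : Q := act 8 n2055
theorem D2306 : act 8 n2055 = n2306 := rfl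
theorem F10226 : act 0 n2306 = n2069 := d7_1 D2306 (iv D2069) (iv F9192)
theorem F10227 : act 1 n2306 = n2306 := d14_1 D2306 (iv D2306) F9193
theorem F10228 : act 3 n2306 = n2306 := d25_1 D2306 (iv D2306) F9194
theorem F10229 : act 5 n2306 = n2306 := d32_1 D2306 (iv D2306) F9195
theorem F10230 : act 6 n2306 = n2056 := d34_1 D2306 (iv D2056) (iv F9196)
theorem F10231 : act 7 n2306 = n2138 := d35_1 D2306 (iv D2138) F8546 (iv F8277) D2055
def n2307 : Q := act 6 n2057
theorem D2307 : act 6 n2057 = n2307 := rfl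
theorem F10232 : act 0 n2307 = n2150 := d5_1 D2307 F10177 F10172
theorem F10233 : act 1 n2307 = n2076 := d12_1 D2307 F9273 (iv F9202)
theorem F10234 : act 2 n2307 = n2307 := d18_1 D2307 (iv D2307) F9203
theorem F10235 : act 3 n2307 = n2058 := d23_1 D2307 (iv D2058) D2057
theorem F10236 : act 4 n2307 = n2075 := d27_1 D2307 (iv F9269) (iv F9204)
theorem F10237 : act 8 n2307 = n2094 := d34_2 F10098 D2307 F10099
def n2308 : Q := act 7 n2057
theorem D2308 : act 7 n2057 = n2308 := rfl
theorem F10238 : act 1 n2308 = n2103 := d13_1 D2308 (iv D2103) (iv F9202)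
theorem F10239 : act 2 n2308 = n2308 := d19_1 D2308 (iv D2308) F9203
theorem F10240 : act 4 n2308 = n2149 := d28_1 D2308 (iv D2149) (iv F9204)
def n2309 : Q := act 5 n2058
theorem D2309 : act 5 n2058 = n2309 := rfl
theorem F10241 : act 1 n2309 = n2104 := d11_1 D2309 (iv D2104) (iv F9205)
theorem F10242 : act 2 n2309 = n2065 := d17_1 D2309 (iv D2065) (iv F9206)
theorem F10243 : act 4 n2309 = n2309 := d26_1 D2309 (iv D2309) F9207 F8292 (iv F9207)
def n2310 : Q := act 7 n2058
theorem D2310 : act 7 n2058 = n2310 := rfl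
theorem F10244 : act 1 n2310 = n2105 := d13_1 D2310 (iv D2105) (iv F9205)
theorem F10245 : act 2 n2310 = n2066 := d19_1 D2310 (iv D2066) (iv F9206)
theorem F10246 : act 4 n2310 = n2060 := d28_1 D2310 (iv D2060) (iv F9207)
theorem F10247 : act 6 n2310 = n2059 := d33_1 D2310 (iv D2059) D2058
def n2311 : Q := act 3 n2059
theorem D2311 : act 3 n2059 = n2311 := rfl
theorem F10248 : act 1 n2311 = n2106 := d9_1 D2311 (iv D2106) (iv F9208)
def n2312 : Q := act 8 n2059
theorem D2312 : act 8 n2059 = n2312 := rfl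
theorem F10249 : act 1 n2312 = n2107 := d14_1 D2312 (iv D2107) (iv F9208)
theorem F10250 : act 2 n2312 = n2068 := d20_1 D2312 (iv D2068) (iv F9209)
theorem F10251 : act 4 n2312 = n2062 := d29_1 D2312 (iv D2062) (iv F9210)
def n2313 : Q := act 3 n2060
theorem D2313 : act 3 n2060 = n2313 := rfl
theorem F10252 : act 0 n2313 = n2149 := d2_1 D2313 (iv F10190) F10187
theorem F10253 : act 1 n2313 = n2108 := d9_1 D2313 (iv D2108) (iv F9211)
theorem F10254 : act 2 n2313 = n2313 := d15_1 D2313 (iv D2313) F9212 F8309 (iv F9212)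
theorem F10255 : act 5 n2313 = n2313 := d22_2 F9213 D2313 (iv D2313)
theorem F10256 : act 6 n2313 = n2061 := d23_2 (iv F9214) D2313 (iv D2061)
theorem F10257 : act 7 n2313 = n2148 := d24_2 D2060 D2313 (iv D2148) (iv F8617) (iv F8291)
def n2314 : Q := act 8 n2060
theorem D2314 : act 8 n2060 = n2314 := rfl
theorem F10258 : act 1 n2314 = n2109 := d14_1 D2314 (iv D2109) (iv F9211)
theorem F10259 : act 2 n2314 = n2069 := d20_1 D2314 (iv D2069) (iv F9212)
theorem F10260 : act 5 n2314 = n2314 := d32_1 D2314 (iv D2314) F9213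
theorem F10261 : act 6 n2314 = n2062 := d34_1 D2314 (iv D2062) (iv F9214)
def n2315 : Q := act 4 n2061
theorem D2315 : act 4 n2061 = n2315 := rfl
theorem F10262 : act 1 n2315 = n2110 := d10_1 D2315 (iv D2110) (iv F9215)
theorem F10263 : act 2 n2315 = n2315 := d16_1 D2315 (iv D2315) F9216
theorem F10264 : act 7 n2315 = n2150 := d28_2 (iv F9218) D2315 (iv D2150)
def n2316 : Q := act 8 n2061
theorem D2316 : act 8 n2061 = n2316 := rfl
theorem F10265 : act 1 n2316 = n2111 := d14_1 D2316 (iv D2111) (iv F9215)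
theorem F10266 : act 2 n2316 = n2316 := d20_1 D2316 (iv D2316) F9216
theorem F10267 : act 3 n2316 = n2062 := d25_1 D2316 (iv D2062) D2061
theorem F10268 : act 5 n2316 = n2064 := d32_1 D2316 (iv D2064) (iv F9217)
def n2317 : Q := act 5 n2063
theorem D2317 : act 5 n2063 = n2317 := rfl
theorem F10269 : act 1 n2317 = n2112 := d11_1 D2317 (iv D2112) (iv F9222)
theorem F10270 : act 2 n2317 = n2317 := d17_1 D2317 (iv D2317) F9223
theorem F10271 : act 7 n2317 = n2151 := d31_2 (iv F9225) D2317 (iv D2151)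
def n2318 : Q := act 8 n2063
theorem D2318 : act 8 n2063 = n2318 := rfl
theorem F10272 : act 1 n2318 = n2113 := d14_1 D2318 (iv D2113) (iv F9222)
theorem F10273 : act 2 n2318 = n2318 := d20_1 D2318 (iv D2318) F9223
theorem F10274 : act 4 n2318 = n2064 := d29_1 D2318 (iv D2064) D2063
theorem F10275 : act 6 n2318 = n2318 := d34_1 D2318 (iv D2318) F9224
def n2319 : Q := act 7 n2065
theorem D2319 : act 7 n2065 = n2319 := rfl
theorem F10276 : act 1 n2319 = n2070 := d13_1 D2319 (iv D2070) (iv F9230)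
theorem F10277 : act 4 n2319 = n2319 := d28_1 D2319 (iv D2319) F9232
theorem F10278 : act 5 n2319 = n2066 := d31_1 D2319 (iv D2066) D2065
def n2320 : Q := act 3 n2066
theorem D2320 : act 3 n2066 = n2320 := rfl
theorem F10279 : act 1 n2320 = n2071 := d9_1 D2320 (iv D2071) (iv F9233)
theorem F10280 : act 4 n2320 = n2320 := d21_2 (iv F9234) D2320 (iv D2320) F9234 F8309
theorem F10281 : act 6 n2320 = n2067 := d23_2 (iv F9235) D2320 (iv D2067)
theorem F10282 : act 7 n2320 = n2320 := d24_2 D2066 D2320 (iv D2320) (iv D2066) F8304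
def n2321 : Q := act 8 n2066
theorem D2321 : act 8 n2066 = n2321 := rfl
theorem F10283 : act 1 n2321 = n2072 := d14_1 D2321 (iv D2072) (iv F9233)
theorem F10284 : act 4 n2321 = n2069 := d29_1 D2321 (iv D2069) (iv F9234)
theorem F10285 : act 6 n2321 = n2068 := d34_1 D2321 (iv D2068) (iv F9235)
def n2322 : Q := act 2 n2067
theorem D2322 : act 2 n2067 = n2322 := rfl
theorem F10286 : act 4 n2322 = n2322 := d16_2 F9237 D2322 (iv D2322)
theorem F10287 : act 7 n2322 = n2322 := d19_2 F9238 D2322 (iv D2322)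
def n2323 : Q := act 8 n2067
theorem D2323 : act 8 n2067 = n2323 := rfl
theorem F10288 : act 1 n2323 = n2074 := d14_1 D2323 (iv D2074) (iv F9236)
theorem F10289 : act 3 n2323 = n2068 := d25_1 D2323 (iv D2068) D2067
theorem F10290 : act 4 n2323 = n2323 := d29_1 D2323 (iv D2323) F9237
def n2324 : Q := act 8 n2070
theorem D2324 : act 8 n2070 = n2324 := rfl
theorem F10291 : act 0 n2324 = n2324 := d7_1 D2324 (iv D2324) F9245
theorem F10292 : act 2 n2324 = n2093 := d20_1 D2324 (iv D2093) (iv F9246)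
theorem F10293 : act 4 n2324 = n2324 := d29_1 D2324 (iv D2324) F9247
theorem F10294 : act 5 n2324 = n2072 := d32_1 D2324 (iv D2072) (iv F9248)
def n2325 : Q := act 8 n2071
theorem D2325 : act 8 n2071 = n2325 := rfl
theorem F10295 : act 0 n2325 = n2325 := d7_1 D2325 (iv D2325) F9249
theorem F10296 : act 3 n2325 = n2072 := d25_1 D2325 (iv D2072) D2071
theorem F10297 : act 4 n2325 = n2325 := d29_1 D2325 (iv D2325) F9250
theorem F10298 : act 6 n2325 = n2074 := d34_1 D2325 (iv D2074) (iv F9251)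
def n2326 : Q := act 1 n2073
theorem D2326 : act 1 n2073 = n2326 := rfl
theorem F10299 : act 3 n2326 = n2117 := d9_2 (iv F9258) D2326 (iv D2117)
theorem F10300 : act 4 n2326 = n2326 := d10_2 F9259 D2326 (iv D2326)
theorem F10301 : act 7 n2326 = n2326 := d13_2 F9260 D2326 (iv D2326)
def n2327 : Q := act 8 n2073
theorem D2327 : act 8 n2073 = n2327 := rfl
theorem F10302 : act 0 n2327 = n2327 := d7_1 D2327 (iv D2327) F9257
theorem F10303 : act 2 n2327 = n2074 := d20_1 D2327 (iv D2074) D2073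
theorem F10304 : act 3 n2327 = n2118 := d25_1 D2327 (iv D2118) (iv F9258)
theorem F10305 : act 4 n2327 = n2327 := d29_1 D2327 (iv D2327) F9259
def n2328 : Q := act 7 n2074
theorem D2328 : act 7 n2074 = n2328 := rfl
theorem F10306 : act 0 n2328 = n2328 := d6_1 D2328 (iv D2328) F9261
theorem F10307 : act 4 n2328 = n2328 := d28_1 D2328 (iv D2328) F9263
theorem F10308 : act 8 n2328 = n2328 := d35_2 D2074 D2328 (iv D2328) (iv D2074) F8325
def n2329 : Q := act 7 n2076
theorem D2329 : act 7 n2076 = n2329 := rfl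
theorem F10309 : act 0 n2329 = n2083 := d6_1 D2329 (iv D2083) (iv F9270)
theorem F10310 : act 2 n2329 = n2079 := d19_1 D2329 (iv D2079) (iv F9271)
theorem F10311 : act 4 n2329 = n2077 := d28_1 D2329 (iv D2077) D2076
theorem F10312 : act 6 n2329 = n2103 := d33_1 D2329 (iv D2103) (iv F9273)
def n2330 : Q := act 8 n2077
theorem D2330 : act 8 n2077 = n2330 := rfl
theorem F10313 : act 0 n2330 = n2086 := d7_1 D2330 (iv D2086) (iv F9275)
theorem F10314 : act 2 n2330 = n2080 := d20_1 D2330 (iv D2080) (iv F9276)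
theorem F10315 : act 5 n2330 = n2078 := d32_1 D2330 (iv D2078) (iv F9277)
theorem F10316 : act 6 n2330 = n2153 := d34_1 D2330 (iv D2153) (iv F9278)
theorem F10317 : act 7 n2330 = n2098 := d35_1 D2330 (iv D2098) (iv D1866) (iv F8342) D2077
def n2331 : Q := act 8 n2079
theorem D2331 : act 8 n2079 = n2331 := rfl
theorem F10318 : act 0 n2331 = n2090 := d7_1 D2331 (iv D2090) (iv F9283)
theorem F10319 : act 1 n2331 = n2331 := d14_1 D2331 (iv D2331) F9284
theorem F10320 : act 4 n2331 = n2080 := d29_1 D2331 (iv D2080) (iv F9285)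
theorem F10321 : act 6 n2331 = n2121 := d34_1 D2331 (iv D2121) (iv F9286)
theorem F10322 : act 7 n2331 = n2101 := d35_1 D2331 (iv D2101) (iv D1869) (iv F8351) D2079
def n2332 : Q := act 7 n2081
theorem D2332 : act 7 n2081 = n2332 := rfl
theorem F10323 : act 0 n2332 = n2105 := d6_1 D2332 (iv D2105) (iv F9293)
theorem F10324 : act 2 n2332 = n2099 := d19_1 D2332 (iv D2099) (iv F9294)
theorem F10325 : act 4 n2332 = n2097 := d28_1 D2332 (iv D2097) (iv F9295)
theorem F10326 : act 6 n2332 = n2096 := d33_1 D2332 (iv D2096) F9297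
def n2333 : Q := act 7 n2082
theorem D2333 : act 7 n2082 = n2333 := rfl
theorem F10327 : act 0 n2333 = n2103 := d6_1 D2333 (iv D2103) (iv F9298)
theorem F10328 : act 2 n2333 = n2088 := d19_1 D2333 (iv D2088) (iv F9299)
theorem F10329 : act 4 n2333 = n2084 := d28_1 D2333 (iv D2084) (iv F9301)
theorem F10330 : act 6 n2333 = n2083 := d33_1 D2333 (iv D2083) D2082
def n2334 : Q := act 3 n2083
theorem D2334 : act 3 n2083 = n2334 := rfl
def n2335 : Q := act 8 n2083
theorem D2335 : act 8 n2083 = n2335 := rfl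
theorem F10331 : act 2 n2335 = n2090 := d20_1 D2335 (iv D2090) (iv F9303)
theorem F10332 : act 4 n2335 = n2086 := d29_1 D2335 (iv D2086) (iv F9304)
theorem F10333 : act 7 n2335 = n2107 := d35_1 D2335 (iv D2107) (iv D1874) (iv F8363) D2083
def n2336 : Q := act 3 n2084
theorem D2336 : act 3 n2084 = n2336 := rfl
theorem F10334 : act 0 n2336 = n2152 := d2_1 D2336 (iv D2152) (iv F9305)
theorem F10335 : act 1 n2336 = n2097 := d9_1 D2336 (iv F10113) F10111
theorem F10336 : act 2 n2336 = n2336 := d15_1 D2336 (iv D2336) F9306 F8387 (iv F9306)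
theorem F10337 : act 5 n2336 = n2336 := d22_2 F9307 D2336 (iv D2336)
theorem F10338 : act 6 n2336 = n2085 := d23_2 (iv F9308) D2336 (iv D2085)
theorem F10339 : act 7 n2336 = n2095 := d24_2 D2084 D2336 F9350 F8594 (iv F8366)
def n2337 : Q := act 8 n2084
theorem D2337 : act 8 n2084 = n2337 := rfl
theorem F10340 : act 0 n2337 = n2153 := d7_1 D2337 (iv D2153) (iv F9305)
theorem F10341 : act 2 n2337 = n2091 := d20_1 D2337 (iv D2091) (iv F9306)
theorem F10342 : act 5 n2337 = n2337 := d32_1 D2337 (iv D2337) F9307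
theorem F10343 : act 6 n2337 = n2086 := d34_1 D2337 (iv D2086) (iv F9308)
theorem F10344 : act 7 n2337 = n2109 := d35_1 D2337 (iv D2109) (iv D1875) (iv F8368) D2084
def n2338 : Q := act 4 n2085
theorem D2338 : act 4 n2085 = n2338 := rfl
theorem F10345 : act 1 n2338 = n2096 := d10_1 D2338 F9355 (iv F9309)
theorem F10346 : act 2 n2338 = n2338 := d16_1 D2338 (iv D2338) F9310
theorem F10347 : act 7 n2338 = n2094 := d28_2 (iv F9312) D2338 (iv D2094)
def n2339 : Q := act 8 n2085
theorem D2339 : act 8 n2085 = n2339 := rfl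
theorem F10348 : act 1 n2339 = n2098 := d14_1 D2339 (iv D2098) (iv F9309)
theorem F10349 : act 2 n2339 = n2339 := d20_1 D2339 (iv D2339) F9310
theorem F10350 : act 3 n2339 = n2086 := d25_1 D2339 (iv D2086) D2085
theorem F10351 : act 5 n2339 = n2087 := d32_1 D2339 (iv D2087) (iv F9311)
def n2340 : Q := act 8 n2088
theorem D2340 : act 8 n2088 = n2340 := rfl
theorem F10352 : act 0 n2340 = n2121 := d7_1 D2340 (iv D2121) (iv F9320)
theorem F10353 : act 1 n2340 = n2092 := d14_1 D2340 (iv D2092) (iv F9321)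
theorem F10354 : act 4 n2340 = n2091 := d29_1 D2340 (iv D2091) (iv F9322)
theorem F10355 : act 6 n2340 = n2090 := d34_1 D2340 (iv D2090) (iv F9323)
theorem F10356 : act 7 n2340 = n2114 := d35_1 D2340 (iv D2114) (iv D1881) (iv F8382) D2088
def n2341 : Q := act 2 n2089
theorem D2341 : act 2 n2089 = n2341 := rfl
theorem F10357 : act 4 n2341 = n2341 := d16_2 F9325 D2341 (iv D2341)
theorem F10358 : act 5 n2341 = n2105 := d17_2 (iv F9326) D2341 F9384
theorem F10359 : act 7 n2341 = n2104 := d19_2 (iv F9327) D2341 F9382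
def n2342 : Q := act 8 n2089
theorem D2342 : act 8 n2089 = n2342 := rfl
theorem F10360 : act 1 n2342 = n2093 := d14_1 D2342 (iv D2093) (iv F9324)
theorem F10361 : act 3 n2342 = n2090 := d25_1 D2342 (iv D2090) D2089
theorem F10362 : act 4 n2342 = n2342 := d29_1 D2342 (iv D2342) F9325
theorem F10363 : act 5 n2342 = n2114 := d32_1 D2342 (iv D2114) (iv F9326)
def n2343 : Q := act 3 n2096
theorem D2343 : act 3 n2096 = n2343 := rfl
theorem F10364 : act 0 n2343 = n2106 := d2_1 D2343 (iv D2106) (iv F9353)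
def n2344 : Q := act 8 n2096
theorem D2344 : act 8 n2096 = n2344 := rfl
theorem F10365 : act 0 n2344 = n2107 := d7_1 D2344 (iv D2107) (iv F9353)
theorem F10366 : act 2 n2344 = n2101 := d20_1 D2344 (iv D2101) (iv F9354)
theorem F10367 : act 4 n2344 = n2098 := d29_1 D2344 (iv D2098) (iv F9355)
def n2345 : Q := act 8 n2097
theorem D2345 : act 8 n2097 = n2345 := rfl
theorem F10368 : act 0 n2345 = n2109 := d7_1 D2345 (iv D2109) (iv F9356)
theorem F10369 : act 2 n2345 = n2102 := d20_1 D2345 (iv D2102) (iv F9357)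
theorem F10370 : act 5 n2345 = n2345 := d32_1 D2345 (iv D2345) F9358
theorem F10371 : act 6 n2345 = n2098 := d34_1 D2345 (iv D2098) (iv F9359)
theorem F10372 : act 7 n2345 = n2153 := d35_1 D2345 (iv D2153) (iv D1927) (iv F8418) D2097
def n2346 : Q := act 8 n2099
theorem D2346 : act 8 n2099 = n2346 := rfl
theorem F10373 : act 0 n2346 = n2114 := d7_1 D2346 (iv D2114) (iv F9363)
theorem F10374 : act 1 n2346 = n2346 := d14_1 D2346 (iv D2346) F9364
theorem F10375 : act 4 n2346 = n2102 := d29_1 D2346 (iv D2102) (iv F9365)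
theorem F10376 : act 6 n2346 = n2101 := d34_1 D2346 (iv D2101) (iv F9366)
theorem F10377 : act 7 n2346 = n2121 := d35_1 D2346 (iv D2121) (iv D1889) (iv F8429) D2099
def n2347 : Q := act 2 n2100
theorem D2347 : act 2 n2100 = n2347 := rfl
theorem F10378 : act 0 n2347 = n2115 := d1_1 D2347 (iv D2115) (iv F9367)
theorem F10379 : act 4 n2347 = n2130 := d16_2 (iv F9369) D2347 (iv D2130)
theorem F10380 : act 7 n2347 = n2119 := d19_2 (iv F9370) D2347 (iv D2119)
def n2348 : Q := act 8 n2100
theorem D2348 : act 8 n2100 = n2348 := rfl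
theorem F10381 : act 0 n2348 = n2116 := d7_1 D2348 (iv D2116) (iv F9367)
theorem F10382 : act 1 n2348 = n2348 := d14_1 D2348 (iv D2348) F9368
theorem F10383 : act 3 n2348 = n2101 := d25_1 D2348 (iv D2101) D2100
theorem F10384 : act 4 n2348 = n2131 := d29_1 D2348 (iv D2131) (iv F9369)
def n2349 : Q := act 3 n2103
theorem D2349 : act 3 n2103 = n2349 := rfl
theorem F10385 : act 7 n2349 = n2106 := d24_2 D2103 D2349 (iv D2106) (iv D1874) D1872
def n2350 : Q := act 8 n2103
theorem D2350 : act 8 n2103 = n2350 := rfl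
theorem F10386 : act 2 n2350 = n2121 := d20_1 D2350 (iv D2121) (iv F9380)
theorem F10387 : act 4 n2350 = n2153 := d29_1 D2350 (iv D2153) (iv F9381)
def n2351 : Q := act 3 n2105
theorem D2351 : act 3 n2105 = n2351 := rfl
theorem F10388 : act 6 n2351 = n2106 := d23_2 (iv F9386) D2351 (iv D2106)
def n2352 : Q := act 8 n2105
theorem D2352 : act 8 n2105 = n2352 := rfl
theorem F10389 : act 2 n2352 = n2114 := d20_1 D2352 (iv D2114) (iv F9384)
theorem F10390 : act 4 n2352 = n2109 := d29_1 D2352 (iv D2109) (iv F9385)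
theorem F10391 : act 6 n2352 = n2107 := d34_1 D2352 (iv D2107) (iv F9386)
def n2353 : Q := act 2 n2106
theorem D2353 : act 2 n2106 = n2353 := rfl
theorem F10392 : act 3 n2353 = n2115 := d15_2 D2106 D2353 (iv D2115) (iv D1882) (iv F8446)
def n2354 : Q := act 4 n2106
theorem D2354 : act 4 n2106 = n2354 := rfl
theorem F10393 : act 3 n2354 = n2110 := d21_1 D2354 (iv D2110) (iv D1876) (iv F8447) D2106
def n2355 : Q := act 8 n2106
theorem D2355 : act 8 n2106 = n2355 := rfl
theorem F10394 : act 3 n2355 = n2107 := d25_1 D2355 (iv D2107) D2106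
def n2356 : Q := act 4 n2108
theorem D2356 : act 4 n2108 = n2356 := rfl
theorem F10395 : act 2 n2356 = n2137 := d16_1 D2356 (iv D2137) (iv F9389)
theorem F10396 : act 6 n2356 = n2110 := d27_2 (iv F9391) D2356 (iv D2110)
theorem F10397 : act 7 n2356 = n2155 := d28_2 (iv F9392) D2356 (iv D2155)
def n2357 : Q := act 8 n2108
theorem D2357 : act 8 n2108 = n2357 := rfl
theorem F10398 : act 2 n2357 = n2138 := d20_1 D2357 (iv D2138) (iv F9389)
theorem F10399 : act 3 n2357 = n2109 := d25_1 D2357 (iv D2109) D2108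
theorem F10400 : act 5 n2357 = n2357 := d32_1 D2357 (iv D2357) F9390
theorem F10401 : act 6 n2357 = n2111 := d34_1 D2357 (iv D2111) (iv F9391)
def n2358 : Q := act 5 n2110
theorem D2358 : act 5 n2110 = n2358 := rfl
theorem F10402 : act 2 n2358 = n2139 := d17_1 D2358 (iv D2139) (iv F9396)
theorem F10403 : act 4 n2358 = n2112 := d26_1 D2358 (iv D2112) (iv D1878) (iv F8452) D2110
theorem F10404 : act 7 n2358 = n2156 := d31_2 (iv F9397) D2358 (iv D2156)
def n2359 : Q := act 8 n2110
theorem D2359 : act 8 n2110 = n2359 := rfl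
theorem F10405 : act 2 n2359 = n2140 := d20_1 D2359 (iv D2140) (iv F9396)
theorem F10406 : act 4 n2359 = n2111 := d29_1 D2359 (iv D2111) D2110
def n2360 : Q := act 6 n2112
theorem D2360 : act 6 n2112 = n2360 := rfl
theorem F10407 : act 0 n2360 = n2143 := d5_1 D2360 (iv F9637) F9633
theorem F10408 : act 2 n2360 = n2141 := d18_1 D2360 (iv D2141) (iv F9401)
theorem F10409 : act 5 n2360 = n2360 := d30_1 D2360 (iv D2360) (iv D2112) F8457 D2112
theorem F10410 : act 7 n2360 = n2147 := d33_2 (iv F9402) D2360 F9514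
def n2361 : Q := act 8 n2112
theorem D2361 : act 8 n2112 = n2361 := rfl
theorem F10411 : act 2 n2361 = n2142 := d20_1 D2361 (iv D2142) (iv F9401)
theorem F10412 : act 5 n2361 = n2113 := d32_1 D2361 (iv D2113) D2112
def n2362 : Q := act 1 n2115
theorem D2362 : act 1 n2115 = n2362 := rfl
theorem F10413 : act 2 n2362 = n2117 := d8_2 D2115 D2362 (iv D2117) (iv D1886) (iv F8468)
theorem F10414 : act 4 n2362 = n2143 := d10_2 (iv F9409) D2362 (iv D2143)
theorem F10415 : act 7 n2362 = n2123 := d13_2 (iv F9410) D2362 (iv D2123)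
def n2363 : Q := act 8 n2115
theorem D2363 : act 8 n2115 = n2363 := rfl
theorem F10416 : act 2 n2363 = n2116 := d20_1 D2363 (iv D2116) D2115
theorem F10417 : act 4 n2363 = n2144 := d29_1 D2363 (iv D2144) (iv F9409)
def n2364 : Q := act 0 n2117
theorem D2364 : act 0 n2117 = n2364 := rfl
theorem F10418 : act 1 n2364 = n2364 := d0_2 D2117 D2364 (iv D2364) (iv D2117) F8480
theorem F10419 : act 4 n2364 = n2141 := d3_2 (iv F9414) D2364 F9492
theorem F10420 : act 6 n2364 = n2139 := d5_2 F9654 D2364 (iv F9650)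
theorem F10421 : act 7 n2364 = n2124 := d6_2 (iv F9415) D2364 (iv D2124)
def n2365 : Q := act 8 n2117
theorem D2365 : act 8 n2117 = n2365 := rfl
theorem F10422 : act 1 n2365 = n2118 := d14_1 D2365 (iv D2118) D2117
theorem F10423 : act 4 n2365 = n2145 := d29_1 D2365 (iv D2145) (iv F9414)
def n2366 : Q := act 1 n2119
theorem D2366 : act 1 n2119 = n2366 := rfl
theorem F10424 : act 2 n2366 = n2366 := d8_2 D2119 D2366 (iv D2366) (iv D2119) F8487
theorem F10425 : act 4 n2366 = n2146 := d10_2 (iv F9420) D2366 (iv D2146)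
def n2367 : Q := act 2 n2120
theorem D2367 : act 2 n2120 = n2367 := rfl
theorem F10426 : act 4 n2367 = n2367 := d16_2 F9422 D2367 (iv D2367)
theorem F10427 : act 7 n2367 = n2122 := d19_2 (iv F9423) D2367 (iv D2122)
def n2368 : Q := act 8 n2120
theorem D2368 : act 8 n2120 = n2368 := rfl
theorem F10428 : act 1 n2368 = n2368 := d14_1 D2368 (iv D2368) F9421
theorem F10429 : act 3 n2368 = n2121 := d25_1 D2368 (iv D2121) D2120
theorem F10430 : act 4 n2368 = n2368 := d29_1 D2368 (iv D2368) F9422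
def n2369 : Q := act 1 n2122
theorem D2369 : act 1 n2122 = n2369 := rfl
theorem F10431 : act 2 n2369 = n2369 := d8_2 D2122 D2369 (iv D2369) (iv D2122) F8491
theorem F10432 : act 3 n2369 = n2123 := d9_2 (iv F9426) D2369 (iv D2123)
theorem F10433 : act 4 n2369 = n2369 := d10_2 F9427 D2369 (iv D2369)
def n2370 : Q := act 0 n2123
theorem D2370 : act 0 n2123 = n2370 := rfl
theorem F10434 : act 2 n2370 = n2124 := d1_2 (iv F9428) D2370 (iv D2124)
theorem F10435 : act 4 n2370 = n2147 := d3_2 (iv F9429) D2370 (iv D2147)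
theorem F10436 : act 6 n2370 = n2156 := d5_2 F9631 D2370 (iv F9627)
def n2371 : Q := act 3 n2125
theorem D2371 : act 3 n2125 = n2371 := rfl
theorem F10437 : act 0 n2371 = n2132 := d2_1 D2371 (iv D2132) (iv F9434)
theorem F10438 : act 6 n2371 = n2126 := d23_2 (iv F9437) D2371 (iv D2126)
theorem F10439 : act 7 n2371 = n2371 := d24_2 D2125 D2371 (iv D2371) (iv D2125) F8498
def n2372 : Q := act 8 n2125
theorem D2372 : act 8 n2125 = n2372 := rfl
theorem F10440 : act 0 n2372 = n2133 := d7_1 D2372 (iv D2133) (iv F9434)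
theorem F10441 : act 2 n2372 = n2129 := d20_1 D2372 (iv D2129) (iv F9435)
theorem F10442 : act 4 n2372 = n2128 := d29_1 D2372 (iv D2128) (iv F9436)
theorem F10443 : act 6 n2372 = n2127 := d34_1 D2372 (iv D2127) (iv F9437)
theorem F10444 : act 7 n2372 = n2372 := d35_1 D2372 (iv D2372) (iv D2125) F8500 D2125
def n2373 : Q := act 2 n2126
theorem D2373 : act 2 n2126 = n2373 := rfl
theorem F10445 : act 0 n2373 = n2134 := d1_1 D2373 (iv D2134) (iv F9438)
theorem F10446 : act 3 n2373 = n2130 := d15_2 D2126 D2373 (iv D2130) (iv D1898) (iv F8502)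
theorem F10447 : act 5 n2373 = n2373 := d17_2 F9439 D2373 (iv D2373)
theorem F10448 : act 7 n2373 = n2373 := d19_2 F9440 D2373 (iv D2373)
def n2374 : Q := act 8 n2126
theorem D2374 : act 8 n2126 = n2374 := rfl
theorem F10449 : act 0 n2374 = n2136 := d7_1 D2374 (iv D2136) (iv F9438)
theorem F10450 : act 3 n2374 = n2127 := d25_1 D2374 (iv D2127) D2126
theorem F10451 : act 5 n2374 = n2374 := d32_1 D2374 (iv D2374) F9439
def n2375 : Q := act 1 n2130
theorem D2375 : act 1 n2130 = n2375 := rfl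
theorem F10452 : act 2 n2375 = n2375 := d8_2 D2130 D2375 (iv D2375) (iv D2130) F8518
theorem F10453 : act 5 n2375 = n2375 := d11_2 F9457 D2375 (iv D2375)
theorem F10454 : act 7 n2375 = n2146 := d13_2 (iv F9458) D2375 (iv D2146)
def n2376 : Q := act 8 n2130
theorem D2376 : act 8 n2130 = n2376 := rfl
theorem F10455 : act 0 n2376 = n2144 := d7_1 D2376 (iv D2144) (iv F9456)
theorem F10456 : act 2 n2376 = n2131 := d20_1 D2376 (iv D2131) D2130
theorem F10457 : act 5 n2376 = n2376 := d32_1 D2376 (iv D2376) F9457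
def n2377 : Q := act 4 n2132
theorem D2377 : act 4 n2132 = n2377 := rfl
theorem F10458 : act 1 n2377 = n2377 := d10_1 D2377 (iv D2377) F9463
theorem F10459 : act 3 n2377 = n2137 := d21_1 D2377 (iv D2137) (iv D1904) (iv F8533) D2132
theorem F10460 : act 6 n2377 = n2135 := d27_2 (iv F9464) D2377 (iv D2135)
theorem F10461 : act 7 n2377 = n2377 := d28_2 F9465 D2377 (iv D2377)
def n2378 : Q := act 8 n2132
theorem D2378 : act 8 n2132 = n2378 := rfl
theorem F10462 : act 1 n2378 = n2378 := d14_1 D2378 (iv D2378) F9463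
theorem F10463 : act 3 n2378 = n2133 := d25_1 D2378 (iv D2133) D2132
theorem F10464 : act 6 n2378 = n2136 := d34_1 D2378 (iv D2136) (iv F9464)
def n2379 : Q := act 1 n2134
theorem D2379 : act 1 n2134 = n2379 := rfl
theorem F10465 : act 2 n2379 = n2379 := d8_2 D2134 D2379 (iv D2379) (iv D2134) F8535
theorem F10466 : act 3 n2379 = n2143 := d9_2 (iv F9471) D2379 (iv D2143)
theorem F10467 : act 5 n2379 = n2379 := d11_2 F9472 D2379 (iv D2379)
theorem F10468 : act 7 n2379 = n2379 := d13_2 F9473 D2379 (iv D2379)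
def n2380 : Q := act 4 n2134
theorem D2380 : act 4 n2134 = n2380 := rfl
theorem F10469 : act 2 n2380 = n2135 := d16_1 D2380 (iv D2135) D2134
theorem F10470 : act 7 n2380 = n2380 := d28_2 F9473 D2380 (iv D2380)
def n2381 : Q := act 8 n2134
theorem D2381 : act 8 n2134 = n2381 := rfl
theorem F10471 : act 2 n2381 = n2136 := d20_1 D2381 (iv D2136) D2134
theorem F10472 : act 3 n2381 = n2144 := d25_1 D2381 (iv D2144) (iv F9471)
theorem F10473 : act 5 n2381 = n2381 := d32_1 D2381 (iv D2381) F9472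
def n2382 : Q := act 5 n2135
theorem D2382 : act 5 n2135 = n2382 := rfl
theorem F10474 : act 1 n2382 = n2382 := d11_1 D2382 (iv D2382) F9474
theorem F10475 : act 3 n2382 = n2139 := d22_1 D2382 (iv D2139) (iv F9475)
theorem F10476 : act 4 n2382 = n2382 := d26_1 D2382 (iv D2382) (iv D2135) F8536 D2135
theorem F10477 : act 7 n2382 = n2382 := d31_2 F9476 D2382 (iv D2382)
def n2383 : Q := act 8 n2135
theorem D2383 : act 8 n2135 = n2383 := rfl
theorem F10478 : act 1 n2383 = n2383 := d14_1 D2383 (iv D2383) F9474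
theorem F10479 : act 3 n2383 = n2140 := d25_1 D2383 (iv D2140) (iv F9475)
theorem F10480 : act 4 n2383 = n2136 := d29_1 D2383 (iv D2136) D2135
def n2384 : Q := act 7 n2136
theorem D2384 : act 7 n2136 = n2384 := rfl
theorem F10481 : act 1 n2384 = n2384 := d13_1 D2384 (iv D2384) F9477
theorem F10482 : act 3 n2384 = n2384 := d24_1 D2384 (iv D2384) F9478 F8542 (iv F9478)
theorem F10483 : act 5 n2384 = n2384 := d31_1 D2384 (iv D2384) F9479
theorem F10484 : act 8 n2384 = n2384 := d35_2 D2136 D2384 (iv D2384) (iv D2136) F8537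
def n2385 : Q := act 5 n2137
theorem D2385 : act 5 n2137 = n2385 := rfl
theorem F10485 : act 1 n2385 = n2385 := d11_1 D2385 (iv D2385) F9480
theorem F10486 : act 4 n2385 = n2385 := d26_1 D2385 (iv D2385) (iv D2137) F8544 D2137
theorem F10487 : act 7 n2385 = n2157 := d31_2 (iv F9482) D2385 (iv D2157)
def n2386 : Q := act 8 n2137
theorem D2386 : act 8 n2137 = n2386 := rfl
theorem F10488 : act 1 n2386 = n2386 := d14_1 D2386 (iv D2386) F9480
theorem F10489 : act 4 n2386 = n2138 := d29_1 D2386 (iv D2138) D2137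
theorem F10490 : act 6 n2386 = n2140 := d34_1 D2386 (iv D2140) (iv F9481)
def n2387 : Q := act 8 n2139
theorem D2387 : act 8 n2139 = n2387 := rfl
theorem F10491 : act 1 n2387 = n2387 := d14_1 D2387 (iv D2387) F9487
theorem F10492 : act 4 n2387 = n2142 := d29_1 D2387 (iv D2142) (iv F9488)
theorem F10493 : act 5 n2387 = n2140 := d32_1 D2387 (iv D2140) D2139
def n2388 : Q := act 8 n2141
theorem D2388 : act 8 n2141 = n2388 := rfl
theorem F10494 : act 0 n2388 = n2145 := d7_1 D2388 (iv D2145) (iv F9492)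
theorem F10495 : act 1 n2388 = n2388 := d14_1 D2388 (iv D2388) F9493
theorem F10496 : act 3 n2388 = n2388 := d25_1 D2388 (iv D2388) F9494
theorem F10497 : act 5 n2388 = n2388 := d32_1 D2388 (iv D2388) F9495
theorem F10498 : act 6 n2388 = n2142 := d34_1 D2388 (iv D2142) D2141
def n2389 : Q := act 8 n2143
theorem D2389 : act 8 n2143 = n2389 := rfl
theorem F10499 : act 1 n2389 = n2144 := d14_1 D2389 (iv D2144) D2143
theorem F10500 : act 2 n2389 = n2145 := d20_1 D2389 (iv D2145) (iv F9500)
theorem F10501 : act 5 n2389 = n2389 := d32_1 D2389 (iv D2389) F9501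
def n2390 : Q := act 0 n2146
theorem D2390 : act 0 n2146 = n2390 := rfl
theorem F10502 : act 1 n2390 = n2147 := d0_2 D2146 D2390 (iv D2147) (iv D1916) (iv F8580)
theorem F10503 : act 2 n2390 = n2390 := d1_2 F9508 D2390 (iv D2390)
theorem F10504 : act 3 n2390 = n2390 := d2_2 F9509 D2390 (iv D2390)
theorem F10505 : act 5 n2390 = n2390 := d4_2 F9510 D2390 (iv D2390)
theorem F10506 : act 6 n2390 = n2151 := d5_2 (iv F9822) D2390 (iv F9817)
def n2391 : Q := act 8 n2149
theorem D2391 : act 8 n2149 = n2391 := rfl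
theorem F10507 : act 1 n2391 = n2153 := d14_1 D2391 (iv D2153) (iv F9521)
theorem F10508 : act 2 n2391 = n2391 := d20_1 D2391 (iv D2391) F9522
theorem F10509 : act 5 n2391 = n2391 := d32_1 D2391 (iv D2391) F9523
def n2392 : Q := act 5 n2150
theorem D2392 : act 5 n2150 = n2392 := rfl
theorem F10510 : act 1 n2392 = n2156 := d11_1 D2392 (iv D2156) (iv F9524)
theorem F10511 : act 2 n2392 = n2392 := d17_1 D2392 (iv D2392) F9525
theorem F10512 : act 4 n2392 = n2151 := d26_1 D2392 (iv D2151) (iv D1926) (iv F8637) D2150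
def n2393 : Q := act 4 n2152
theorem D2393 : act 4 n2152 = n2393 := rfl
theorem F10513 : act 2 n2393 = n2393 := d16_1 D2393 (iv D2393) F9529
theorem F10514 : act 7 n2393 = n2154 := d28_2 (iv F9531) D2393 (iv D2154)
def n2394 : Q := act 8 n2152
theorem D2394 : act 8 n2152 = n2394 := rfl
theorem F10515 : act 2 n2394 = n2394 := d20_1 D2394 (iv D2394) F9529
theorem F10516 : act 3 n2394 = n2153 := d25_1 D2394 (iv D2153) D2152
theorem F10517 : act 5 n2394 = n2394 := d32_1 D2394 (iv D2394) F9530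
def n2395 : Q := act 5 n2154
theorem D2395 : act 5 n2154 = n2395 := rfl
theorem F10518 : act 2 n2395 = n2395 := d17_1 D2395 (iv D2395) F9534
theorem F10519 : act 3 n2395 = n2156 := d22_1 D2395 (iv D2156) (iv F9535)
theorem F10520 : act 4 n2395 = n2395 := d26_1 D2395 (iv D2395) (iv D2154) F8645 D2154
def n2396 : Q := act 5 n2155
theorem D2396 : act 5 n2155 = n2396 := rfl
theorem F10521 : act 2 n2396 = n2157 := d17_1 D2396 (iv D2157) (iv F9536)
theorem F10522 : act 4 n2396 = n2396 := d26_1 D2396 (iv D2396) (iv D2155) F8647 D2155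
def n2397 : Q := act 7 n2158
theorem D2397 : act 7 n2158 = n2397 := rfl
theorem F10523 : act 0 n2397 = n2397 := d6_1 D2397 (iv D2397) F9543
theorem F10524 : act 1 n2397 = n2160 := d13_1 D2397 (iv D2160) D2158
theorem F10525 : act 2 n2397 = n2397 := d19_1 D2397 (iv D2397) F9544
theorem F10526 : act 4 n2397 = n2397 := d28_1 D2397 (iv D2397) F9546
theorem F10527 : act 5 n2397 = n2171 := d31_1 D2397 (iv D2171) F9574
theorem F10528 : act 6 n2397 = n2397 := d33_1 D2397 (iv D2397) F9547
def n2398 : Q := act 7 n2159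
theorem D2398 : act 7 n2159 = n2398 := rfl
theorem F10529 : act 0 n2398 = n2165 := d6_1 D2398 (iv D2165) (iv F9549)
theorem F10530 : act 1 n2398 = n2171 := d13_1 D2398 (iv D2171) (iv F9572)
theorem F10531 : act 2 n2398 = n2163 := d19_1 D2398 (iv D2163) (iv F9550)
theorem F10532 : act 4 n2398 = n2169 := d28_1 D2398 (iv D2169) (iv F9573)
theorem F10533 : act 5 n2398 = n2160 := d31_1 D2398 (iv D2160) D2159
theorem F10534 : act 6 n2398 = n2168 := d33_1 D2398 (iv D2168) F9570
def n2399 : Q := act 3 n2160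
theorem D2399 : act 3 n2160 = n2399 := rfl
theorem F10535 : act 0 n2399 = n2166 := d2_1 D2399 (iv D2166) (iv F9553)
theorem F10536 : act 2 n2399 = n2188 := d15_1 D2399 (iv D2188) F8775 (iv F8672) (iv F9554)
theorem F10537 : act 6 n2399 = n2399 := d23_2 F9556 D2399 (iv D2399)
theorem F10538 : act 7 n2399 = n2399 := d24_2 D2160 D2399 (iv D2399) (iv D2160) F8662
def n2400 : Q := act 8 n2160
theorem D2400 : act 8 n2160 = n2400 := rfl
theorem F10539 : act 0 n2400 = n2167 := d7_1 D2400 (iv D2167) (iv F9553)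
theorem F10540 : act 2 n2400 = n2164 := d20_1 D2400 (iv D2164) (iv F9554)
theorem F10541 : act 4 n2400 = n2400 := d29_1 D2400 (iv D2400) F9555
theorem F10542 : act 6 n2400 = n2400 := d34_1 D2400 (iv D2400) F9556
theorem F10543 : act 7 n2400 = n2400 := d35_1 D2400 (iv D2400) (iv D2160) F8665 D2160
def n2401 : Q := act 7 n2161
theorem D2401 : act 7 n2161 = n2401 := rfl
theorem F10544 : act 0 n2401 = n2168 := d6_1 D2401 (iv D2168) (iv F9557)
theorem F10545 : act 1 n2401 = n2401 := d13_1 D2401 (iv D2401) F9558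
theorem F10546 : act 2 n2401 = n2169 := d19_1 D2401 (iv D2169) (iv F9569)
theorem F10547 : act 4 n2401 = n2163 := d28_1 D2401 (iv D2163) D2161
theorem F10548 : act 5 n2401 = n2401 := d31_1 D2401 (iv D2401) F9560
theorem F10549 : act 6 n2401 = n2165 := d33_1 D2401 (iv D2165) F9571
def n2402 : Q := act 7 n2162
theorem D2402 : act 7 n2162 = n2402 := rfl
theorem F10550 : act 0 n2402 = n2169 := d6_1 D2402 (iv D2169) (iv F9562)
theorem F10551 : act 1 n2402 = n2402 := d13_1 D2402 (iv D2402) F9563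
theorem F10552 : act 2 n2402 = n2168 := d19_1 D2402 (iv D2168) (iv F9568)
theorem F10553 : act 3 n2402 = n2192 := d24_1 D2402 (iv D2192) F8785 (iv F8680) (iv F9564)
theorem F10554 : act 4 n2402 = n2165 := d28_1 D2402 (iv D2165) F9567
theorem F10555 : act 5 n2402 = n2402 := d31_1 D2402 (iv D2402) F9565
theorem F10556 : act 6 n2402 = n2163 := d33_1 D2402 (iv D2163) D2162
def n2403 : Q := act 8 n2163
theorem D2403 : act 8 n2163 = n2403 := rfl
theorem F10557 : act 0 n2403 = n2170 := d7_1 D2403 (iv D2170) (iv F9575)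
theorem F10558 : act 1 n2403 = n2403 := d14_1 D2403 (iv D2403) F9576
theorem F10559 : act 3 n2403 = n2193 := d25_1 D2403 (iv D2193) (iv F9577)
theorem F10560 : act 5 n2403 = n2164 := d32_1 D2403 (iv D2164) (iv F9578)
theorem F10561 : act 7 n2403 = n2403 := d35_1 D2403 (iv D2403) (iv D2163) F8669 D2163
def n2404 : Q := act 3 n2165
theorem D2404 : act 3 n2165 = n2404 := rfl
theorem F10562 : act 1 n2404 = n2404 := d9_1 D2404 (iv D2404) F9585
theorem F10563 : act 2 n2404 = n2198 := d15_1 D2404 (iv D2198) F8805 (iv F8699) (iv F9586)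
theorem F10564 : act 5 n2404 = n2166 := d22_2 (iv F9587) D2404 (iv D2166)
theorem F10565 : act 7 n2404 = n2404 := d24_2 D2165 D2404 (iv D2404) (iv D2165) F8684
def n2405 : Q := act 8 n2165
theorem D2405 : act 8 n2165 = n2405 := rfl
theorem F10566 : act 1 n2405 = n2405 := d14_1 D2405 (iv D2405) F9585
theorem F10567 : act 2 n2405 = n2170 := d20_1 D2405 (iv D2170) (iv F9586)
theorem F10568 : act 5 n2405 = n2167 := d32_1 D2405 (iv D2167) (iv F9587)
theorem F10569 : act 7 n2405 = n2405 := d35_1 D2405 (iv D2405) (iv D2165) F8685 D2165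
def n2406 : Q := act 4 n2166
theorem D2406 : act 4 n2166 = n2406 := rfl
theorem F10570 : act 1 n2406 = n2406 := d10_1 D2406 (iv D2406) F9588
theorem F10571 : act 2 n2406 = n2200 := d16_1 D2406 (iv D2200) (iv F9589)
theorem F10572 : act 3 n2406 = n2406 := d21_1 D2406 (iv D2406) (iv D2166) F8688 D2166
theorem F10573 : act 6 n2406 = n2406 := d27_2 F9590 D2406 (iv D2406)
theorem F10574 : act 7 n2406 = n2406 := d28_2 F9591 D2406 (iv D2406)
def n2407 : Q := act 8 n2166
theorem D2407 : act 8 n2166 = n2407 := rfl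
theorem F10575 : act 1 n2407 = n2407 := d14_1 D2407 (iv D2407) F9588
theorem F10576 : act 2 n2407 = n2201 := d20_1 D2407 (iv D2201) (iv F9589)
theorem F10577 : act 3 n2407 = n2167 := d25_1 D2407 (iv D2167) D2166
theorem F10578 : act 6 n2407 = n2407 := d34_1 D2407 (iv D2407) F9590
def n2408 : Q := act 3 n2168
theorem D2408 : act 3 n2168 = n2408 := rfl
theorem F10579 : act 1 n2408 = n2172 := d9_1 D2408 (iv D2172) (iv F9597)
theorem F10580 : act 4 n2408 = n2204 := d21_2 (iv F9598) D2408 (iv D2204) F8819 (iv F8699)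
theorem F10581 : act 5 n2408 = n2408 := d22_2 F9599 D2408 (iv D2408)
theorem F10582 : act 7 n2408 = n2408 := d24_2 D2168 D2408 (iv D2408) (iv D2168) F8691
def n2409 : Q := act 8 n2168
theorem D2409 : act 8 n2168 = n2409 := rfl
theorem F10583 : act 1 n2409 = n2173 := d14_1 D2409 (iv D2173) (iv F9597)
theorem F10584 : act 4 n2409 = n2170 := d29_1 D2409 (iv D2170) (iv F9598)
theorem F10585 : act 5 n2409 = n2409 := d32_1 D2409 (iv D2409) F9599
theorem F10586 : act 7 n2409 = n2409 := d35_1 D2409 (iv D2409) (iv D2168) F8693 D2168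
def n2410 : Q := act 8 n2169
theorem D2410 : act 8 n2169 = n2410 := rfl
theorem F10587 : act 1 n2410 = n2174 := d14_1 D2410 (iv D2174) (iv F9600)
theorem F10588 : act 3 n2410 = n2206 := d25_1 D2410 (iv D2206) (iv F9601)
theorem F10589 : act 5 n2410 = n2410 := d32_1 D2410 (iv D2410) F9602
theorem F10590 : act 6 n2410 = n2170 := d34_1 D2410 (iv D2170) (iv F9603)
theorem F10591 : act 7 n2410 = n2410 := d35_1 D2410 (iv D2410) (iv D2169) F8697 D2169
def n2411 : Q := act 3 n2171
theorem D2411 : act 3 n2171 = n2411 := rfl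
theorem F10592 : act 0 n2411 = n2411 := d2_1 D2411 (iv D2411) F9608
theorem F10593 : act 4 n2411 = n2208 := d21_2 (iv F9610) D2411 (iv D2208) F8834 (iv F8717)
theorem F10594 : act 6 n2411 = n2172 := d23_2 (iv F9611) D2411 (iv D2172)
theorem F10595 : act 7 n2411 = n2411 := d24_2 D2171 D2411 (iv D2411) (iv D2171) F8708
def n2412 : Q := act 8 n2171
theorem D2412 : act 8 n2171 = n2412 := rfl
theorem F10596 : act 0 n2412 = n2412 := d7_1 D2412 (iv D2412) F9608
theorem F10597 : act 2 n2412 = n2412 := d20_1 D2412 (iv D2412) F9609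
theorem F10598 : act 4 n2412 = n2174 := d29_1 D2412 (iv D2174) (iv F9610)
theorem F10599 : act 6 n2412 = n2173 := d34_1 D2412 (iv D2173) (iv F9611)
theorem F10600 : act 7 n2412 = n2412 := d35_1 D2412 (iv D2412) (iv D2171) F8710 D2171
def n2413 : Q := act 2 n2172
theorem D2413 : act 2 n2172 = n2413 := rfl
theorem F10601 : act 0 n2413 = n2413 := d1_1 D2413 (iv D2413) F9612
theorem F10602 : act 3 n2413 = n2413 := d15_2 D2172 D2413 (iv D2413) (iv D2172) F8712
theorem F10603 : act 4 n2413 = n2210 := d16_2 (iv F9613) D2413 (iv D2210)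
theorem F10604 : act 5 n2413 = n2413 := d17_2 F9614 D2413 (iv D2413)
theorem F10605 : act 7 n2413 = n2413 := d19_2 F9615 D2413 (iv D2413)
def n2414 : Q := act 8 n2172
theorem D2414 : act 8 n2172 = n2414 := rfl
theorem F10606 : act 0 n2414 = n2414 := d7_1 D2414 (iv D2414) F9612
theorem F10607 : act 3 n2414 = n2173 := d25_1 D2414 (iv D2173) D2172
theorem F10608 : act 4 n2414 = n2211 := d29_1 D2414 (iv D2211) (iv F9613)
theorem F10609 : act 5 n2414 = n2414 := d32_1 D2414 (iv D2414) F9614
def n2415 : Q := act 3 n2175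
theorem D2415 : act 3 n2175 = n2415 := rfl
theorem F10610 : act 0 n2415 = n2395 := d2_1 D2415 F10519 (iv F9627)
theorem F10611 : act 1 n2415 = n2225 := d9_1 D2415 (iv D2225) (iv F9628)
theorem F10612 : act 2 n2415 = n2415 := d15_1 D2415 (iv D2415) F9629 F8738 (iv F9629)
theorem F10613 : act 4 n2415 = n2415 := d21_2 D2175 D2415 (iv D2415) (iv D2175) F8728
theorem F10614 : act 5 n2415 = n2279 := d22_2 (iv F9630) D2415 (iv D2279)
theorem F10615 : act 6 n2415 = n2369 := d23_2 (iv F9631) D2415 F10432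
theorem F10616 : act 8 n2415 = n2194 := d25_2 (iv F9632) D2415 (iv D2194)
def n2416 : Q := act 7 n2175
theorem D2416 : act 7 n2175 = n2416 := rfl
theorem F10617 : act 0 n2416 = n2358 := d6_1 D2416 F10404 (iv F9627)
theorem F10618 : act 1 n2416 = n2226 := d13_1 D2416 (iv D2226) (iv F9628)
theorem F10619 : act 2 n2416 = n2179 := d19_1 D2416 (iv D2179) (iv F9629)
theorem F10620 : act 4 n2416 = n2176 := d28_1 D2416 (iv D2176) D2175
theorem F10621 : act 5 n2416 = n2281 := d31_1 D2416 (iv D2281) (iv F9630)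
theorem F10622 : act 6 n2416 = n2362 := d33_1 D2416 F10415 (iv F9631)
def n2417 : Q := act 3 n2176
theorem D2417 : act 3 n2176 = n2417 := rfl
theorem F10623 : act 0 n2417 = n2257 := d2_1 D2417 F9992 (iv F9633)
theorem F10624 : act 1 n2417 = n2227 := d9_1 D2417 (iv D2227) (iv F9634)
theorem F10625 : act 2 n2417 = n2417 := d15_1 D2417 (iv D2417) F9635 F8744 (iv F9635)
theorem F10626 : act 5 n2417 = n2177 := d22_2 (iv F9636) D2417 (iv D2177)
theorem F10627 : act 6 n2417 = n2379 := d23_2 (iv F9637) D2417 F10466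
theorem F10628 : act 7 n2417 = n2417 := d24_2 D2176 D2417 (iv D2417) (iv D2176) F8728
def n2418 : Q := act 8 n2176
theorem D2418 : act 8 n2176 = n2418 := rfl
theorem F10629 : act 0 n2418 = n2361 := d7_1 D2418 (iv D2361) (iv F9633)
theorem F10630 : act 1 n2418 = n2228 := d14_1 D2418 (iv D2228) (iv F9634)
theorem F10631 : act 2 n2418 = n2180 := d20_1 D2418 (iv D2180) (iv F9635)
theorem F10632 : act 5 n2418 = n2178 := d32_1 D2418 (iv D2178) (iv F9636)
theorem F10633 : act 6 n2418 = n2389 := d34_1 D2418 (iv D2389) (iv F9637)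
theorem F10634 : act 7 n2418 = n2199 := d35_1 D2418 (iv D2199) (iv D1965) (iv F8729) D2176
def n2419 : Q := act 8 n2177
theorem D2419 : act 8 n2177 = n2419 := rfl
theorem F10635 : act 0 n2419 = n2258 := d7_1 D2419 (iv D2258) (iv F9638)
theorem F10636 : act 1 n2419 = n2230 := d14_1 D2419 (iv D2230) (iv F9639)
theorem F10637 : act 2 n2419 = n2419 := d20_1 D2419 (iv D2419) F9640
theorem F10638 : act 3 n2419 = n2178 := d25_1 D2419 (iv D2178) D2177
theorem F10639 : act 4 n2419 = n2242 := d29_1 D2419 (iv D2242) (iv F9641)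
theorem F10640 : act 6 n2419 = n2419 := d34_1 D2419 (iv D2419) F9642
def n2420 : Q := act 3 n2179
theorem D2420 : act 3 n2179 = n2420 := rfl
theorem F10641 : act 0 n2420 = n2382 := d2_1 D2420 F10475 (iv F9650)
theorem F10642 : act 1 n2420 = n2181 := d9_1 D2420 (iv D2181) (iv F9651)
theorem F10643 : act 4 n2420 = n2420 := d21_2 (iv F9652) D2420 (iv D2420) F9652 F8744
theorem F10644 : act 5 n2420 = n2285 := d22_2 (iv F9653) D2420 (iv D2285)
theorem F10645 : act 6 n2420 = n2326 := d23_2 (iv F9654) D2420 F10299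
theorem F10646 : act 7 n2420 = n2420 := d24_2 D2179 D2420 (iv D2420) (iv D2179) F8738
def n2421 : Q := act 8 n2179
theorem D2421 : act 8 n2179 = n2421 := rfl
theorem F10647 : act 0 n2421 = n2387 := d7_1 D2421 (iv D2387) (iv F9650)
theorem F10648 : act 1 n2421 = n2182 := d14_1 D2421 (iv D2182) (iv F9651)
theorem F10649 : act 4 n2421 = n2180 := d29_1 D2421 (iv D2180) (iv F9652)
theorem F10650 : act 5 n2421 = n2286 := d32_1 D2421 (iv D2286) (iv F9653)
theorem F10651 : act 6 n2421 = n2365 := d34_1 D2421 (iv D2365) (iv F9654)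
theorem F10652 : act 7 n2421 = n2205 := d35_1 D2421 (iv D2205) (iv D1969) (iv F8741) D2179
def n2422 : Q := act 8 n2181
theorem D2422 : act 8 n2181 = n2422 := rfl
theorem F10653 : act 0 n2422 = n2422 := d7_1 D2422 (iv D2422) F9661
theorem F10654 : act 2 n2422 = n2325 := d20_1 D2422 (iv D2325) (iv F9662)
theorem F10655 : act 3 n2422 = n2182 := d25_1 D2422 (iv D2182) D2181
theorem F10656 : act 4 n2422 = n2422 := d29_1 D2422 (iv D2422) F9663
theorem F10657 : act 5 n2422 = n2291 := d32_1 D2422 (iv D2291) (iv F9664)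
theorem F10658 : act 6 n2422 = n2327 := d34_1 D2422 (iv D2327) (iv F9665)
def n2423 : Q := act 4 n2183
theorem D2423 : act 4 n2183 = n2423 := rfl
theorem F10659 : act 0 n2423 = n2232 := d3_1 D2423 (iv D2232) (iv F9673)
theorem F10660 : act 1 n2423 = n2185 := d10_1 D2423 (iv D2185) (iv F9674)
theorem F10661 : act 2 n2423 = n2423 := d16_1 D2423 (iv D2423) F9675
theorem F10662 : act 5 n2423 = n2292 := d26_2 D2183 D2423 (iv D2292) (iv D2046) (iv F8767)
theorem F10663 : act 8 n2423 = n2392 := d29_2 (iv F9677) D2423 F10512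
theorem F10664 : act 3 n2396 = n2423 := d22_3 F10662 F10157 D2396
def n2424 : Q := act 6 n2183
theorem D2424 : act 6 n2183 = n2424 := rfl
theorem F10665 : act 0 n2424 = n2233 := d5_1 D2424 (iv D2233) (iv F9673)
theorem F10666 : act 1 n2424 = n2186 := d12_1 D2424 (iv D2186) (iv F9674)
theorem F10667 : act 2 n2424 = n2424 := d18_1 D2424 (iv D2424) F9675
theorem F10668 : act 3 n2424 = n2424 := d23_1 D2424 (iv D2424) F9676
theorem F10669 : act 5 n2424 = n2424 := d30_1 D2424 (iv D2424) (iv D2183) F8768 D2183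
theorem F10670 : act 8 n2424 = n2390 := d34_2 (iv F9677) D2424 F10506
def n2425 : Q := act 7 n2183
theorem D2425 : act 7 n2183 = n2425 := rfl
theorem F10671 : act 0 n2425 = n2234 := d6_1 D2425 (iv D2234) (iv F9673)
theorem F10672 : act 1 n2425 = n2187 := d13_1 D2425 (iv D2187) (iv F9674)
theorem F10673 : act 2 n2425 = n2425 := d19_1 D2425 (iv D2425) F9675
theorem F10674 : act 5 n2425 = n2184 := d31_1 D2425 (iv D2184) D2183
def n2426 : Q := act 3 n2184
theorem D2426 : act 3 n2184 = n2426 := rfl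
theorem F10675 : act 0 n2426 = n2229 := d2_1 D2426 F9877 (iv F9678)
theorem F10676 : act 1 n2426 = n2188 := d9_1 D2426 (iv D2188) (iv F9679)
theorem F10677 : act 4 n2426 = n2221 := d21_2 (iv F9681) D2426 (iv D2221) F8884 (iv F9161)
theorem F10678 : act 6 n2426 = n2426 := d23_2 F9682 D2426 (iv D2426)
theorem F10679 : act 7 n2426 = n2426 := d24_2 D2184 D2426 (iv D2426) (iv D2184) F8766
def n2427 : Q := act 8 n2184
theorem D2427 : act 8 n2184 = n2427 := rfl
theorem F10680 : act 0 n2427 = n2235 := d7_1 D2427 (iv D2235) (iv F9678)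
theorem F10681 : act 1 n2427 = n2189 := d14_1 D2427 (iv D2189) (iv F9679)
theorem F10682 : act 2 n2427 = n2427 := d20_1 D2427 (iv D2427) F9680
theorem F10683 : act 4 n2427 = n2294 := d29_1 D2427 (iv D2294) (iv F9681)
theorem F10684 : act 6 n2427 = n2427 := d34_1 D2427 (iv D2427) F9682
theorem F10685 : act 7 n2427 = n2318 := d35_1 D2427 (iv D2318) F9225 (iv F8769) D2184
def n2428 : Q := act 3 n2185
theorem D2428 : act 3 n2185 = n2428 := rfl
theorem F10686 : act 0 n2428 = n2194 := d2_1 D2428 (iv D2194) (iv F9683)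
theorem F10687 : act 1 n2428 = n2396 := d9_1 D2428 F10664 F10660
theorem F10688 : act 2 n2428 = n2428 := d15_1 D2428 (iv D2428) F9684 F8780 (iv F9684)
theorem F10689 : act 4 n2428 = n2428 := d21_2 D2185 D2428 (iv D2428) (iv D2185) F8772
theorem F10690 : act 5 n2428 = n2295 := d22_2 (iv F9685) D2428 (iv D2295)
theorem F10691 : act 8 n2428 = n2395 := d25_2 (iv F9686) D2428 F10519
def n2429 : Q := act 6 n2185
theorem D2429 : act 6 n2185 = n2429 := rfl
theorem F10692 : act 0 n2429 = n2195 := d5_1 D2429 (iv D2195) (iv F9683)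
theorem F10693 : act 2 n2429 = n2190 := d18_1 D2429 (iv D2190) (iv F9684)
theorem F10694 : act 4 n2429 = n2186 := d27_1 D2429 (iv D2186) D2185
theorem F10695 : act 8 n2429 = n2370 := d34_2 (iv F9686) D2429 F10436
def n2430 : Q := act 7 n2185
theorem D2430 : act 7 n2185 = n2430 := rfl
theorem F10696 : act 0 n2430 = n2196 := d6_1 D2430 (iv D2196) (iv F9683)
theorem F10697 : act 2 n2430 = n2191 := d19_1 D2430 (iv D2191) (iv F9684)
theorem F10698 : act 4 n2430 = n2187 := d28_1 D2430 (iv D2187) D2185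
theorem F10699 : act 5 n2430 = n2297 := d31_1 D2430 (iv D2297) (iv F9685)
def n2431 : Q := act 7 n2186
theorem D2431 : act 7 n2186 = n2431 := rfl
theorem F10700 : act 0 n2431 = n2197 := d6_1 D2431 (iv D2197) (iv F9687)
theorem F10701 : act 2 n2431 = n2192 := d19_1 D2431 (iv D2192) (iv F9688)
theorem F10702 : act 5 n2431 = n2431 := d31_1 D2431 (iv D2431) F9690
theorem F10703 : act 6 n2431 = n2187 := d33_1 D2431 (iv D2187) D2186
def n2432 : Q := act 3 n2187
theorem D2432 : act 3 n2187 = n2432 := rfl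
theorem F10704 : act 0 n2432 = n2198 := d2_1 D2432 (iv D2198) (iv F9692)
theorem F10705 : act 5 n2432 = n2188 := d22_2 (iv F9694) D2432 (iv D2188)
theorem F10706 : act 7 n2432 = n2432 := d24_2 D2187 D2432 (iv D2432) (iv D2187) F8772
def n2433 : Q := act 8 n2187
theorem D2433 : act 8 n2187 = n2433 := rfl
theorem F10707 : act 0 n2433 = n2199 := d7_1 D2433 (iv D2199) (iv F9692)
theorem F10708 : act 2 n2433 = n2193 := d20_1 D2433 (iv D2193) (iv F9693)
theorem F10709 : act 5 n2433 = n2189 := d32_1 D2433 (iv D2189) (iv F9694)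
theorem F10710 : act 7 n2433 = n2361 := d35_1 D2433 (iv D2361) F9402 (iv F8773) D2187
def n2434 : Q := act 4 n2188
theorem D2434 : act 4 n2188 = n2434 := rfl
theorem F10711 : act 0 n2434 = n2200 := d3_1 D2434 (iv D2200) (iv F9695)
theorem F10712 : act 1 n2434 = n2221 := d10_1 D2434 (iv F10677) F10676
theorem F10713 : act 3 n2434 = n2218 := d21_1 D2434 F9826 (iv D2051) (iv F8776) D2188
theorem F10714 : act 6 n2434 = n2434 := d27_2 F9696 D2434 (iv D2434)
theorem F10715 : act 7 n2434 = n2434 := d28_2 F9697 D2434 (iv D2434)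
def n2435 : Q := act 8 n2188
theorem D2435 : act 8 n2188 = n2435 := rfl
theorem F10716 : act 0 n2435 = n2201 := d7_1 D2435 (iv D2201) (iv F9695)
theorem F10717 : act 3 n2435 = n2189 := d25_1 D2435 (iv D2189) D2188
theorem F10718 : act 6 n2435 = n2435 := d34_1 D2435 (iv D2435) F9696
def n2436 : Q := act 5 n2190
theorem D2436 : act 5 n2190 = n2436 := rfl
theorem F10719 : act 0 n2436 = n2202 := d4_1 D2436 (iv D2202) (iv F9703)
theorem F10720 : act 1 n2436 = n2436 := d11_1 D2436 (iv D2436) F9704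
theorem F10721 : act 3 n2436 = n2436 := d22_1 D2436 (iv D2436) F9705
theorem F10722 : act 4 n2436 = n2436 := d26_1 D2436 (iv D2436) F9706 F8786 (iv F9706)
theorem F10723 : act 6 n2436 = n2302 := d30_2 D2190 D2436 (iv D2302) (iv D2053) (iv F8781)
theorem F10724 : act 8 n2436 = n2274 := d32_2 (iv F9707) D2436 F10069
def n2437 : Q := act 7 n2190
theorem D2437 : act 7 n2190 = n2437 := rfl
theorem F10725 : act 0 n2437 = n2203 := d6_1 D2437 (iv D2203) (iv F9703)
theorem F10726 : act 1 n2437 = n2437 := d13_1 D2437 (iv D2437) F9704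
theorem F10727 : act 4 n2437 = n2192 := d28_1 D2437 (iv D2192) (iv F9706)
theorem F10728 : act 6 n2437 = n2191 := d33_1 D2437 (iv D2191) D2190
def n2438 : Q := act 3 n2191
theorem D2438 : act 3 n2191 = n2438 := rfl
theorem F10729 : act 0 n2438 = n2204 := d2_1 D2438 (iv D2204) (iv F9708)
theorem F10730 : act 1 n2438 = n2438 := d9_1 D2438 (iv D2438) F9709
theorem F10731 : act 5 n2438 = n2304 := d22_2 (iv F9711) D2438 (iv D2304)
theorem F10732 : act 7 n2438 = n2438 := d24_2 D2191 D2438 (iv D2438) (iv D2191) F8780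
def n2439 : Q := act 8 n2191
theorem D2439 : act 8 n2191 = n2439 := rfl
theorem F10733 : act 0 n2439 = n2205 := d7_1 D2439 (iv D2205) (iv F9708)
theorem F10734 : act 1 n2439 = n2439 := d14_1 D2439 (iv D2439) F9709
theorem F10735 : act 4 n2439 = n2193 := d29_1 D2439 (iv D2193) (iv F9710)
theorem F10736 : act 5 n2439 = n2305 := d32_1 D2439 (iv D2305) (iv F9711)
theorem F10737 : act 7 n2439 = n2387 := d35_1 D2439 (iv D2387) F9489 (iv F8782) D2191
def n2440 : Q := act 8 n2192
theorem D2440 : act 8 n2192 = n2440 := rfl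
theorem F10738 : act 0 n2440 = n2206 := d7_1 D2440 (iv D2206) (iv F9712)
theorem F10739 : act 1 n2440 = n2440 := d14_1 D2440 (iv D2440) F9713
theorem F10740 : act 5 n2440 = n2440 := d32_1 D2440 (iv D2440) F9714
theorem F10741 : act 6 n2440 = n2193 := d34_1 D2440 (iv D2193) (iv F9715)
theorem F10742 : act 7 n2440 = n2388 := d35_1 D2440 (iv D2388) F9496 (iv F8787) D2192
def n2441 : Q := act 6 n2194
theorem D2441 : act 6 n2194 = n2441 := rfl
theorem F10743 : act 1 n2441 = n2247 := d12_1 D2441 (iv D2247) (iv F9720)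
theorem F10744 : act 2 n2441 = n2441 := d18_1 D2441 (iv D2441) F9721
theorem F10745 : act 3 n2441 = n2195 := d23_1 D2441 (iv D2195) D2194
theorem F10746 : act 4 n2441 = n2441 := d27_1 D2441 (iv D2441) F9722
theorem F10747 : act 8 n2441 = n2369 := d34_2 F10616 D2441 (iv F10615)
theorem F10748 : act 5 n2366 = n2441 := d11_0 F10743 F9960 D2366
def n2442 : Q := act 7 n2194
theorem D2442 : act 7 n2194 = n2442 := rfl
theorem F10749 : act 1 n2442 = n2248 := d13_1 D2442 (iv D2248) (iv F9720)
theorem F10750 : act 2 n2442 = n2442 := d19_1 D2442 (iv D2442) F9721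
theorem F10751 : act 4 n2442 = n2442 := d28_1 D2442 (iv D2442) F9722
theorem F10752 : act 5 n2442 = n2308 := d31_1 D2442 (iv D2308) (iv F9723)
def n2443 : Q := act 5 n2195
theorem D2443 : act 5 n2195 = n2443 := rfl
theorem F10753 : act 1 n2443 = n2249 := d11_1 D2443 (iv D2249) (iv F9724)
theorem F10754 : act 2 n2443 = n2202 := d17_1 D2443 (iv D2202) (iv F9725)
theorem F10755 : act 3 n2443 = n2366 := d22_1 D2443 F10748 F10745
theorem F10756 : act 4 n2443 = n2443 := d26_1 D2443 (iv D2443) F9726 F8802 (iv F9726)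
theorem F10757 : act 6 n2443 = n2309 := d30_2 D2195 D2443 (iv D2309) (iv D2058) (iv F8798)
theorem F10758 : act 8 n2443 = n2272 := d32_2 (iv F9727) D2443 F10059
def n2444 : Q := act 7 n2195
theorem D2444 : act 7 n2195 = n2444 := rfl
theorem F10759 : act 1 n2444 = n2250 := d13_1 D2444 (iv D2250) (iv F9724)
theorem F10760 : act 2 n2444 = n2203 := d19_1 D2444 (iv D2203) (iv F9725)
theorem F10761 : act 4 n2444 = n2197 := d28_1 D2444 (iv D2197) (iv F9726)
theorem F10762 : act 6 n2444 = n2196 := d33_1 D2444 (iv D2196) D2195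
def n2445 : Q := act 3 n2196
theorem D2445 : act 3 n2196 = n2445 := rfl
theorem F10763 : act 1 n2445 = n2251 := d9_1 D2445 (iv D2251) (iv F9728)
theorem F10764 : act 5 n2445 = n2311 := d22_2 (iv F9731) D2445 (iv D2311)
def n2446 : Q := act 8 n2196
theorem D2446 : act 8 n2196 = n2446 := rfl
theorem F10765 : act 1 n2446 = n2252 := d14_1 D2446 (iv D2252) (iv F9728)
theorem F10766 : act 2 n2446 = n2205 := d20_1 D2446 (iv D2205) (iv F9729)
theorem F10767 : act 4 n2446 = n2199 := d29_1 D2446 (iv D2199) (iv F9730)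
theorem F10768 : act 5 n2446 = n2312 := d32_1 D2446 (iv D2312) (iv F9731)
def n2447 : Q := act 3 n2197
theorem D2447 : act 3 n2197 = n2447 := rfl
theorem F10769 : act 1 n2447 = n2253 := d9_1 D2447 (iv D2253) (iv F9732)
theorem F10770 : act 5 n2447 = n2447 := d22_2 F9734 D2447 (iv D2447)
theorem F10771 : act 6 n2447 = n2198 := d23_2 (iv F9735) D2447 (iv D2198)
theorem F10772 : act 7 n2447 = n2447 := d24_2 D2197 D2447 (iv D2447) (iv D2197) F8801
def n2448 : Q := act 8 n2197
theorem D2448 : act 8 n2197 = n2448 := rfl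
theorem F10773 : act 1 n2448 = n2254 := d14_1 D2448 (iv D2254) (iv F9732)
theorem F10774 : act 2 n2448 = n2206 := d20_1 D2448 (iv D2206) (iv F9733)
theorem F10775 : act 5 n2448 = n2448 := d32_1 D2448 (iv D2448) F9734
theorem F10776 : act 6 n2448 = n2199 := d34_1 D2448 (iv D2199) (iv F9735)
theorem F10777 : act 7 n2448 = n2389 := d35_1 D2448 (iv D2389) F9502 (iv F8803) D2197
def n2449 : Q := act 4 n2198
theorem D2449 : act 4 n2198 = n2449 := rfl
theorem F10778 : act 1 n2449 = n2255 := d10_1 D2449 (iv D2255) (iv F9736)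
theorem F10779 : act 7 n2449 = n2449 := d28_2 F9738 D2449 (iv D2449)
def n2450 : Q := act 8 n2198
theorem D2450 : act 8 n2198 = n2450 := rfl
theorem F10780 : act 1 n2450 = n2256 := d14_1 D2450 (iv D2256) (iv F9736)
theorem F10781 : act 3 n2450 = n2199 := d25_1 D2450 (iv D2199) D2198
theorem F10782 : act 5 n2450 = n2201 := d32_1 D2450 (iv D2201) (iv F9737)
def n2451 : Q := act 5 n2200
theorem D2451 : act 5 n2200 = n2451 := rfl
theorem F10783 : act 1 n2451 = n2257 := d11_1 D2451 (iv D2257) (iv F9742)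
theorem F10784 : act 3 n2451 = n2317 := d22_1 D2451 (iv D2317) (iv F9743)
theorem F10785 : act 7 n2451 = n2451 := d31_2 F9745 D2451 (iv D2451)
def n2452 : Q := act 8 n2200
theorem D2452 : act 8 n2200 = n2452 := rfl
theorem F10786 : act 1 n2452 = n2258 := d14_1 D2452 (iv D2258) (iv F9742)
theorem F10787 : act 3 n2452 = n2318 := d25_1 D2452 (iv D2318) (iv F9743)
theorem F10788 : act 4 n2452 = n2201 := d29_1 D2452 (iv D2201) D2200
theorem F10789 : act 6 n2452 = n2452 := d34_1 D2452 (iv D2452) F9744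
def n2453 : Q := act 7 n2201
theorem D2453 : act 7 n2201 = n2453 := rfl
theorem F10790 : act 1 n2453 = n2259 := d13_1 D2453 (iv D2259) (iv F9746)
theorem F10791 : act 6 n2453 = n2453 := d33_1 D2453 (iv D2453) F9748
theorem F10792 : act 8 n2453 = n2453 := d35_2 D2201 D2453 (iv D2453) (iv D2201) F8809
def n2454 : Q := act 7 n2202
theorem D2454 : act 7 n2202 = n2454 := rfl
theorem F10793 : act 1 n2454 = n2207 := d13_1 D2454 (iv D2207) (iv F9749)
theorem F10794 : act 4 n2454 = n2454 := d28_1 D2454 (iv D2454) F9751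
theorem F10795 : act 5 n2454 = n2203 := d31_1 D2454 (iv D2203) D2202
theorem F10796 : act 6 n2454 = n2319 := d33_1 D2454 (iv D2319) (iv F9752)
def n2455 : Q := act 3 n2203
theorem D2455 : act 3 n2203 = n2455 := rfl
theorem F10797 : act 1 n2455 = n2208 := d9_1 D2455 (iv D2208) (iv F9754)
theorem F10798 : act 6 n2455 = n2204 := d23_2 (iv F9756) D2455 (iv D2204)
theorem F10799 : act 7 n2455 = n2455 := d24_2 D2203 D2455 (iv D2455) (iv D2203) F8815
def n2456 : Q := act 8 n2203
theorem D2456 : act 8 n2203 = n2456 := rfl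
theorem F10800 : act 1 n2456 = n2209 := d14_1 D2456 (iv D2209) (iv F9754)
theorem F10801 : act 4 n2456 = n2206 := d29_1 D2456 (iv D2206) (iv F9755)
theorem F10802 : act 6 n2456 = n2205 := d34_1 D2456 (iv D2205) (iv F9756)
theorem F10803 : act 7 n2456 = n2365 := d35_1 D2456 (iv D2365) F9415 (iv F8817) D2203
def n2457 : Q := act 2 n2204
theorem D2457 : act 2 n2204 = n2457 := rfl
theorem F10804 : act 5 n2457 = n2322 := d17_2 (iv F9758) D2457 (iv D2322)
theorem F10805 : act 7 n2457 = n2457 := d19_2 F9759 D2457 (iv D2457)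
def n2458 : Q := act 8 n2204
theorem D2458 : act 8 n2204 = n2458 := rfl
theorem F10806 : act 1 n2458 = n2211 := d14_1 D2458 (iv D2211) (iv F9757)
theorem F10807 : act 3 n2458 = n2205 := d25_1 D2458 (iv D2205) D2204
theorem F10808 : act 5 n2458 = n2323 := d32_1 D2458 (iv D2323) (iv F9758)
def n2459 : Q := act 3 n2207
theorem D2459 : act 3 n2207 = n2459 := rfl
theorem F10809 : act 0 n2459 = n2459 := d2_1 D2459 (iv D2459) F9767
theorem F10810 : act 2 n2459 = n2288 := d15_1 D2459 (iv D2288) F9138 (iv F9022) (iv F9768)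
theorem F10811 : act 5 n2459 = n2208 := d22_2 (iv F9770) D2459 (iv D2208)
theorem F10812 : act 6 n2459 = n2290 := d23_2 (iv F9771) D2459 F10149
theorem F10813 : act 7 n2459 = n2459 := d24_2 D2207 D2459 (iv D2459) (iv D2207) F8828
def n2460 : Q := act 8 n2207
theorem D2460 : act 8 n2207 = n2460 := rfl
theorem F10814 : act 0 n2460 = n2460 := d7_1 D2460 (iv D2460) F9767
theorem F10815 : act 2 n2460 = n2265 := d20_1 D2460 (iv D2265) (iv F9768)
theorem F10816 : act 4 n2460 = n2460 := d29_1 D2460 (iv D2460) F9769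
theorem F10817 : act 5 n2460 = n2209 := d32_1 D2460 (iv D2209) (iv F9770)
theorem F10818 : act 6 n2460 = n2324 := d34_1 D2460 (iv D2324) (iv F9771)
theorem F10819 : act 7 n2460 = n2269 := d35_1 D2460 (iv D2269) F9038 (iv F8831) D2207
def n2461 : Q := act 2 n2208
theorem D2461 : act 2 n2208 = n2461 := rfl
theorem F10820 : act 0 n2461 = n2461 := d1_1 D2461 (iv D2461) F9772
theorem F10821 : act 3 n2461 = n2266 := d15_2 D2208 D2461 (iv D2266) (iv D2019) (iv F8833)
theorem F10822 : act 5 n2461 = n2288 := d17_2 F10811 D2461 (iv F10810)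
theorem F10823 : act 6 n2461 = n2210 := d18_2 (iv F9773) D2461 (iv D2210)
theorem F10824 : act 7 n2461 = n2461 := d19_2 F9774 D2461 (iv D2461)
def n2462 : Q := act 8 n2208
theorem D2462 : act 8 n2208 = n2462 := rfl
theorem F10825 : act 0 n2462 = n2462 := d7_1 D2462 (iv D2462) F9772
theorem F10826 : act 3 n2462 = n2209 := d25_1 D2462 (iv D2209) D2208
theorem F10827 : act 6 n2462 = n2211 := d34_1 D2462 (iv D2211) (iv F9773)
def n2463 : Q := act 1 n2210
theorem D2463 : act 1 n2210 = n2463 := rfl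
theorem F10828 : act 3 n2463 = n2268 := d9_2 (iv F9781) D2463 (iv D2268)
theorem F10829 : act 5 n2463 = n2326 := d11_2 (iv F9782) D2463 (iv D2326)
theorem F10830 : act 7 n2463 = n2463 := d13_2 F9783 D2463 (iv D2463)
def n2464 : Q := act 8 n2210
theorem D2464 : act 8 n2210 = n2464 := rfl
theorem F10831 : act 0 n2464 = n2464 := d7_1 D2464 (iv D2464) F9780
theorem F10832 : act 2 n2464 = n2211 := d20_1 D2464 (iv D2211) D2210
theorem F10833 : act 3 n2464 = n2269 := d25_1 D2464 (iv D2269) (iv F9781)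
theorem F10834 : act 5 n2464 = n2327 := d32_1 D2464 (iv D2327) (iv F9782)
def n2465 : Q := act 7 n2211
theorem D2465 : act 7 n2211 = n2465 := rfl
theorem F10835 : act 0 n2465 = n2465 := d6_1 D2465 (iv D2465) F9784
theorem F10836 : act 5 n2465 = n2328 := d31_1 D2465 (iv D2328) (iv F9786)
theorem F10837 : act 8 n2465 = n2465 := d35_2 D2211 D2465 (iv D2465) (iv D2211) F8838
def n2466 : Q := act 7 n2212
theorem D2466 : act 7 n2212 = n2466 := rfl
theorem F10838 : act 0 n2466 = n2466 := d6_1 D2466 (iv D2466) F9787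
theorem F10839 : act 1 n2466 = n2213 := d13_1 D2466 (iv D2213) D2212
theorem F10840 : act 2 n2466 = n2466 := d19_1 D2466 (iv D2466) F9788
theorem F10841 : act 4 n2466 = n2466 := d28_1 D2466 (iv D2466) F9790
theorem F10842 : act 5 n2466 = n2275 := d31_1 D2466 (iv D2275) (iv F9791)
theorem F10843 : act 6 n2466 = n2466 := d33_1 D2466 (iv D2466) F9792
def n2467 : Q := act 3 n2213
theorem D2467 : act 3 n2213 = n2467 := rfl
theorem F10844 : act 0 n2467 = n2215 := d2_1 D2467 (iv D2215) (iv F9794)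
theorem F10845 : act 2 n2467 = n2221 := d15_1 D2467 (iv D2221) F8883 (iv F8856) (iv F9795)
theorem F10846 : act 5 n2467 = n2371 := d22_2 (iv F9797) D2467 (iv D2371)
theorem F10847 : act 6 n2467 = n2467 := d23_2 F9798 D2467 (iv D2467)
theorem F10848 : act 7 n2467 = n2467 := d24_2 D2213 D2467 (iv D2467) (iv D2213) F8849
def n2468 : Q := act 8 n2213
theorem D2468 : act 8 n2213 = n2468 := rfl
theorem F10849 : act 0 n2468 = n2216 := d7_1 D2468 (iv D2216) (iv F9794)
theorem F10850 : act 2 n2468 = n2214 := d20_1 D2468 (iv D2214) (iv F9795)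
theorem F10851 : act 4 n2468 = n2468 := d29_1 D2468 (iv D2468) F9796
theorem F10852 : act 5 n2468 = n2372 := d32_1 D2468 (iv D2372) (iv F9797)
theorem F10853 : act 6 n2468 = n2468 := d34_1 D2468 (iv D2468) F9798
theorem F10854 : act 7 n2468 = n2468 := d35_1 D2468 (iv D2468) (iv D2213) F8853 D2213
def n2469 : Q := act 4 n2215
theorem D2469 : act 4 n2215 = n2469 := rfl
theorem F10855 : act 1 n2469 = n2469 := d10_1 D2469 (iv D2469) F9806
theorem F10856 : act 2 n2469 = n2229 := d16_1 D2469 (iv D2229) (iv F9807)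
theorem F10857 : act 3 n2469 = n2469 := d21_1 D2469 (iv D2469) (iv D2215) F8862 D2215
theorem F10858 : act 6 n2469 = n2469 := d27_2 F9809 D2469 (iv D2469)
theorem F10859 : act 7 n2469 = n2469 := d28_2 F9810 D2469 (iv D2469)
def n2470 : Q := act 8 n2215
theorem D2470 : act 8 n2215 = n2470 := rfl
theorem F10860 : act 1 n2470 = n2470 := d14_1 D2470 (iv D2470) F9806
theorem F10861 : act 2 n2470 = n2230 := d20_1 D2470 (iv D2230) (iv F9807)
theorem F10862 : act 3 n2470 = n2216 := d25_1 D2470 (iv D2216) D2215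
theorem F10863 : act 5 n2470 = n2378 := d32_1 D2470 (iv D2378) (iv F9808)
theorem F10864 : act 6 n2470 = n2470 := d34_1 D2470 (iv D2470) F9809
def n2471 : Q := act 4 n2217
theorem D2471 : act 4 n2217 = n2471 := rfl
theorem F10865 : act 0 n2471 = n2392 := d3_1 D2471 F10512 (iv F9817)
theorem F10866 : act 1 n2471 = n2219 := d10_1 D2471 (iv D2219) (iv F9818)
theorem F10867 : act 2 n2471 = n2471 := d16_1 D2471 (iv D2471) F9819
theorem F10868 : act 5 n2471 = n2307 := d26_2 D2217 D2471 F10236 (iv D2075) (iv F8874)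
theorem F10869 : act 6 n2471 = n2366 := d27_2 F9822 D2471 F10425
theorem F10870 : act 8 n2471 = n2232 := d29_2 (iv F9821) D2471 (iv D2232)
theorem F10871 : act 3 n2471 = n2309 := d37_3 (iv D2218) D2217 D2471 F10242 F9230 F8315 D2070 F9248 F8321 F7487 F7486 (iv F7582) (iv F8433) (iv D1870) F7556 (iv F8428) F8427 F7611 F6813 F6013 D1483 F6831 F6059 F5218 F4435 F3734 F3253 F2786 F2271 F1849 F1848 F1505 F1504 (iv F1718) F1721 (iv F2127) F2126 (iv F2657) (iv F3342) (iv F4037) (iv F4756) (iv F5476) (iv D1181) F4669 (iv D998) (iv F4399) F4398 F3709 F3712 D936 (iv F5138) (iv F5942) (iv F6667) (iv F7412) F7411 (iv F7685) F7684 D1694 F7691 (iv F8456) (iv F9222) (iv F9823)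
def n2472 : Q := act 7 n2217
theorem D2472 : act 7 n2217 = n2472 := rfl
theorem F10872 : act 0 n2472 = n2317 := d6_1 D2472 F10271 (iv F9817)
theorem F10873 : act 1 n2472 = n2220 := d13_1 D2472 (iv D2220) (iv F9818)
theorem F10874 : act 2 n2472 = n2472 := d19_1 D2472 (iv D2472) F9819
theorem F10875 : act 5 n2472 = n2218 := d31_1 D2472 (iv D2218) D2217
theorem F10876 : act 6 n2472 = n2375 := d33_1 D2472 F10454 F9822
def n2473 : Q := act 8 n2218
theorem D2473 : act 8 n2218 = n2473 := rfl
theorem F10877 : act 0 n2473 = n2318 := d7_1 D2473 (iv D2318) (iv F9823)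
theorem F10878 : act 1 n2473 = n2222 := d14_1 D2473 (iv D2222) (iv F9824)
theorem F10879 : act 2 n2473 = n2473 := d20_1 D2473 (iv D2473) F9825
theorem F10880 : act 4 n2473 = n2301 := d29_1 D2473 (iv D2301) (iv F9826)
theorem F10881 : act 6 n2473 = n2473 := d34_1 D2473 (iv D2473) F9827
theorem F10882 : act 7 n2473 = n2235 := d35_1 D2473 (iv D2235) (iv D1995) (iv F8876) D2218
def n2474 : Q := act 7 n2219
theorem D2474 : act 7 n2219 = n2474 := rfl
theorem F10883 : act 0 n2474 = n2226 := d6_1 D2474 (iv D2226) (iv F9828)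
theorem F10884 : act 2 n2474 = n2223 := d19_1 D2474 (iv D2223) (iv F9829)
theorem F10885 : act 4 n2474 = n2220 := d28_1 D2474 (iv D2220) D2219
theorem F10886 : act 5 n2474 = n2329 := d31_1 D2474 (iv D2329) (iv F9830)
theorem F10887 : act 6 n2474 = n2347 := d33_1 D2474 F10380 (iv F9831)
def n2475 : Q := act 3 n2220
theorem D2475 : act 3 n2220 = n2475 := rfl
theorem F10888 : act 0 n2475 = n2227 := d2_1 D2475 (iv D2227) (iv F9834)
theorem F10889 : act 2 n2475 = n2371 := d15_1 D2475 (iv D2371) F9435 (iv F8894) (iv F9835)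
theorem F10890 : act 5 n2475 = n2221 := d22_2 (iv F9836) D2475 (iv D2221)
theorem F10891 : act 6 n2475 = n2373 := d23_2 (iv F9837) D2475 F10446
theorem F10892 : act 7 n2475 = n2475 := d24_2 D2220 D2475 (iv D2475) (iv D2220) F8879
def n2476 : Q := act 8 n2220
theorem D2476 : act 8 n2220 = n2476 := rfl
theorem F10893 : act 0 n2476 = n2228 := d7_1 D2476 (iv D2228) (iv F9834)
theorem F10894 : act 2 n2476 = n2224 := d20_1 D2476 (iv D2224) (iv F9835)
theorem F10895 : act 5 n2476 = n2222 := d32_1 D2476 (iv D2222) (iv F9836)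
theorem F10896 : act 6 n2476 = n2376 := d34_1 D2476 (iv D2376) (iv F9837)
theorem F10897 : act 7 n2476 = n2241 := d35_1 D2476 (iv D2241) (iv D1998) (iv F8880) D2220
def n2477 : Q := act 8 n2221
theorem D2477 : act 8 n2221 = n2477 := rfl
theorem F10898 : act 0 n2477 = n2230 := d7_1 D2477 (iv D2230) (iv F9838)
theorem F10899 : act 3 n2477 = n2222 := d25_1 D2477 (iv D2222) D2221
theorem F10900 : act 6 n2477 = n2477 := d34_1 D2477 (iv D2477) F9839
def n2478 : Q := act 8 n2223
theorem D2478 : act 8 n2223 = n2478 := rfl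
theorem F10901 : act 0 n2478 = n2231 := d7_1 D2478 (iv D2231) (iv F9846)
theorem F10902 : act 1 n2478 = n2478 := d14_1 D2478 (iv D2478) F9847
theorem F10903 : act 3 n2478 = n2346 := d25_1 D2478 (iv D2346) (iv F9848)
theorem F10904 : act 4 n2478 = n2224 := d29_1 D2478 (iv D2224) (iv F9849)
theorem F10905 : act 5 n2478 = n2331 := d32_1 D2478 (iv D2331) (iv F9850)
theorem F10906 : act 6 n2478 = n2348 := d34_1 D2478 (iv D2348) (iv F9851)
theorem F10907 : act 7 n2478 = n2245 := d35_1 D2478 (iv D2245) (iv D2002) (iv F8891) D2223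
def n2479 : Q := act 7 n2225
theorem D2479 : act 7 n2225 = n2479 := rfl
theorem F10908 : act 0 n2479 = n2341 := d6_1 D2479 F10359 (iv F9858)
theorem F10909 : act 2 n2479 = n2270 := d19_1 D2479 (iv D2270) (iv F9859)
theorem F10910 : act 4 n2479 = n2479 := d28_1 D2479 (iv D2479) F9860
theorem F10911 : act 5 n2479 = n2332 := d31_1 D2479 (iv D2332) (iv F9861)
theorem F10912 : act 6 n2479 = n2367 := d33_1 D2479 F10427 (iv F9862)
def n2480 : Q := act 3 n2226
theorem D2480 : act 3 n2226 = n2480 := rfl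
theorem F10913 : act 2 n2480 = n2351 := d15_1 D2480 (iv D2351) F9384 (iv F8916) (iv F9864)
theorem F10914 : act 5 n2480 = n2334 := d22_2 (iv F9866) D2480 (iv D2334)
theorem F10915 : act 6 n2480 = n2353 := d23_2 (iv F9867) D2480 F10392
def n2481 : Q := act 8 n2226
theorem D2481 : act 8 n2226 = n2481 := rfl
theorem F10916 : act 2 n2481 = n2231 := d20_1 D2481 (iv D2231) (iv F9864)
theorem F10917 : act 4 n2481 = n2228 := d29_1 D2481 (iv D2228) (iv F9865)
theorem F10918 : act 5 n2481 = n2335 := d32_1 D2481 (iv D2335) (iv F9866)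
theorem F10919 : act 6 n2481 = n2363 := d34_1 D2481 (iv D2363) (iv F9867)
theorem F10920 : act 7 n2481 = n2252 := d35_1 D2481 (iv D2252) (iv D2007) (iv F8905) D2226
def n2482 : Q := act 4 n2227
theorem D2482 : act 4 n2227 = n2482 := rfl
theorem F10921 : act 2 n2482 = n2377 := d16_1 D2482 (iv D2377) (iv F9868)
theorem F10922 : act 6 n2482 = n2380 := d27_2 (iv F9870) D2482 (iv D2380)
theorem F10923 : act 7 n2482 = n2482 := d28_2 F9871 D2482 (iv D2482)
def n2483 : Q := act 8 n2227
theorem D2483 : act 8 n2227 = n2483 := rfl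
theorem F10924 : act 2 n2483 = n2378 := d20_1 D2483 (iv D2378) (iv F9868)
theorem F10925 : act 3 n2483 = n2228 := d25_1 D2483 (iv D2228) D2227
theorem F10926 : act 5 n2483 = n2230 := d32_1 D2483 (iv D2230) (iv F9869)
theorem F10927 : act 6 n2483 = n2381 := d34_1 D2483 (iv D2381) (iv F9870)
def n2484 : Q := act 5 n2229
theorem D2484 : act 5 n2229 = n2484 := rfl
theorem F10928 : act 1 n2484 = n2240 := d11_1 D2484 F9925 (iv F9876)
theorem F10929 : act 3 n2484 = n2234 := d22_1 D2484 F9898 (iv F9877)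
theorem F10930 : act 7 n2484 = n2484 := d31_2 F9879 D2484 (iv D2484)
def n2485 : Q := act 8 n2229
theorem D2485 : act 8 n2229 = n2485 := rfl
theorem F10931 : act 1 n2485 = n2242 := d14_1 D2485 (iv D2242) (iv F9876)
theorem F10932 : act 3 n2485 = n2235 := d25_1 D2485 (iv D2235) (iv F9877)
theorem F10933 : act 4 n2485 = n2230 := d29_1 D2485 (iv D2230) D2229
theorem F10934 : act 6 n2485 = n2485 := d34_1 D2485 (iv D2485) F9878
def n2486 : Q := act 7 n2230
theorem D2486 : act 7 n2230 = n2486 := rfl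
theorem F10935 : act 3 n2486 = n2259 := d24_1 D2486 (iv D2259) F8998 (iv F8914) (iv F9880)
theorem F10936 : act 6 n2486 = n2486 := d33_1 D2486 (iv D2486) F9881
theorem F10937 : act 8 n2486 = n2486 := d35_2 D2230 D2486 (iv D2486) (iv D2230) F8910
def n2487 : Q := act 3 n2232
theorem D2487 : act 3 n2232 = n2487 := rfl
theorem F10938 : act 0 n2487 = n2396 := d2_1 D2487 F10664 F10659
theorem F10939 : act 1 n2487 = n2236 := d9_1 D2487 (iv D2236) (iv F9888)
theorem F10940 : act 4 n2487 = n2487 := d21_2 D2232 D2487 (iv D2487) (iv D2232) F8933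
theorem F10941 : act 5 n2487 = n2280 := d22_2 (iv F9890) D2487 F10103
theorem F10942 : act 8 n2487 = n2309 := d25_2 F10870 D2487 (iv F10871)
theorem F10943 : act 2 n2487 = n2273 := d38_5 (iv D1995) F8058 D1994 D2232 D2487 (iv D2273) (iv F10034) F10033 F9037 F8481 F7717 (iv D1701) (iv F7700) F7702 F7245 (iv D1580) F6483 (iv D1276) F5129 F4622 F3905 F3904 D989 F4632 (iv F4678) F4677 (iv F5473) F5476 (iv D1018) (iv D853) (iv D699) F2645 F2142 F2141 F1870 F1869 F1526 F1525 (iv F1836) F1835 (iv F2108) (iv F2617) (iv F3240) (iv F3913) D991 D1170 D1357 (iv F7058) (iv D1537) F6232 D1536 D1722 (iv F8416) F8415 F7554 D1870 F8437 F7561 (iv F7272) F7271 (iv F8063) (iv F8934)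
theorem F10944 : act 6 n2272 = n2487 := d18_0 F10943 F10063 (iv F10057)
def n2488 : Q := act 6 n2232
theorem D2488 : act 6 n2232 = n2488 := rfl
theorem F10945 : act 1 n2488 = n2237 := d12_1 D2488 (iv D2237) (iv F9888)
theorem F10946 : act 2 n2488 = n2488 := d18_1 D2488 (iv D2488) F9889
theorem F10947 : act 3 n2488 = n2272 := d23_1 D2488 F10944 (iv D2487)
theorem F10948 : act 4 n2488 = n2233 := d27_1 D2488 (iv D2233) D2232
theorem F10949 : act 5 n2488 = n2369 := d30_1 D2488 (iv F10615) F10614 (iv F10099) (iv F9890)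
theorem F10950 : act 8 n2488 = n2366 := d34_2 F10870 D2488 (iv F10869)
def n2489 : Q := act 7 n2232
theorem D2489 : act 7 n2232 = n2489 := rfl
theorem F10951 : act 1 n2489 = n2238 := d13_1 D2489 (iv D2238) (iv F9888)
theorem F10952 : act 2 n2489 = n2489 := d19_1 D2489 (iv D2489) F9889
theorem F10953 : act 4 n2489 = n2234 := d28_1 D2489 (iv D2234) D2232
theorem F10954 : act 5 n2489 = n2338 := d31_1 D2489 F10347 (iv F9890)
def n2490 : Q := act 7 n2233
theorem D2490 : act 7 n2233 = n2490 := rfl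
theorem F10955 : act 1 n2490 = n2239 := d13_1 D2490 (iv D2239) (iv F9891)
theorem F10956 : act 2 n2490 = n2490 := d19_1 D2490 (iv D2490) F9892
theorem F10957 : act 5 n2490 = n2490 := d31_1 D2490 (iv D2490) F9894
theorem F10958 : act 6 n2490 = n2234 := d33_1 D2490 (iv D2234) D2233
def n2491 : Q := act 8 n2234
theorem D2491 : act 8 n2234 = n2491 := rfl
theorem F10959 : act 1 n2491 = n2241 := d14_1 D2491 (iv D2241) (iv F9896)
theorem F10960 : act 2 n2491 = n2491 := d20_1 D2491 (iv D2491) F9897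
theorem F10961 : act 5 n2491 = n2235 := d32_1 D2491 (iv D2235) (iv F9898)
def n2492 : Q := act 7 n2236
theorem D2492 : act 7 n2236 = n2492 := rfl
theorem F10962 : act 0 n2492 = n2248 := d6_1 D2492 (iv D2248) (iv F9903)
theorem F10963 : act 2 n2492 = n2261 := d19_1 D2492 F10012 (iv F9904)
theorem F10964 : act 4 n2492 = n2492 := d28_1 D2492 (iv D2492) F9905
theorem F10965 : act 5 n2492 = n2333 := d31_1 D2492 (iv D2333) (iv F9906)
theorem F10966 : act 6 n2492 = n2263 := d33_1 D2492 F10019 F9908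
def n2493 : Q := act 7 n2237
theorem D2493 : act 7 n2237 = n2493 := rfl
theorem F10967 : act 0 n2493 = n2250 := d6_1 D2493 (iv D2250) (iv F9909)
theorem F10968 : act 2 n2493 = n2243 := d19_1 D2493 (iv D2243) (iv F9910)
theorem F10969 : act 4 n2493 = n2239 := d28_1 D2493 (iv D2239) (iv F9912)
theorem F10970 : act 5 n2493 = n2367 := d31_1 D2493 F10427 (iv F9913)
theorem F10971 : act 6 n2493 = n2238 := d33_1 D2493 (iv D2238) D2237
def n2494 : Q := act 3 n2238
theorem D2494 : act 3 n2238 = n2494 := rfl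
theorem F10972 : act 0 n2494 = n2251 := d2_1 D2494 (iv D2251) (iv F9915)
theorem F10973 : act 5 n2494 = n2343 := d22_2 (iv F9918) D2494 (iv D2343)
def n2495 : Q := act 8 n2238
theorem D2495 : act 8 n2238 = n2495 := rfl
theorem F10974 : act 0 n2495 = n2252 := d7_1 D2495 (iv D2252) (iv F9915)
theorem F10975 : act 2 n2495 = n2245 := d20_1 D2495 (iv D2245) (iv F9916)
theorem F10976 : act 4 n2495 = n2241 := d29_1 D2495 (iv D2241) (iv F9917)
theorem F10977 : act 5 n2495 = n2344 := d32_1 D2495 (iv D2344) (iv F9918)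
def n2496 : Q := act 3 n2239
theorem D2496 : act 3 n2239 = n2496 := rfl
theorem F10978 : act 0 n2496 = n2253 := d2_1 D2496 (iv D2253) (iv F9919)
theorem F10979 : act 2 n2496 = n2496 := d15_1 D2496 (iv D2496) F9920 F8969 (iv F9920)
theorem F10980 : act 5 n2496 = n2496 := d22_2 F9921 D2496 (iv D2496)
theorem F10981 : act 6 n2496 = n2240 := d23_2 (iv F9922) D2496 (iv D2240)
theorem F10982 : act 7 n2496 = n2496 := d24_2 D2239 D2496 (iv D2496) (iv D2239) F8943
def n2497 : Q := act 8 n2239
theorem D2497 : act 8 n2239 = n2497 := rfl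
theorem F10983 : act 0 n2497 = n2254 := d7_1 D2497 (iv D2254) (iv F9919)
theorem F10984 : act 2 n2497 = n2246 := d20_1 D2497 (iv D2246) (iv F9920)
theorem F10985 : act 5 n2497 = n2497 := d32_1 D2497 (iv D2497) F9921
theorem F10986 : act 6 n2497 = n2241 := d34_1 D2497 (iv D2241) (iv F9922)
theorem F10987 : act 7 n2497 = n2376 := d35_1 D2497 (iv D2376) F9458 (iv F8945) D2239
def n2498 : Q := act 4 n2240
theorem D2498 : act 4 n2240 = n2498 := rfl
theorem F10988 : act 0 n2498 = n2255 := d3_1 D2498 (iv D2255) (iv F9923)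
theorem F10989 : act 2 n2498 = n2498 := d16_1 D2498 (iv D2498) F9924
theorem F10990 : act 7 n2498 = n2498 := d28_2 F9926 D2498 (iv D2498)
def n2499 : Q := act 8 n2240
theorem D2499 : act 8 n2240 = n2499 := rfl
theorem F10991 : act 0 n2499 = n2256 := d7_1 D2499 (iv D2256) (iv F9923)
theorem F10992 : act 2 n2499 = n2499 := d20_1 D2499 (iv D2499) F9924
theorem F10993 : act 3 n2499 = n2241 := d25_1 D2499 (iv D2241) D2240
theorem F10994 : act 5 n2499 = n2242 := d32_1 D2499 (iv D2242) (iv F9925)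
def n2500 : Q := act 7 n2242
theorem D2500 : act 7 n2242 = n2500 := rfl
theorem F10995 : act 0 n2500 = n2259 := d6_1 D2500 (iv D2259) (iv F9930)
theorem F10996 : act 2 n2500 = n2500 := d19_1 D2500 (iv D2500) F9931
theorem F10997 : act 6 n2500 = n2500 := d33_1 D2500 (iv D2500) F9933
theorem F10998 : act 8 n2500 = n2500 := d35_2 D2242 D2500 (iv D2500) (iv D2242) F8952
def n2501 : Q := act 8 n2243
theorem D2501 : act 8 n2243 = n2501 := rfl
theorem F10999 : act 0 n2501 = n2262 := d7_1 D2501 (iv D2262) (iv F9934)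
theorem F11000 : act 1 n2501 = n2501 := d14_1 D2501 (iv D2501) F9935
theorem F11001 : act 3 n2501 = n2271 := d25_1 D2501 (iv D2271) (iv F9936)
theorem F11002 : act 4 n2501 = n2246 := d29_1 D2501 (iv D2246) (iv F9937)
theorem F11003 : act 5 n2501 = n2368 := d32_1 D2501 (iv D2368) (iv F9938)
theorem F11004 : act 6 n2501 = n2245 := d34_1 D2501 (iv D2245) (iv F9939)
theorem F11005 : act 7 n2501 = n2348 := d35_1 D2501 (iv D2348) F9370 (iv F8961) D2243
def n2502 : Q := act 2 n2244
theorem D2502 : act 2 n2244 = n2502 := rfl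
theorem F11006 : act 0 n2502 = n2263 := d1_1 D2502 (iv D2263) (iv F9940)
theorem F11007 : act 4 n2502 = n2502 := d16_2 F9942 D2502 (iv D2502)
theorem F11008 : act 5 n2502 = n2347 := d17_2 (iv F9943) D2502 (iv D2347)
theorem F11009 : act 6 n2502 = n2248 := d18_2 (iv F9944) D2502 F9962
theorem F11010 : act 7 n2502 = n2247 := d19_2 (iv F9945) D2502 F9957
def n2503 : Q := act 8 n2244
theorem D2503 : act 8 n2244 = n2503 := rfl
theorem F11011 : act 0 n2503 = n2264 := d7_1 D2503 (iv D2264) (iv F9940)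
theorem F11012 : act 1 n2503 = n2503 := d14_1 D2503 (iv D2503) F9941
theorem F11013 : act 3 n2503 = n2245 := d25_1 D2503 (iv D2245) D2244
theorem F11014 : act 4 n2503 = n2503 := d29_1 D2503 (iv D2503) F9942
theorem F11015 : act 5 n2503 = n2348 := d32_1 D2503 (iv D2348) (iv F9943)
theorem F11016 : act 6 n2503 = n2271 := d34_1 D2503 (iv D2271) (iv F9944)
theorem F11017 : act 7 n2503 = n2368 := d35_1 D2503 (iv D2368) F9423 (iv F9060) (iv F9945)
def n2504 : Q := act 3 n2248
theorem D2504 : act 3 n2248 = n2504 := rfl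
theorem F11018 : act 5 n2504 = n2349 := d22_2 (iv F9964) D2504 (iv D2349)
theorem F11019 : act 7 n2504 = n2251 := d24_2 D2248 D2504 (iv D2251) (iv D2007) D2005
def n2505 : Q := act 8 n2248
theorem D2505 : act 8 n2248 = n2505 := rfl
theorem F11020 : act 2 n2505 = n2271 := d20_1 D2505 (iv D2271) (iv F9962)
theorem F11021 : act 4 n2505 = n2505 := d29_1 D2505 (iv D2505) F9963
theorem F11022 : act 5 n2505 = n2350 := d32_1 D2505 (iv D2350) (iv F9964)
def n2506 : Q := act 7 n2249
theorem D2506 : act 7 n2249 = n2506 := rfl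
theorem F11023 : act 0 n2506 = n2367 := d6_1 D2506 F10427 (iv F9965)
theorem F11024 : act 2 n2506 = n2260 := d19_1 D2506 (iv D2260) (iv F9966)
theorem F11025 : act 4 n2506 = n2506 := d28_1 D2506 (iv D2506) F9968
theorem F11026 : act 5 n2506 = n2250 := d31_1 D2506 (iv D2250) D2249
theorem F11027 : act 6 n2506 = n2341 := d33_1 D2506 F10359 (iv F9969)
def n2507 : Q := act 3 n2250
theorem D2507 : act 3 n2250 = n2507 := rfl
theorem F11028 : act 6 n2507 = n2251 := d23_2 (iv F9973) D2507 (iv D2251)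
def n2508 : Q := act 8 n2250
theorem D2508 : act 8 n2250 = n2508 := rfl
theorem F11029 : act 2 n2508 = n2262 := d20_1 D2508 (iv D2262) (iv F9971)
theorem F11030 : act 4 n2508 = n2254 := d29_1 D2508 (iv D2254) (iv F9972)
theorem F11031 : act 6 n2508 = n2252 := d34_1 D2508 (iv D2252) (iv F9973)
theorem F11032 : act 7 n2508 = n2363 := d35_1 D2508 (iv D2363) F9410 (iv F8981) D2250
def n2509 : Q := act 2 n2251
theorem D2509 : act 2 n2251 = n2509 := rfl
theorem F11033 : act 3 n2509 = n2263 := d15_2 D2251 D2509 (iv D2263) (iv D2015) (iv F8982)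
theorem F11034 : act 5 n2509 = n2353 := d17_2 (iv F9974) D2509 (iv D2353)
def n2510 : Q := act 4 n2251
theorem D2510 : act 4 n2251 = n2510 := rfl
theorem F11035 : act 3 n2510 = n2255 := d21_1 D2510 (iv D2255) (iv D2009) (iv F8983) D2251
def n2511 : Q := act 8 n2251
theorem D2511 : act 8 n2251 = n2511 := rfl
theorem F11036 : act 3 n2511 = n2252 := d25_1 D2511 (iv D2252) D2251
theorem F11037 : act 5 n2511 = n2355 := d32_1 D2511 (iv D2355) (iv F9974)
def n2512 : Q := act 4 n2253
theorem D2512 : act 4 n2253 = n2512 := rfl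
theorem F11038 : act 2 n2512 = n2512 := d16_1 D2512 (iv D2512) F9978
theorem F11039 : act 6 n2512 = n2255 := d27_2 (iv F9980) D2512 (iv D2255)
theorem F11040 : act 7 n2512 = n2512 := d28_2 F9981 D2512 (iv D2512)
def n2513 : Q := act 8 n2253
theorem D2513 : act 8 n2253 = n2513 := rfl
theorem F11041 : act 2 n2513 = n2513 := d20_1 D2513 (iv D2513) F9978
theorem F11042 : act 3 n2513 = n2254 := d25_1 D2513 (iv D2254) D2253
theorem F11043 : act 5 n2513 = n2513 := d32_1 D2513 (iv D2513) F9979
theorem F11044 : act 6 n2513 = n2256 := d34_1 D2513 (iv D2256) (iv F9980)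
def n2514 : Q := act 5 n2255
theorem D2514 : act 5 n2255 = n2514 := rfl
theorem F11045 : act 2 n2514 = n2514 := d17_1 D2514 (iv D2514) F9986
theorem F11046 : act 4 n2514 = n2257 := d26_1 D2514 (iv D2257) (iv D2011) (iv F8989) D2255
theorem F11047 : act 7 n2514 = n2514 := d31_2 F9987 D2514 (iv D2514)
def n2515 : Q := act 8 n2255
theorem D2515 : act 8 n2255 = n2515 := rfl
theorem F11048 : act 2 n2515 = n2515 := d20_1 D2515 (iv D2515) F9986
theorem F11049 : act 4 n2515 = n2256 := d29_1 D2515 (iv D2256) D2255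
def n2516 : Q := act 7 n2256
theorem D2516 : act 7 n2256 = n2516 := rfl
theorem F11050 : act 2 n2516 = n2516 := d19_1 D2516 (iv D2516) F9988
theorem F11051 : act 5 n2516 = n2259 := d31_1 D2516 (iv D2259) (iv F9990)
theorem F11052 : act 8 n2516 = n2516 := d35_2 D2256 D2516 (iv D2516) (iv D2256) F8990
def n2517 : Q := act 6 n2257
theorem D2517 : act 6 n2257 = n2517 := rfl
theorem F11053 : act 0 n2517 = n2379 := d5_1 D2517 (iv F10627) F10623
theorem F11054 : act 2 n2517 = n2517 := d18_1 D2517 (iv D2517) F9991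
theorem F11055 : act 3 n2517 = n2360 := d23_1 D2517 (iv D2360) (iv F9992)
theorem F11056 : act 5 n2517 = n2517 := d30_1 D2517 (iv D2517) (iv D2257) F8995 D2257
theorem F11057 : act 7 n2517 = n2517 := d33_2 F9993 D2517 (iv D2517)
def n2518 : Q := act 8 n2257
theorem D2518 : act 8 n2257 = n2518 := rfl
theorem F11058 : act 2 n2518 = n2518 := d20_1 D2518 (iv D2518) F9991
theorem F11059 : act 3 n2518 = n2361 := d25_1 D2518 (iv D2361) (iv F9992)
theorem F11060 : act 5 n2518 = n2258 := d32_1 D2518 (iv D2258) D2257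
def n2519 : Q := act 7 n2258
theorem D2519 : act 7 n2258 = n2519 := rfl
theorem F11061 : act 2 n2519 = n2519 := d19_1 D2519 (iv D2519) F9994
theorem F11062 : act 4 n2519 = n2259 := d28_1 D2519 (iv D2259) (iv F9996)
theorem F11063 : act 6 n2519 = n2519 := d33_1 D2519 (iv D2519) F9997
theorem F11064 : act 8 n2519 = n2519 := d35_2 D2258 D2519 (iv D2519) (iv D2258) F8996
def n2520 : Q := act 8 n2260
theorem D2520 : act 8 n2260 = n2520 := rfl
theorem F11065 : act 0 n2520 = n2368 := d7_1 D2520 (iv D2368) (iv F10001)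
theorem F11066 : act 1 n2520 = n2265 := d14_1 D2520 (iv D2265) (iv F10002)
theorem F11067 : act 3 n2520 = n2340 := d25_1 D2520 (iv D2340) (iv F10003)
theorem F11068 : act 4 n2520 = n2520 := d29_1 D2520 (iv D2520) F10004
theorem F11069 : act 5 n2520 = n2262 := d32_1 D2520 (iv D2262) (iv F10005)
theorem F11070 : act 6 n2520 = n2342 := d34_1 D2520 (iv D2342) (iv F10006)
theorem F11071 : act 7 n2520 = n2264 := d35_1 D2520 (iv D2264) F9012 (iv F9005) D2260
def n2521 : Q := act 8 n2261
theorem D2521 : act 8 n2261 = n2521 := rfl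
theorem F11072 : act 0 n2521 = n2271 := d7_1 D2521 (iv D2271) (iv F10007)
theorem F11073 : act 1 n2521 = n2267 := d14_1 D2521 (iv D2267) (iv F10008)
theorem F11074 : act 3 n2521 = n2262 := d25_1 D2521 (iv D2262) D2261
theorem F11075 : act 4 n2521 = n2521 := d29_1 D2521 (iv D2521) F10009
theorem F11076 : act 5 n2521 = n2340 := d32_1 D2521 (iv D2340) (iv F10010)
theorem F11077 : act 6 n2521 = n2264 := d34_1 D2521 (iv D2264) (iv F10011)
theorem F11078 : act 7 n2521 = n2342 := d35_1 D2521 (iv D2342) F9327 (iv F9054) (iv F10012)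
def n2522 : Q := act 1 n2263
theorem D2522 : act 1 n2263 = n2522 := rfl
theorem F11079 : act 2 n2522 = n2268 := d8_2 D2263 D2522 (iv D2268) (iv D2021) (iv F9009)
theorem F11080 : act 4 n2522 = n2522 := d10_2 F10017 D2522 (iv D2522)
theorem F11081 : act 5 n2522 = n2362 := d11_2 (iv F10018) D2522 (iv D2362)
theorem F11082 : act 7 n2522 = n2272 := d13_2 (iv F10019) D2522 (iv D2272)
def n2523 : Q := act 8 n2263
theorem D2523 : act 8 n2263 = n2523 := rfl
theorem F11083 : act 2 n2523 = n2264 := d20_1 D2523 (iv D2264) D2263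
theorem F11084 : act 4 n2523 = n2523 := d29_1 D2523 (iv D2523) F10017
theorem F11085 : act 5 n2523 = n2363 := d32_1 D2523 (iv D2363) (iv F10018)
def n2524 : Q := act 1 n2266
theorem D2524 : act 1 n2266 = n2524 := rfl
theorem F11086 : act 4 n2524 = n2524 := d10_2 F10031 D2524 (iv D2524)
theorem F11087 : act 5 n2524 = n2284 := d11_2 (iv F10032) D2524 F10123
theorem F11088 : act 6 n2524 = n2268 := d12_2 (iv F10033) D2524 (iv D2268)
theorem F11089 : act 7 n2524 = n2273 := d13_2 (iv F10034) D2524 (iv D2273)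
theorem F11090 : act 0 n2385 = n2524 := d6_3 F11089 (iv F10065) (iv F10487)
def n2525 : Q := act 8 n2266
theorem D2525 : act 8 n2266 = n2525 := rfl
theorem F11091 : act 0 n2525 = n2525 := d7_1 D2525 (iv D2525) F10030
theorem F11092 : act 2 n2525 = n2267 := d20_1 D2525 (iv D2267) D2266
theorem F11093 : act 4 n2525 = n2525 := d29_1 D2525 (iv D2525) F10031
theorem F11094 : act 5 n2525 = n2289 := d32_1 D2525 (iv D2289) (iv F10032)
theorem F11095 : act 6 n2525 = n2269 := d34_1 D2525 (iv D2269) (iv F10033)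
theorem F11096 : act 7 n2525 = n2324 := d35_1 D2525 (iv D2324) (iv D2070) (iv F9071) (iv F10034)
def n2526 : Q := act 0 n2268
theorem D2526 : act 0 n2268 = n2526 := rfl
theorem F11097 : act 1 n2526 = n2526 := d0_2 D2268 D2526 (iv D2526) (iv D2268) F9035
theorem F11098 : act 4 n2526 = n2526 := d3_2 F10041 D2526 (iv D2526)
theorem F11099 : act 5 n2526 = n2364 := d4_2 (iv F10042) D2526 (iv D2364)
theorem F11100 : act 6 n2526 = n2385 := d5_2 F11088 D2526 F11090
theorem F11101 : act 7 n2526 = n2274 := d6_2 (iv F10043) D2526 (iv D2274)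
def n2527 : Q := act 8 n2268
theorem D2527 : act 8 n2268 = n2527 := rfl
theorem F11102 : act 1 n2527 = n2269 := d14_1 D2527 (iv D2269) D2268
theorem F11103 : act 4 n2527 = n2527 := d29_1 D2527 (iv D2527) F10041
theorem F11104 : act 5 n2527 = n2365 := d32_1 D2527 (iv D2365) (iv F10042)
def n2528 : Q := act 8 n2270
theorem D2528 : act 8 n2270 = n2528 := rfl
theorem F11105 : act 0 n2528 = n2342 := d7_1 D2528 (iv D2342) (iv F10048)
theorem F11106 : act 1 n2528 = n2528 := d14_1 D2528 (iv D2528) F10049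
theorem F11107 : act 3 n2528 = n2331 := d25_1 D2528 (iv D2331) (iv F10050)
theorem F11108 : act 4 n2528 = n2528 := d29_1 D2528 (iv D2528) F10051
theorem F11109 : act 5 n2528 = n2346 := d32_1 D2528 (iv D2346) (iv F10052)
theorem F11110 : act 6 n2528 = n2368 := d34_1 D2528 (iv D2368) (iv F10053)
theorem F11111 : act 7 n2528 = n2271 := d35_1 D2528 (iv D2271) (iv D2026) (iv F9048) D2270
def n2529 : Q := act 0 n2272
theorem D2529 : act 0 n2272 = n2529 := rfl
theorem F11112 : act 2 n2529 = n2274 := d1_2 (iv F10057) D2529 (iv D2274)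
theorem F11113 : act 4 n2529 = n2529 := d3_2 F10058 D2529 (iv D2529)
theorem F11114 : act 5 n2529 = n2370 := d4_2 (iv F10059) D2529 (iv D2370)
theorem F11115 : act 6 n2529 = n2396 := d5_2 (iv F10944) D2529 (iv F10938)
def n2530 : Q := act 3 n2275
theorem D2530 : act 3 n2275 = n2530 := rfl
theorem F11116 : act 0 n2530 = n2530 := d2_1 D2530 (iv D2530) F10071
theorem F11117 : act 1 n2530 = n2371 := d9_1 D2530 (iv D2371) (iv F10072)
theorem F11118 : act 4 n2530 = n2288 := d21_2 (iv F10074) D2530 (iv D2288) F9139 (iv F9089)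
theorem F11119 : act 6 n2530 = n2276 := d23_2 (iv F10075) D2530 (iv D2276)
theorem F11120 : act 7 n2530 = n2530 := d24_2 D2275 D2530 (iv D2530) (iv D2275) F9078
def n2531 : Q := act 8 n2275
theorem D2531 : act 8 n2275 = n2531 := rfl
theorem F11121 : act 0 n2531 = n2531 := d7_1 D2531 (iv D2531) F10071
theorem F11122 : act 1 n2531 = n2372 := d14_1 D2531 (iv D2372) (iv F10072)
theorem F11123 : act 2 n2531 = n2531 := d20_1 D2531 (iv D2531) F10073
theorem F11124 : act 4 n2531 = n2278 := d29_1 D2531 (iv D2278) (iv F10074)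
theorem F11125 : act 6 n2531 = n2277 := d34_1 D2531 (iv D2277) (iv F10075)
theorem F11126 : act 7 n2531 = n2531 := d35_1 D2531 (iv D2531) (iv D2275) F9080 D2275
def n2532 : Q := act 2 n2276
theorem D2532 : act 2 n2276 = n2532 := rfl
theorem F11127 : act 0 n2532 = n2532 := d1_1 D2532 (iv D2532) F10076
theorem F11128 : act 3 n2532 = n2532 := d15_2 D2276 D2532 (iv D2532) (iv D2276) F9083
theorem F11129 : act 4 n2532 = n2290 := d16_2 (iv F10078) D2532 (iv D2290)
theorem F11130 : act 5 n2532 = n2532 := d17_2 F10079 D2532 (iv D2532)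
theorem F11131 : act 7 n2532 = n2532 := d19_2 F10080 D2532 (iv D2532)
def n2533 : Q := act 8 n2276
theorem D2533 : act 8 n2276 = n2533 := rfl
theorem F11132 : act 0 n2533 = n2533 := d7_1 D2533 (iv D2533) F10076
theorem F11133 : act 1 n2533 = n2374 := d14_1 D2533 (iv D2374) (iv F10077)
theorem F11134 : act 3 n2533 = n2277 := d25_1 D2533 (iv D2277) D2276
theorem F11135 : act 4 n2533 = n2291 := d29_1 D2533 (iv D2291) (iv F10078)
theorem F11136 : act 5 n2533 = n2533 := d32_1 D2533 (iv D2533) F10079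
def n2534 : Q := act 7 n2279
theorem D2534 : act 7 n2279 = n2534 := rfl
theorem F11137 : act 0 n2534 = n2393 := d6_1 D2534 F10514 (iv F10094)
theorem F11138 : act 1 n2534 = n2332 := d13_1 D2534 (iv D2332) (iv F10095)
theorem F11139 : act 2 n2534 = n2534 := d19_1 D2534 (iv D2534) F10096
theorem F11140 : act 4 n2534 = n2336 := d28_1 D2534 F10339 (iv F10097)
theorem F11141 : act 6 n2534 = n2338 := d33_1 D2534 F10347 F10099
def n2535 : Q := act 7 n2280
theorem D2535 : act 7 n2280 = n2535 := rfl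
theorem F11142 : act 0 n2535 = n2356 := d6_1 D2535 F10397 (iv F10100)
theorem F11143 : act 1 n2535 = n2333 := d13_1 D2535 (iv D2333) (iv F10101)
theorem F11144 : act 2 n2535 = n2284 := d19_1 D2535 (iv D2284) (iv F10102)
theorem F11145 : act 4 n2535 = n2282 := d28_1 D2535 (iv D2282) (iv F10104)
theorem F11146 : act 6 n2535 = n2281 := d33_1 D2535 (iv D2281) D2280
def n2536 : Q := act 3 n2281
theorem D2536 : act 3 n2281 = n2536 := rfl
theorem F11147 : act 0 n2536 = n2354 := d2_1 D2536 F10393 (iv F10106)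
theorem F11148 : act 1 n2536 = n2334 := d9_1 D2536 (iv D2334) (iv F10107)
theorem F11149 : act 4 n2536 = n2343 := d21_2 (iv F10109) D2536 (iv D2343) F9355 (iv F9111)
def n2537 : Q := act 8 n2281
theorem D2537 : act 8 n2281 = n2537 := rfl
theorem F11150 : act 0 n2537 = n2359 := d7_1 D2537 (iv D2359) (iv F10106)
theorem F11151 : act 1 n2537 = n2335 := d14_1 D2537 (iv D2335) (iv F10107)
theorem F11152 : act 2 n2537 = n2286 := d20_1 D2537 (iv D2286) (iv F10108)
theorem F11153 : act 4 n2537 = n2283 := d29_1 D2537 (iv D2283) (iv F10109)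
theorem F11154 : act 7 n2537 = n2312 := d35_1 D2537 (iv D2312) (iv D2059) (iv F9101) D2281
def n2538 : Q := act 8 n2282
theorem D2538 : act 8 n2282 = n2538 := rfl
theorem F11155 : act 0 n2538 = n2357 := d7_1 D2538 (iv D2357) (iv F10110)
theorem F11156 : act 1 n2538 = n2337 := d14_1 D2538 (iv D2337) (iv F10111)
theorem F11157 : act 2 n2538 = n2287 := d20_1 D2538 (iv D2287) (iv F10112)
theorem F11158 : act 3 n2538 = n2345 := d25_1 D2538 (iv D2345) (iv F10113)
theorem F11159 : act 5 n2538 = n2538 := d32_1 D2538 (iv D2538) F10114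
theorem F11160 : act 6 n2538 = n2283 := d34_1 D2538 (iv D2283) (iv F10115)
theorem F11161 : act 7 n2538 = n2314 := d35_1 D2538 (iv D2314) (iv D2060) (iv F9107) D2282
def n2539 : Q := act 3 n2284
theorem D2539 : act 3 n2284 = n2539 := rfl
theorem F11162 : act 0 n2539 = n2377 := d2_1 D2539 F10459 (iv F10122)
theorem F11163 : act 1 n2539 = n2288 := d9_1 D2539 (iv D2288) (iv F10123)
theorem F11164 : act 4 n2539 = n2371 := d21_2 (iv F10124) D2539 (iv D2371) F9436 (iv F9129)
theorem F11165 : act 6 n2539 = n2285 := d23_2 (iv F10125) D2539 (iv D2285)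
theorem F11166 : act 7 n2539 = n2539 := d24_2 D2284 D2539 (iv D2539) (iv D2284) F9121
def n2540 : Q := act 8 n2284
theorem D2540 : act 8 n2284 = n2540 := rfl
theorem F11167 : act 0 n2540 = n2386 := d7_1 D2540 (iv D2386) (iv F10122)
theorem F11168 : act 1 n2540 = n2289 := d14_1 D2540 (iv D2289) (iv F10123)
theorem F11169 : act 4 n2540 = n2287 := d29_1 D2540 (iv D2287) (iv F10124)
theorem F11170 : act 6 n2540 = n2286 := d34_1 D2540 (iv D2286) (iv F10125)
theorem F11171 : act 7 n2540 = n2321 := d35_1 D2540 (iv D2321) (iv D2066) (iv F9123) D2284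
def n2541 : Q := act 2 n2285
theorem D2541 : act 2 n2285 = n2541 := rfl
theorem F11172 : act 0 n2541 = n2380 := d1_1 D2541 F10469 (iv F10126)
theorem F11173 : act 4 n2541 = n2373 := d16_2 (iv F10128) D2541 (iv D2373)
theorem F11174 : act 7 n2541 = n2541 := d19_2 F10129 D2541 (iv D2541)
def n2542 : Q := act 8 n2285
theorem D2542 : act 8 n2285 = n2542 := rfl
theorem F11175 : act 0 n2542 = n2383 := d7_1 D2542 (iv D2383) (iv F10126)
theorem F11176 : act 1 n2542 = n2291 := d14_1 D2542 (iv D2291) (iv F10127)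
theorem F11177 : act 3 n2542 = n2286 := d25_1 D2542 (iv D2286) D2285
theorem F11178 : act 4 n2542 = n2374 := d29_1 D2542 (iv D2374) (iv F10128)
def n2543 : Q := act 8 n2288
theorem D2543 : act 8 n2288 = n2543 := rfl
theorem F11179 : act 0 n2543 = n2543 := d7_1 D2543 (iv D2543) F10140
theorem F11180 : act 3 n2543 = n2289 := d25_1 D2543 (iv D2289) D2288
theorem F11181 : act 6 n2543 = n2291 := d34_1 D2543 (iv D2291) (iv F10141)
def n2544 : Q := act 1 n2290
theorem D2544 : act 1 n2290 = n2544 := rfl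
theorem F11182 : act 3 n2544 = n2319 := d9_2 (iv F10149) D2544 F10276
theorem F11183 : act 5 n2544 = n2320 := d11_2 (iv F10150) D2544 F10279
theorem F11184 : act 7 n2544 = n2544 := d13_2 F10151 D2544 (iv D2544)
def n2545 : Q := act 8 n2290
theorem D2545 : act 8 n2290 = n2545 := rfl
theorem F11185 : act 0 n2545 = n2545 := d7_1 D2545 (iv D2545) F10148
theorem F11186 : act 2 n2545 = n2291 := d20_1 D2545 (iv D2291) D2290
theorem F11187 : act 3 n2545 = n2324 := d25_1 D2545 (iv D2324) (iv F10149)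
theorem F11188 : act 5 n2545 = n2325 := d32_1 D2545 (iv D2325) (iv F10150)
def n2546 : Q := act 7 n2291
theorem D2546 : act 7 n2291 = n2546 := rfl
theorem F11189 : act 0 n2546 = n2546 := d6_1 D2546 (iv D2546) F10152
theorem F11190 : act 3 n2546 = n2328 := d24_1 D2546 (iv D2328) F9262 (iv F9146) (iv F10153)
theorem F11191 : act 8 n2546 = n2546 := d35_2 D2291 D2546 (iv D2546) (iv D2291) F9142
def n2547 : Q := act 7 n2292
theorem D2547 : act 7 n2292 = n2547 := rfl
theorem F11192 : act 0 n2547 = n2338 := d6_1 D2547 F10347 (iv F10154)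
theorem F11193 : act 1 n2547 = n2297 := d13_1 D2547 (iv D2297) (iv F10155)
theorem F11194 : act 2 n2547 = n2547 := d19_1 D2547 (iv D2547) F10156
theorem F11195 : act 4 n2547 = n2293 := d28_1 D2547 (iv D2293) D2292
theorem F11196 : act 6 n2547 = n2393 := d33_1 D2547 F10514 (iv F10158)
def n2548 : Q := act 8 n2293
theorem D2548 : act 8 n2293 = n2548 := rfl
theorem F11197 : act 0 n2548 = n2339 := d7_1 D2548 (iv D2339) (iv F10160)
theorem F11198 : act 1 n2548 = n2300 := d14_1 D2548 (iv D2300) (iv F10161)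
theorem F11199 : act 2 n2548 = n2548 := d20_1 D2548 (iv D2548) F10162
theorem F11200 : act 3 n2548 = n2330 := d25_1 D2548 (iv D2330) (iv F10163)
theorem F11201 : act 5 n2548 = n2294 := d32_1 D2548 (iv D2294) (iv F10164)
theorem F11202 : act 6 n2548 = n2394 := d34_1 D2548 (iv D2394) (iv F10165)
theorem F11203 : act 7 n2548 = n2316 := d35_1 D2548 (iv D2316) F9218 (iv F9156) D2293
def n2549 : Q := act 7 n2295
theorem D2549 : act 7 n2295 = n2549 := rfl
theorem F11204 : act 0 n2549 = n2308 := d6_1 D2549 (iv D2308) (iv F10172)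
theorem F11205 : act 1 n2549 = n2356 := d13_1 D2549 F10397 (iv F10173)
theorem F11206 : act 2 n2549 = n2549 := d19_1 D2549 (iv D2549) F10174
theorem F11207 : act 4 n2549 = n2313 := d28_1 D2549 F10257 (iv F10175)
theorem F11208 : act 6 n2549 = n2315 := d33_1 D2549 F10264 F10177
def n2550 : Q := act 5 n2296
theorem D2550 : act 5 n2296 = n2550 := rfl
theorem F11209 : act 0 n2550 = n2309 := d4_1 D2550 (iv D2309) (iv F10178)
theorem F11210 : act 1 n2550 = n2395 := d11_1 D2550 (iv D2395) (iv F10179)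
theorem F11211 : act 2 n2550 = n2302 := d17_1 D2550 (iv D2302) (iv F10180)
theorem F11212 : act 3 n2550 = n2392 := d22_1 D2550 (iv D2392) (iv F10181)
theorem F11213 : act 4 n2550 = n2550 := d26_1 D2550 (iv D2550) F10182 F9170 (iv F10182)
theorem F11214 : act 8 n2550 = n2396 := d32_2 (iv F10183) D2550 (iv D2396)
def n2551 : Q := act 7 n2296
theorem D2551 : act 7 n2296 = n2551 := rfl
theorem F11215 : act 0 n2551 = n2310 := d6_1 D2551 (iv D2310) (iv F10178)
theorem F11216 : act 1 n2551 = n2393 := d13_1 D2551 F10514 (iv F10179)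
theorem F11217 : act 2 n2551 = n2303 := d19_1 D2551 (iv D2303) (iv F10180)
theorem F11218 : act 4 n2551 = n2298 := d28_1 D2551 (iv D2298) (iv F10182)
theorem F11219 : act 6 n2551 = n2297 := d33_1 D2551 (iv D2297) D2296
def n2552 : Q := act 3 n2297
theorem D2552 : act 3 n2297 = n2552 := rfl
theorem F11220 : act 0 n2552 = n2311 := d2_1 D2552 (iv D2311) (iv F10184)
def n2553 : Q := act 8 n2297
theorem D2553 : act 8 n2297 = n2553 := rfl
theorem F11221 : act 0 n2553 = n2312 := d7_1 D2553 (iv D2312) (iv F10184)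
theorem F11222 : act 2 n2553 = n2305 := d20_1 D2553 (iv D2305) (iv F10185)
theorem F11223 : act 4 n2553 = n2300 := d29_1 D2553 (iv D2300) (iv F10186)
theorem F11224 : act 7 n2553 = n2359 := d35_1 D2553 (iv D2359) F9397 (iv F9165) D2297
def n2554 : Q := act 8 n2298
theorem D2554 : act 8 n2298 = n2554 := rfl
theorem F11225 : act 0 n2554 = n2314 := d7_1 D2554 (iv D2314) (iv F10187)
theorem F11226 : act 1 n2554 = n2394 := d14_1 D2554 (iv D2394) (iv F10188)
theorem F11227 : act 2 n2554 = n2306 := d20_1 D2554 (iv D2306) (iv F10189)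
theorem F11228 : act 3 n2554 = n2391 := d25_1 D2554 (iv D2391) (iv F10190)
theorem F11229 : act 5 n2554 = n2554 := d32_1 D2554 (iv D2554) F10191
theorem F11230 : act 6 n2554 = n2300 := d34_1 D2554 (iv D2300) (iv F10192)
theorem F11231 : act 7 n2554 = n2357 := d35_1 D2554 (iv D2357) F9392 (iv F9171) D2298
def n2555 : Q := act 4 n2299
theorem D2555 : act 4 n2299 = n2555 := rfl
theorem F11232 : act 0 n2555 = n2315 := d3_1 D2555 (iv D2315) (iv F10193)
theorem F11233 : act 1 n2555 = n2329 := d10_1 D2555 F10311 (iv F10194)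
theorem F11234 : act 2 n2555 = n2555 := d16_1 D2555 (iv D2555) F10195
theorem F11235 : act 6 n2555 = n2308 := d27_2 (iv F10197) D2555 F10240
theorem F11236 : act 7 n2555 = n2307 := d28_2 (iv F10198) D2555 F10236
def n2556 : Q := act 8 n2299
theorem D2556 : act 8 n2299 = n2556 := rfl
theorem F11237 : act 0 n2556 = n2316 := d7_1 D2556 (iv D2316) (iv F10193)
theorem F11238 : act 1 n2556 = n2330 := d14_1 D2556 (iv D2330) (iv F10194)
theorem F11239 : act 2 n2556 = n2556 := d20_1 D2556 (iv D2556) F10195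
theorem F11240 : act 3 n2556 = n2300 := d25_1 D2556 (iv D2300) D2299
theorem F11241 : act 5 n2556 = n2301 := d32_1 D2556 (iv D2301) (iv F10196)
theorem F11242 : act 6 n2556 = n2391 := d34_1 D2556 (iv D2391) (iv F10197)
theorem F11243 : act 7 n2556 = n2339 := d35_1 D2556 (iv D2339) F9312 (iv F9268) (iv F10198)
def n2557 : Q := act 7 n2302
theorem D2557 : act 7 n2302 = n2557 := rfl
theorem F11244 : act 0 n2557 = n2319 := d6_1 D2557 (iv D2319) (iv F10209)
theorem F11245 : act 1 n2557 = n2557 := d13_1 D2557 (iv D2557) F10210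
theorem F11246 : act 4 n2557 = n2557 := d28_1 D2557 (iv D2557) F10212
theorem F11247 : act 5 n2557 = n2303 := d31_1 D2557 (iv D2303) D2302
def n2558 : Q := act 3 n2303
theorem D2558 : act 3 n2303 = n2558 := rfl
theorem F11248 : act 0 n2558 = n2320 := d2_1 D2558 (iv D2320) (iv F10214)
theorem F11249 : act 1 n2558 = n2558 := d9_1 D2558 (iv D2558) F10215
theorem F11250 : act 4 n2558 = n2558 := d21_2 (iv F10216) D2558 (iv D2558) F10216 F9194
theorem F11251 : act 6 n2558 = n2304 := d23_2 (iv F10217) D2558 (iv D2304)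
theorem F11252 : act 7 n2558 = n2558 := d24_2 D2303 D2558 (iv D2558) (iv D2303) F9186
def n2559 : Q := act 8 n2303
theorem D2559 : act 8 n2303 = n2559 := rfl
theorem F11253 : act 0 n2559 = n2321 := d7_1 D2559 (iv D2321) (iv F10214)
theorem F11254 : act 1 n2559 = n2559 := d14_1 D2559 (iv D2559) F10215
theorem F11255 : act 4 n2559 = n2306 := d29_1 D2559 (iv D2306) (iv F10216)
theorem F11256 : act 6 n2559 = n2305 := d34_1 D2559 (iv D2305) (iv F10217)
theorem F11257 : act 7 n2559 = n2386 := d35_1 D2559 (iv D2386) F9482 (iv F9188) D2303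
def n2560 : Q := act 2 n2304
theorem D2560 : act 2 n2304 = n2560 := rfl
theorem F11258 : act 0 n2560 = n2322 := d1_1 D2560 (iv D2322) (iv F10218)
theorem F11259 : act 4 n2560 = n2560 := d16_2 F10220 D2560 (iv D2560)
theorem F11260 : act 7 n2560 = n2560 := d19_2 F10221 D2560 (iv D2560)
def n2561 : Q := act 8 n2304
theorem D2561 : act 8 n2304 = n2561 := rfl
theorem F11261 : act 0 n2561 = n2323 := d7_1 D2561 (iv D2323) (iv F10218)
theorem F11262 : act 1 n2561 = n2561 := d14_1 D2561 (iv D2561) F10219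
theorem F11263 : act 3 n2561 = n2305 := d25_1 D2561 (iv D2305) D2304
theorem F11264 : act 4 n2561 = n2561 := d29_1 D2561 (iv D2561) F10220
def n2562 : Q := act 3 n2308
theorem D2562 : act 3 n2308 = n2562 := rfl
theorem F11265 : act 1 n2562 = n2349 := d9_1 D2562 (iv D2349) (iv F10238)
theorem F11266 : act 7 n2562 = n2311 := d24_2 D2308 D2562 (iv D2311) (iv D2059) D2057
def n2563 : Q := act 8 n2308
theorem D2563 : act 8 n2308 = n2563 := rfl
theorem F11267 : act 1 n2563 = n2350 := d14_1 D2563 (iv D2350) (iv F10238)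
theorem F11268 : act 2 n2563 = n2563 := d20_1 D2563 (iv D2563) F10239
theorem F11269 : act 4 n2563 = n2391 := d29_1 D2563 (iv D2391) (iv F10240)
def n2564 : Q := act 7 n2309
theorem D2564 : act 7 n2309 = n2564 := rfl
theorem F11270 : act 1 n2564 = n2341 := d13_1 D2564 F10359 (iv F10241)
theorem F11271 : act 2 n2564 = n2319 := d19_1 D2564 (iv D2319) (iv F10242)
theorem F11272 : act 4 n2564 = n2564 := d28_1 D2564 (iv D2564) F10243
theorem F11273 : act 5 n2564 = n2310 := d31_1 D2564 (iv D2310) D2309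
def n2565 : Q := act 3 n2310
theorem D2565 : act 3 n2310 = n2565 := rfl
theorem F11274 : act 1 n2565 = n2351 := d9_1 D2565 (iv D2351) (iv F10244)
theorem F11275 : act 6 n2565 = n2311 := d23_2 (iv F10247) D2565 (iv D2311)
def n2566 : Q := act 8 n2310
theorem D2566 : act 8 n2310 = n2566 := rfl
theorem F11276 : act 1 n2566 = n2352 := d14_1 D2566 (iv D2352) (iv F10244)
theorem F11277 : act 2 n2566 = n2321 := d20_1 D2566 (iv D2321) (iv F10245)
theorem F11278 : act 4 n2566 = n2314 := d29_1 D2566 (iv D2314) (iv F10246)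
theorem F11279 : act 6 n2566 = n2312 := d34_1 D2566 (iv D2312) (iv F10247)
def n2567 : Q := act 2 n2311
theorem D2567 : act 2 n2311 = n2567 := rfl
theorem F11280 : act 3 n2567 = n2322 := d15_2 D2311 D2567 (iv D2322) (iv D2067) (iv F9209)
def n2568 : Q := act 4 n2311
theorem D2568 : act 4 n2311 = n2568 := rfl
theorem F11281 : act 1 n2568 = n2354 := d10_1 D2568 (iv D2354) (iv F10248)
theorem F11282 : act 3 n2568 = n2315 := d21_1 D2568 (iv D2315) (iv D2061) (iv F9210) D2311
def n2569 : Q := act 8 n2311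
theorem D2569 : act 8 n2311 = n2569 := rfl
theorem F11283 : act 1 n2569 = n2355 := d14_1 D2569 (iv D2355) (iv F10248)
theorem F11284 : act 3 n2569 = n2312 := d25_1 D2569 (iv D2312) D2311
def n2570 : Q := act 8 n2313
theorem D2570 : act 8 n2313 = n2570 := rfl
theorem F11285 : act 0 n2570 = n2391 := d7_1 D2570 (iv D2391) (iv F10252)
theorem F11286 : act 1 n2570 = n2357 := d14_1 D2570 (iv D2357) (iv F10253)
theorem F11287 : act 2 n2570 = n2570 := d20_1 D2570 (iv D2570) F10254
theorem F11288 : act 3 n2570 = n2314 := d25_1 D2570 (iv D2314) D2313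
theorem F11289 : act 5 n2570 = n2570 := d32_1 D2570 (iv D2570) F10255
theorem F11290 : act 6 n2570 = n2316 := d34_1 D2570 (iv D2316) (iv F10256)
theorem F11291 : act 7 n2570 = n2394 := d35_1 D2570 (iv D2394) F9531 (iv F9520) (iv F10257)
def n2571 : Q := act 5 n2315
theorem D2571 : act 5 n2315 = n2571 := rfl
theorem F11292 : act 1 n2571 = n2358 := d11_1 D2571 (iv D2358) (iv F10262)
theorem F11293 : act 2 n2571 = n2571 := d17_1 D2571 (iv D2571) F10263
theorem F11294 : act 4 n2571 = n2317 := d26_1 D2571 (iv D2317) (iv D2063) (iv F9217) D2315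
theorem F11295 : act 7 n2571 = n2392 := d31_2 (iv F10264) D2571 (iv D2392)
def n2572 : Q := act 8 n2315
theorem D2572 : act 8 n2315 = n2572 := rfl
theorem F11296 : act 1 n2572 = n2359 := d14_1 D2572 (iv D2359) (iv F10262)
theorem F11297 : act 2 n2572 = n2572 := d20_1 D2572 (iv D2572) F10263
theorem F11298 : act 4 n2572 = n2316 := d29_1 D2572 (iv D2316) D2315
def n2573 : Q := act 6 n2317
theorem D2573 : act 6 n2317 = n2573 := rfl
theorem F11299 : act 0 n2573 = n2375 := d5_1 D2573 (iv F10876) F10872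
theorem F11300 : act 1 n2573 = n2360 := d12_1 D2573 (iv D2360) (iv F10269)
theorem F11301 : act 2 n2573 = n2573 := d18_1 D2573 (iv D2573) F10270
theorem F11302 : act 5 n2573 = n2573 := d30_1 D2573 (iv D2573) (iv D2317) F9224 D2317
theorem F11303 : act 7 n2573 = n2390 := d33_2 (iv F10271) D2573 F10506
def n2574 : Q := act 8 n2317
theorem D2574 : act 8 n2317 = n2574 := rfl
theorem F11304 : act 1 n2574 = n2361 := d14_1 D2574 (iv D2361) (iv F10269)
theorem F11305 : act 2 n2574 = n2574 := d20_1 D2574 (iv D2574) F10270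
theorem F11306 : act 5 n2574 = n2318 := d32_1 D2574 (iv D2318) D2317
def n2575 : Q := act 8 n2319
theorem D2575 : act 8 n2319 = n2575 := rfl
theorem F11307 : act 1 n2575 = n2324 := d14_1 D2575 (iv D2324) (iv F10276)
theorem F11308 : act 4 n2575 = n2575 := d29_1 D2575 (iv D2575) F10277
theorem F11309 : act 5 n2575 = n2321 := d32_1 D2575 (iv D2321) (iv F10278)
def n2576 : Q := act 2 n2320
theorem D2576 : act 2 n2320 = n2576 := rfl
theorem F11310 : act 4 n2576 = n2576 := d16_2 F10280 D2576 (iv D2576)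
theorem F11311 : act 6 n2576 = n2322 := d18_2 (iv F10281) D2576 (iv D2322)
theorem F11312 : act 7 n2576 = n2576 := d19_2 F10282 D2576 (iv D2576)
def n2577 : Q := act 8 n2320
theorem D2577 : act 8 n2320 = n2577 := rfl
theorem F11313 : act 1 n2577 = n2325 := d14_1 D2577 (iv D2325) (iv F10279)
theorem F11314 : act 3 n2577 = n2321 := d25_1 D2577 (iv D2321) D2320
theorem F11315 : act 4 n2577 = n2577 := d29_1 D2577 (iv D2577) F10280
theorem F11316 : act 6 n2577 = n2323 := d34_1 D2577 (iv D2323) (iv F10281)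
def n2578 : Q := act 1 n2322
theorem D2578 : act 1 n2322 = n2578 := rfl
theorem F11317 : act 2 n2578 = n2326 := d8_2 D2322 D2578 (iv D2326) (iv D2073) (iv F9236)
theorem F11318 : act 4 n2578 = n2578 := d10_2 F10286 D2578 (iv D2578)
theorem F11319 : act 7 n2578 = n2578 := d13_2 F10287 D2578 (iv D2578)
def n2579 : Q := act 8 n2322
theorem D2579 : act 8 n2322 = n2579 := rfl
theorem F11320 : act 2 n2579 = n2323 := d20_1 D2579 (iv D2323) D2322
theorem F11321 : act 4 n2579 = n2579 := d29_1 D2579 (iv D2579) F10286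
def n2580 : Q := act 7 n2323
theorem D2580 : act 7 n2323 = n2580 := rfl
theorem F11322 : act 1 n2580 = n2328 := d13_1 D2580 (iv D2328) (iv F10288)
theorem F11323 : act 4 n2580 = n2580 := d28_1 D2580 (iv D2580) F10290
theorem F11324 : act 8 n2580 = n2580 := d35_2 D2323 D2580 (iv D2580) (iv D2323) F9238
def n2581 : Q := act 7 n2325
theorem D2581 : act 7 n2325 = n2581 := rfl
theorem F11325 : act 0 n2581 = n2581 := d6_1 D2581 (iv D2581) F10295
theorem F11326 : act 4 n2581 = n2581 := d28_1 D2581 (iv D2581) F10297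
theorem F11327 : act 6 n2581 = n2328 := d33_1 D2581 (iv D2328) (iv F10298)
theorem F11328 : act 8 n2581 = n2581 := d35_2 D2325 D2581 (iv D2581) (iv D2325) F9252
def n2582 : Q := act 0 n2326
theorem D2582 : act 0 n2326 = n2582 := rfl
theorem F11329 : act 1 n2582 = n2582 := d0_2 D2326 D2582 (iv D2582) (iv D2326) F9257
theorem F11330 : act 3 n2582 = n2364 := d2_2 (iv F10299) D2582 (iv D2364)
theorem F11331 : act 4 n2582 = n2582 := d3_2 F10300 D2582 (iv D2582)
theorem F11332 : act 6 n2582 = n2382 := d5_2 F10645 D2582 (iv F10641)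
theorem F11333 : act 7 n2582 = n2582 := d6_2 F10301 D2582 (iv D2582)
def n2583 : Q := act 8 n2326
theorem D2583 : act 8 n2326 = n2583 := rfl
theorem F11334 : act 1 n2583 = n2327 := d14_1 D2583 (iv D2327) D2326
theorem F11335 : act 3 n2583 = n2365 := d25_1 D2583 (iv D2365) (iv F10299)
theorem F11336 : act 4 n2583 = n2583 := d29_1 D2583 (iv D2583) F10300
def n2584 : Q := act 7 n2327
theorem D2584 : act 7 n2327 = n2584 := rfl
theorem F11337 : act 0 n2584 = n2584 := d6_1 D2584 (iv D2584) F10302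
theorem F11338 : act 2 n2584 = n2328 := d19_1 D2584 (iv D2328) (iv F10303)
theorem F11339 : act 4 n2584 = n2584 := d28_1 D2584 (iv D2584) F10305
theorem F11340 : act 8 n2584 = n2584 := d35_2 D2327 D2584 (iv D2584) (iv D2327) F9260
def n2585 : Q := act 3 n2329
theorem D2585 : act 3 n2329 = n2585 := rfl
theorem F11341 : act 0 n2585 = n2334 := d2_1 D2585 (iv D2334) (iv F10309)
theorem F11342 : act 6 n2585 = n2349 := d23_2 (iv F10312) D2585 (iv D2349)
theorem F11343 : act 7 n2585 = n2351 := d24_2 D2329 D2585 (iv D2351) (iv D2105) (iv F9272)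
def n2586 : Q := act 8 n2329
theorem D2586 : act 8 n2329 = n2586 := rfl
theorem F11344 : act 0 n2586 = n2335 := d7_1 D2586 (iv D2335) (iv F10309)
theorem F11345 : act 2 n2586 = n2331 := d20_1 D2586 (iv D2331) (iv F10310)
theorem F11346 : act 4 n2586 = n2330 := d29_1 D2586 (iv D2330) (iv F10311)
theorem F11347 : act 6 n2586 = n2350 := d34_1 D2586 (iv D2350) (iv F10312)
theorem F11348 : act 7 n2586 = n2344 := d35_1 D2586 (iv D2344) (iv D2096) (iv F9274) D2329
def n2587 : Q := act 3 n2332
theorem D2587 : act 3 n2332 = n2587 := rfl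
theorem F11349 : act 0 n2587 = n2351 := d2_1 D2587 (iv D2351) (iv F10323)
theorem F11350 : act 6 n2587 = n2343 := d23_2 (iv F10326) D2587 (iv D2343)
theorem F11351 : act 7 n2587 = n2334 := d24_2 D2332 D2587 (iv D2334) (iv D2083) D2081
def n2588 : Q := act 8 n2332
theorem D2588 : act 8 n2332 = n2588 := rfl
theorem F11352 : act 0 n2588 = n2352 := d7_1 D2588 (iv D2352) (iv F10323)
theorem F11353 : act 2 n2588 = n2346 := d20_1 D2588 (iv D2346) (iv F10324)
theorem F11354 : act 4 n2588 = n2345 := d29_1 D2588 (iv D2345) (iv F10325)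
theorem F11355 : act 6 n2588 = n2344 := d34_1 D2588 (iv D2344) (iv F10326)
theorem F11356 : act 7 n2588 = n2350 := d35_1 D2588 (iv D2350) (iv D2103) (iv F9296) D2332
def n2589 : Q := act 3 n2333
theorem D2589 : act 3 n2333 = n2589 := rfl
theorem F11357 : act 0 n2589 = n2349 := d2_1 D2589 (iv D2349) (iv F10327)
theorem F11358 : act 6 n2589 = n2334 := d23_2 (iv F10330) D2589 (iv D2334)
theorem F11359 : act 7 n2589 = n2343 := d24_2 D2333 D2589 (iv D2343) (iv D2096) (iv F9300)
def n2590 : Q := act 8 n2333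
theorem D2590 : act 8 n2333 = n2590 := rfl
theorem F11360 : act 0 n2590 = n2350 := d7_1 D2590 (iv D2350) (iv F10327)
theorem F11361 : act 2 n2590 = n2340 := d20_1 D2590 (iv D2340) (iv F10328)
theorem F11362 : act 4 n2590 = n2337 := d29_1 D2590 (iv D2337) (iv F10329)
theorem F11363 : act 6 n2590 = n2335 := d34_1 D2590 (iv D2335) (iv F10330)
theorem F11364 : act 7 n2590 = n2352 := d35_1 D2590 (iv D2352) (iv D2105) (iv F9302) D2333
def n2591 : Q := act 2 n2334
theorem D2591 : act 2 n2334 = n2591 := rfl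
theorem F11365 : act 3 n2591 = n2341 := d15_2 D2334 D2591 (iv D2341) (iv D2089) (iv F9303)
theorem F11366 : act 5 n2591 = n2351 := d17_2 F10914 D2591 (iv F10913)
def n2592 : Q := act 4 n2334
theorem D2592 : act 4 n2334 = n2592 := rfl
theorem F11367 : act 1 n2592 = n2343 := d10_1 D2592 (iv F11149) F11148
theorem F11368 : act 3 n2592 = n2338 := d21_1 D2592 (iv D2338) (iv D2085) (iv F9304) D2334
def n2593 : Q := act 8 n2334
theorem D2593 : act 8 n2334 = n2593 := rfl
theorem F11369 : act 3 n2593 = n2335 := d25_1 D2593 (iv D2335) D2334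
def n2594 : Q := act 8 n2336
theorem D2594 : act 8 n2336 = n2594 := rfl
theorem F11370 : act 0 n2594 = n2394 := d7_1 D2594 (iv D2394) (iv F10334)
theorem F11371 : act 1 n2594 = n2345 := d14_1 D2594 (iv D2345) (iv F10335)
theorem F11372 : act 2 n2594 = n2594 := d20_1 D2594 (iv D2594) F10336
theorem F11373 : act 3 n2594 = n2337 := d25_1 D2594 (iv D2337) D2336
theorem F11374 : act 5 n2594 = n2594 := d32_1 D2594 (iv D2594) F10337
theorem F11375 : act 6 n2594 = n2339 := d34_1 D2594 (iv D2339) (iv F10338)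
theorem F11376 : act 7 n2594 = n2391 := d35_1 D2594 (iv D2391) (iv D2149) (iv F9352) (iv F10339)
def n2595 : Q := act 8 n2338
theorem D2595 : act 8 n2338 = n2595 := rfl
theorem F11377 : act 1 n2595 = n2344 := d14_1 D2595 (iv D2344) (iv F10345)
theorem F11378 : act 2 n2595 = n2595 := d20_1 D2595 (iv D2595) F10346
theorem F11379 : act 4 n2595 = n2339 := d29_1 D2595 (iv D2339) D2338
def n2596 : Q := act 8 n2341
theorem D2596 : act 8 n2341 = n2596 := rfl
theorem F11380 : act 2 n2596 = n2342 := d20_1 D2596 (iv D2342) D2341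
theorem F11381 : act 4 n2596 = n2596 := d29_1 D2596 (iv D2596) F10357
theorem F11382 : act 5 n2596 = n2352 := d32_1 D2596 (iv D2352) (iv F10358)
def n2597 : Q := act 2 n2343
theorem D2597 : act 2 n2343 = n2597 := rfl
theorem F11383 : act 0 n2597 = n2353 := d1_1 D2597 (iv D2353) (iv F10364)
theorem F11384 : act 3 n2597 = n2347 := d15_2 D2343 D2597 (iv D2347) (iv D2100) (iv F9354)
def n2598 : Q := act 8 n2343
theorem D2598 : act 8 n2343 = n2598 := rfl
theorem F11385 : act 0 n2598 = n2355 := d7_1 D2598 (iv D2355) (iv F10364)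
theorem F11386 : act 3 n2598 = n2344 := d25_1 D2598 (iv D2344) D2343
def n2599 : Q := act 1 n2347
theorem D2599 : act 1 n2347 = n2599 := rfl
theorem F11387 : act 2 n2599 = n2599 := d8_2 D2347 D2599 (iv D2599) (iv D2347) F9368
theorem F11388 : act 4 n2599 = n2375 := d10_2 (iv F10379) D2599 (iv D2375)
theorem F11389 : act 7 n2599 = n2366 := d13_2 (iv F10380) D2599 (iv D2366)
def n2600 : Q := act 8 n2347
theorem D2600 : act 8 n2347 = n2600 := rfl
theorem F11390 : act 0 n2600 = n2363 := d7_1 D2600 (iv D2363) (iv F10378)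
theorem F11391 : act 2 n2600 = n2348 := d20_1 D2600 (iv D2348) D2347
theorem F11392 : act 4 n2600 = n2376 := d29_1 D2600 (iv D2376) (iv F10379)
def n2601 : Q := act 2 n2349
theorem D2601 : act 2 n2349 = n2601 := rfl
theorem F11393 : act 3 n2601 = n2367 := d15_2 D2349 D2601 (iv D2367) (iv D2120) (iv F9380)
theorem F11394 : act 7 n2601 = n2353 := d19_2 (iv F10385) D2601 (iv D2353)
def n2602 : Q := act 4 n2349
theorem D2602 : act 4 n2349 = n2602 := rfl
theorem F11395 : act 3 n2602 = n2393 := d21_1 D2602 (iv D2393) (iv D2152) (iv F9381) D2349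
theorem F11396 : act 7 n2602 = n2354 := d28_2 (iv F10385) D2602 (iv D2354)
def n2603 : Q := act 8 n2349
theorem D2603 : act 8 n2349 = n2603 := rfl
theorem F11397 : act 3 n2603 = n2350 := d25_1 D2603 (iv D2350) D2349
def n2604 : Q := act 4 n2351
theorem D2604 : act 4 n2351 = n2604 := rfl
theorem F11398 : act 3 n2604 = n2356 := d21_1 D2604 (iv D2356) (iv D2108) (iv F9385) D2351
theorem F11399 : act 6 n2604 = n2354 := d27_2 (iv F10388) D2604 (iv D2354)
def n2605 : Q := act 8 n2351
theorem D2605 : act 8 n2351 = n2605 := rfl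
theorem F11400 : act 3 n2605 = n2352 := d25_1 D2605 (iv D2352) D2351
theorem F11401 : act 6 n2605 = n2355 := d34_1 D2605 (iv D2355) (iv F10388)
def n2606 : Q := act 1 n2353
theorem D2606 : act 1 n2353 = n2606 := rfl
theorem F11402 : act 3 n2606 = n2362 := d9_2 (iv F10392) D2606 (iv D2362)
def n2607 : Q := act 4 n2353
theorem D2607 : act 4 n2353 = n2607 := rfl
theorem F11403 : act 2 n2607 = n2354 := d16_1 D2607 (iv D2354) D2353
theorem F11404 : act 3 n2607 = n2380 := d21_1 D2607 (iv D2380) F9471 (iv F9409) (iv F10392)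
def n2608 : Q := act 8 n2353
theorem D2608 : act 8 n2353 = n2608 := rfl
theorem F11405 : act 2 n2608 = n2355 := d20_1 D2608 (iv D2355) D2353
theorem F11406 : act 3 n2608 = n2363 := d25_1 D2608 (iv D2363) (iv F10392)
def n2609 : Q := act 5 n2354
theorem D2609 : act 5 n2354 = n2609 := rfl
theorem F11407 : act 3 n2609 = n2358 := d22_1 D2609 (iv D2358) (iv F10393)
def n2610 : Q := act 8 n2354
theorem D2610 : act 8 n2354 = n2610 := rfl
theorem F11408 : act 3 n2610 = n2359 := d25_1 D2610 (iv D2359) (iv F10393)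
theorem F11409 : act 4 n2610 = n2355 := d29_1 D2610 (iv D2355) D2354
def n2611 : Q := act 7 n2355
theorem D2611 : act 7 n2355 = n2611 := rfl
def n2612 : Q := act 5 n2356
theorem D2612 : act 5 n2356 = n2612 := rfl
theorem F11410 : act 2 n2612 = n2385 := d17_1 D2612 (iv D2385) (iv F10395)
theorem F11411 : act 4 n2612 = n2612 := d26_1 D2612 (iv D2612) (iv D2356) F9390 D2356
theorem F11412 : act 7 n2612 = n2396 := d31_2 (iv F10397) D2612 (iv D2396)
def n2613 : Q := act 8 n2356
theorem D2613 : act 8 n2356 = n2613 := rfl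
theorem F11413 : act 2 n2613 = n2386 := d20_1 D2613 (iv D2386) (iv F10395)
theorem F11414 : act 4 n2613 = n2357 := d29_1 D2613 (iv D2357) D2356
theorem F11415 : act 6 n2613 = n2359 := d34_1 D2613 (iv D2359) (iv F10396)
def n2614 : Q := act 6 n2358
theorem D2614 : act 6 n2358 = n2614 := rfl
theorem F11416 : act 0 n2614 = n2362 := d5_1 D2614 (iv F10622) F10617
theorem F11417 : act 2 n2614 = n2364 := d18_1 D2614 F10420 (iv F10402)
theorem F11418 : act 4 n2614 = n2360 := d27_1 D2614 (iv D2360) (iv F10403)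
theorem F11419 : act 7 n2614 = n2370 := d33_2 (iv F10404) D2614 F10436
def n2615 : Q := act 8 n2358
theorem D2615 : act 8 n2358 = n2615 := rfl
theorem F11420 : act 2 n2615 = n2387 := d20_1 D2615 (iv D2387) (iv F10402)
theorem F11421 : act 4 n2615 = n2361 := d29_1 D2615 (iv D2361) (iv F10403)
theorem F11422 : act 5 n2615 = n2359 := d32_1 D2615 (iv D2359) D2358
def n2616 : Q := act 8 n2360
theorem D2616 : act 8 n2360 = n2616 := rfl
theorem F11423 : act 0 n2616 = n2389 := d7_1 D2616 (iv D2389) (iv F10407)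
theorem F11424 : act 2 n2616 = n2388 := d20_1 D2616 (iv D2388) (iv F10408)
theorem F11425 : act 5 n2616 = n2616 := d32_1 D2616 (iv D2616) F10409
theorem F11426 : act 6 n2616 = n2361 := d34_1 D2616 (iv D2361) D2360
def n2617 : Q := act 8 n2362
theorem D2617 : act 8 n2362 = n2617 := rfl
theorem F11427 : act 1 n2617 = n2363 := d14_1 D2617 (iv D2363) D2362
theorem F11428 : act 2 n2617 = n2365 := d20_1 D2617 (iv D2365) (iv F10413)
theorem F11429 : act 4 n2617 = n2389 := d29_1 D2617 (iv D2389) (iv F10414)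
def n2618 : Q := act 8 n2364
theorem D2618 : act 8 n2364 = n2618 := rfl
theorem F11430 : act 0 n2618 = n2365 := d7_1 D2618 (iv D2365) D2364
theorem F11431 : act 1 n2618 = n2618 := d14_1 D2618 (iv D2618) F10418
theorem F11432 : act 4 n2618 = n2388 := d29_1 D2618 (iv D2388) (iv F10419)
theorem F11433 : act 6 n2618 = n2387 := d34_1 D2618 (iv D2387) (iv F10420)
def n2619 : Q := act 0 n2366
theorem D2619 : act 0 n2366 = n2619 := rfl
theorem F11434 : act 1 n2619 = n2370 := d0_2 D2366 D2619 (iv D2370) (iv D2123) (iv F9419)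
theorem F11435 : act 2 n2619 = n2619 := d1_2 F10424 D2619 (iv D2619)
theorem F11436 : act 4 n2619 = n2390 := d3_2 (iv F10425) D2619 (iv D2390)
theorem F11437 : act 6 n2619 = n2392 := d5_2 F10869 D2619 (iv F10865)
def n2620 : Q := act 1 n2367
theorem D2620 : act 1 n2367 = n2620 := rfl
theorem F11438 : act 2 n2620 = n2620 := d8_2 D2367 D2620 (iv D2620) (iv D2367) F9421
theorem F11439 : act 4 n2620 = n2620 := d10_2 F10426 D2620 (iv D2620)
theorem F11440 : act 7 n2620 = n2369 := d13_2 (iv F10427) D2620 (iv D2369)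
def n2621 : Q := act 8 n2367
theorem D2621 : act 8 n2367 = n2621 := rfl
theorem F11441 : act 2 n2621 = n2368 := d20_1 D2621 (iv D2368) D2367
theorem F11442 : act 4 n2621 = n2621 := d29_1 D2621 (iv D2621) F10426
def n2622 : Q := act 0 n2369
theorem D2622 : act 0 n2369 = n2622 := rfl
theorem F11443 : act 2 n2622 = n2622 := d1_2 F10431 D2622 (iv D2622)
theorem F11444 : act 3 n2622 = n2370 := d2_2 (iv F10432) D2622 (iv D2370)
theorem F11445 : act 4 n2622 = n2622 := d3_2 F10433 D2622 (iv D2622)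
theorem F11446 : act 6 n2622 = n2395 := d5_2 F10615 D2622 (iv F10610)
def n2623 : Q := act 8 n2371
theorem D2623 : act 8 n2371 = n2623 := rfl
theorem F11447 : act 0 n2623 = n2378 := d7_1 D2623 (iv D2378) (iv F10437)
theorem F11448 : act 3 n2623 = n2372 := d25_1 D2623 (iv D2372) D2371
theorem F11449 : act 6 n2623 = n2374 := d34_1 D2623 (iv D2374) (iv F10438)
def n2624 : Q := act 1 n2373
theorem D2624 : act 1 n2373 = n2624 := rfl
theorem F11450 : act 3 n2624 = n2375 := d9_2 (iv F10446) D2624 (iv D2375)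
theorem F11451 : act 5 n2624 = n2624 := d11_2 F10447 D2624 (iv D2624)
theorem F11452 : act 7 n2624 = n2624 := d13_2 F10448 D2624 (iv D2624)
def n2625 : Q := act 8 n2373
theorem D2625 : act 8 n2373 = n2625 := rfl
theorem F11453 : act 0 n2625 = n2381 := d7_1 D2625 (iv D2381) (iv F10445)
theorem F11454 : act 2 n2625 = n2374 := d20_1 D2625 (iv D2374) D2373
theorem F11455 : act 3 n2625 = n2376 := d25_1 D2625 (iv D2376) (iv F10446)
theorem F11456 : act 5 n2625 = n2625 := d32_1 D2625 (iv D2625) F10447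
def n2626 : Q := act 7 n2374
theorem D2626 : act 7 n2374 = n2626 := rfl
theorem F11457 : act 0 n2626 = n2384 := d6_1 D2626 (iv D2384) (iv F10449)
theorem F11458 : act 3 n2626 = n2626 := d24_1 D2626 (iv D2626) F10450 F9445 (iv F10450)
theorem F11459 : act 5 n2626 = n2626 := d31_1 D2626 (iv D2626) F10451
theorem F11460 : act 8 n2626 = n2626 := d35_2 D2374 D2626 (iv D2626) (iv D2374) F9440
def n2627 : Q := act 8 n2375
theorem D2627 : act 8 n2375 = n2627 := rfl
theorem F11461 : act 1 n2627 = n2376 := d14_1 D2627 (iv D2376) D2375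
theorem F11462 : act 2 n2627 = n2627 := d20_1 D2627 (iv D2627) F10452
theorem F11463 : act 5 n2627 = n2627 := d32_1 D2627 (iv D2627) F10453
def n2628 : Q := act 5 n2377
theorem D2628 : act 5 n2377 = n2628 := rfl
theorem F11464 : act 1 n2628 = n2628 := d11_1 D2628 (iv D2628) F10458
theorem F11465 : act 3 n2628 = n2385 := d22_1 D2628 (iv D2385) (iv F10459)
theorem F11466 : act 7 n2628 = n2628 := d31_2 F10461 D2628 (iv D2628)
def n2629 : Q := act 8 n2377
theorem D2629 : act 8 n2377 = n2629 := rfl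
theorem F11467 : act 1 n2629 = n2629 := d14_1 D2629 (iv D2629) F10458
theorem F11468 : act 3 n2629 = n2386 := d25_1 D2629 (iv D2386) (iv F10459)
theorem F11469 : act 4 n2629 = n2378 := d29_1 D2629 (iv D2378) D2377
theorem F11470 : act 6 n2629 = n2383 := d34_1 D2629 (iv D2383) (iv F10460)
def n2630 : Q := act 7 n2378
theorem D2630 : act 7 n2378 = n2630 := rfl
theorem F11471 : act 1 n2630 = n2630 := d13_1 D2630 (iv D2630) F10462
theorem F11472 : act 3 n2630 = n2630 := d24_1 D2630 (iv D2630) F10463 F9470 (iv F10463)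
theorem F11473 : act 6 n2630 = n2384 := d33_1 D2630 (iv D2384) (iv F10464)
theorem F11474 : act 8 n2630 = n2630 := d35_2 D2378 D2630 (iv D2630) (iv D2378) F9465
def n2631 : Q := act 4 n2379
theorem D2631 : act 4 n2379 = n2631 := rfl
theorem F11475 : act 1 n2631 = n2380 := d10_1 D2631 (iv D2380) D2379
theorem F11476 : act 2 n2631 = n2631 := d16_1 D2631 (iv D2631) F10465
theorem F11477 : act 7 n2631 = n2631 := d28_2 F10468 D2631 (iv D2631)
def n2632 : Q := act 8 n2379
theorem D2632 : act 8 n2379 = n2632 := rfl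
theorem F11478 : act 1 n2632 = n2381 := d14_1 D2632 (iv D2381) D2379
theorem F11479 : act 2 n2632 = n2632 := d20_1 D2632 (iv D2632) F10465
theorem F11480 : act 3 n2632 = n2389 := d25_1 D2632 (iv D2389) (iv F10466)
theorem F11481 : act 5 n2632 = n2632 := d32_1 D2632 (iv D2632) F10467
def n2633 : Q := act 5 n2380
theorem D2633 : act 5 n2380 = n2633 := rfl
theorem F11482 : act 2 n2633 = n2382 := d17_1 D2633 (iv D2382) (iv F10469)
theorem F11483 : act 4 n2633 = n2633 := d26_1 D2633 (iv D2633) (iv D2380) F9472 D2380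
theorem F11484 : act 7 n2633 = n2633 := d31_2 F10470 D2633 (iv D2633)
def n2634 : Q := act 8 n2380
theorem D2634 : act 8 n2380 = n2634 := rfl
theorem F11485 : act 2 n2634 = n2383 := d20_1 D2634 (iv D2383) (iv F10469)
theorem F11486 : act 4 n2634 = n2381 := d29_1 D2634 (iv D2381) D2380
def n2635 : Q := act 7 n2381
theorem D2635 : act 7 n2381 = n2635 := rfl
theorem F11487 : act 2 n2635 = n2384 := d19_1 D2635 (iv D2384) (iv F10471)
theorem F11488 : act 5 n2635 = n2635 := d31_1 D2635 (iv D2635) F10473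
theorem F11489 : act 8 n2635 = n2635 := d35_2 D2381 D2635 (iv D2635) (iv D2381) F9473
def n2636 : Q := act 8 n2382
theorem D2636 : act 8 n2382 = n2636 := rfl
theorem F11490 : act 1 n2636 = n2636 := d14_1 D2636 (iv D2636) F10474
theorem F11491 : act 3 n2636 = n2387 := d25_1 D2636 (iv D2387) (iv F10475)
theorem F11492 : act 4 n2636 = n2636 := d29_1 D2636 (iv D2636) F10476
theorem F11493 : act 5 n2636 = n2383 := d32_1 D2636 (iv D2383) D2382
def n2637 : Q := act 7 n2383
theorem D2637 : act 7 n2383 = n2637 := rfl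
theorem F11494 : act 1 n2637 = n2637 := d13_1 D2637 (iv D2637) F10478
theorem F11495 : act 4 n2637 = n2384 := d28_1 D2637 (iv D2384) (iv F10480)
theorem F11496 : act 8 n2637 = n2637 := d35_2 D2383 D2637 (iv D2637) (iv D2383) F9476
def n2638 : Q := act 8 n2385
theorem D2638 : act 8 n2385 = n2638 := rfl
theorem F11497 : act 1 n2638 = n2638 := d14_1 D2638 (iv D2638) F10485
theorem F11498 : act 4 n2638 = n2638 := d29_1 D2638 (iv D2638) F10486
theorem F11499 : act 5 n2638 = n2386 := d32_1 D2638 (iv D2386) D2385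
def n2639 : Q := act 5 n2393
theorem D2639 : act 5 n2393 = n2639 := rfl
theorem F11500 : act 2 n2639 = n2639 := d17_1 D2639 (iv D2639) F10513
theorem F11501 : act 4 n2639 = n2639 := d26_1 D2639 (iv D2639) (iv D2393) F9530 D2393
theorem F11502 : act 7 n2639 = n2395 := d31_2 (iv F10514) D2639 (iv D2395)
def n2640 : Q := act 8 n2393
theorem D2640 : act 8 n2393 = n2640 := rfl
theorem F11503 : act 2 n2640 = n2640 := d20_1 D2640 (iv D2640) F10513
theorem F11504 : act 4 n2640 = n2394 := d29_1 D2640 (iv D2394) D2393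
def n2641 : Q := act 3 n2397
theorem D2641 : act 3 n2397 = n2641 := rfl
theorem F11505 : act 0 n2641 = n2641 := d2_1 D2641 (iv D2641) F10523
theorem F11506 : act 1 n2641 = n2399 := d9_1 D2641 (iv D2399) (iv F10524)
theorem F11507 : act 5 n2641 = n2411 := d22_2 (iv F10527) D2641 (iv D2411)
theorem F11508 : act 6 n2641 = n2641 := d23_2 F10528 D2641 (iv D2641)
theorem F11509 : act 7 n2641 = n2641 := d24_2 D2397 D2641 (iv D2641) (iv D2397) F9545
def n2642 : Q := act 8 n2397
theorem D2642 : act 8 n2397 = n2642 := rfl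
theorem F11510 : act 0 n2642 = n2642 := d7_1 D2642 (iv D2642) F10523
theorem F11511 : act 1 n2642 = n2400 := d14_1 D2642 (iv D2400) (iv F10524)
theorem F11512 : act 2 n2642 = n2642 := d20_1 D2642 (iv D2642) F10525
theorem F11513 : act 4 n2642 = n2642 := d29_1 D2642 (iv D2642) F10526
theorem F11514 : act 5 n2642 = n2412 := d32_1 D2642 (iv D2412) (iv F10527)
theorem F11515 : act 6 n2642 = n2642 := d34_1 D2642 (iv D2642) F10528
theorem F11516 : act 7 n2642 = n2642 := d35_1 D2642 (iv D2642) (iv D2397) F9548 D2397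
def n2643 : Q := act 3 n2398
theorem D2643 : act 3 n2398 = n2643 := rfl
theorem F11517 : act 0 n2643 = n2404 := d2_1 D2643 (iv D2404) (iv F10529)
theorem F11518 : act 1 n2643 = n2411 := d9_1 D2643 (iv D2411) (iv F10530)
theorem F11519 : act 2 n2643 = n2432 := d15_1 D2643 (iv D2432) F9693 (iv F9577) (iv F10531)
theorem F11520 : act 4 n2643 = n2455 := d21_2 (iv F10532) D2643 (iv D2455) F9755 (iv F9601)
theorem F11521 : act 5 n2643 = n2399 := d22_2 (iv F10533) D2643 (iv D2399)
theorem F11522 : act 6 n2643 = n2408 := d23_2 (iv F10534) D2643 (iv D2408)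
theorem F11523 : act 7 n2643 = n2643 := d24_2 D2398 D2643 (iv D2643) (iv D2398) F9551
def n2644 : Q := act 8 n2398
theorem D2644 : act 8 n2398 = n2644 := rfl
theorem F11524 : act 0 n2644 = n2405 := d7_1 D2644 (iv D2405) (iv F10529)
theorem F11525 : act 1 n2644 = n2412 := d14_1 D2644 (iv D2412) (iv F10530)
theorem F11526 : act 2 n2644 = n2403 := d20_1 D2644 (iv D2403) (iv F10531)
theorem F11527 : act 4 n2644 = n2410 := d29_1 D2644 (iv D2410) (iv F10532)
theorem F11528 : act 5 n2644 = n2400 := d32_1 D2644 (iv D2400) (iv F10533)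
theorem F11529 : act 6 n2644 = n2409 := d34_1 D2644 (iv D2409) (iv F10534)
theorem F11530 : act 7 n2644 = n2644 := d35_1 D2644 (iv D2644) (iv D2398) F9552 D2398
def n2645 : Q := act 4 n2399
theorem D2645 : act 4 n2399 = n2645 := rfl
theorem F11531 : act 0 n2645 = n2406 := d3_1 D2645 (iv D2406) (iv F10535)
theorem F11532 : act 2 n2645 = n2434 := d16_1 D2645 (iv D2434) (iv F10536)
theorem F11533 : act 3 n2645 = n2645 := d21_1 D2645 (iv D2645) (iv D2399) F9555 D2399
theorem F11534 : act 6 n2645 = n2645 := d27_2 F10537 D2645 (iv D2645)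
theorem F11535 : act 7 n2645 = n2645 := d28_2 F10538 D2645 (iv D2645)
def n2646 : Q := act 8 n2399
theorem D2646 : act 8 n2399 = n2646 := rfl
theorem F11536 : act 0 n2646 = n2407 := d7_1 D2646 (iv D2407) (iv F10535)
theorem F11537 : act 2 n2646 = n2435 := d20_1 D2646 (iv D2435) (iv F10536)
theorem F11538 : act 3 n2646 = n2400 := d25_1 D2646 (iv D2400) D2399
theorem F11539 : act 6 n2646 = n2646 := d34_1 D2646 (iv D2646) F10537
def n2647 : Q := act 3 n2401
theorem D2647 : act 3 n2401 = n2647 := rfl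
theorem F11540 : act 0 n2647 = n2408 := d2_1 D2647 (iv D2408) (iv F10544)
theorem F11541 : act 1 n2647 = n2647 := d9_1 D2647 (iv D2647) F10545
theorem F11542 : act 2 n2647 = n2447 := d15_1 D2647 (iv D2447) F9733 (iv F9601) (iv F10546)
theorem F11543 : act 4 n2647 = n2438 := d21_2 (iv F10547) D2647 (iv D2438) F9710 (iv F9577)
theorem F11544 : act 5 n2647 = n2647 := d22_2 F10548 D2647 (iv D2647)
theorem F11545 : act 6 n2647 = n2404 := d23_2 (iv F10549) D2647 (iv D2404)
theorem F11546 : act 7 n2647 = n2647 := d24_2 D2401 D2647 (iv D2647) (iv D2401) F9559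
def n2648 : Q := act 8 n2401
theorem D2648 : act 8 n2401 = n2648 := rfl
theorem F11547 : act 0 n2648 = n2409 := d7_1 D2648 (iv D2409) (iv F10544)
theorem F11548 : act 1 n2648 = n2648 := d14_1 D2648 (iv D2648) F10545
theorem F11549 : act 2 n2648 = n2410 := d20_1 D2648 (iv D2410) (iv F10546)
theorem F11550 : act 4 n2648 = n2403 := d29_1 D2648 (iv D2403) (iv F10547)
theorem F11551 : act 5 n2648 = n2648 := d32_1 D2648 (iv D2648) F10548
theorem F11552 : act 6 n2648 = n2405 := d34_1 D2648 (iv D2405) (iv F10549)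
theorem F11553 : act 7 n2648 = n2648 := d35_1 D2648 (iv D2648) (iv D2401) F9561 D2401
def n2649 : Q := act 8 n2402
theorem D2649 : act 8 n2402 = n2649 := rfl
theorem F11554 : act 0 n2649 = n2410 := d7_1 D2649 (iv D2410) (iv F10550)
theorem F11555 : act 1 n2649 = n2649 := d14_1 D2649 (iv D2649) F10551
theorem F11556 : act 2 n2649 = n2409 := d20_1 D2649 (iv D2409) (iv F10552)
theorem F11557 : act 3 n2649 = n2440 := d25_1 D2649 (iv D2440) (iv F10553)
theorem F11558 : act 4 n2649 = n2405 := d29_1 D2649 (iv D2405) (iv F10554)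
theorem F11559 : act 5 n2649 = n2649 := d32_1 D2649 (iv D2649) F10555
theorem F11560 : act 6 n2649 = n2403 := d34_1 D2649 (iv D2403) (iv F10556)
theorem F11561 : act 7 n2649 = n2649 := d35_1 D2649 (iv D2649) (iv D2402) F9566 D2402
def n2650 : Q := act 4 n2404
theorem D2650 : act 4 n2404 = n2650 := rfl
theorem F11562 : act 0 n2650 = n2455 := d3_1 D2650 (iv F11520) F11517
theorem F11563 : act 1 n2650 = n2650 := d10_1 D2650 (iv D2650) F10562
theorem F11564 : act 2 n2650 = n2449 := d16_1 D2650 (iv D2449) (iv F10563)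
theorem F11565 : act 3 n2650 = n2437 := d21_1 D2650 F10727 (iv F10553) F10554 D2404
theorem F11566 : act 6 n2650 = n2438 := d27_2 F11545 D2650 (iv F11543)
theorem F11567 : act 7 n2650 = n2650 := d28_2 F10565 D2650 (iv D2650)
def n2651 : Q := act 8 n2404
theorem D2651 : act 8 n2404 = n2651 := rfl
theorem F11568 : act 1 n2651 = n2651 := d14_1 D2651 (iv D2651) F10562
theorem F11569 : act 2 n2651 = n2450 := d20_1 D2651 (iv D2450) (iv F10563)
theorem F11570 : act 3 n2651 = n2405 := d25_1 D2651 (iv D2405) D2404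
theorem F11571 : act 5 n2651 = n2407 := d32_1 D2651 (iv D2407) (iv F10564)
def n2652 : Q := act 5 n2406
theorem D2652 : act 5 n2406 = n2652 := rfl
theorem F11572 : act 1 n2652 = n2652 := d11_1 D2652 (iv D2652) F10570
theorem F11573 : act 2 n2652 = n2451 := d17_1 D2652 (iv D2451) (iv F10571)
theorem F11574 : act 3 n2652 = n2652 := d22_1 D2652 (iv D2652) F10572
theorem F11575 : act 7 n2652 = n2652 := d31_2 F10574 D2652 (iv D2652)
def n2653 : Q := act 8 n2406
theorem D2653 : act 8 n2406 = n2653 := rfl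
theorem F11576 : act 1 n2653 = n2653 := d14_1 D2653 (iv D2653) F10570
theorem F11577 : act 2 n2653 = n2452 := d20_1 D2653 (iv D2452) (iv F10571)
theorem F11578 : act 3 n2653 = n2653 := d25_1 D2653 (iv D2653) F10572
theorem F11579 : act 4 n2653 = n2407 := d29_1 D2653 (iv D2407) D2406
theorem F11580 : act 6 n2653 = n2653 := d34_1 D2653 (iv D2653) F10573
def n2654 : Q := act 7 n2407
theorem D2654 : act 7 n2407 = n2654 := rfl
theorem F11581 : act 1 n2654 = n2654 := d13_1 D2654 (iv D2654) F10575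
theorem F11582 : act 2 n2654 = n2453 := d19_1 D2654 (iv D2453) (iv F10576)
theorem F11583 : act 3 n2654 = n2654 := d24_1 D2654 (iv D2654) F10577 F9596 (iv F10577)
theorem F11584 : act 6 n2654 = n2654 := d33_1 D2654 (iv D2654) F10578
theorem F11585 : act 8 n2654 = n2654 := d35_2 D2407 D2654 (iv D2654) (iv D2407) F9591
def n2655 : Q := act 2 n2408
theorem D2655 : act 2 n2408 = n2655 := rfl
theorem F11586 : act 0 n2655 = n2447 := d1_1 D2655 (iv F11542) F11540
theorem F11587 : act 3 n2655 = n2431 := d15_2 D2408 D2655 F10701 (iv F10553) F10552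
theorem F11588 : act 4 n2655 = n2457 := d16_2 (iv F10580) D2655 (iv D2457)
theorem F11589 : act 5 n2655 = n2655 := d17_2 F10581 D2655 (iv D2655)
theorem F11590 : act 6 n2655 = n2432 := d18_2 F11522 D2655 (iv F11519)
theorem F11591 : act 7 n2655 = n2655 := d19_2 F10582 D2655 (iv D2655)
def n2656 : Q := act 8 n2408
theorem D2656 : act 8 n2408 = n2656 := rfl
theorem F11592 : act 1 n2656 = n2414 := d14_1 D2656 (iv D2414) (iv F10579)
theorem F11593 : act 3 n2656 = n2409 := d25_1 D2656 (iv D2409) D2408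
theorem F11594 : act 4 n2656 = n2458 := d29_1 D2656 (iv D2458) (iv F10580)
theorem F11595 : act 5 n2656 = n2656 := d32_1 D2656 (iv D2656) F10581
def n2657 : Q := act 2 n2411
theorem D2657 : act 2 n2411 = n2657 := rfl
theorem F11596 : act 0 n2657 = n2657 := d1_1 D2657 (iv D2657) F10592
theorem F11597 : act 3 n2657 = n2657 := d15_2 D2411 D2657 (iv D2657) (iv D2411) F9609
theorem F11598 : act 4 n2657 = n2461 := d16_2 (iv F10593) D2657 (iv D2461)
theorem F11599 : act 6 n2657 = n2413 := d18_2 (iv F10594) D2657 (iv D2413)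
theorem F11600 : act 7 n2657 = n2657 := d19_2 F10595 D2657 (iv D2657)
def n2658 : Q := act 8 n2411
theorem D2658 : act 8 n2411 = n2658 := rfl
theorem F11601 : act 0 n2658 = n2658 := d7_1 D2658 (iv D2658) F10592
theorem F11602 : act 3 n2658 = n2412 := d25_1 D2658 (iv D2412) D2411
theorem F11603 : act 4 n2658 = n2462 := d29_1 D2658 (iv D2462) (iv F10593)
theorem F11604 : act 6 n2658 = n2414 := d34_1 D2658 (iv D2414) (iv F10594)
def n2659 : Q := act 1 n2413
theorem D2659 : act 1 n2413 = n2659 := rfl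
theorem F11605 : act 3 n2659 = n2659 := d9_2 F10602 D2659 (iv D2659)
theorem F11606 : act 4 n2659 = n2463 := d10_2 (iv F10603) D2659 (iv D2463)
theorem F11607 : act 5 n2659 = n2659 := d11_2 F10604 D2659 (iv D2659)
theorem F11608 : act 7 n2659 = n2659 := d13_2 F10605 D2659 (iv D2659)
def n2660 : Q := act 8 n2413
theorem D2660 : act 8 n2413 = n2660 := rfl
theorem F11609 : act 0 n2660 = n2660 := d7_1 D2660 (iv D2660) F10601
theorem F11610 : act 2 n2660 = n2414 := d20_1 D2660 (iv D2414) D2413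
theorem F11611 : act 3 n2660 = n2660 := d25_1 D2660 (iv D2660) F10602
theorem F11612 : act 4 n2660 = n2464 := d29_1 D2660 (iv D2464) (iv F10603)
theorem F11613 : act 5 n2660 = n2660 := d32_1 D2660 (iv D2660) F10604
def n2661 : Q := act 7 n2414
theorem D2661 : act 7 n2414 = n2661 := rfl
theorem F11614 : act 0 n2661 = n2661 := d6_1 D2661 (iv D2661) F10606
theorem F11615 : act 3 n2661 = n2661 := d24_1 D2661 (iv D2661) F10607 F9620 (iv F10607)
theorem F11616 : act 4 n2661 = n2465 := d28_1 D2661 (iv D2465) (iv F10608)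
theorem F11617 : act 5 n2661 = n2661 := d31_1 D2661 (iv D2661) F10609
theorem F11618 : act 8 n2661 = n2661 := d35_2 D2414 D2661 (iv D2661) (iv D2414) F9615
def n2662 : Q := act 7 n2415
theorem D2662 : act 7 n2415 = n2662 := rfl
theorem F11619 : act 0 n2662 = n2639 := d6_1 D2662 F11502 (iv F10610)
theorem F11620 : act 1 n2662 = n2479 := d13_1 D2662 (iv D2479) (iv F10611)
theorem F11621 : act 2 n2662 = n2662 := d19_1 D2662 (iv D2662) F10612
theorem F11622 : act 4 n2662 = n2662 := d28_1 D2662 (iv D2662) F10613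
theorem F11623 : act 5 n2662 = n2534 := d31_1 D2662 (iv D2534) (iv F10614)
theorem F11624 : act 6 n2662 = n2620 := d33_1 D2662 F11440 (iv F10615)
def n2663 : Q := act 3 n2416
theorem D2663 : act 3 n2416 = n2663 := rfl
theorem F11625 : act 0 n2663 = n2609 := d2_1 D2663 F11407 (iv F10617)
theorem F11626 : act 1 n2663 = n2480 := d9_1 D2663 (iv D2480) (iv F10618)
theorem F11627 : act 5 n2663 = n2536 := d22_2 (iv F10621) D2663 (iv D2536)
theorem F11628 : act 6 n2663 = n2606 := d23_2 (iv F10622) D2663 F11402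
def n2664 : Q := act 8 n2416
theorem D2664 : act 8 n2416 = n2664 := rfl
theorem F11629 : act 0 n2664 = n2615 := d7_1 D2664 (iv D2615) (iv F10617)
theorem F11630 : act 1 n2664 = n2481 := d14_1 D2664 (iv D2481) (iv F10618)
theorem F11631 : act 2 n2664 = n2421 := d20_1 D2664 (iv D2421) (iv F10619)
theorem F11632 : act 4 n2664 = n2418 := d29_1 D2664 (iv D2418) (iv F10620)
theorem F11633 : act 5 n2664 = n2537 := d32_1 D2664 (iv D2537) (iv F10621)
theorem F11634 : act 6 n2664 = n2617 := d34_1 D2664 (iv D2617) (iv F10622)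
theorem F11635 : act 7 n2664 = n2446 := d35_1 D2664 (iv D2446) (iv D2196) (iv F9632) D2416
def n2665 : Q := act 4 n2417
theorem D2665 : act 4 n2417 = n2665 := rfl
theorem F11636 : act 0 n2665 = n2514 := d3_1 D2665 F11046 (iv F10623)
theorem F11637 : act 1 n2665 = n2482 := d10_1 D2665 (iv D2482) (iv F10624)
theorem F11638 : act 2 n2665 = n2665 := d16_1 D2665 (iv D2665) F10625
theorem F11639 : act 5 n2665 = n2498 := d26_2 (iv F10626) D2665 (iv D2498) F9925 (iv F9641)
theorem F11640 : act 6 n2665 = n2631 := d27_2 (iv F10627) D2665 (iv D2631)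
theorem F11641 : act 7 n2665 = n2665 := d28_2 F10628 D2665 (iv D2665)
def n2666 : Q := act 8 n2417
theorem D2666 : act 8 n2417 = n2666 := rfl
theorem F11642 : act 0 n2666 = n2518 := d7_1 D2666 (iv D2518) (iv F10623)
theorem F11643 : act 1 n2666 = n2483 := d14_1 D2666 (iv D2483) (iv F10624)
theorem F11644 : act 2 n2666 = n2666 := d20_1 D2666 (iv D2666) F10625
theorem F11645 : act 3 n2666 = n2418 := d25_1 D2666 (iv D2418) D2417
theorem F11646 : act 5 n2666 = n2419 := d32_1 D2666 (iv D2419) (iv F10626)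
theorem F11647 : act 6 n2666 = n2632 := d34_1 D2666 (iv D2632) (iv F10627)
def n2667 : Q := act 7 n2419
theorem D2667 : act 7 n2419 = n2667 := rfl
theorem F11648 : act 0 n2667 = n2519 := d6_1 D2667 (iv D2519) (iv F10635)
theorem F11649 : act 1 n2667 = n2486 := d13_1 D2667 (iv D2486) (iv F10636)
theorem F11650 : act 2 n2667 = n2667 := d19_1 D2667 (iv D2667) F10637
theorem F11651 : act 3 n2667 = n2453 := d24_1 D2667 (iv D2453) F9747 (iv F9649) (iv F10638)
theorem F11652 : act 4 n2667 = n2500 := d28_1 D2667 (iv D2500) (iv F10639)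
theorem F11653 : act 6 n2667 = n2667 := d33_1 D2667 (iv D2667) F10640
theorem F11654 : act 8 n2667 = n2667 := d35_2 D2419 D2667 (iv D2667) (iv D2419) F9643
def n2668 : Q := act 2 n2420
theorem D2668 : act 2 n2420 = n2668 := rfl
theorem F11655 : act 0 n2668 = n2633 := d1_1 D2668 F11482 (iv F10641)
theorem F11656 : act 1 n2668 = n2576 := d8_1 D2668 (iv D2576) F10279 (iv F9662) (iv F10642)
theorem F11657 : act 4 n2668 = n2668 := d16_2 F10643 D2668 (iv D2668)
theorem F11658 : act 5 n2668 = n2541 := d17_2 (iv F10644) D2668 (iv D2541)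
theorem F11659 : act 6 n2668 = n2578 := d18_2 (iv F10645) D2668 F11317
theorem F11660 : act 7 n2668 = n2668 := d19_2 F10646 D2668 (iv D2668)
def n2669 : Q := act 8 n2420
theorem D2669 : act 8 n2420 = n2669 := rfl
theorem F11661 : act 0 n2669 = n2636 := d7_1 D2669 (iv D2636) (iv F10641)
theorem F11662 : act 1 n2669 = n2422 := d14_1 D2669 (iv D2422) (iv F10642)
theorem F11663 : act 3 n2669 = n2421 := d25_1 D2669 (iv D2421) D2420
theorem F11664 : act 4 n2669 = n2669 := d29_1 D2669 (iv D2669) F10643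
theorem F11665 : act 5 n2669 = n2542 := d32_1 D2669 (iv D2542) (iv F10644)
theorem F11666 : act 6 n2669 = n2583 := d34_1 D2669 (iv D2583) (iv F10645)
def n2670 : Q := act 7 n2422
theorem D2670 : act 7 n2422 = n2670 := rfl
theorem F11667 : act 0 n2670 = n2670 := d6_1 D2670 (iv D2670) F10653
theorem F11668 : act 2 n2670 = n2581 := d19_1 D2670 (iv D2581) (iv F10654)
theorem F11669 : act 3 n2670 = n2465 := d24_1 D2670 (iv D2465) F9785 (iv F9672) (iv F10655)
theorem F11670 : act 4 n2670 = n2670 := d28_1 D2670 (iv D2670) F10656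
theorem F11671 : act 5 n2670 = n2546 := d31_1 D2670 (iv D2546) (iv F10657)
theorem F11672 : act 6 n2670 = n2584 := d33_1 D2670 (iv D2584) (iv F10658)
theorem F11673 : act 8 n2670 = n2670 := d35_2 D2422 D2670 (iv D2670) (iv D2422) F9666
def n2671 : Q := act 6 n2423
theorem D2671 : act 6 n2423 = n2671 := rfl
theorem F11674 : act 0 n2671 = n2488 := d5_1 D2671 (iv D2488) (iv F10659)
theorem F11675 : act 1 n2671 = n2429 := d12_1 D2671 (iv D2429) (iv F10660)
theorem F11676 : act 2 n2671 = n2671 := d18_1 D2671 (iv D2671) F10661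
theorem F11677 : act 3 n2671 = n2529 := d23_1 D2671 F11115 F10664
theorem F11678 : act 4 n2671 = n2424 := d27_1 D2671 (iv D2424) D2423
theorem F11679 : act 5 n2671 = n2622 := d30_1 D2671 F11446 (iv D2395) (iv F10158) (iv F10662)
theorem F11680 : act 8 n2671 = n2619 := d34_2 (iv F10663) D2671 F11437
def n2672 : Q := act 7 n2423
theorem D2672 : act 7 n2423 = n2672 := rfl
theorem F11681 : act 0 n2672 = n2489 := d6_1 D2672 (iv D2489) (iv F10659)
theorem F11682 : act 1 n2672 = n2430 := d13_1 D2672 (iv D2430) (iv F10660)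
theorem F11683 : act 2 n2672 = n2672 := d19_1 D2672 (iv D2672) F10661
theorem F11684 : act 4 n2672 = n2425 := d28_1 D2672 (iv D2425) D2423
theorem F11685 : act 5 n2672 = n2547 := d31_1 D2672 (iv D2547) (iv F10662)
def n2673 : Q := act 7 n2424
theorem D2673 : act 7 n2424 = n2673 := rfl
theorem F11686 : act 0 n2673 = n2490 := d6_1 D2673 (iv D2490) (iv F10665)
theorem F11687 : act 1 n2673 = n2431 := d13_1 D2673 (iv D2431) (iv F10666)
theorem F11688 : act 2 n2673 = n2673 := d19_1 D2673 (iv D2673) F10667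
theorem F11689 : act 5 n2673 = n2673 := d31_1 D2673 (iv D2673) F10669
theorem F11690 : act 6 n2673 = n2425 := d33_1 D2673 (iv D2425) D2424
def n2674 : Q := act 3 n2425
theorem D2674 : act 3 n2425 = n2674 := rfl
theorem F11691 : act 0 n2674 = n2484 := d2_1 D2674 F10929 (iv F10671)
theorem F11692 : act 1 n2674 = n2432 := d9_1 D2674 (iv D2432) (iv F10672)
theorem F11693 : act 5 n2674 = n2426 := d22_2 (iv F10674) D2674 (iv D2426)
theorem F11694 : act 7 n2674 = n2674 := d24_2 D2425 D2674 (iv D2674) (iv D2425) F9676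
def n2675 : Q := act 8 n2425
theorem D2675 : act 8 n2425 = n2675 := rfl
theorem F11695 : act 0 n2675 = n2491 := d7_1 D2675 (iv D2491) (iv F10671)
theorem F11696 : act 1 n2675 = n2433 := d14_1 D2675 (iv D2433) (iv F10672)
theorem F11697 : act 2 n2675 = n2675 := d20_1 D2675 (iv D2675) F10673
theorem F11698 : act 5 n2675 = n2427 := d32_1 D2675 (iv D2427) (iv F10674)
theorem F11699 : act 7 n2675 = n2574 := d35_1 D2675 (iv D2574) F10271 (iv F9677) D2425
def n2676 : Q := act 2 n2426
theorem D2676 : act 2 n2426 = n2676 := rfl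
theorem F11700 : act 0 n2676 = n2469 := d1_1 D2676 F10856 (iv F10675)
theorem F11701 : act 3 n2676 = n2676 := d15_2 D2426 D2676 (iv D2676) (iv D2426) F9680
theorem F11702 : act 4 n2676 = n2467 := d16_2 (iv F10677) D2676 F10845
theorem F11703 : act 6 n2676 = n2676 := d18_2 F10678 D2676 (iv D2676)
theorem F11704 : act 7 n2676 = n2676 := d19_2 F10679 D2676 (iv D2676)
def n2677 : Q := act 8 n2426
theorem D2677 : act 8 n2426 = n2677 := rfl
theorem F11705 : act 0 n2677 = n2485 := d7_1 D2677 (iv D2485) (iv F10675)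
theorem F11706 : act 1 n2677 = n2435 := d14_1 D2677 (iv D2435) (iv F10676)
theorem F11707 : act 3 n2677 = n2427 := d25_1 D2677 (iv D2427) D2426
theorem F11708 : act 4 n2677 = n2477 := d29_1 D2677 (iv D2477) (iv F10677)
theorem F11709 : act 6 n2677 = n2677 := d34_1 D2677 (iv D2677) F10678
def n2678 : Q := act 6 n2428
theorem D2678 : act 6 n2428 = n2678 := rfl
theorem F11710 : act 0 n2678 = n2441 := d5_1 D2678 (iv D2441) (iv F10686)
theorem F11711 : act 1 n2678 = n2529 := d12_1 D2678 F11115 (iv F10687)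
theorem F11712 : act 2 n2678 = n2678 := d18_1 D2678 (iv D2678) F10688
theorem F11713 : act 3 n2678 = n2429 := d23_1 D2678 (iv D2429) D2428
theorem F11714 : act 4 n2678 = n2678 := d27_1 D2678 (iv D2678) F10689
theorem F11715 : act 5 n2678 = n2619 := d30_1 D2678 F11437 (iv D2392) F10177 (iv F10690)
theorem F11716 : act 8 n2678 = n2622 := d34_2 (iv F10691) D2678 F11446
def n2679 : Q := act 7 n2428
theorem D2679 : act 7 n2428 = n2679 := rfl
theorem F11717 : act 0 n2679 = n2442 := d6_1 D2679 (iv D2442) (iv F10686)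
theorem F11718 : act 1 n2679 = n2612 := d13_1 D2679 F11412 (iv F10687)
theorem F11719 : act 2 n2679 = n2679 := d19_1 D2679 (iv D2679) F10688
theorem F11720 : act 4 n2679 = n2679 := d28_1 D2679 (iv D2679) F10689
theorem F11721 : act 5 n2679 = n2549 := d31_1 D2679 (iv D2549) (iv F10690)
def n2680 : Q := act 5 n2429
theorem D2680 : act 5 n2429 = n2680 := rfl
theorem F11722 : act 0 n2680 = n2443 := d4_1 D2680 (iv D2443) (iv F10692)
theorem F11723 : act 1 n2680 = n2622 := d11_1 D2680 (iv F11679) F11675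
theorem F11724 : act 2 n2680 = n2436 := d17_1 D2680 (iv D2436) (iv F10693)
theorem F11725 : act 3 n2680 = n2619 := d22_1 D2680 (iv F11715) F11713
theorem F11726 : act 4 n2680 = n2680 := d26_1 D2680 (iv D2680) F10694 F9690 (iv F10694)
theorem F11727 : act 6 n2680 = n2550 := d30_2 D2429 D2680 (iv D2550) (iv D2296) (iv F9685)
theorem F11728 : act 8 n2680 = n2529 := d32_2 (iv F10695) D2680 F11114
def n2681 : Q := act 7 n2429
theorem D2681 : act 7 n2429 = n2681 := rfl
theorem F11729 : act 0 n2681 = n2444 := d6_1 D2681 (iv D2444) (iv F10692)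
theorem F11730 : act 2 n2681 = n2437 := d19_1 D2681 (iv D2437) (iv F10693)
theorem F11731 : act 4 n2681 = n2431 := d28_1 D2681 (iv D2431) (iv F10694)
theorem F11732 : act 6 n2681 = n2430 := d33_1 D2681 (iv D2430) D2429
def n2682 : Q := act 3 n2430
theorem D2682 : act 3 n2430 = n2682 := rfl
theorem F11733 : act 0 n2682 = n2445 := d2_1 D2682 (iv D2445) (iv F10696)
theorem F11734 : act 5 n2682 = n2552 := d22_2 (iv F10699) D2682 (iv D2552)
def n2683 : Q := act 8 n2430
theorem D2683 : act 8 n2430 = n2683 := rfl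
theorem F11735 : act 0 n2683 = n2446 := d7_1 D2683 (iv D2446) (iv F10696)
theorem F11736 : act 2 n2683 = n2439 := d20_1 D2683 (iv D2439) (iv F10697)
theorem F11737 : act 4 n2683 = n2433 := d29_1 D2683 (iv D2433) (iv F10698)
theorem F11738 : act 5 n2683 = n2553 := d32_1 D2683 (iv D2553) (iv F10699)
theorem F11739 : act 7 n2683 = n2615 := d35_1 D2683 (iv D2615) F10404 (iv F9686) D2430
def n2684 : Q := act 8 n2431
theorem D2684 : act 8 n2431 = n2684 := rfl
theorem F11740 : act 0 n2684 = n2448 := d7_1 D2684 (iv D2448) (iv F10700)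
theorem F11741 : act 2 n2684 = n2440 := d20_1 D2684 (iv D2440) (iv F10701)
theorem F11742 : act 5 n2684 = n2684 := d32_1 D2684 (iv D2684) F10702
theorem F11743 : act 6 n2684 = n2433 := d34_1 D2684 (iv D2433) (iv F10703)
theorem F11744 : act 7 n2684 = n2616 := d35_1 D2684 (iv D2616) F10410 (iv F9691) D2431
def n2685 : Q := act 4 n2432
theorem D2685 : act 4 n2432 = n2685 := rfl
theorem F11745 : act 0 n2685 = n2449 := d3_1 D2685 (iv D2449) (iv F10704)
theorem F11746 : act 2 n2685 = n2455 := d16_1 D2685 (iv F11520) F11519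
theorem F11747 : act 6 n2685 = n2457 := d27_2 F11590 D2685 (iv F11588)
theorem F11748 : act 7 n2685 = n2685 := d28_2 F10706 D2685 (iv D2685)
def n2686 : Q := act 8 n2432
theorem D2686 : act 8 n2432 = n2686 := rfl
theorem F11749 : act 0 n2686 = n2450 := d7_1 D2686 (iv D2450) (iv F10704)
theorem F11750 : act 3 n2686 = n2433 := d25_1 D2686 (iv D2433) D2432
theorem F11751 : act 5 n2686 = n2435 := d32_1 D2686 (iv D2435) (iv F10705)
def n2687 : Q := act 5 n2434
theorem D2687 : act 5 n2434 = n2687 := rfl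
theorem F11752 : act 0 n2687 = n2451 := d4_1 D2687 (iv D2451) (iv F10711)
theorem F11753 : act 1 n2687 = n2475 := d11_1 D2687 F10890 (iv F10712)
theorem F11754 : act 3 n2687 = n2472 := d22_1 D2687 F10875 (iv F10713)
theorem F11755 : act 7 n2687 = n2687 := d31_2 F10715 D2687 (iv D2687)
theorem F11756 : act 6 n2624 = n2687 := d23_0 F11754 F10876 (iv F11450)
def n2688 : Q := act 8 n2434
theorem D2688 : act 8 n2434 = n2688 := rfl
theorem F11757 : act 0 n2688 = n2452 := d7_1 D2688 (iv D2452) (iv F10711)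
theorem F11758 : act 1 n2688 = n2477 := d14_1 D2688 (iv D2477) (iv F10712)
theorem F11759 : act 3 n2688 = n2473 := d25_1 D2688 (iv D2473) (iv F10713)
theorem F11760 : act 4 n2688 = n2435 := d29_1 D2688 (iv D2435) D2434
theorem F11761 : act 6 n2688 = n2688 := d34_1 D2688 (iv D2688) F10714
def n2689 : Q := act 7 n2435
theorem D2689 : act 7 n2435 = n2689 := rfl
theorem F11762 : act 0 n2689 = n2453 := d6_1 D2689 (iv D2453) (iv F10716)
theorem F11763 : act 3 n2689 = n2519 := d24_1 D2689 (iv D2519) F9995 (iv F9702) (iv F10717)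
theorem F11764 : act 6 n2689 = n2689 := d33_1 D2689 (iv D2689) F10718
theorem F11765 : act 8 n2689 = n2689 := d35_2 D2435 D2689 (iv D2689) (iv D2435) F9697
def n2690 : Q := act 7 n2436
theorem D2690 : act 7 n2436 = n2690 := rfl
theorem F11766 : act 0 n2690 = n2454 := d6_1 D2690 (iv D2454) (iv F10719)
theorem F11767 : act 1 n2690 = n2690 := d13_1 D2690 (iv D2690) F10720
theorem F11768 : act 4 n2690 = n2690 := d28_1 D2690 (iv D2690) F10722
theorem F11769 : act 5 n2690 = n2437 := d31_1 D2690 (iv D2437) D2436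
theorem F11770 : act 6 n2690 = n2557 := d33_1 D2690 (iv D2557) (iv F10723)
def n2691 : Q := act 8 n2437
theorem D2691 : act 8 n2437 = n2691 := rfl
theorem F11771 : act 0 n2691 = n2456 := d7_1 D2691 (iv D2456) (iv F10725)
theorem F11772 : act 1 n2691 = n2691 := d14_1 D2691 (iv D2691) F10726
theorem F11773 : act 4 n2691 = n2440 := d29_1 D2691 (iv D2440) (iv F10727)
theorem F11774 : act 6 n2691 = n2439 := d34_1 D2691 (iv D2439) (iv F10728)
theorem F11775 : act 7 n2691 = n2618 := d35_1 D2691 (iv D2618) F10421 (iv F9707) D2437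
def n2692 : Q := act 2 n2438
theorem D2692 : act 2 n2438 = n2692 := rfl
theorem F11776 : act 0 n2692 = n2457 := d1_1 D2692 (iv D2457) (iv F10729)
theorem F11777 : act 4 n2692 = n2447 := d16_2 F11543 D2692 (iv F11542)
theorem F11778 : act 5 n2692 = n2560 := d17_2 (iv F10731) D2692 (iv D2560)
theorem F11779 : act 6 n2692 = n2449 := d18_2 F11566 D2692 (iv F11564)
theorem F11780 : act 7 n2692 = n2692 := d19_2 F10732 D2692 (iv D2692)
theorem F11781 : act 1 n2512 = n2692 := d12_3 F11779 F10778 (iv F11039)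
def n2693 : Q := act 8 n2438
theorem D2693 : act 8 n2438 = n2693 := rfl
theorem F11782 : act 0 n2693 = n2458 := d7_1 D2693 (iv D2458) (iv F10729)
theorem F11783 : act 1 n2693 = n2693 := d14_1 D2693 (iv D2693) F10730
theorem F11784 : act 3 n2693 = n2439 := d25_1 D2693 (iv D2439) D2438
theorem F11785 : act 5 n2693 = n2561 := d32_1 D2693 (iv D2561) (iv F10731)
def n2694 : Q := act 7 n2441
theorem D2694 : act 7 n2441 = n2694 := rfl
theorem F11786 : act 1 n2694 = n2502 := d13_1 D2694 F11010 (iv F10743)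
theorem F11787 : act 2 n2694 = n2694 := d19_1 D2694 (iv D2694) F10744
theorem F11788 : act 4 n2694 = n2694 := d28_1 D2694 (iv D2694) F10746
theorem F11789 : act 5 n2694 = n2599 := d31_1 D2694 F11389 F10748
theorem F11790 : act 6 n2694 = n2442 := d33_1 D2694 (iv D2442) D2441
def n2695 : Q := act 3 n2442
theorem D2695 : act 3 n2442 = n2695 := rfl
theorem F11791 : act 1 n2695 = n2504 := d9_1 D2695 (iv D2504) (iv F10749)
theorem F11792 : act 5 n2695 = n2562 := d22_2 (iv F10752) D2695 (iv D2562)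
theorem F11793 : act 7 n2695 = n2445 := d24_2 D2442 D2695 (iv D2445) (iv D2196) D2194
def n2696 : Q := act 8 n2442
theorem D2696 : act 8 n2442 = n2696 := rfl
theorem F11794 : act 1 n2696 = n2505 := d14_1 D2696 (iv D2505) (iv F10749)
theorem F11795 : act 2 n2696 = n2696 := d20_1 D2696 (iv D2696) F10750
theorem F11796 : act 4 n2696 = n2696 := d29_1 D2696 (iv D2696) F10751
theorem F11797 : act 5 n2696 = n2563 := d32_1 D2696 (iv D2563) (iv F10752)
def n2697 : Q := act 7 n2443
theorem D2697 : act 7 n2443 = n2697 := rfl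
theorem F11798 : act 1 n2697 = n2506 := d13_1 D2697 (iv D2506) (iv F10753)
theorem F11799 : act 2 n2697 = n2454 := d19_1 D2697 (iv D2454) (iv F10754)
theorem F11800 : act 4 n2697 = n2697 := d28_1 D2697 (iv D2697) F10756
theorem F11801 : act 5 n2697 = n2444 := d31_1 D2697 (iv D2444) D2443
theorem F11802 : act 6 n2697 = n2564 := d33_1 D2697 (iv D2564) (iv F10757)
def n2698 : Q := act 3 n2444
theorem D2698 : act 3 n2444 = n2698 := rfl
theorem F11803 : act 1 n2698 = n2507 := d9_1 D2698 (iv D2507) (iv F10759)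
theorem F11804 : act 6 n2698 = n2445 := d23_2 (iv F10762) D2698 (iv D2445)
def n2699 : Q := act 8 n2444
theorem D2699 : act 8 n2444 = n2699 := rfl
theorem F11805 : act 1 n2699 = n2508 := d14_1 D2699 (iv D2508) (iv F10759)
theorem F11806 : act 2 n2699 = n2456 := d20_1 D2699 (iv D2456) (iv F10760)
theorem F11807 : act 4 n2699 = n2448 := d29_1 D2699 (iv D2448) (iv F10761)
theorem F11808 : act 6 n2699 = n2446 := d34_1 D2699 (iv D2446) (iv F10762)
theorem F11809 : act 7 n2699 = n2617 := d35_1 D2699 (iv D2617) F10415 (iv F9727) D2444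
def n2700 : Q := act 2 n2445
theorem D2700 : act 2 n2445 = n2700 := rfl
theorem F11810 : act 3 n2700 = n2457 := d15_2 D2445 D2700 (iv D2457) (iv D2204) (iv F9729)
theorem F11811 : act 5 n2700 = n2567 := d17_2 (iv F10764) D2700 (iv D2567)
def n2701 : Q := act 4 n2445
theorem D2701 : act 4 n2445 = n2701 := rfl
theorem F11812 : act 1 n2701 = n2510 := d10_1 D2701 (iv D2510) (iv F10763)
theorem F11813 : act 3 n2701 = n2449 := d21_1 D2701 (iv D2449) (iv D2198) (iv F9730) D2445
def n2702 : Q := act 8 n2445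
theorem D2702 : act 8 n2445 = n2702 := rfl
theorem F11814 : act 1 n2702 = n2511 := d14_1 D2702 (iv D2511) (iv F10763)
theorem F11815 : act 3 n2702 = n2446 := d25_1 D2702 (iv D2446) D2445
theorem F11816 : act 5 n2702 = n2569 := d32_1 D2702 (iv D2569) (iv F10764)
def n2703 : Q := act 8 n2447
theorem D2703 : act 8 n2447 = n2703 := rfl
theorem F11817 : act 1 n2703 = n2513 := d14_1 D2703 (iv D2513) (iv F10769)
theorem F11818 : act 3 n2703 = n2448 := d25_1 D2703 (iv D2448) D2447
theorem F11819 : act 5 n2703 = n2703 := d32_1 D2703 (iv D2703) F10770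
theorem F11820 : act 6 n2703 = n2450 := d34_1 D2703 (iv D2450) (iv F10771)
def n2704 : Q := act 5 n2449
theorem D2704 : act 5 n2449 = n2704 := rfl
theorem F11821 : act 1 n2704 = n2514 := d11_1 D2704 (iv D2514) (iv F10778)
theorem F11822 : act 4 n2704 = n2451 := d26_1 D2704 (iv D2451) (iv D2200) (iv F9737) D2449
theorem F11823 : act 7 n2704 = n2704 := d31_2 F10779 D2704 (iv D2704)
def n2705 : Q := act 8 n2449
theorem D2705 : act 8 n2449 = n2705 := rfl
theorem F11824 : act 1 n2705 = n2515 := d14_1 D2705 (iv D2515) (iv F10778)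
theorem F11825 : act 4 n2705 = n2450 := d29_1 D2705 (iv D2450) D2449
def n2706 : Q := act 7 n2450
theorem D2706 : act 7 n2450 = n2706 := rfl
theorem F11826 : act 1 n2706 = n2516 := d13_1 D2706 (iv D2516) (iv F10780)
theorem F11827 : act 5 n2706 = n2453 := d31_1 D2706 (iv D2453) (iv F10782)
theorem F11828 : act 8 n2706 = n2706 := d35_2 D2450 D2706 (iv D2706) (iv D2450) F9738
def n2707 : Q := act 6 n2451
theorem D2707 : act 6 n2451 = n2707 := rfl
theorem F11829 : act 0 n2707 = n2624 := d5_1 D2707 F11756 F11752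
theorem F11830 : act 1 n2707 = n2517 := d12_1 D2707 (iv D2517) (iv F10783)
theorem F11831 : act 3 n2707 = n2573 := d23_1 D2707 (iv D2573) (iv F10784)
theorem F11832 : act 5 n2707 = n2707 := d30_1 D2707 (iv D2707) (iv D2451) F9744 D2451
theorem F11833 : act 7 n2707 = n2707 := d33_2 F10785 D2707 (iv D2707)
def n2708 : Q := act 8 n2451
theorem D2708 : act 8 n2451 = n2708 := rfl
theorem F11834 : act 1 n2708 = n2518 := d14_1 D2708 (iv D2518) (iv F10783)
theorem F11835 : act 3 n2708 = n2574 := d25_1 D2708 (iv D2574) (iv F10784)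
theorem F11836 : act 5 n2708 = n2452 := d32_1 D2708 (iv D2452) D2451
def n2709 : Q := act 7 n2452
theorem D2709 : act 7 n2452 = n2709 := rfl
theorem F11837 : act 1 n2709 = n2519 := d13_1 D2709 (iv D2519) (iv F10786)
theorem F11838 : act 4 n2709 = n2453 := d28_1 D2709 (iv D2453) (iv F10788)
theorem F11839 : act 6 n2709 = n2709 := d33_1 D2709 (iv D2709) F10789
theorem F11840 : act 8 n2709 = n2709 := d35_2 D2452 D2709 (iv D2709) (iv D2452) F9745
def n2710 : Q := act 3 n2454
theorem D2710 : act 3 n2454 = n2710 := rfl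
theorem F11841 : act 1 n2710 = n2459 := d9_1 D2710 (iv D2459) (iv F10793)
theorem F11842 : act 5 n2710 = n2455 := d22_2 (iv F10795) D2710 (iv D2455)
theorem F11843 : act 6 n2710 = n2544 := d23_2 (iv F10796) D2710 F11182
theorem F11844 : act 7 n2710 = n2710 := d24_2 D2454 D2710 (iv D2710) (iv D2454) F9750
def n2711 : Q := act 8 n2454
theorem D2711 : act 8 n2454 = n2711 := rfl
theorem F11845 : act 1 n2711 = n2460 := d14_1 D2711 (iv D2460) (iv F10793)
theorem F11846 : act 4 n2711 = n2711 := d29_1 D2711 (iv D2711) F10794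
theorem F11847 : act 5 n2711 = n2456 := d32_1 D2711 (iv D2456) (iv F10795)
theorem F11848 : act 6 n2711 = n2575 := d34_1 D2711 (iv D2575) (iv F10796)
theorem F11849 : act 7 n2711 = n2527 := d35_1 D2711 (iv D2527) F10043 (iv F9753) D2454
def n2712 : Q := act 8 n2455
theorem D2712 : act 8 n2455 = n2712 := rfl
theorem F11850 : act 1 n2712 = n2462 := d14_1 D2712 (iv D2462) (iv F10797)
theorem F11851 : act 3 n2712 = n2456 := d25_1 D2712 (iv D2456) D2455
theorem F11852 : act 6 n2712 = n2458 := d34_1 D2712 (iv D2458) (iv F10798)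
def n2713 : Q := act 1 n2457
theorem D2713 : act 1 n2457 = n2713 := rfl
theorem F11853 : act 2 n2713 = n2463 := d8_2 D2457 D2713 (iv D2463) (iv D2210) (iv F9757)
theorem F11854 : act 5 n2713 = n2578 := d11_2 (iv F10804) D2713 (iv D2578)
theorem F11855 : act 7 n2713 = n2713 := d13_2 F10805 D2713 (iv D2713)
def n2714 : Q := act 8 n2457
theorem D2714 : act 8 n2457 = n2714 := rfl
theorem F11856 : act 2 n2714 = n2458 := d20_1 D2714 (iv D2458) D2457
theorem F11857 : act 5 n2714 = n2579 := d32_1 D2714 (iv D2579) (iv F10804)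
def n2715 : Q := act 7 n2458
theorem D2715 : act 7 n2458 = n2715 := rfl
theorem F11858 : act 1 n2715 = n2465 := d13_1 D2715 (iv D2465) (iv F10806)
theorem F11859 : act 5 n2715 = n2580 := d31_1 D2715 (iv D2580) (iv F10808)
theorem F11860 : act 8 n2715 = n2715 := d35_2 D2458 D2715 (iv D2715) (iv D2458) F9759
def n2716 : Q := act 4 n2459
theorem D2716 : act 4 n2459 = n2716 := rfl
theorem F11861 : act 0 n2716 = n2716 := d3_1 D2716 (iv D2716) F10809
theorem F11862 : act 2 n2716 = n2530 := d16_1 D2716 F11118 (iv F10810)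
theorem F11863 : act 3 n2716 = n2716 := d21_1 D2716 (iv D2716) (iv D2459) F9769 D2459
theorem F11864 : act 6 n2716 = n2532 := d27_2 (iv F10812) D2716 F11129
theorem F11865 : act 7 n2716 = n2716 := d28_2 F10813 D2716 (iv D2716)
def n2717 : Q := act 8 n2459
theorem D2717 : act 8 n2459 = n2717 := rfl
theorem F11866 : act 0 n2717 = n2717 := d7_1 D2717 (iv D2717) F10809
theorem F11867 : act 2 n2717 = n2543 := d20_1 D2717 (iv D2543) (iv F10810)
theorem F11868 : act 3 n2717 = n2460 := d25_1 D2717 (iv D2460) D2459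
theorem F11869 : act 5 n2717 = n2462 := d32_1 D2717 (iv D2462) (iv F10811)
theorem F11870 : act 6 n2717 = n2545 := d34_1 D2717 (iv D2545) (iv F10812)
def n2718 : Q := act 1 n2461
theorem D2718 : act 1 n2461 = n2718 := rfl
theorem F11871 : act 3 n2718 = n2524 := d9_2 (iv F10821) D2718 (iv D2524)
theorem F11872 : act 5 n2718 = n2539 := d11_2 (iv F10822) D2718 F11163
theorem F11873 : act 6 n2718 = n2463 := d12_2 (iv F10823) D2718 (iv D2463)
theorem F11874 : act 7 n2718 = n2718 := d13_2 F10824 D2718 (iv D2718)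
theorem F11875 : act 0 n2628 = n2718 := d4_3 F11872 F11162 D2628
def n2719 : Q := act 8 n2461
theorem D2719 : act 8 n2461 = n2719 := rfl
theorem F11876 : act 0 n2719 = n2719 := d7_1 D2719 (iv D2719) F10820
theorem F11877 : act 2 n2719 = n2462 := d20_1 D2719 (iv D2462) D2461
theorem F11878 : act 3 n2719 = n2525 := d25_1 D2719 (iv D2525) (iv F10821)
theorem F11879 : act 5 n2719 = n2543 := d32_1 D2719 (iv D2543) (iv F10822)
theorem F11880 : act 6 n2719 = n2464 := d34_1 D2719 (iv D2464) (iv F10823)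
def n2720 : Q := act 7 n2462
theorem D2720 : act 7 n2462 = n2720 := rfl
theorem F11881 : act 0 n2720 = n2720 := d6_1 D2720 (iv D2720) F10825
theorem F11882 : act 3 n2720 = n2584 := d24_1 D2720 (iv D2584) F10304 (iv F9779) (iv F10826)
theorem F11883 : act 6 n2720 = n2465 := d33_1 D2720 (iv D2465) (iv F10827)
theorem F11884 : act 8 n2720 = n2720 := d35_2 D2462 D2720 (iv D2720) (iv D2462) F9774
def n2721 : Q := act 0 n2463
theorem D2721 : act 0 n2463 = n2721 := rfl
theorem F11885 : act 1 n2721 = n2721 := d0_2 D2463 D2721 (iv D2721) (iv D2463) F9780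
theorem F11886 : act 3 n2721 = n2526 := d2_2 (iv F10828) D2721 (iv D2526)
theorem F11887 : act 5 n2721 = n2582 := d4_2 (iv F10829) D2721 (iv D2582)
theorem F11888 : act 6 n2721 = n2628 := d5_2 F11873 D2721 F11875
theorem F11889 : act 7 n2721 = n2721 := d6_2 F10830 D2721 (iv D2721)
def n2722 : Q := act 8 n2463
theorem D2722 : act 8 n2463 = n2722 := rfl
theorem F11890 : act 1 n2722 = n2464 := d14_1 D2722 (iv D2464) D2463
theorem F11891 : act 3 n2722 = n2527 := d25_1 D2722 (iv D2527) (iv F10828)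
theorem F11892 : act 5 n2722 = n2583 := d32_1 D2722 (iv D2583) (iv F10829)
def n2723 : Q := act 7 n2464
theorem D2723 : act 7 n2464 = n2723 := rfl
theorem F11893 : act 0 n2723 = n2723 := d6_1 D2723 (iv D2723) F10831
theorem F11894 : act 2 n2723 = n2465 := d19_1 D2723 (iv D2465) (iv F10832)
theorem F11895 : act 5 n2723 = n2584 := d31_1 D2723 (iv D2584) (iv F10834)
theorem F11896 : act 8 n2723 = n2723 := d35_2 D2464 D2723 (iv D2723) (iv D2464) F9783
def n2724 : Q := act 3 n2466
theorem D2724 : act 3 n2466 = n2724 := rfl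
theorem F11897 : act 0 n2724 = n2724 := d2_1 D2724 (iv D2724) F10838
theorem F11898 : act 1 n2724 = n2467 := d9_1 D2724 (iv D2467) (iv F10839)
theorem F11899 : act 5 n2724 = n2530 := d22_2 (iv F10842) D2724 (iv D2530)
theorem F11900 : act 6 n2724 = n2724 := d23_2 F10843 D2724 (iv D2724)
theorem F11901 : act 7 n2724 = n2724 := d24_2 D2466 D2724 (iv D2724) (iv D2466) F9789
def n2725 : Q := act 8 n2466
theorem D2725 : act 8 n2466 = n2725 := rfl
theorem F11902 : act 0 n2725 = n2725 := d7_1 D2725 (iv D2725) F10838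
theorem F11903 : act 1 n2725 = n2468 := d14_1 D2725 (iv D2468) (iv F10839)
theorem F11904 : act 2 n2725 = n2725 := d20_1 D2725 (iv D2725) F10840
theorem F11905 : act 4 n2725 = n2725 := d29_1 D2725 (iv D2725) F10841
theorem F11906 : act 5 n2725 = n2531 := d32_1 D2725 (iv D2531) (iv F10842)
theorem F11907 : act 6 n2725 = n2725 := d34_1 D2725 (iv D2725) F10843
theorem F11908 : act 7 n2725 = n2725 := d35_1 D2725 (iv D2725) (iv D2466) F9793 D2466
def n2726 : Q := act 8 n2467
theorem D2726 : act 8 n2467 = n2726 := rfl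
theorem F11909 : act 0 n2726 = n2470 := d7_1 D2726 (iv D2470) (iv F10844)
theorem F11910 : act 2 n2726 = n2477 := d20_1 D2726 (iv D2477) (iv F10845)
theorem F11911 : act 3 n2726 = n2468 := d25_1 D2726 (iv D2468) D2467
theorem F11912 : act 5 n2726 = n2623 := d32_1 D2726 (iv D2623) (iv F10846)
theorem F11913 : act 6 n2726 = n2726 := d34_1 D2726 (iv D2726) F10847
def n2727 : Q := act 5 n2469
theorem D2727 : act 5 n2469 = n2727 := rfl
theorem F11914 : act 1 n2727 = n2727 := d11_1 D2727 (iv D2727) F10855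
theorem F11915 : act 2 n2727 = n2484 := d17_1 D2727 (iv D2484) (iv F10856)
theorem F11916 : act 3 n2727 = n2727 := d22_1 D2727 (iv D2727) F10857
theorem F11917 : act 4 n2727 = n2628 := d26_1 D2727 (iv D2628) (iv D2377) (iv F9808) D2469
theorem F11918 : act 7 n2727 = n2727 := d31_2 F10859 D2727 (iv D2727)
def n2728 : Q := act 8 n2469
theorem D2728 : act 8 n2469 = n2728 := rfl
theorem F11919 : act 1 n2728 = n2728 := d14_1 D2728 (iv D2728) F10855
theorem F11920 : act 2 n2728 = n2485 := d20_1 D2728 (iv D2485) (iv F10856)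
theorem F11921 : act 3 n2728 = n2728 := d25_1 D2728 (iv D2728) F10857
theorem F11922 : act 4 n2728 = n2470 := d29_1 D2728 (iv D2470) D2469
theorem F11923 : act 6 n2728 = n2728 := d34_1 D2728 (iv D2728) F10858
def n2729 : Q := act 7 n2470
theorem D2729 : act 7 n2470 = n2729 := rfl
theorem F11924 : act 1 n2729 = n2729 := d13_1 D2729 (iv D2729) F10860
theorem F11925 : act 2 n2729 = n2486 := d19_1 D2729 (iv D2486) (iv F10861)
theorem F11926 : act 3 n2729 = n2729 := d24_1 D2729 (iv D2729) F10862 F9816 (iv F10862)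
theorem F11927 : act 5 n2729 = n2630 := d31_1 D2729 (iv D2630) (iv F10863)
theorem F11928 : act 6 n2729 = n2729 := d33_1 D2729 (iv D2729) F10864
theorem F11929 : act 8 n2729 = n2729 := d35_2 D2470 D2729 (iv D2729) (iv D2470) F9810
def n2730 : Q := act 7 n2471
theorem D2730 : act 7 n2471 = n2730 := rfl
theorem F11930 : act 0 n2730 = n2571 := d6_1 D2730 F11295 (iv F10865)
theorem F11931 : act 1 n2730 = n2474 := d13_1 D2730 (iv D2474) (iv F10866)
theorem F11932 : act 2 n2730 = n2730 := d19_1 D2730 (iv D2730) F10867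
theorem F11933 : act 4 n2730 = n2472 := d28_1 D2730 (iv D2472) D2471
theorem F11934 : act 5 n2730 = n2555 := d31_1 D2730 F11236 (iv F10868)
theorem F11935 : act 6 n2730 = n2599 := d33_1 D2730 F11389 (iv F10869)
def n2731 : Q := act 8 n2472
theorem D2731 : act 8 n2472 = n2731 := rfl
theorem F11936 : act 0 n2731 = n2574 := d7_1 D2731 (iv D2574) (iv F10872)
theorem F11937 : act 1 n2731 = n2476 := d14_1 D2731 (iv D2476) (iv F10873)
theorem F11938 : act 2 n2731 = n2731 := d20_1 D2731 (iv D2731) F10874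
theorem F11939 : act 5 n2731 = n2473 := d32_1 D2731 (iv D2473) (iv F10875)
theorem F11940 : act 6 n2731 = n2627 := d34_1 D2731 (iv D2627) (iv F10876)
theorem F11941 : act 7 n2731 = n2491 := d35_1 D2731 (iv D2491) (iv D2234) (iv F9821) D2472
def n2732 : Q := act 3 n2474
theorem D2732 : act 3 n2474 = n2732 := rfl
theorem F11942 : act 0 n2732 = n2480 := d2_1 D2732 (iv D2480) (iv F10883)
theorem F11943 : act 2 n2732 = n2587 := d15_1 D2732 (iv D2587) F10324 (iv F9848) (iv F10884)
theorem F11944 : act 5 n2732 = n2585 := d22_2 (iv F10886) D2732 (iv D2585)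
theorem F11945 : act 6 n2732 = n2597 := d23_2 (iv F10887) D2732 F11384
theorem F11946 : act 7 n2732 = n2591 := d24_2 D2474 D2732 F11365 F10359 (iv F9833)
def n2733 : Q := act 8 n2474
theorem D2733 : act 8 n2474 = n2733 := rfl
theorem F11947 : act 0 n2733 = n2481 := d7_1 D2733 (iv D2481) (iv F10883)
theorem F11948 : act 2 n2733 = n2478 := d20_1 D2733 (iv D2478) (iv F10884)
theorem F11949 : act 4 n2733 = n2476 := d29_1 D2733 (iv D2476) (iv F10885)
theorem F11950 : act 5 n2733 = n2586 := d32_1 D2733 (iv D2586) (iv F10886)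
theorem F11951 : act 6 n2733 = n2600 := d34_1 D2733 (iv D2600) (iv F10887)
theorem F11952 : act 7 n2733 = n2495 := d35_1 D2733 (iv D2495) (iv D2238) (iv F9832) D2474
def n2734 : Q := act 4 n2475
theorem D2734 : act 4 n2475 = n2734 := rfl
theorem F11953 : act 0 n2734 = n2482 := d3_1 D2734 (iv D2482) (iv F10888)
theorem F11954 : act 2 n2734 = n2539 := d16_1 D2734 F11164 (iv F10889)
theorem F11955 : act 6 n2734 = n2541 := d27_2 (iv F10891) D2734 F11173
theorem F11956 : act 7 n2734 = n2734 := d28_2 F10892 D2734 (iv D2734)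
def n2735 : Q := act 8 n2475
theorem D2735 : act 8 n2475 = n2735 := rfl
theorem F11957 : act 0 n2735 = n2483 := d7_1 D2735 (iv D2483) (iv F10888)
theorem F11958 : act 2 n2735 = n2623 := d20_1 D2735 (iv D2623) (iv F10889)
theorem F11959 : act 3 n2735 = n2476 := d25_1 D2735 (iv D2476) D2475
theorem F11960 : act 5 n2735 = n2477 := d32_1 D2735 (iv D2477) (iv F10890)
theorem F11961 : act 6 n2735 = n2625 := d34_1 D2735 (iv D2625) (iv F10891)
def n2736 : Q := act 7 n2477
theorem D2736 : act 7 n2477 = n2736 := rfl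
theorem F11962 : act 0 n2736 = n2486 := d6_1 D2736 (iv D2486) (iv F10898)
theorem F11963 : act 3 n2736 = n2500 := d24_1 D2736 (iv D2500) F9932 (iv F9845) (iv F10899)
theorem F11964 : act 6 n2736 = n2736 := d33_1 D2736 (iv D2736) F10900
theorem F11965 : act 8 n2736 = n2736 := d35_2 D2477 D2736 (iv D2736) (iv D2477) F9840
def n2737 : Q := act 3 n2479
theorem D2737 : act 3 n2479 = n2737 := rfl
theorem F11966 : act 0 n2737 = n2591 := d2_1 D2737 F11365 (iv F10908)
theorem F11967 : act 2 n2737 = n2585 := d15_1 D2737 (iv D2585) F10310 (iv F10050) (iv F10909)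
theorem F11968 : act 5 n2737 = n2587 := d22_2 (iv F10911) D2737 (iv D2587)
theorem F11969 : act 6 n2737 = n2601 := d23_2 (iv F10912) D2737 F11393
theorem F11970 : act 7 n2737 = n2480 := d24_2 D2479 D2737 (iv D2480) (iv D2226) D2225
def n2738 : Q := act 8 n2479
theorem D2738 : act 8 n2479 = n2738 := rfl
theorem F11971 : act 0 n2738 = n2596 := d7_1 D2738 (iv D2596) (iv F10908)
theorem F11972 : act 2 n2738 = n2528 := d20_1 D2738 (iv D2528) (iv F10909)
theorem F11973 : act 4 n2738 = n2738 := d29_1 D2738 (iv D2738) F10910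
theorem F11974 : act 5 n2738 = n2588 := d32_1 D2738 (iv D2588) (iv F10911)
theorem F11975 : act 6 n2738 = n2621 := d34_1 D2738 (iv D2621) (iv F10912)
theorem F11976 : act 7 n2738 = n2505 := d35_1 D2738 (iv D2505) (iv D2248) (iv F9863) D2479
def n2739 : Q := act 4 n2480
theorem D2739 : act 4 n2480 = n2739 := rfl
theorem F11977 : act 2 n2739 = n2604 := d16_1 D2739 (iv D2604) (iv F10913)
theorem F11978 : act 3 n2739 = n2482 := d21_1 D2739 (iv D2482) (iv D2227) (iv F9865) D2480
theorem F11979 : act 6 n2739 = n2607 := d27_2 (iv F10915) D2739 (iv D2607)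
def n2740 : Q := act 8 n2480
theorem D2740 : act 8 n2480 = n2740 := rfl
theorem F11980 : act 2 n2740 = n2605 := d20_1 D2740 (iv D2605) (iv F10913)
theorem F11981 : act 3 n2740 = n2481 := d25_1 D2740 (iv D2481) D2480
theorem F11982 : act 5 n2740 = n2593 := d32_1 D2740 (iv D2593) (iv F10914)
theorem F11983 : act 6 n2740 = n2608 := d34_1 D2740 (iv D2608) (iv F10915)
def n2741 : Q := act 5 n2482
theorem D2741 : act 5 n2482 = n2741 := rfl
theorem F11984 : act 1 n2741 = n2498 := d11_1 D2741 (iv F11639) F11637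
theorem F11985 : act 2 n2741 = n2628 := d17_1 D2741 (iv D2628) (iv F10921)
theorem F11986 : act 4 n2741 = n2484 := d26_1 D2741 (iv D2484) (iv D2229) (iv F9869) D2482
theorem F11987 : act 7 n2741 = n2741 := d31_2 F10923 D2741 (iv D2741)
def n2742 : Q := act 8 n2482
theorem D2742 : act 8 n2482 = n2742 := rfl
theorem F11988 : act 2 n2742 = n2629 := d20_1 D2742 (iv D2629) (iv F10921)
theorem F11989 : act 4 n2742 = n2483 := d29_1 D2742 (iv D2483) D2482
theorem F11990 : act 6 n2742 = n2634 := d34_1 D2742 (iv D2634) (iv F10922)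
def n2743 : Q := act 7 n2483
theorem D2743 : act 7 n2483 = n2743 := rfl
theorem F11991 : act 2 n2743 = n2630 := d19_1 D2743 (iv D2630) (iv F10924)
theorem F11992 : act 3 n2743 = n2516 := d24_1 D2743 (iv D2516) F9989 (iv F9875) (iv F10925)
theorem F11993 : act 5 n2743 = n2486 := d31_1 D2743 (iv D2486) (iv F10926)
theorem F11994 : act 6 n2743 = n2635 := d33_1 D2743 (iv D2635) (iv F10927)
theorem F11995 : act 8 n2743 = n2743 := d35_2 D2483 D2743 (iv D2743) (iv D2483) F9871
def n2744 : Q := act 6 n2484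
theorem D2744 : act 6 n2484 = n2744 := rfl
theorem F11996 : act 1 n2744 = n2496 := d12_1 D2744 F10981 (iv F10928)
theorem F11997 : act 3 n2744 = n2490 := d23_1 D2744 F10958 (iv F10929)
theorem F11998 : act 5 n2744 = n2744 := d30_1 D2744 (iv D2744) (iv D2484) F9878 D2484
theorem F11999 : act 7 n2744 = n2744 := d33_2 F10930 D2744 (iv D2744)
def n2745 : Q := act 8 n2484
theorem D2745 : act 8 n2484 = n2745 := rfl
theorem F12000 : act 1 n2745 = n2499 := d14_1 D2745 (iv D2499) (iv F10928)
theorem F12001 : act 3 n2745 = n2491 := d25_1 D2745 (iv D2491) (iv F10929)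
theorem F12002 : act 5 n2745 = n2485 := d32_1 D2745 (iv D2485) D2484
def n2746 : Q := act 7 n2485
theorem D2746 : act 7 n2485 = n2746 := rfl
theorem F12003 : act 1 n2746 = n2500 := d13_1 D2746 (iv D2500) (iv F10931)
theorem F12004 : act 4 n2746 = n2486 := d28_1 D2746 (iv D2486) (iv F10933)
theorem F12005 : act 6 n2746 = n2746 := d33_1 D2746 (iv D2746) F10934
theorem F12006 : act 8 n2746 = n2746 := d35_2 D2485 D2746 (iv D2746) (iv D2485) F9879
def n2747 : Q := act 7 n2487
theorem D2747 : act 7 n2487 = n2747 := rfl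
theorem F12007 : act 0 n2747 = n2612 := d6_1 D2747 F11412 (iv F10938)
theorem F12008 : act 1 n2747 = n2492 := d13_1 D2747 (iv D2492) (iv F10939)
theorem F12009 : act 2 n2747 = n2524 := d19_1 D2747 F11089 (iv F10943)
theorem F12010 : act 4 n2747 = n2747 := d28_1 D2747 (iv D2747) F10940
theorem F12011 : act 5 n2747 = n2535 := d31_1 D2747 (iv D2535) (iv F10941)
theorem F12012 : act 6 n2747 = n2522 := d33_1 D2747 F11082 F10944
def n2748 : Q := act 7 n2488
theorem D2748 : act 7 n2488 = n2748 := rfl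
theorem F12013 : act 1 n2748 = n2493 := d13_1 D2748 (iv D2493) (iv F10945)
theorem F12014 : act 2 n2748 = n2748 := d19_1 D2748 (iv D2748) F10946
theorem F12015 : act 4 n2748 = n2490 := d28_1 D2748 (iv D2490) (iv F10948)
theorem F12016 : act 5 n2748 = n2620 := d31_1 D2748 F11440 (iv F10949)
theorem F12017 : act 6 n2748 = n2489 := d33_1 D2748 (iv D2489) D2488
def n2749 : Q := act 3 n2489
theorem D2749 : act 3 n2489 = n2749 := rfl
theorem F12018 : act 1 n2749 = n2494 := d9_1 D2749 (iv D2494) (iv F10951)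
theorem F12019 : act 5 n2749 = n2592 := d22_2 (iv F10954) D2749 F11368
def n2750 : Q := act 8 n2489
theorem D2750 : act 8 n2489 = n2750 := rfl
theorem F12020 : act 1 n2750 = n2495 := d14_1 D2750 (iv D2495) (iv F10951)
theorem F12021 : act 2 n2750 = n2750 := d20_1 D2750 (iv D2750) F10952
theorem F12022 : act 4 n2750 = n2491 := d29_1 D2750 (iv D2491) (iv F10953)
theorem F12023 : act 5 n2750 = n2595 := d32_1 D2750 (iv D2595) (iv F10954)
def n2751 : Q := act 8 n2490
theorem D2751 : act 8 n2490 = n2751 := rfl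
theorem F12024 : act 1 n2751 = n2497 := d14_1 D2751 (iv D2497) (iv F10955)
theorem F12025 : act 2 n2751 = n2751 := d20_1 D2751 (iv D2751) F10956
theorem F12026 : act 5 n2751 = n2751 := d32_1 D2751 (iv D2751) F10957
theorem F12027 : act 6 n2751 = n2491 := d34_1 D2751 (iv D2491) (iv F10958)
theorem F12028 : act 7 n2751 = n2627 := d35_1 D2751 (iv D2627) F10454 (iv F9895) D2490
def n2752 : Q := act 3 n2492
theorem D2752 : act 3 n2492 = n2752 := rfl
theorem F12029 : act 0 n2752 = n2504 := d2_1 D2752 (iv D2504) (iv F10962)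
theorem F12030 : act 2 n2752 = n2507 := d15_1 D2752 (iv D2507) F9971 D2261 (iv F10963)
theorem F12031 : act 5 n2752 = n2589 := d22_2 (iv F10965) D2752 (iv D2589)
theorem F12032 : act 6 n2752 = n2509 := d23_2 (iv F10966) D2752 F11033
theorem F12033 : act 7 n2752 = n2494 := d24_2 D2492 D2752 (iv D2494) (iv D2238) D2236
def n2753 : Q := act 8 n2492
theorem D2753 : act 8 n2492 = n2753 := rfl
theorem F12034 : act 0 n2753 = n2505 := d7_1 D2753 (iv D2505) (iv F10962)
theorem F12035 : act 2 n2753 = n2521 := d20_1 D2753 (iv D2521) (iv F10963)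
theorem F12036 : act 4 n2753 = n2753 := d29_1 D2753 (iv D2753) F10964
theorem F12037 : act 5 n2753 = n2590 := d32_1 D2753 (iv D2590) (iv F10965)
theorem F12038 : act 6 n2753 = n2523 := d34_1 D2753 (iv D2523) (iv F10966)
theorem F12039 : act 7 n2753 = n2596 := d35_1 D2753 (iv D2596) F10359 (iv F9907) D2492
def n2754 : Q := act 3 n2493
theorem D2754 : act 3 n2493 = n2754 := rfl
theorem F12040 : act 0 n2754 = n2507 := d2_1 D2754 (iv D2507) (iv F10967)
theorem F12041 : act 2 n2754 = n2504 := d15_1 D2754 (iv D2504) F9962 (iv F9936) (iv F10968)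
theorem F12042 : act 5 n2754 = n2601 := d22_2 (iv F10970) D2754 F11393
theorem F12043 : act 6 n2754 = n2494 := d23_2 (iv F10971) D2754 (iv D2494)
theorem F12044 : act 7 n2754 = n2509 := d24_2 D2493 D2754 F11033 F10019 (iv F9911)
def n2755 : Q := act 8 n2493
theorem D2755 : act 8 n2493 = n2755 := rfl
theorem F12045 : act 0 n2755 = n2508 := d7_1 D2755 (iv D2508) (iv F10967)
theorem F12046 : act 2 n2755 = n2501 := d20_1 D2755 (iv D2501) (iv F10968)
theorem F12047 : act 4 n2755 = n2497 := d29_1 D2755 (iv D2497) (iv F10969)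
theorem F12048 : act 5 n2755 = n2621 := d32_1 D2755 (iv D2621) (iv F10970)
theorem F12049 : act 6 n2755 = n2495 := d34_1 D2755 (iv D2495) (iv F10971)
theorem F12050 : act 7 n2755 = n2600 := d35_1 D2755 (iv D2600) F10380 (iv F9914) D2493
def n2756 : Q := act 2 n2494
theorem D2756 : act 2 n2494 = n2756 := rfl
theorem F12051 : act 0 n2756 = n2509 := d1_1 D2756 (iv D2509) (iv F10972)
theorem F12052 : act 3 n2756 = n2502 := d15_2 D2494 D2756 (iv D2502) (iv D2244) (iv F9916)
theorem F12053 : act 5 n2756 = n2597 := d17_2 (iv F10973) D2756 (iv D2597)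
theorem F12054 : act 6 n2756 = n2504 := d18_2 F12043 D2756 (iv F12041)
theorem F12055 : act 7 n2756 = n2507 := d19_2 F12033 D2756 (iv F12030)
def n2757 : Q := act 4 n2494
theorem D2757 : act 4 n2494 = n2757 := rfl
theorem F12056 : act 0 n2757 = n2510 := d3_1 D2757 (iv D2510) (iv F10972)
theorem F12057 : act 3 n2757 = n2498 := d21_1 D2757 (iv D2498) (iv D2240) (iv F9917) D2494
def n2758 : Q := act 8 n2494
theorem D2758 : act 8 n2494 = n2758 := rfl
theorem F12058 : act 0 n2758 = n2511 := d7_1 D2758 (iv D2511) (iv F10972)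
theorem F12059 : act 3 n2758 = n2495 := d25_1 D2758 (iv D2495) D2494
theorem F12060 : act 5 n2758 = n2598 := d32_1 D2758 (iv D2598) (iv F10973)
def n2759 : Q := act 4 n2496
theorem D2759 : act 4 n2496 = n2759 := rfl
theorem F12061 : act 0 n2759 = n2512 := d3_1 D2759 (iv D2512) (iv F10978)
theorem F12062 : act 2 n2759 = n2759 := d16_1 D2759 (iv D2759) F10979
theorem F12063 : act 6 n2759 = n2498 := d27_2 (iv F10981) D2759 (iv D2498)
theorem F12064 : act 7 n2759 = n2759 := d28_2 F10982 D2759 (iv D2759)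
def n2760 : Q := act 8 n2496
theorem D2760 : act 8 n2496 = n2760 := rfl
theorem F12065 : act 0 n2760 = n2513 := d7_1 D2760 (iv D2513) (iv F10978)
theorem F12066 : act 2 n2760 = n2760 := d20_1 D2760 (iv D2760) F10979
theorem F12067 : act 3 n2760 = n2497 := d25_1 D2760 (iv D2497) D2496
theorem F12068 : act 5 n2760 = n2760 := d32_1 D2760 (iv D2760) F10980
theorem F12069 : act 6 n2760 = n2499 := d34_1 D2760 (iv D2499) (iv F10981)
def n2761 : Q := act 8 n2498
theorem D2761 : act 8 n2498 = n2761 := rfl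
theorem F12070 : act 0 n2761 = n2515 := d7_1 D2761 (iv D2515) (iv F10988)
theorem F12071 : act 2 n2761 = n2761 := d20_1 D2761 (iv D2761) F10989
theorem F12072 : act 4 n2761 = n2499 := d29_1 D2761 (iv D2499) D2498
def n2762 : Q := act 7 n2499
theorem D2762 : act 7 n2499 = n2762 := rfl
theorem F12073 : act 0 n2762 = n2516 := d6_1 D2762 (iv D2516) (iv F10991)
theorem F12074 : act 2 n2762 = n2762 := d19_1 D2762 (iv D2762) F10992
theorem F12075 : act 5 n2762 = n2500 := d31_1 D2762 (iv D2500) (iv F10994)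
theorem F12076 : act 8 n2762 = n2762 := d35_2 D2499 D2762 (iv D2762) (iv D2499) F9926
def n2763 : Q := act 8 n2502
theorem D2763 : act 8 n2502 = n2763 := rfl
theorem F12077 : act 0 n2763 = n2523 := d7_1 D2763 (iv D2523) (iv F11006)
theorem F12078 : act 2 n2763 = n2503 := d20_1 D2763 (iv D2503) D2502
theorem F12079 : act 4 n2763 = n2763 := d29_1 D2763 (iv D2763) F11007
theorem F12080 : act 5 n2763 = n2600 := d32_1 D2763 (iv D2600) (iv F11008)
theorem F12081 : act 6 n2763 = n2505 := d34_1 D2763 (iv D2505) (iv F11009)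
theorem F12082 : act 7 n2763 = n2621 := d35_1 D2763 (iv D2621) F10427 (iv F9961) (iv F11010)
def n2764 : Q := act 4 n2504
theorem D2764 : act 4 n2504 = n2764 := rfl
theorem F12083 : act 3 n2764 = n2764 := d21_1 D2764 (iv D2764) (iv D2504) F9963 D2504
theorem F12084 : act 7 n2764 = n2510 := d28_2 (iv F11019) D2764 (iv D2510)
def n2765 : Q := act 8 n2504
theorem D2765 : act 8 n2504 = n2765 := rfl
theorem F12085 : act 3 n2765 = n2505 := d25_1 D2765 (iv D2505) D2504
theorem F12086 : act 5 n2765 = n2603 := d32_1 D2765 (iv D2603) (iv F11018)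
def n2766 : Q := act 3 n2506
theorem D2766 : act 3 n2506 = n2766 := rfl
theorem F12087 : act 0 n2766 = n2601 := d2_1 D2766 F11393 (iv F11023)
theorem F12088 : act 2 n2766 = n2589 := d15_1 D2766 (iv D2589) F10328 (iv F10003) (iv F11024)
theorem F12089 : act 5 n2766 = n2507 := d22_2 (iv F11026) D2766 (iv D2507)
theorem F12090 : act 6 n2766 = n2591 := d23_2 (iv F11027) D2766 F11365
theorem F12091 : act 7 n2766 = n2597 := d24_2 D2506 D2766 F11384 F10380 (iv F9967)
def n2767 : Q := act 8 n2506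
theorem D2767 : act 8 n2506 = n2767 := rfl
theorem F12092 : act 0 n2767 = n2621 := d7_1 D2767 (iv D2621) (iv F11023)
theorem F12093 : act 2 n2767 = n2520 := d20_1 D2767 (iv D2520) (iv F11024)
theorem F12094 : act 4 n2767 = n2767 := d29_1 D2767 (iv D2767) F11025
theorem F12095 : act 5 n2767 = n2508 := d32_1 D2767 (iv D2508) (iv F11026)
theorem F12096 : act 6 n2767 = n2596 := d34_1 D2767 (iv D2596) (iv F11027)
theorem F12097 : act 7 n2767 = n2523 := d35_1 D2767 (iv D2523) F10019 (iv F9970) D2506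
def n2768 : Q := act 4 n2507
theorem D2768 : act 4 n2507 = n2768 := rfl
theorem F12098 : act 3 n2768 = n2512 := d21_1 D2768 (iv D2512) (iv D2253) (iv F9972) D2507
theorem F12099 : act 6 n2768 = n2510 := d27_2 (iv F11028) D2768 (iv D2510)
def n2769 : Q := act 8 n2507
theorem D2769 : act 8 n2507 = n2769 := rfl
theorem F12100 : act 3 n2769 = n2508 := d25_1 D2769 (iv D2508) D2507
theorem F12101 : act 6 n2769 = n2511 := d34_1 D2769 (iv D2511) (iv F11028)
def n2770 : Q := act 1 n2509
theorem D2770 : act 1 n2509 = n2770 := rfl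
theorem F12102 : act 3 n2770 = n2522 := d9_2 (iv F11033) D2770 (iv D2522)
theorem F12103 : act 5 n2770 = n2606 := d11_2 (iv F11034) D2770 (iv D2606)
def n2771 : Q := act 4 n2509
theorem D2771 : act 4 n2509 = n2771 := rfl
theorem F12104 : act 2 n2771 = n2510 := d16_1 D2771 (iv D2510) D2509
theorem F12105 : act 3 n2771 = n2771 := d21_1 D2771 (iv D2771) F11033 F10017 (iv F11033)
def n2772 : Q := act 8 n2509
theorem D2772 : act 8 n2509 = n2772 := rfl
theorem F12106 : act 2 n2772 = n2511 := d20_1 D2772 (iv D2511) D2509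
theorem F12107 : act 3 n2772 = n2523 := d25_1 D2772 (iv D2523) (iv F11033)
theorem F12108 : act 5 n2772 = n2608 := d32_1 D2772 (iv D2608) (iv F11034)
def n2773 : Q := act 5 n2510
theorem D2773 : act 5 n2510 = n2773 := rfl
theorem F12109 : act 3 n2773 = n2514 := d22_1 D2773 (iv D2514) (iv F11035)
theorem F12110 : act 4 n2773 = n2609 := d26_1 D2773 (iv D2609) (iv D2354) (iv F9974) D2510
def n2774 : Q := act 8 n2510
theorem D2774 : act 8 n2510 = n2774 := rfl
theorem F12111 : act 3 n2774 = n2515 := d25_1 D2774 (iv D2515) (iv F11035)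
theorem F12112 : act 4 n2774 = n2511 := d29_1 D2774 (iv D2511) D2510
def n2775 : Q := act 7 n2511
theorem D2775 : act 7 n2511 = n2775 := rfl
theorem F12113 : act 5 n2775 = n2611 := d31_1 D2775 (iv D2611) (iv F11037)
def n2776 : Q := act 5 n2512
theorem D2776 : act 5 n2512 = n2776 := rfl
theorem F12114 : act 1 n2776 = n2560 := d11_1 D2776 (iv F11778) (iv F11781)
theorem F12115 : act 2 n2776 = n2776 := d17_1 D2776 (iv D2776) F11038
theorem F12116 : act 4 n2776 = n2776 := d26_1 D2776 (iv D2776) (iv D2512) F9979 D2512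
theorem F12117 : act 7 n2776 = n2776 := d31_2 F11040 D2776 (iv D2776)
def n2777 : Q := act 8 n2512
theorem D2777 : act 8 n2512 = n2777 := rfl
theorem F12118 : act 2 n2777 = n2777 := d20_1 D2777 (iv D2777) F11038
theorem F12119 : act 4 n2777 = n2513 := d29_1 D2777 (iv D2513) D2512
theorem F12120 : act 6 n2777 = n2515 := d34_1 D2777 (iv D2515) (iv F11039)
def n2778 : Q := act 7 n2513
theorem D2778 : act 7 n2513 = n2778 := rfl
theorem F12121 : act 2 n2778 = n2778 := d19_1 D2778 (iv D2778) F11041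
theorem F12122 : act 3 n2778 = n2635 := d24_1 D2778 (iv D2635) F10472 (iv F9985) (iv F11042)
theorem F12123 : act 5 n2778 = n2778 := d31_1 D2778 (iv D2778) F11043
theorem F12124 : act 6 n2778 = n2516 := d33_1 D2778 (iv D2516) (iv F11044)
theorem F12125 : act 8 n2778 = n2778 := d35_2 D2513 D2778 (iv D2778) (iv D2513) F9981
def n2779 : Q := act 6 n2514
theorem D2779 : act 6 n2514 = n2779 := rfl
theorem F12126 : act 0 n2779 = n2631 := d5_1 D2779 (iv F11640) F11636
theorem F12127 : act 2 n2779 = n2779 := d18_1 D2779 (iv D2779) F11045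
theorem F12128 : act 4 n2779 = n2517 := d27_1 D2779 (iv D2517) (iv F11046)
theorem F12129 : act 7 n2779 = n2779 := d33_2 F11047 D2779 (iv D2779)
def n2780 : Q := act 8 n2514
theorem D2780 : act 8 n2514 = n2780 := rfl
theorem F12130 : act 2 n2780 = n2780 := d20_1 D2780 (iv D2780) F11045
theorem F12131 : act 4 n2780 = n2518 := d29_1 D2780 (iv D2518) (iv F11046)
theorem F12132 : act 5 n2780 = n2515 := d32_1 D2780 (iv D2515) D2514
def n2781 : Q := act 7 n2515
theorem D2781 : act 7 n2515 = n2781 := rfl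
theorem F12133 : act 2 n2781 = n2781 := d19_1 D2781 (iv D2781) F11048
theorem F12134 : act 4 n2781 = n2516 := d28_1 D2781 (iv D2516) (iv F11049)
theorem F12135 : act 8 n2781 = n2781 := d35_2 D2515 D2781 (iv D2781) (iv D2515) F9987
def n2782 : Q := act 8 n2517
theorem D2782 : act 8 n2517 = n2782 := rfl
theorem F12136 : act 0 n2782 = n2632 := d7_1 D2782 (iv D2632) (iv F11053)
theorem F12137 : act 2 n2782 = n2782 := d20_1 D2782 (iv D2782) F11054
theorem F12138 : act 3 n2782 = n2616 := d25_1 D2782 (iv D2616) (iv F11055)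
theorem F12139 : act 5 n2782 = n2782 := d32_1 D2782 (iv D2782) F11056
theorem F12140 : act 6 n2782 = n2518 := d34_1 D2782 (iv D2518) D2517
def n2783 : Q := act 7 n2518
theorem D2783 : act 7 n2518 = n2783 := rfl
theorem F12141 : act 2 n2783 = n2783 := d19_1 D2783 (iv D2783) F11058
theorem F12142 : act 5 n2783 = n2519 := d31_1 D2783 (iv D2519) (iv F11060)
theorem F12143 : act 8 n2783 = n2783 := d35_2 D2518 D2783 (iv D2783) (iv D2518) F9993
def n2784 : Q := act 0 n2522
theorem D2784 : act 0 n2522 = n2784 := rfl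
theorem F12144 : act 2 n2784 = n2526 := d1_2 (iv F11079) D2784 (iv D2526)
theorem F12145 : act 4 n2784 = n2784 := d3_2 F11080 D2784 (iv D2784)
theorem F12146 : act 5 n2784 = n2614 := d4_2 (iv F11081) D2784 F11416
theorem F12147 : act 6 n2784 = n2612 := d5_2 F12012 D2784 (iv F12007)
theorem F12148 : act 7 n2784 = n2529 := d6_2 (iv F11082) D2784 (iv D2529)
def n2785 : Q := act 8 n2522
theorem D2785 : act 8 n2522 = n2785 := rfl
theorem F12149 : act 1 n2785 = n2523 := d14_1 D2785 (iv D2523) D2522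
theorem F12150 : act 2 n2785 = n2527 := d20_1 D2785 (iv D2527) (iv F11079)
theorem F12151 : act 4 n2785 = n2785 := d29_1 D2785 (iv D2785) F11080
theorem F12152 : act 5 n2785 = n2617 := d32_1 D2785 (iv D2617) (iv F11081)
def n2786 : Q := act 8 n2524
theorem D2786 : act 8 n2524 = n2786 := rfl
theorem F12153 : act 0 n2786 = n2638 := d7_1 D2786 (iv D2638) F11090
theorem F12154 : act 1 n2786 = n2525 := d14_1 D2786 (iv D2525) D2524
theorem F12155 : act 4 n2786 = n2786 := d29_1 D2786 (iv D2786) F11086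
theorem F12156 : act 5 n2786 = n2540 := d32_1 D2786 (iv D2540) (iv F11087)
theorem F12157 : act 6 n2786 = n2527 := d34_1 D2786 (iv D2527) (iv F11088)
theorem F12158 : act 7 n2786 = n2575 := d35_1 D2786 (iv D2575) (iv D2319) (iv F10064) (iv F11089)
def n2787 : Q := act 8 n2526
theorem D2787 : act 8 n2526 = n2787 := rfl
theorem F12159 : act 0 n2787 = n2527 := d7_1 D2787 (iv D2527) D2526
theorem F12160 : act 1 n2787 = n2787 := d14_1 D2787 (iv D2787) F11097
theorem F12161 : act 4 n2787 = n2787 := d29_1 D2787 (iv D2787) F11098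
theorem F12162 : act 5 n2787 = n2618 := d32_1 D2787 (iv D2618) (iv F11099)
theorem F12163 : act 6 n2787 = n2638 := d34_1 D2787 (iv D2638) (iv F11100)
def n2788 : Q := act 8 n2530
theorem D2788 : act 8 n2530 = n2788 := rfl
theorem F12164 : act 0 n2788 = n2788 := d7_1 D2788 (iv D2788) F11116
theorem F12165 : act 1 n2788 = n2623 := d14_1 D2788 (iv D2623) (iv F11117)
theorem F12166 : act 3 n2788 = n2531 := d25_1 D2788 (iv D2531) D2530
theorem F12167 : act 4 n2788 = n2543 := d29_1 D2788 (iv D2543) (iv F11118)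
theorem F12168 : act 6 n2788 = n2533 := d34_1 D2788 (iv D2533) (iv F11119)
def n2789 : Q := act 1 n2532
theorem D2789 : act 1 n2532 = n2789 := rfl
theorem F12169 : act 2 n2789 = n2624 := d8_2 D2532 D2789 (iv D2624) (iv D2373) (iv F10077)
theorem F12170 : act 3 n2789 = n2789 := d9_2 F11128 D2789 (iv D2789)
theorem F12171 : act 4 n2789 = n2544 := d10_2 (iv F11129) D2789 (iv D2544)
theorem F12172 : act 5 n2789 = n2789 := d11_2 F11130 D2789 (iv D2789)
theorem F12173 : act 7 n2789 = n2789 := d13_2 F11131 D2789 (iv D2789)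
def n2790 : Q := act 8 n2532
theorem D2790 : act 8 n2532 = n2790 := rfl
theorem F12174 : act 0 n2790 = n2790 := d7_1 D2790 (iv D2790) F11127
theorem F12175 : act 2 n2790 = n2533 := d20_1 D2790 (iv D2533) D2532
theorem F12176 : act 3 n2790 = n2790 := d25_1 D2790 (iv D2790) F11128
theorem F12177 : act 4 n2790 = n2545 := d29_1 D2790 (iv D2545) (iv F11129)
theorem F12178 : act 5 n2790 = n2790 := d32_1 D2790 (iv D2790) F11130
def n2791 : Q := act 7 n2533
theorem D2791 : act 7 n2533 = n2791 := rfl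
theorem F12179 : act 0 n2791 = n2791 := d6_1 D2791 (iv D2791) F11132
theorem F12180 : act 1 n2791 = n2626 := d13_1 D2791 (iv D2626) (iv F11133)
theorem F12181 : act 3 n2791 = n2791 := d24_1 D2791 (iv D2791) F11134 F10086 (iv F11134)
theorem F12182 : act 4 n2791 = n2546 := d28_1 D2791 (iv D2546) (iv F11135)
theorem F12183 : act 5 n2791 = n2791 := d31_1 D2791 (iv D2791) F11136
theorem F12184 : act 8 n2791 = n2791 := d35_2 D2533 D2791 (iv D2791) (iv D2533) F10080
def n2792 : Q := act 3 n2534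
theorem D2792 : act 3 n2534 = n2792 := rfl
theorem F12185 : act 0 n2792 = n2602 := d2_1 D2792 F11395 (iv F11137)
theorem F12186 : act 1 n2792 = n2587 := d9_1 D2792 (iv D2587) (iv F11138)
theorem F12187 : act 4 n2792 = n2589 := d21_2 (iv F11140) D2792 (iv D2589) F10329 D2336
theorem F12188 : act 6 n2792 = n2592 := d23_2 (iv F11141) D2792 F11368
theorem F12189 : act 7 n2792 = n2536 := d24_2 D2534 D2792 (iv D2536) (iv D2281) D2279
def n2793 : Q := act 8 n2534
theorem D2793 : act 8 n2534 = n2793 := rfl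
theorem F12190 : act 0 n2793 = n2640 := d7_1 D2793 (iv D2640) (iv F11137)
theorem F12191 : act 1 n2793 = n2588 := d14_1 D2793 (iv D2588) (iv F11138)
theorem F12192 : act 2 n2793 = n2793 := d20_1 D2793 (iv D2793) F11139
theorem F12193 : act 4 n2793 = n2594 := d29_1 D2793 (iv D2594) (iv F11140)
theorem F12194 : act 6 n2793 = n2595 := d34_1 D2793 (iv D2595) (iv F11141)
theorem F12195 : act 7 n2793 = n2563 := d35_1 D2793 (iv D2563) (iv D2308) (iv F10098) D2534
def n2794 : Q := act 3 n2535
theorem D2794 : act 3 n2535 = n2794 := rfl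
theorem F12196 : act 0 n2794 = n2604 := d2_1 D2794 F11398 (iv F11142)
theorem F12197 : act 1 n2794 = n2589 := d9_1 D2794 (iv D2589) (iv F11143)
theorem F12198 : act 4 n2794 = n2587 := d21_2 (iv F11145) D2794 (iv D2587) F10325 (iv F10113)
theorem F12199 : act 6 n2794 = n2536 := d23_2 (iv F11146) D2794 (iv D2536)
theorem F12200 : act 7 n2794 = n2592 := d24_2 D2535 D2794 F11368 F10347 (iv F10103)
def n2795 : Q := act 8 n2535
theorem D2795 : act 8 n2535 = n2795 := rfl
theorem F12201 : act 0 n2795 = n2613 := d7_1 D2795 (iv D2613) (iv F11142)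
theorem F12202 : act 1 n2795 = n2590 := d14_1 D2795 (iv D2590) (iv F11143)
theorem F12203 : act 2 n2795 = n2540 := d20_1 D2795 (iv D2540) (iv F11144)
theorem F12204 : act 4 n2795 = n2538 := d29_1 D2795 (iv D2538) (iv F11145)
theorem F12205 : act 6 n2795 = n2537 := d34_1 D2795 (iv D2537) (iv F11146)
theorem F12206 : act 7 n2795 = n2566 := d35_1 D2795 (iv D2566) (iv D2310) (iv F10105) D2535
def n2796 : Q := act 2 n2536
theorem D2796 : act 2 n2536 = n2796 := rfl
theorem F12207 : act 0 n2796 = n2607 := d1_1 D2796 F11403 (iv F11147)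
theorem F12208 : act 3 n2796 = n2541 := d15_2 D2536 D2796 (iv D2541) (iv D2285) (iv F10108)
theorem F12209 : act 4 n2796 = n2597 := d16_2 (iv F11149) D2796 (iv D2597)
def n2797 : Q := act 8 n2536
theorem D2797 : act 8 n2536 = n2797 := rfl
theorem F12210 : act 0 n2797 = n2610 := d7_1 D2797 (iv D2610) (iv F11147)
theorem F12211 : act 1 n2797 = n2593 := d14_1 D2797 (iv D2593) (iv F11148)
theorem F12212 : act 3 n2797 = n2537 := d25_1 D2797 (iv D2537) D2536
theorem F12213 : act 4 n2797 = n2598 := d29_1 D2797 (iv D2598) (iv F11149)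
def n2798 : Q := act 8 n2539
theorem D2798 : act 8 n2539 = n2798 := rfl
theorem F12214 : act 0 n2798 = n2629 := d7_1 D2798 (iv D2629) (iv F11162)
theorem F12215 : act 1 n2798 = n2543 := d14_1 D2798 (iv D2543) (iv F11163)
theorem F12216 : act 3 n2798 = n2540 := d25_1 D2798 (iv D2540) D2539
theorem F12217 : act 4 n2798 = n2623 := d29_1 D2798 (iv D2623) (iv F11164)
theorem F12218 : act 6 n2798 = n2542 := d34_1 D2798 (iv D2542) (iv F11165)
def n2799 : Q := act 1 n2541
theorem D2799 : act 1 n2541 = n2799 := rfl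
theorem F12219 : act 2 n2799 = n2544 := d8_2 D2541 D2799 (iv D2544) (iv D2290) (iv F10127)
theorem F12220 : act 4 n2799 = n2624 := d10_2 (iv F11173) D2799 (iv D2624)
theorem F12221 : act 5 n2799 = n2576 := d11_2 F11658 D2799 (iv F11656)
theorem F12222 : act 7 n2799 = n2799 := d13_2 F11174 D2799 (iv D2799)
def n2800 : Q := act 8 n2541
theorem D2800 : act 8 n2541 = n2800 := rfl
theorem F12223 : act 0 n2800 = n2634 := d7_1 D2800 (iv D2634) (iv F11172)
theorem F12224 : act 2 n2800 = n2542 := d20_1 D2800 (iv D2542) D2541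
theorem F12225 : act 4 n2800 = n2625 := d29_1 D2800 (iv D2625) (iv F11173)
def n2801 : Q := act 7 n2542
theorem D2801 : act 7 n2542 = n2801 := rfl
theorem F12226 : act 0 n2801 = n2637 := d6_1 D2801 (iv D2637) (iv F11175)
theorem F12227 : act 1 n2801 = n2546 := d13_1 D2801 (iv D2546) (iv F11176)
theorem F12228 : act 3 n2801 = n2580 := d24_1 D2801 (iv D2580) F10289 (iv F10133) (iv F11177)
theorem F12229 : act 4 n2801 = n2626 := d28_1 D2801 (iv D2626) (iv F11178)
theorem F12230 : act 8 n2801 = n2801 := d35_2 D2542 D2801 (iv D2801) (iv D2542) F10129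
def n2802 : Q := act 7 n2543
theorem D2802 : act 7 n2543 = n2802 := rfl
theorem F12231 : act 0 n2802 = n2802 := d6_1 D2802 (iv D2802) F11179
theorem F12232 : act 3 n2802 = n2581 := d24_1 D2802 (iv D2581) F10296 (iv F10147) (iv F11180)
theorem F12233 : act 6 n2802 = n2546 := d33_1 D2802 (iv D2546) (iv F11181)
theorem F12234 : act 8 n2802 = n2802 := d35_2 D2543 D2802 (iv D2802) (iv D2543) F10142
def n2803 : Q := act 0 n2544
theorem D2803 : act 0 n2544 = n2803 := rfl
theorem F12235 : act 1 n2803 = n2803 := d0_2 D2544 D2803 (iv D2803) (iv D2544) F10148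
theorem F12236 : act 3 n2803 = n2557 := d2_2 (iv F11182) D2803 F11244
theorem F12237 : act 5 n2803 = n2558 := d4_2 (iv F11183) D2803 F11248
theorem F12238 : act 7 n2803 = n2803 := d6_2 F11184 D2803 (iv D2803)
def n2804 : Q := act 8 n2544
theorem D2804 : act 8 n2544 = n2804 := rfl
theorem F12239 : act 1 n2804 = n2545 := d14_1 D2804 (iv D2545) D2544
theorem F12240 : act 3 n2804 = n2575 := d25_1 D2804 (iv D2575) (iv F11182)
theorem F12241 : act 5 n2804 = n2577 := d32_1 D2804 (iv D2577) (iv F11183)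
def n2805 : Q := act 7 n2545
theorem D2805 : act 7 n2545 = n2805 := rfl
theorem F12242 : act 0 n2805 = n2805 := d6_1 D2805 (iv D2805) F11185
theorem F12243 : act 2 n2805 = n2546 := d19_1 D2805 (iv D2546) (iv F11186)
theorem F12244 : act 5 n2805 = n2581 := d31_1 D2805 (iv D2581) (iv F11188)
theorem F12245 : act 8 n2805 = n2805 := d35_2 D2545 D2805 (iv D2805) (iv D2545) F10151
def n2806 : Q := act 3 n2547
theorem D2806 : act 3 n2547 = n2806 := rfl
theorem F12246 : act 0 n2806 = n2592 := d2_1 D2806 F11368 (iv F11192)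
theorem F12247 : act 1 n2806 = n2552 := d9_1 D2806 (iv D2552) (iv F11193)
theorem F12248 : act 4 n2806 = n2585 := d21_2 (iv F11195) D2806 (iv D2585) F10311 (iv F10163)
theorem F12249 : act 6 n2806 = n2602 := d23_2 (iv F11196) D2806 F11395
theorem F12250 : act 7 n2806 = n2604 := d24_2 D2547 D2806 F11398 F10397 (iv F10157)
def n2807 : Q := act 8 n2547
theorem D2807 : act 8 n2547 = n2807 := rfl
theorem F12251 : act 0 n2807 = n2595 := d7_1 D2807 (iv D2595) (iv F11192)
theorem F12252 : act 1 n2807 = n2553 := d14_1 D2807 (iv D2553) (iv F11193)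
theorem F12253 : act 2 n2807 = n2807 := d20_1 D2807 (iv D2807) F11194
theorem F12254 : act 4 n2807 = n2548 := d29_1 D2807 (iv D2548) (iv F11195)
theorem F12255 : act 6 n2807 = n2640 := d34_1 D2807 (iv D2640) (iv F11196)
theorem F12256 : act 7 n2807 = n2572 := d35_1 D2807 (iv D2572) F10264 (iv F10159) D2547
def n2808 : Q := act 3 n2549
theorem D2808 : act 3 n2549 = n2808 := rfl
theorem F12257 : act 0 n2808 = n2562 := d2_1 D2808 (iv D2562) (iv F11204)
theorem F12258 : act 1 n2808 = n2604 := d9_1 D2808 F11398 (iv F11205)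
theorem F12259 : act 4 n2808 = n2565 := d21_2 (iv F11207) D2808 (iv D2565) F10246 D2313
theorem F12260 : act 6 n2808 = n2568 := d23_2 (iv F11208) D2808 F11282
theorem F12261 : act 7 n2808 = n2552 := d24_2 D2549 D2808 (iv D2552) (iv D2297) D2295
def n2809 : Q := act 8 n2549
theorem D2809 : act 8 n2549 = n2809 := rfl
theorem F12262 : act 0 n2809 = n2563 := d7_1 D2809 (iv D2563) (iv F11204)
theorem F12263 : act 1 n2809 = n2613 := d14_1 D2809 (iv D2613) (iv F11205)
theorem F12264 : act 2 n2809 = n2809 := d20_1 D2809 (iv D2809) F11206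
theorem F12265 : act 4 n2809 = n2570 := d29_1 D2809 (iv D2570) (iv F11207)
theorem F12266 : act 6 n2809 = n2572 := d34_1 D2809 (iv D2572) (iv F11208)
theorem F12267 : act 7 n2809 = n2640 := d35_1 D2809 (iv D2640) F10514 (iv F10176) D2549
def n2810 : Q := act 7 n2550
theorem D2810 : act 7 n2550 = n2810 := rfl
theorem F12268 : act 0 n2810 = n2564 := d6_1 D2810 (iv D2564) (iv F11209)
theorem F12269 : act 1 n2810 = n2639 := d13_1 D2810 F11502 (iv F11210)
theorem F12270 : act 2 n2810 = n2557 := d19_1 D2810 (iv D2557) (iv F11211)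
theorem F12271 : act 4 n2810 = n2810 := d28_1 D2810 (iv D2810) F11213
theorem F12272 : act 5 n2810 = n2551 := d31_1 D2810 (iv D2551) D2550
def n2811 : Q := act 3 n2551
theorem D2811 : act 3 n2551 = n2811 := rfl
theorem F12273 : act 0 n2811 = n2565 := d2_1 D2811 (iv D2565) (iv F11215)
theorem F12274 : act 1 n2811 = n2602 := d9_1 D2811 F11395 (iv F11216)
theorem F12275 : act 4 n2811 = n2562 := d21_2 (iv F11218) D2811 (iv D2562) F10240 (iv F10190)
theorem F12276 : act 6 n2811 = n2552 := d23_2 (iv F11219) D2811 (iv D2552)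
theorem F12277 : act 7 n2811 = n2568 := d24_2 D2551 D2811 F11282 F10264 (iv F10181)
def n2812 : Q := act 8 n2551
theorem D2812 : act 8 n2551 = n2812 := rfl
theorem F12278 : act 0 n2812 = n2566 := d7_1 D2812 (iv D2566) (iv F11215)
theorem F12279 : act 1 n2812 = n2640 := d14_1 D2812 (iv D2640) (iv F11216)
theorem F12280 : act 2 n2812 = n2559 := d20_1 D2812 (iv D2559) (iv F11217)
theorem F12281 : act 4 n2812 = n2554 := d29_1 D2812 (iv D2554) (iv F11218)
theorem F12282 : act 6 n2812 = n2553 := d34_1 D2812 (iv D2553) (iv F11219)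
theorem F12283 : act 7 n2812 = n2613 := d35_1 D2812 (iv D2613) F10397 (iv F10183) D2551
def n2813 : Q := act 2 n2552
theorem D2813 : act 2 n2552 = n2813 := rfl
theorem F12284 : act 0 n2813 = n2567 := d1_1 D2813 (iv D2567) (iv F11220)
theorem F12285 : act 3 n2813 = n2560 := d15_2 D2552 D2813 (iv D2560) (iv D2304) (iv F10185)
def n2814 : Q := act 4 n2552
theorem D2814 : act 4 n2552 = n2814 := rfl
theorem F12286 : act 0 n2814 = n2568 := d3_1 D2814 (iv D2568) (iv F11220)
theorem F12287 : act 1 n2814 = n2585 := d10_1 D2814 (iv F12248) F12247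
theorem F12288 : act 3 n2814 = n2555 := d21_1 D2814 (iv D2555) (iv D2299) (iv F10186) D2552
theorem F12289 : act 6 n2814 = n2562 := d27_2 F12276 D2814 (iv F12275)
theorem F12290 : act 7 n2814 = n2565 := d28_2 F12261 D2814 (iv F12259)
def n2815 : Q := act 8 n2552
theorem D2815 : act 8 n2552 = n2815 := rfl
theorem F12291 : act 0 n2815 = n2569 := d7_1 D2815 (iv D2569) (iv F11220)
theorem F12292 : act 3 n2815 = n2553 := d25_1 D2815 (iv D2553) D2552
def n2816 : Q := act 8 n2555
theorem D2816 : act 8 n2555 = n2816 := rfl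
theorem F12293 : act 0 n2816 = n2572 := d7_1 D2816 (iv D2572) (iv F11232)
theorem F12294 : act 1 n2816 = n2586 := d14_1 D2816 (iv D2586) (iv F11233)
theorem F12295 : act 2 n2816 = n2816 := d20_1 D2816 (iv D2816) F11234
theorem F12296 : act 4 n2816 = n2556 := d29_1 D2816 (iv D2556) D2555
theorem F12297 : act 6 n2816 = n2563 := d34_1 D2816 (iv D2563) (iv F11235)
theorem F12298 : act 7 n2816 = n2595 := d35_1 D2816 (iv D2595) F10347 (iv F10237) (iv F11236)
def n2817 : Q := act 8 n2557
theorem D2817 : act 8 n2557 = n2817 := rfl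
theorem F12299 : act 0 n2817 = n2575 := d7_1 D2817 (iv D2575) (iv F11244)
theorem F12300 : act 1 n2817 = n2817 := d14_1 D2817 (iv D2817) F11245
theorem F12301 : act 4 n2817 = n2817 := d29_1 D2817 (iv D2817) F11246
theorem F12302 : act 5 n2817 = n2559 := d32_1 D2817 (iv D2559) (iv F11247)
theorem F12303 : act 7 n2817 = n2638 := d35_1 D2817 (iv D2638) F10487 (iv F10213) D2557
def n2818 : Q := act 2 n2558
theorem D2818 : act 2 n2558 = n2818 := rfl
theorem F12304 : act 0 n2818 = n2576 := d1_1 D2818 (iv D2576) (iv F11248)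
theorem F12305 : act 4 n2818 = n2818 := d16_2 F11250 D2818 (iv D2818)
theorem F12306 : act 6 n2818 = n2560 := d18_2 (iv F11251) D2818 (iv D2560)
theorem F12307 : act 7 n2818 = n2818 := d19_2 F11252 D2818 (iv D2818)
def n2819 : Q := act 8 n2558
theorem D2819 : act 8 n2558 = n2819 := rfl
theorem F12308 : act 0 n2819 = n2577 := d7_1 D2819 (iv D2577) (iv F11248)
theorem F12309 : act 1 n2819 = n2819 := d14_1 D2819 (iv D2819) F11249
theorem F12310 : act 3 n2819 = n2559 := d25_1 D2819 (iv D2559) D2558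
theorem F12311 : act 4 n2819 = n2819 := d29_1 D2819 (iv D2819) F11250
theorem F12312 : act 6 n2819 = n2561 := d34_1 D2819 (iv D2561) (iv F11251)
def n2820 : Q := act 8 n2560
theorem D2820 : act 8 n2560 = n2820 := rfl
theorem F12313 : act 0 n2820 = n2579 := d7_1 D2820 (iv D2579) (iv F11258)
theorem F12314 : act 2 n2820 = n2561 := d20_1 D2820 (iv D2561) D2560
theorem F12315 : act 4 n2820 = n2820 := d29_1 D2820 (iv D2820) F11259
def n2821 : Q := act 7 n2561
theorem D2821 : act 7 n2561 = n2821 := rfl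
theorem F12316 : act 0 n2821 = n2580 := d6_1 D2821 (iv D2580) (iv F11261)
theorem F12317 : act 1 n2821 = n2821 := d13_1 D2821 (iv D2821) F11262
theorem F12318 : act 3 n2821 = n2637 := d24_1 D2821 (iv D2637) F10479 (iv F10225) (iv F11263)
theorem F12319 : act 4 n2821 = n2821 := d28_1 D2821 (iv D2821) F11264
theorem F12320 : act 8 n2821 = n2821 := d35_2 D2561 D2821 (iv D2821) (iv D2561) F10221
def n2822 : Q := act 2 n2562
theorem D2822 : act 2 n2562 = n2822 := rfl
theorem F12321 : act 3 n2822 = n2822 := d15_2 D2562 D2822 (iv D2822) (iv D2562) F10239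
theorem F12322 : act 7 n2822 = n2567 := d19_2 (iv F11266) D2822 (iv D2567)
def n2823 : Q := act 8 n2562
theorem D2823 : act 8 n2562 = n2823 := rfl
theorem F12323 : act 1 n2823 = n2603 := d14_1 D2823 (iv D2603) (iv F11265)
theorem F12324 : act 3 n2823 = n2563 := d25_1 D2823 (iv D2563) D2562
def n2824 : Q := act 3 n2564
theorem D2824 : act 3 n2564 = n2824 := rfl
theorem F12325 : act 1 n2824 = n2591 := d9_1 D2824 F11365 (iv F11270)
theorem F12326 : act 5 n2824 = n2565 := d22_2 (iv F11273) D2824 (iv D2565)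
def n2825 : Q := act 8 n2564
theorem D2825 : act 8 n2564 = n2825 := rfl
theorem F12327 : act 1 n2825 = n2596 := d14_1 D2825 (iv D2596) (iv F11270)
theorem F12328 : act 2 n2825 = n2575 := d20_1 D2825 (iv D2575) (iv F11271)
theorem F12329 : act 4 n2825 = n2825 := d29_1 D2825 (iv D2825) F11272
theorem F12330 : act 5 n2825 = n2566 := d32_1 D2825 (iv D2566) (iv F11273)
def n2826 : Q := act 2 n2565
theorem D2826 : act 2 n2565 = n2826 := rfl
theorem F12331 : act 3 n2826 = n2576 := d15_2 D2565 D2826 (iv D2576) (iv D2320) (iv F10245)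
theorem F12332 : act 6 n2826 = n2567 := d18_2 (iv F11275) D2826 (iv D2567)
def n2827 : Q := act 8 n2565
theorem D2827 : act 8 n2565 = n2827 := rfl
theorem F12333 : act 1 n2827 = n2605 := d14_1 D2827 (iv D2605) (iv F11274)
theorem F12334 : act 3 n2827 = n2566 := d25_1 D2827 (iv D2566) D2565
theorem F12335 : act 6 n2827 = n2569 := d34_1 D2827 (iv D2569) (iv F11275)
def n2828 : Q := act 1 n2567
theorem D2828 : act 1 n2567 = n2828 := rfl
theorem F12336 : act 2 n2828 = n2606 := d8_2 D2567 D2828 (iv D2606) (iv D2353) (iv F10248)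
theorem F12337 : act 3 n2828 = n2578 := d9_2 (iv F11280) D2828 (iv D2578)
def n2829 : Q := act 4 n2567
theorem D2829 : act 4 n2567 = n2829 := rfl
theorem F12338 : act 2 n2829 = n2568 := d16_1 D2829 (iv D2568) D2567
theorem F12339 : act 3 n2829 = n2829 := d21_1 D2829 (iv D2829) F11280 F10286 (iv F11280)
def n2830 : Q := act 8 n2567
theorem D2830 : act 8 n2567 = n2830 := rfl
theorem F12340 : act 2 n2830 = n2569 := d20_1 D2830 (iv D2569) D2567
theorem F12341 : act 3 n2830 = n2579 := d25_1 D2830 (iv D2579) (iv F11280)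
def n2831 : Q := act 5 n2568
theorem D2831 : act 5 n2568 = n2831 := rfl
theorem F12342 : act 1 n2831 = n2609 := d11_1 D2831 (iv D2609) (iv F11281)
theorem F12343 : act 3 n2831 = n2571 := d22_1 D2831 (iv D2571) (iv F11282)
def n2832 : Q := act 8 n2568
theorem D2832 : act 8 n2568 = n2832 := rfl
theorem F12344 : act 1 n2832 = n2610 := d14_1 D2832 (iv D2610) (iv F11281)
theorem F12345 : act 3 n2832 = n2572 := d25_1 D2832 (iv D2572) (iv F11282)
theorem F12346 : act 4 n2832 = n2569 := d29_1 D2832 (iv D2569) D2568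
def n2833 : Q := act 7 n2569
theorem D2833 : act 7 n2569 = n2833 := rfl
theorem F12347 : act 1 n2833 = n2611 := d13_1 D2833 (iv D2611) (iv F11283)
def n2834 : Q := act 6 n2571
theorem D2834 : act 6 n2571 = n2834 := rfl
theorem F12348 : act 0 n2834 = n2599 := d5_1 D2834 (iv F11935) F11930
theorem F12349 : act 1 n2834 = n2614 := d12_1 D2834 (iv D2614) (iv F11292)
theorem F12350 : act 2 n2834 = n2834 := d18_1 D2834 (iv D2834) F11293
theorem F12351 : act 4 n2834 = n2573 := d27_1 D2834 (iv D2573) (iv F11294)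
theorem F12352 : act 7 n2834 = n2619 := d33_2 (iv F11295) D2834 F11437
def n2835 : Q := act 8 n2571
theorem D2835 : act 8 n2571 = n2835 := rfl
theorem F12353 : act 1 n2835 = n2615 := d14_1 D2835 (iv D2615) (iv F11292)
theorem F12354 : act 2 n2835 = n2835 := d20_1 D2835 (iv D2835) F11293
theorem F12355 : act 4 n2835 = n2574 := d29_1 D2835 (iv D2574) (iv F11294)
theorem F12356 : act 5 n2835 = n2572 := d32_1 D2835 (iv D2572) D2571
def n2836 : Q := act 8 n2573
theorem D2836 : act 8 n2573 = n2836 := rfl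
theorem F12357 : act 0 n2836 = n2627 := d7_1 D2836 (iv D2627) (iv F11299)
theorem F12358 : act 1 n2836 = n2616 := d14_1 D2836 (iv D2616) (iv F11300)
theorem F12359 : act 2 n2836 = n2836 := d20_1 D2836 (iv D2836) F11301
theorem F12360 : act 5 n2836 = n2836 := d32_1 D2836 (iv D2836) F11302
theorem F12361 : act 6 n2836 = n2574 := d34_1 D2836 (iv D2574) D2573
def n2837 : Q := act 8 n2576
theorem D2837 : act 8 n2576 = n2837 := rfl
theorem F12362 : act 2 n2837 = n2577 := d20_1 D2837 (iv D2577) D2576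
theorem F12363 : act 4 n2837 = n2837 := d29_1 D2837 (iv D2837) F11310
theorem F12364 : act 6 n2837 = n2579 := d34_1 D2837 (iv D2579) (iv F11311)
def n2838 : Q := act 7 n2577
theorem D2838 : act 7 n2577 = n2838 := rfl
theorem F12365 : act 1 n2838 = n2581 := d13_1 D2838 (iv D2581) (iv F11313)
theorem F12366 : act 4 n2838 = n2838 := d28_1 D2838 (iv D2838) F11315
theorem F12367 : act 6 n2838 = n2580 := d33_1 D2838 (iv D2580) (iv F11316)
theorem F12368 : act 8 n2838 = n2838 := d35_2 D2577 D2838 (iv D2838) (iv D2577) F10282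
def n2839 : Q := act 0 n2578
theorem D2839 : act 0 n2578 = n2839 := rfl
theorem F12369 : act 2 n2839 = n2582 := d1_2 (iv F11317) D2839 (iv D2582)
theorem F12370 : act 4 n2839 = n2839 := d3_2 F11318 D2839 (iv D2839)
theorem F12371 : act 6 n2839 = n2633 := d5_2 F11659 D2839 (iv F11655)
theorem F12372 : act 7 n2839 = n2839 := d6_2 F11319 D2839 (iv D2839)
def n2840 : Q := act 8 n2578
theorem D2840 : act 8 n2578 = n2840 := rfl
theorem F12373 : act 1 n2840 = n2579 := d14_1 D2840 (iv D2579) D2578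
theorem F12374 : act 2 n2840 = n2583 := d20_1 D2840 (iv D2583) (iv F11317)
theorem F12375 : act 4 n2840 = n2840 := d29_1 D2840 (iv D2840) F11318
def n2841 : Q := act 7 n2579
theorem D2841 : act 7 n2579 = n2841 := rfl
theorem F12376 : act 2 n2841 = n2580 := d19_1 D2841 (iv D2580) (iv F11320)
theorem F12377 : act 4 n2841 = n2841 := d28_1 D2841 (iv D2841) F11321
theorem F12378 : act 8 n2841 = n2841 := d35_2 D2579 D2841 (iv D2841) (iv D2579) F10287
def n2842 : Q := act 8 n2582
theorem D2842 : act 8 n2582 = n2842 := rfl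
theorem F12379 : act 0 n2842 = n2583 := d7_1 D2842 (iv D2583) D2582
theorem F12380 : act 1 n2842 = n2842 := d14_1 D2842 (iv D2842) F11329
theorem F12381 : act 3 n2842 = n2618 := d25_1 D2842 (iv D2618) (iv F11330)
theorem F12382 : act 4 n2842 = n2842 := d29_1 D2842 (iv D2842) F11331
theorem F12383 : act 6 n2842 = n2636 := d34_1 D2842 (iv D2636) (iv F11332)
def n2843 : Q := act 7 n2583
theorem D2843 : act 7 n2583 = n2843 := rfl
theorem F12384 : act 1 n2843 = n2584 := d13_1 D2843 (iv D2584) (iv F11334)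
theorem F12385 : act 4 n2843 = n2843 := d28_1 D2843 (iv D2843) F11336
theorem F12386 : act 8 n2843 = n2843 := d35_2 D2583 D2843 (iv D2843) (iv D2583) F10301
def n2844 : Q := act 8 n2585
theorem D2844 : act 8 n2585 = n2844 := rfl
theorem F12387 : act 0 n2844 = n2593 := d7_1 D2844 (iv D2593) (iv F11341)
theorem F12388 : act 3 n2844 = n2586 := d25_1 D2844 (iv D2586) D2585
theorem F12389 : act 6 n2844 = n2603 := d34_1 D2844 (iv D2603) (iv F11342)
def n2845 : Q := act 8 n2587
theorem D2845 : act 8 n2587 = n2845 := rfl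
theorem F12390 : act 0 n2845 = n2605 := d7_1 D2845 (iv D2605) (iv F11349)
theorem F12391 : act 3 n2845 = n2588 := d25_1 D2845 (iv D2588) D2587
theorem F12392 : act 6 n2845 = n2598 := d34_1 D2845 (iv D2598) (iv F11350)
def n2846 : Q := act 8 n2589
theorem D2846 : act 8 n2589 = n2846 := rfl
theorem F12393 : act 0 n2846 = n2603 := d7_1 D2846 (iv D2603) (iv F11357)
theorem F12394 : act 3 n2846 = n2590 := d25_1 D2846 (iv D2590) D2589
theorem F12395 : act 6 n2846 = n2593 := d34_1 D2846 (iv D2593) (iv F11358)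
def n2847 : Q := act 4 n2591
theorem D2847 : act 4 n2591 = n2847 := rfl
theorem F12396 : act 2 n2847 = n2592 := d16_1 D2847 (iv D2592) D2591
theorem F12397 : act 3 n2847 = n2847 := d21_1 D2847 (iv D2847) F11365 F10357 (iv F11365)
def n2848 : Q := act 8 n2591
theorem D2848 : act 8 n2591 = n2848 := rfl
theorem F12398 : act 2 n2848 = n2593 := d20_1 D2848 (iv D2593) D2591
theorem F12399 : act 3 n2848 = n2596 := d25_1 D2848 (iv D2596) (iv F11365)
theorem F12400 : act 5 n2848 = n2605 := d32_1 D2848 (iv D2605) (iv F11366)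
def n2849 : Q := act 8 n2592
theorem D2849 : act 8 n2592 = n2849 := rfl
theorem F12401 : act 1 n2849 = n2598 := d14_1 D2849 (iv D2598) (iv F11367)
theorem F12402 : act 3 n2849 = n2595 := d25_1 D2849 (iv D2595) (iv F11368)
theorem F12403 : act 4 n2849 = n2593 := d29_1 D2849 (iv D2593) D2592
def n2850 : Q := act 7 n2593
theorem D2850 : act 7 n2593 = n2850 := rfl
theorem F12404 : act 3 n2850 = n2611 := d24_1 D2850 (iv D2611) F10394 (iv F10333) (iv F11369)
def n2851 : Q := act 1 n2597
theorem D2851 : act 1 n2597 = n2851 := rfl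
theorem F12405 : act 3 n2851 = n2599 := d9_2 (iv F11384) D2851 (iv D2599)
def n2852 : Q := act 8 n2597
theorem D2852 : act 8 n2597 = n2852 := rfl
theorem F12406 : act 0 n2852 = n2608 := d7_1 D2852 (iv D2608) (iv F11383)
theorem F12407 : act 2 n2852 = n2598 := d20_1 D2852 (iv D2598) D2597
theorem F12408 : act 3 n2852 = n2600 := d25_1 D2852 (iv D2600) (iv F11384)
def n2853 : Q := act 7 n2598
theorem D2853 : act 7 n2598 = n2853 := rfl
theorem F12409 : act 0 n2853 = n2611 := d6_1 D2853 (iv D2611) (iv F11385)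
def n2854 : Q := act 8 n2599
theorem D2854 : act 8 n2599 = n2854 := rfl
theorem F12410 : act 1 n2854 = n2600 := d14_1 D2854 (iv D2600) D2599
theorem F12411 : act 2 n2854 = n2854 := d20_1 D2854 (iv D2854) F11387
theorem F12412 : act 4 n2854 = n2627 := d29_1 D2854 (iv D2627) (iv F11388)
def n2855 : Q := act 1 n2601
theorem D2855 : act 1 n2601 = n2855 := rfl
theorem F12413 : act 3 n2855 = n2620 := d9_2 (iv F11393) D2855 (iv D2620)
theorem F12414 : act 7 n2855 = n2606 := d13_2 (iv F11394) D2855 (iv D2606)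
def n2856 : Q := act 4 n2601
theorem D2856 : act 4 n2601 = n2856 := rfl
theorem F12415 : act 2 n2856 = n2602 := d16_1 D2856 (iv D2602) D2601
theorem F12416 : act 3 n2856 = n2856 := d21_1 D2856 (iv D2856) F11393 F10426 (iv F11393)
theorem F12417 : act 7 n2856 = n2607 := d28_2 (iv F11394) D2856 (iv D2607)
def n2857 : Q := act 8 n2601
theorem D2857 : act 8 n2601 = n2857 := rfl
theorem F12418 : act 2 n2857 = n2603 := d20_1 D2857 (iv D2603) D2601
theorem F12419 : act 3 n2857 = n2621 := d25_1 D2857 (iv D2621) (iv F11393)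
def n2858 : Q := act 5 n2602
theorem D2858 : act 5 n2602 = n2858 := rfl
theorem F12420 : act 3 n2858 = n2639 := d22_1 D2858 (iv D2639) (iv F11395)
theorem F12421 : act 7 n2858 = n2609 := d31_2 (iv F11396) D2858 (iv D2609)
def n2859 : Q := act 8 n2602
theorem D2859 : act 8 n2602 = n2859 := rfl
theorem F12422 : act 3 n2859 = n2640 := d25_1 D2859 (iv D2640) (iv F11395)
theorem F12423 : act 4 n2859 = n2603 := d29_1 D2859 (iv D2603) D2602
def n2860 : Q := act 7 n2603
theorem D2860 : act 7 n2603 = n2860 := rfl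
theorem F12424 : act 8 n2860 = n2611 := d35_2 D2603 D2860 (iv D2611) (iv D2355) (iv F10385)
def n2861 : Q := act 5 n2604
theorem D2861 : act 5 n2604 = n2861 := rfl
theorem F12425 : act 3 n2861 = n2612 := d22_1 D2861 (iv D2612) (iv F11398)
def n2862 : Q := act 8 n2604
theorem D2862 : act 8 n2604 = n2862 := rfl
theorem F12426 : act 3 n2862 = n2613 := d25_1 D2862 (iv D2613) (iv F11398)
theorem F12427 : act 4 n2862 = n2605 := d29_1 D2862 (iv D2605) D2604
theorem F12428 : act 6 n2862 = n2610 := d34_1 D2862 (iv D2610) (iv F11399)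
def n2863 : Q := act 7 n2605
theorem D2863 : act 7 n2605 = n2863 := rfl
theorem F12429 : act 6 n2863 = n2611 := d33_1 D2863 (iv D2611) (iv F11401)
def n2864 : Q := act 0 n2606
theorem D2864 : act 0 n2606 = n2864 := rfl
theorem F12430 : act 3 n2864 = n2614 := d2_2 (iv F11402) D2864 F11416
theorem F12431 : act 6 n2864 = n2609 := d5_2 F11628 D2864 (iv F11625)
def n2865 : Q := act 4 n2606
theorem D2865 : act 4 n2606 = n2865 := rfl
theorem F12432 : act 1 n2865 = n2607 := d10_1 D2865 (iv D2607) D2606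
theorem F12433 : act 3 n2865 = n2631 := d21_1 D2865 (iv D2631) F10466 (iv F10414) (iv F11402)
def n2866 : Q := act 8 n2606
theorem D2866 : act 8 n2606 = n2866 := rfl
theorem F12434 : act 1 n2866 = n2608 := d14_1 D2866 (iv D2608) D2606
theorem F12435 : act 3 n2866 = n2617 := d25_1 D2866 (iv D2617) (iv F11402)
def n2867 : Q := act 5 n2607
theorem D2867 : act 5 n2607 = n2867 := rfl
theorem F12436 : act 2 n2867 = n2609 := d17_1 D2867 (iv D2609) (iv F11403)
theorem F12437 : act 3 n2867 = n2633 := d22_1 D2867 (iv D2633) (iv F11404)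
def n2868 : Q := act 8 n2607
theorem D2868 : act 8 n2607 = n2868 := rfl
theorem F12438 : act 2 n2868 = n2610 := d20_1 D2868 (iv D2610) (iv F11403)
theorem F12439 : act 3 n2868 = n2634 := d25_1 D2868 (iv D2634) (iv F11404)
theorem F12440 : act 4 n2868 = n2608 := d29_1 D2868 (iv D2608) D2607
def n2869 : Q := act 7 n2608
theorem D2869 : act 7 n2608 = n2869 := rfl
theorem F12441 : act 2 n2869 = n2611 := d19_1 D2869 (iv D2611) (iv F11405)
def n2870 : Q := act 8 n2609
theorem D2870 : act 8 n2609 = n2870 := rfl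
theorem F12442 : act 3 n2870 = n2615 := d25_1 D2870 (iv D2615) (iv F11407)
theorem F12443 : act 5 n2870 = n2610 := d32_1 D2870 (iv D2610) D2609
def n2871 : Q := act 7 n2610
theorem D2871 : act 7 n2610 = n2871 := rfl
theorem F12444 : act 4 n2871 = n2611 := d28_1 D2871 (iv D2611) (iv F11409)
def n2872 : Q := act 8 n2612
theorem D2872 : act 8 n2612 = n2872 := rfl
theorem F12445 : act 2 n2872 = n2638 := d20_1 D2872 (iv D2638) (iv F11410)
theorem F12446 : act 4 n2872 = n2872 := d29_1 D2872 (iv D2872) F11411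
theorem F12447 : act 5 n2872 = n2613 := d32_1 D2872 (iv D2613) D2612
def n2873 : Q := act 8 n2614
theorem D2873 : act 8 n2614 = n2873 := rfl
theorem F12448 : act 0 n2873 = n2617 := d7_1 D2873 (iv D2617) (iv F11416)
theorem F12449 : act 2 n2873 = n2618 := d20_1 D2873 (iv D2618) (iv F11417)
theorem F12450 : act 4 n2873 = n2616 := d29_1 D2873 (iv D2616) (iv F11418)
theorem F12451 : act 6 n2873 = n2615 := d34_1 D2873 (iv D2615) D2614
def n2874 : Q := act 0 n2620
theorem D2874 : act 0 n2620 = n2874 := rfl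
theorem F12452 : act 2 n2874 = n2874 := d1_2 F11438 D2874 (iv D2874)
theorem F12453 : act 4 n2874 = n2874 := d3_2 F11439 D2874 (iv D2874)
theorem F12454 : act 6 n2874 = n2639 := d5_2 F11624 D2874 (iv F11619)
theorem F12455 : act 7 n2874 = n2622 := d6_2 (iv F11440) D2874 (iv D2622)
def n2875 : Q := act 8 n2620
theorem D2875 : act 8 n2620 = n2875 := rfl
theorem F12456 : act 1 n2875 = n2621 := d14_1 D2875 (iv D2621) D2620
theorem F12457 : act 2 n2875 = n2875 := d20_1 D2875 (iv D2875) F11438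
theorem F12458 : act 4 n2875 = n2875 := d29_1 D2875 (iv D2875) F11439
def n2876 : Q := act 7 n2623
theorem D2876 : act 7 n2623 = n2876 := rfl
theorem F12459 : act 0 n2876 = n2630 := d6_1 D2876 (iv D2630) (iv F11447)
theorem F12460 : act 3 n2876 = n2876 := d24_1 D2876 (iv D2876) F11448 F10444 (iv F11448)
theorem F12461 : act 6 n2876 = n2626 := d33_1 D2876 (iv D2626) (iv F11449)
theorem F12462 : act 8 n2876 = n2876 := d35_2 D2623 D2876 (iv D2876) (iv D2623) F10439
def n2877 : Q := act 8 n2624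
theorem D2877 : act 8 n2624 = n2877 := rfl
theorem F12463 : act 1 n2877 = n2625 := d14_1 D2877 (iv D2625) D2624
theorem F12464 : act 3 n2877 = n2627 := d25_1 D2877 (iv D2627) (iv F11450)
theorem F12465 : act 5 n2877 = n2877 := d32_1 D2877 (iv D2877) F11451
def n2878 : Q := act 7 n2625
theorem D2878 : act 7 n2625 = n2878 := rfl
theorem F12466 : act 0 n2878 = n2635 := d6_1 D2878 (iv D2635) (iv F11453)
theorem F12467 : act 2 n2878 = n2626 := d19_1 D2878 (iv D2626) (iv F11454)
theorem F12468 : act 5 n2878 = n2878 := d31_1 D2878 (iv D2878) F11456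
theorem F12469 : act 8 n2878 = n2878 := d35_2 D2625 D2878 (iv D2878) (iv D2625) F10448
def n2879 : Q := act 8 n2628
theorem D2879 : act 8 n2628 = n2879 := rfl
theorem F12470 : act 1 n2879 = n2879 := d14_1 D2879 (iv D2879) F11464
theorem F12471 : act 3 n2879 = n2638 := d25_1 D2879 (iv D2638) (iv F11465)
theorem F12472 : act 5 n2879 = n2629 := d32_1 D2879 (iv D2629) D2628
def n2880 : Q := act 7 n2629
theorem D2880 : act 7 n2629 = n2880 := rfl
theorem F12473 : act 1 n2880 = n2880 := d13_1 D2880 (iv D2880) F11467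
theorem F12474 : act 4 n2880 = n2630 := d28_1 D2880 (iv D2630) (iv F11469)
theorem F12475 : act 6 n2880 = n2637 := d33_1 D2880 (iv D2637) (iv F11470)
theorem F12476 : act 8 n2880 = n2880 := d35_2 D2629 D2880 (iv D2880) (iv D2629) F10461
def n2881 : Q := act 5 n2631
theorem D2881 : act 5 n2631 = n2881 := rfl
theorem F12477 : act 1 n2881 = n2633 := d11_1 D2881 (iv D2633) (iv F11475)
theorem F12478 : act 2 n2881 = n2881 := d17_1 D2881 (iv D2881) F11476
theorem F12479 : act 4 n2881 = n2881 := d26_1 D2881 (iv D2881) (iv D2631) F10467 D2631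
theorem F12480 : act 7 n2881 = n2881 := d31_2 F11477 D2881 (iv D2881)
def n2882 : Q := act 8 n2631
theorem D2882 : act 8 n2631 = n2882 := rfl
theorem F12481 : act 1 n2882 = n2634 := d14_1 D2882 (iv D2634) (iv F11475)
theorem F12482 : act 2 n2882 = n2882 := d20_1 D2882 (iv D2882) F11476
theorem F12483 : act 4 n2882 = n2632 := d29_1 D2882 (iv D2632) D2631
def n2883 : Q := act 7 n2632
theorem D2883 : act 7 n2632 = n2883 := rfl
theorem F12484 : act 1 n2883 = n2635 := d13_1 D2883 (iv D2635) (iv F11478)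
theorem F12485 : act 2 n2883 = n2883 := d19_1 D2883 (iv D2883) F11479
theorem F12486 : act 5 n2883 = n2883 := d31_1 D2883 (iv D2883) F11481
theorem F12487 : act 8 n2883 = n2883 := d35_2 D2632 D2883 (iv D2883) (iv D2632) F10468
def n2884 : Q := act 8 n2633
theorem D2884 : act 8 n2633 = n2884 := rfl
theorem F12488 : act 2 n2884 = n2636 := d20_1 D2884 (iv D2636) (iv F11482)
theorem F12489 : act 4 n2884 = n2884 := d29_1 D2884 (iv D2884) F11483
theorem F12490 : act 5 n2884 = n2634 := d32_1 D2884 (iv D2634) D2633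
def n2885 : Q := act 7 n2634
theorem D2885 : act 7 n2634 = n2885 := rfl
theorem F12491 : act 2 n2885 = n2637 := d19_1 D2885 (iv D2637) (iv F11485)
theorem F12492 : act 4 n2885 = n2635 := d28_1 D2885 (iv D2635) (iv F11486)
theorem F12493 : act 8 n2885 = n2885 := d35_2 D2634 D2885 (iv D2885) (iv D2634) F10470
def n2886 : Q := act 7 n2636
theorem D2886 : act 7 n2636 = n2886 := rfl
theorem F12494 : act 1 n2886 = n2886 := d13_1 D2886 (iv D2886) F11490
theorem F12495 : act 4 n2886 = n2886 := d28_1 D2886 (iv D2886) F11492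
theorem F12496 : act 5 n2886 = n2637 := d31_1 D2886 (iv D2637) (iv F11493)
theorem F12497 : act 8 n2886 = n2886 := d35_2 D2636 D2886 (iv D2886) (iv D2636) F10477
def n2887 : Q := act 8 n2639
theorem D2887 : act 8 n2639 = n2887 := rfl
theorem F12498 : act 2 n2887 = n2887 := d20_1 D2887 (iv D2887) F11500
theorem F12499 : act 4 n2887 = n2887 := d29_1 D2887 (iv D2887) F11501
theorem F12500 : act 5 n2887 = n2640 := d32_1 D2887 (iv D2640) D2639
def n2888 : Q := act 2 n2641
theorem D2888 : act 2 n2641 = n2888 := rfl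
theorem F12501 : act 0 n2888 = n2888 := d1_1 D2888 (iv D2888) F11505
theorem F12502 : act 1 n2888 = n2676 := d8_1 D2888 (iv D2676) F10676 (iv F10536) (iv F11506)
theorem F12503 : act 3 n2888 = n2888 := d15_2 D2641 D2888 (iv D2888) (iv D2641) F10525
theorem F12504 : act 5 n2888 = n2657 := d17_2 (iv F11507) D2888 (iv D2657)
theorem F12505 : act 6 n2888 = n2888 := d18_2 F11508 D2888 (iv D2888)
theorem F12506 : act 7 n2888 = n2888 := d19_2 F11509 D2888 (iv D2888)
theorem F12507 : act 4 n2724 = n2888 := d38_3 F10080 (iv F11119) (iv F11899) F12503 (iv D2888) F11506 F10538 F10537 (iv F11521) F11520 (iv D2455) (iv F10760) F10759 (iv D2250) (iv D2006) F8085 (iv D1658) F6775 F6279 F5443 D1178 (iv F6304) F6303 (iv F7042) F7041 F7040 (iv F6982) D1715 F7789 F7005 (iv D1526) F6193 (iv F5912) F5911 F5115 D1274 F5925 F5924 (iv F6706) F6705 (iv F6780) D1665 F7585 F6785 (iv F6515) F6514 (iv F7283) (iv F7955) (iv D1755) F7181 D1754 D1963 D2194 F9721 F9720 D2248 (iv F11009) F11008 F10379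 (iv F10446) (iv D2373) (iv F10077)
def n2889 : Q := act 4 n2641
theorem D2889 : act 4 n2641 = n2889 := rfl
theorem F12508 : act 0 n2889 = n2889 := d3_1 D2889 (iv D2889) F11505
theorem F12509 : act 1 n2889 = n2645 := d10_1 D2889 (iv D2645) (iv F11506)
theorem F12510 : act 2 n2889 = n2724 := d16_1 D2889 F12507 (iv D2888)
theorem F12511 : act 3 n2889 = n2889 := d21_1 D2889 (iv D2889) (iv D2641) F10526 D2641
theorem F12512 : act 5 n2889 = n2716 := d26_2 (iv F11507) D2889 (iv D2716) F10811 (iv F10593)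
theorem F12513 : act 6 n2889 = n2889 := d27_2 F11508 D2889 (iv D2889)
theorem F12514 : act 7 n2889 = n2889 := d28_2 F11509 D2889 (iv D2889)
def n2890 : Q := act 8 n2641
theorem D2890 : act 8 n2641 = n2890 := rfl
theorem F12515 : act 0 n2890 = n2890 := d7_1 D2890 (iv D2890) F11505
theorem F12516 : act 1 n2890 = n2646 := d14_1 D2890 (iv D2646) (iv F11506)
theorem F12517 : act 3 n2890 = n2642 := d25_1 D2890 (iv D2642) D2641
theorem F12518 : act 5 n2890 = n2658 := d32_1 D2890 (iv D2658) (iv F11507)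
theorem F12519 : act 6 n2890 = n2890 := d34_1 D2890 (iv D2890) F11508
def n2891 : Q := act 8 n2643
theorem D2891 : act 8 n2643 = n2891 := rfl
theorem F12520 : act 0 n2891 = n2651 := d7_1 D2891 (iv D2651) (iv F11517)
theorem F12521 : act 1 n2891 = n2658 := d14_1 D2891 (iv D2658) (iv F11518)
theorem F12522 : act 2 n2891 = n2686 := d20_1 D2891 (iv D2686) (iv F11519)
theorem F12523 : act 3 n2891 = n2644 := d25_1 D2891 (iv D2644) D2643
theorem F12524 : act 4 n2891 = n2712 := d29_1 D2891 (iv D2712) (iv F11520)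
theorem F12525 : act 5 n2891 = n2646 := d32_1 D2891 (iv D2646) (iv F11521)
theorem F12526 : act 6 n2891 = n2656 := d34_1 D2891 (iv D2656) (iv F11522)
def n2892 : Q := act 5 n2645
theorem D2892 : act 5 n2645 = n2892 := rfl
theorem F12527 : act 0 n2892 = n2652 := d4_1 D2892 (iv D2652) (iv F11531)
theorem F12528 : act 1 n2892 = n2716 := d11_1 D2892 (iv F12512) F12509
theorem F12529 : act 2 n2892 = n2687 := d17_1 D2892 (iv D2687) (iv F11532)
theorem F12530 : act 3 n2892 = n2892 := d22_1 D2892 (iv D2892) F11533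
theorem F12531 : act 4 n2892 = n2710 := d26_1 D2892 F11842 (iv F11520) F11521 D2645
theorem F12532 : act 7 n2892 = n2892 := d31_2 F11535 D2892 (iv D2892)
theorem F12533 : act 6 n2789 = n2892 := d38_1 F12173 (iv D2892) (iv D2645) (iv D2399) F9554 F8671 (iv D1937) F7854 D1936 D2161 F9559 F9569 F8694 D1947 F8719 F7893 F7138 F7137 F6450 (iv F6513) (iv D1410) F5727 D1409 D1591 F7287 (iv F7358) F7357 F8159 (iv D1802) F7342 (iv D1484) F6032 F5200 F4695 F4159 D889 F4191 F3552 F3551 F3550 (iv F4042) F4672 F4670 (iv F3982) (iv D689) F2615 (iv F3047) F3046 F3049 (iv F3081) (iv F3783) D957 D1133 D1311 (iv F6638) D1614 F7398 (iv F8205) (iv F9084) D2276 D2532 D2789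
def n2893 : Q := act 8 n2645
theorem D2893 : act 8 n2645 = n2893 := rfl
theorem F12534 : act 0 n2893 = n2653 := d7_1 D2893 (iv D2653) (iv F11531)
theorem F12535 : act 2 n2893 = n2688 := d20_1 D2893 (iv D2688) (iv F11532)
theorem F12536 : act 3 n2893 = n2893 := d25_1 D2893 (iv D2893) F11533
theorem F12537 : act 4 n2893 = n2646 := d29_1 D2893 (iv D2646) D2645
theorem F12538 : act 6 n2893 = n2893 := d34_1 D2893 (iv D2893) F11534
def n2894 : Q := act 7 n2646
theorem D2894 : act 7 n2646 = n2894 := rfl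
theorem F12539 : act 0 n2894 = n2654 := d6_1 D2894 (iv D2654) (iv F11536)
theorem F12540 : act 2 n2894 = n2689 := d19_1 D2894 (iv D2689) (iv F11537)
theorem F12541 : act 3 n2894 = n2894 := d24_1 D2894 (iv D2894) F11538 F10543 (iv F11538)
theorem F12542 : act 6 n2894 = n2894 := d33_1 D2894 (iv D2894) F11539
theorem F12543 : act 8 n2894 = n2894 := d35_2 D2646 D2894 (iv D2894) (iv D2646) F10538
def n2895 : Q := act 8 n2647
theorem D2895 : act 8 n2647 = n2895 := rfl
theorem F12544 : act 0 n2895 = n2656 := d7_1 D2895 (iv D2656) (iv F11540)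
theorem F12545 : act 1 n2895 = n2895 := d14_1 D2895 (iv D2895) F11541
theorem F12546 : act 2 n2895 = n2703 := d20_1 D2895 (iv D2703) (iv F11542)
theorem F12547 : act 3 n2895 = n2648 := d25_1 D2895 (iv D2648) D2647
theorem F12548 : act 4 n2895 = n2693 := d29_1 D2895 (iv D2693) (iv F11543)
theorem F12549 : act 5 n2895 = n2895 := d32_1 D2895 (iv D2895) F11544
theorem F12550 : act 6 n2895 = n2651 := d34_1 D2895 (iv D2651) (iv F11545)
def n2896 : Q := act 5 n2650
theorem D2896 : act 5 n2650 = n2896 := rfl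
theorem F12551 : act 0 n2896 = n2710 := d4_1 D2896 F11842 (iv F11562)
theorem F12552 : act 1 n2896 = n2896 := d11_1 D2896 (iv D2896) F11563
theorem F12553 : act 2 n2896 = n2704 := d17_1 D2896 (iv D2704) (iv F11564)
theorem F12554 : act 3 n2896 = n2690 := d22_1 D2896 F11769 (iv F11565)
theorem F12555 : act 4 n2896 = n2652 := d26_1 D2896 (iv D2652) (iv D2406) (iv F10564) D2650
theorem F12556 : act 6 n2896 = n2803 := d30_2 (iv F11566) D2896 F12237 F11251 (iv F10731)
theorem F12557 : act 7 n2896 = n2896 := d31_2 F11567 D2896 (iv D2896)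
def n2897 : Q := act 8 n2650
theorem D2897 : act 8 n2650 = n2897 := rfl
theorem F12558 : act 0 n2897 = n2712 := d7_1 D2897 (iv D2712) (iv F11562)
theorem F12559 : act 1 n2897 = n2897 := d14_1 D2897 (iv D2897) F11563
theorem F12560 : act 2 n2897 = n2705 := d20_1 D2897 (iv D2705) (iv F11564)
theorem F12561 : act 3 n2897 = n2691 := d25_1 D2897 (iv D2691) (iv F11565)
theorem F12562 : act 4 n2897 = n2651 := d29_1 D2897 (iv D2651) D2650
theorem F12563 : act 6 n2897 = n2693 := d34_1 D2897 (iv D2693) (iv F11566)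
def n2898 : Q := act 7 n2651
theorem D2898 : act 7 n2651 = n2898 := rfl
theorem F12564 : act 1 n2898 = n2898 := d13_1 D2898 (iv D2898) F11568
theorem F12565 : act 2 n2898 = n2706 := d19_1 D2898 (iv D2706) (iv F11569)
theorem F12566 : act 3 n2898 = n2898 := d24_1 D2898 (iv D2898) F11570 F10569 (iv F11570)
theorem F12567 : act 5 n2898 = n2654 := d31_1 D2898 (iv D2654) (iv F11571)
theorem F12568 : act 8 n2898 = n2898 := d35_2 D2651 D2898 (iv D2898) (iv D2651) F10565
def n2899 : Q := act 6 n2652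
theorem D2899 : act 6 n2652 = n2899 := rfl
theorem F12569 : act 0 n2899 = n2789 := d5_1 D2899 F12533 F12527
theorem F12570 : act 1 n2899 = n2899 := d12_1 D2899 (iv D2899) F11572
theorem F12571 : act 2 n2899 = n2707 := d18_1 D2899 (iv D2707) (iv F11573)
theorem F12572 : act 3 n2899 = n2899 := d23_1 D2899 (iv D2899) F11574
theorem F12573 : act 4 n2899 = n2803 := d27_1 D2899 (iv F12556) F12555
theorem F12574 : act 5 n2899 = n2899 := d30_1 D2899 (iv D2899) (iv D2652) F10573 D2652
theorem F12575 : act 7 n2899 = n2899 := d33_2 F11575 D2899 (iv D2899)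
def n2900 : Q := act 8 n2652
theorem D2900 : act 8 n2652 = n2900 := rfl
theorem F12576 : act 1 n2900 = n2900 := d14_1 D2900 (iv D2900) F11572
theorem F12577 : act 2 n2900 = n2708 := d20_1 D2900 (iv D2708) (iv F11573)
theorem F12578 : act 3 n2900 = n2900 := d25_1 D2900 (iv D2900) F11574
theorem F12579 : act 5 n2900 = n2653 := d32_1 D2900 (iv D2653) D2652
def n2901 : Q := act 7 n2653
theorem D2901 : act 7 n2653 = n2901 := rfl
theorem F12580 : act 1 n2901 = n2901 := d13_1 D2901 (iv D2901) F11576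
theorem F12581 : act 2 n2901 = n2709 := d19_1 D2901 (iv D2709) (iv F11577)
theorem F12582 : act 4 n2901 = n2654 := d28_1 D2901 (iv D2654) (iv F11579)
theorem F12583 : act 6 n2901 = n2901 := d33_1 D2901 (iv D2901) F11580
theorem F12584 : act 8 n2901 = n2901 := d35_2 D2653 D2901 (iv D2901) (iv D2653) F10574
def n2902 : Q := act 1 n2655
theorem D2902 : act 1 n2655 = n2902 := rfl
theorem F12585 : act 0 n2902 = n2744 := d0_1 D2902 F11996 F10978 (iv F10769) (iv F11586)
theorem F12586 : act 2 n2902 = n2659 := d8_2 D2655 D2902 (iv D2659) (iv D2413) (iv F10579)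
theorem F12587 : act 3 n2902 = n2673 := d9_2 (iv F11587) D2902 F11687
theorem F12588 : act 4 n2902 = n2713 := d10_2 (iv F11588) D2902 (iv D2713)
theorem F12589 : act 5 n2902 = n2902 := d11_2 F11589 D2902 (iv D2902)
theorem F12590 : act 6 n2902 = n2674 := d12_2 (iv F11590) D2902 F11692
theorem F12591 : act 7 n2902 = n2902 := d13_2 F11591 D2902 (iv D2902)
def n2903 : Q := act 8 n2655
theorem D2903 : act 8 n2655 = n2903 := rfl
theorem F12592 : act 0 n2903 = n2703 := d7_1 D2903 (iv D2703) (iv F11586)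
theorem F12593 : act 2 n2903 = n2656 := d20_1 D2903 (iv D2656) D2655
theorem F12594 : act 3 n2903 = n2684 := d25_1 D2903 (iv D2684) (iv F11587)
theorem F12595 : act 4 n2903 = n2714 := d29_1 D2903 (iv D2714) (iv F11588)
theorem F12596 : act 5 n2903 = n2903 := d32_1 D2903 (iv D2903) F11589
theorem F12597 : act 6 n2903 = n2686 := d34_1 D2903 (iv D2686) (iv F11590)
def n2904 : Q := act 7 n2656
theorem D2904 : act 7 n2656 = n2904 := rfl
theorem F12598 : act 1 n2904 = n2661 := d13_1 D2904 (iv D2661) (iv F11592)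
theorem F12599 : act 3 n2904 = n2904 := d24_1 D2904 (iv D2904) F11593 F10586 (iv F11593)
theorem F12600 : act 4 n2904 = n2715 := d28_1 D2904 (iv D2715) (iv F11594)
theorem F12601 : act 5 n2904 = n2904 := d31_1 D2904 (iv D2904) F11595
theorem F12602 : act 8 n2904 = n2904 := d35_2 D2656 D2904 (iv D2904) (iv D2656) F10582
def n2905 : Q := act 1 n2657
theorem D2905 : act 1 n2657 = n2905 := rfl
theorem F12603 : act 2 n2905 = n2674 := d8_2 D2657 D2905 F11692 (iv F11519) F11518
theorem F12604 : act 3 n2905 = n2905 := d9_2 F11597 D2905 (iv D2905)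
theorem F12605 : act 4 n2905 = n2718 := d10_2 (iv F11598) D2905 (iv D2718)
theorem F12606 : act 5 n2905 = n2676 := d11_2 F12504 D2905 (iv F12502)
theorem F12607 : act 6 n2905 = n2659 := d12_2 (iv F11599) D2905 (iv D2659)
theorem F12608 : act 7 n2905 = n2905 := d13_2 F11600 D2905 (iv D2905)
theorem F12609 : act 0 n2905 = n2727 := d37_6 D1947 F8718 (iv F9610) D2411 D2657 D2905 F11918 (iv D2727) (iv D2469) (iv D2215) F8861 F7999 F7220 (iv D1576) F6474 F6107 F5299 F4508 F3800 F3328 (iv F3462) F3461 F3460 F2784 (iv F3514) (iv F4145) (iv F4676) F4680 F4191 F3552 F3551 F3550 (iv F4042) F4041 (iv F4001) (iv F4705) (iv F5450) (iv F6287) (iv F7081) (iv F7794) (iv F8618) (iv F8624) F7793 (iv D1716) (iv F7463) F7462 F6691 F5915 D1451 F6711 (iv F6451) (iv F7137) F7136 (iv F7870) (iv F8670) (iv D1937) D1936 D2161 F9559 F9569 F8694 F7885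
def n2906 : Q := act 8 n2657
theorem D2906 : act 8 n2657 = n2906 := rfl
theorem F12610 : act 0 n2906 = n2906 := d7_1 D2906 (iv D2906) F11596
theorem F12611 : act 2 n2906 = n2658 := d20_1 D2906 (iv D2658) D2657
theorem F12612 : act 3 n2906 = n2906 := d25_1 D2906 (iv D2906) F11597
theorem F12613 : act 4 n2906 = n2719 := d29_1 D2906 (iv D2719) (iv F11598)
theorem F12614 : act 6 n2906 = n2660 := d34_1 D2906 (iv D2660) (iv F11599)
def n2907 : Q := act 7 n2658
theorem D2907 : act 7 n2658 = n2907 := rfl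
theorem F12615 : act 0 n2907 = n2907 := d6_1 D2907 (iv D2907) F11601
theorem F12616 : act 3 n2907 = n2907 := d24_1 D2907 (iv D2907) F11602 F10600 (iv F11602)
theorem F12617 : act 4 n2907 = n2720 := d28_1 D2907 (iv D2720) (iv F11603)
theorem F12618 : act 6 n2907 = n2661 := d33_1 D2907 (iv D2661) (iv F11604)
theorem F12619 : act 8 n2907 = n2907 := d35_2 D2658 D2907 (iv D2907) (iv D2658) F10595
def n2908 : Q := act 0 n2659
theorem D2908 : act 0 n2659 = n2908 := rfl
theorem F12620 : act 1 n2908 = n2908 := d0_2 D2659 D2908 (iv D2908) (iv D2659) F10601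
theorem F12621 : act 2 n2908 = n2744 := d1_2 F12586 D2908 (iv F12585)
theorem F12622 : act 3 n2908 = n2908 := d2_2 F11605 D2908 (iv D2908)
theorem F12623 : act 4 n2908 = n2721 := d3_2 (iv F11606) D2908 (iv D2721)
theorem F12624 : act 5 n2908 = n2908 := d4_2 F11607 D2908 (iv D2908)
theorem F12625 : act 6 n2908 = n2727 := d5_2 F12607 D2908 (iv F12609)
theorem F12626 : act 7 n2908 = n2908 := d6_2 F11608 D2908 (iv D2908)
def n2909 : Q := act 8 n2659
theorem D2909 : act 8 n2659 = n2909 := rfl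
theorem F12627 : act 1 n2909 = n2660 := d14_1 D2909 (iv D2660) D2659
theorem F12628 : act 3 n2909 = n2909 := d25_1 D2909 (iv D2909) F11605
theorem F12629 : act 4 n2909 = n2722 := d29_1 D2909 (iv D2722) (iv F11606)
theorem F12630 : act 5 n2909 = n2909 := d32_1 D2909 (iv D2909) F11607
def n2910 : Q := act 7 n2660
theorem D2910 : act 7 n2660 = n2910 := rfl
theorem F12631 : act 0 n2910 = n2910 := d6_1 D2910 (iv D2910) F11609
theorem F12632 : act 2 n2910 = n2661 := d19_1 D2910 (iv D2661) (iv F11610)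
theorem F12633 : act 4 n2910 = n2723 := d28_1 D2910 (iv D2723) (iv F11612)
theorem F12634 : act 5 n2910 = n2910 := d31_1 D2910 (iv D2910) F11613
theorem F12635 : act 8 n2910 = n2910 := d35_2 D2660 D2910 (iv D2910) (iv D2660) F10605
def n2911 : Q := act 3 n2662
theorem D2911 : act 3 n2662 = n2911 := rfl
theorem F12636 : act 0 n2911 = n2858 := d2_1 D2911 F12420 (iv F11619)
theorem F12637 : act 1 n2911 = n2737 := d9_1 D2911 (iv D2737) (iv F11620)
theorem F12638 : act 5 n2911 = n2792 := d22_2 (iv F11623) D2911 (iv D2792)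
theorem F12639 : act 6 n2911 = n2855 := d23_2 (iv F11624) D2911 F12413
theorem F12640 : act 7 n2911 = n2663 := d24_2 D2662 D2911 (iv D2663) (iv D2416) D2415
def n2912 : Q := act 8 n2662
theorem D2912 : act 8 n2662 = n2912 := rfl
theorem F12641 : act 0 n2912 = n2887 := d7_1 D2912 (iv D2887) (iv F11619)
theorem F12642 : act 1 n2912 = n2738 := d14_1 D2912 (iv D2738) (iv F11620)
theorem F12643 : act 2 n2912 = n2912 := d20_1 D2912 (iv D2912) F11621
theorem F12644 : act 4 n2912 = n2912 := d29_1 D2912 (iv D2912) F11622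
theorem F12645 : act 5 n2912 = n2793 := d32_1 D2912 (iv D2793) (iv F11623)
theorem F12646 : act 6 n2912 = n2875 := d34_1 D2912 (iv D2875) (iv F11624)
theorem F12647 : act 7 n2912 = n2696 := d35_1 D2912 (iv D2696) (iv D2442) (iv F10616) D2662
def n2913 : Q := act 2 n2663
theorem D2913 : act 2 n2663 = n2913 := rfl
theorem F12648 : act 0 n2913 = n2867 := d1_1 D2913 F12436 (iv F11625)
theorem F12649 : act 1 n2913 = n2826 := d8_1 D2913 (iv D2826) F11274 (iv F10913) (iv F11626)
theorem F12650 : act 3 n2913 = n2668 := d15_2 D2663 D2913 (iv D2668) (iv D2420) (iv F10619)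
theorem F12651 : act 5 n2913 = n2796 := d17_2 (iv F11627) D2913 (iv D2796)
theorem F12652 : act 6 n2913 = n2828 := d18_2 (iv F11628) D2913 F12336
def n2914 : Q := act 4 n2663
theorem D2914 : act 4 n2663 = n2914 := rfl
theorem F12653 : act 0 n2914 = n2773 := d3_1 D2914 F12110 (iv F11625)
theorem F12654 : act 1 n2914 = n2739 := d10_1 D2914 (iv D2739) (iv F11626)
theorem F12655 : act 3 n2914 = n2665 := d21_1 D2914 (iv D2665) (iv D2417) (iv F10620) D2663
theorem F12656 : act 5 n2914 = n2757 := d26_2 (iv F11627) D2914 (iv D2757) F10973 (iv F11149)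
theorem F12657 : act 6 n2914 = n2865 := d27_2 (iv F11628) D2914 (iv D2865)
def n2915 : Q := act 8 n2663
theorem D2915 : act 8 n2663 = n2915 := rfl
theorem F12658 : act 0 n2915 = n2870 := d7_1 D2915 (iv D2870) (iv F11625)
theorem F12659 : act 1 n2915 = n2740 := d14_1 D2915 (iv D2740) (iv F11626)
theorem F12660 : act 3 n2915 = n2664 := d25_1 D2915 (iv D2664) D2663
theorem F12661 : act 5 n2915 = n2797 := d32_1 D2915 (iv D2797) (iv F11627)
theorem F12662 : act 6 n2915 = n2866 := d34_1 D2915 (iv D2866) (iv F11628)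
def n2916 : Q := act 8 n2665
theorem D2916 : act 8 n2665 = n2916 := rfl
theorem F12663 : act 0 n2916 = n2780 := d7_1 D2916 (iv D2780) (iv F11636)
theorem F12664 : act 1 n2916 = n2742 := d14_1 D2916 (iv D2742) (iv F11637)
theorem F12665 : act 2 n2916 = n2916 := d20_1 D2916 (iv D2916) F11638
theorem F12666 : act 4 n2916 = n2666 := d29_1 D2916 (iv D2666) D2665
theorem F12667 : act 5 n2916 = n2761 := d32_1 D2916 (iv D2761) (iv F11639)
theorem F12668 : act 6 n2916 = n2882 := d34_1 D2916 (iv D2882) (iv F11640)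
def n2917 : Q := act 7 n2666
theorem D2917 : act 7 n2666 = n2917 := rfl
theorem F12669 : act 0 n2917 = n2783 := d6_1 D2917 (iv D2783) (iv F11642)
theorem F12670 : act 1 n2917 = n2743 := d13_1 D2917 (iv D2743) (iv F11643)
theorem F12671 : act 2 n2917 = n2917 := d19_1 D2917 (iv D2917) F11644
theorem F12672 : act 3 n2917 = n2706 := d24_1 D2917 (iv D2706) F10781 (iv F10634) (iv F11645)
theorem F12673 : act 5 n2917 = n2667 := d31_1 D2917 (iv D2667) (iv F11646)
theorem F12674 : act 6 n2917 = n2883 := d33_1 D2917 (iv D2883) (iv F11647)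
theorem F12675 : act 8 n2917 = n2917 := d35_2 D2666 D2917 (iv D2917) (iv D2666) F10628
def n2918 : Q := act 8 n2668
theorem D2918 : act 8 n2668 = n2918 := rfl
theorem F12676 : act 0 n2918 = n2884 := d7_1 D2918 (iv D2884) (iv F11655)
theorem F12677 : act 1 n2918 = n2837 := d14_1 D2918 (iv D2837) (iv F11656)
theorem F12678 : act 2 n2918 = n2669 := d20_1 D2918 (iv D2669) D2668
theorem F12679 : act 4 n2918 = n2918 := d29_1 D2918 (iv D2918) F11657
theorem F12680 : act 5 n2918 = n2800 := d32_1 D2918 (iv D2800) (iv F11658)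
theorem F12681 : act 6 n2918 = n2840 := d34_1 D2918 (iv D2840) (iv F11659)
def n2919 : Q := act 7 n2669
theorem D2919 : act 7 n2669 = n2919 := rfl
theorem F12682 : act 0 n2919 = n2886 := d6_1 D2919 (iv D2886) (iv F11661)
theorem F12683 : act 1 n2919 = n2670 := d13_1 D2919 (iv D2670) (iv F11662)
theorem F12684 : act 3 n2919 = n2715 := d24_1 D2919 (iv D2715) F10807 (iv F10652) (iv F11663)
theorem F12685 : act 4 n2919 = n2919 := d28_1 D2919 (iv D2919) F11664
theorem F12686 : act 5 n2919 = n2801 := d31_1 D2919 (iv D2801) (iv F11665)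
theorem F12687 : act 6 n2919 = n2843 := d33_1 D2919 (iv D2843) (iv F11666)
theorem F12688 : act 8 n2919 = n2919 := d35_2 D2669 D2919 (iv D2919) (iv D2669) F10646
def n2920 : Q := act 7 n2671
theorem D2920 : act 7 n2671 = n2920 := rfl
theorem F12689 : act 0 n2920 = n2748 := d6_1 D2920 (iv D2748) (iv F11674)
theorem F12690 : act 1 n2920 = n2681 := d13_1 D2920 (iv D2681) (iv F11675)
theorem F12691 : act 2 n2920 = n2920 := d19_1 D2920 (iv D2920) F11676
theorem F12692 : act 4 n2920 = n2673 := d28_1 D2920 (iv D2673) (iv F11678)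
theorem F12693 : act 5 n2920 = n2874 := d31_1 D2920 F12455 (iv F11679)
theorem F12694 : act 6 n2920 = n2672 := d33_1 D2920 (iv D2672) D2671
def n2921 : Q := act 3 n2672
theorem D2921 : act 3 n2672 = n2921 := rfl
theorem F12695 : act 0 n2921 = n2749 := d2_1 D2921 (iv D2749) (iv F11681)
theorem F12696 : act 1 n2921 = n2682 := d9_1 D2921 (iv D2682) (iv F11682)
theorem F12697 : act 5 n2921 = n2806 := d22_2 (iv F11685) D2921 (iv D2806)
theorem F12698 : act 7 n2921 = n2861 := d24_2 D2672 D2921 F12425 F11412 F10664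
def n2922 : Q := act 8 n2672
theorem D2922 : act 8 n2672 = n2922 := rfl
theorem F12699 : act 0 n2922 = n2750 := d7_1 D2922 (iv D2750) (iv F11681)
theorem F12700 : act 1 n2922 = n2683 := d14_1 D2922 (iv D2683) (iv F11682)
theorem F12701 : act 2 n2922 = n2922 := d20_1 D2922 (iv D2922) F11683
theorem F12702 : act 4 n2922 = n2675 := d29_1 D2922 (iv D2675) (iv F11684)
theorem F12703 : act 5 n2922 = n2807 := d32_1 D2922 (iv D2807) (iv F11685)
theorem F12704 : act 7 n2922 = n2835 := d35_1 D2922 (iv D2835) F11295 (iv F10663) D2672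
def n2923 : Q := act 8 n2673
theorem D2923 : act 8 n2673 = n2923 := rfl
theorem F12705 : act 0 n2923 = n2751 := d7_1 D2923 (iv D2751) (iv F11686)
theorem F12706 : act 1 n2923 = n2684 := d14_1 D2923 (iv D2684) (iv F11687)
theorem F12707 : act 2 n2923 = n2923 := d20_1 D2923 (iv D2923) F11688
theorem F12708 : act 5 n2923 = n2923 := d32_1 D2923 (iv D2923) F11689
theorem F12709 : act 6 n2923 = n2675 := d34_1 D2923 (iv D2675) (iv F11690)
theorem F12710 : act 7 n2923 = n2836 := d35_1 D2923 (iv D2836) F11303 (iv F10670) D2673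
def n2924 : Q := act 4 n2674
theorem D2924 : act 4 n2674 = n2924 := rfl
theorem F12711 : act 0 n2924 = n2741 := d3_1 D2924 F11986 (iv F11691)
theorem F12712 : act 1 n2924 = n2685 := d10_1 D2924 (iv D2685) (iv F11692)
theorem F12713 : act 2 n2924 = n2718 := d16_1 D2924 (iv F12605) F12603
theorem F12714 : act 5 n2924 = n2734 := d26_2 (iv F11693) D2924 (iv D2734) F10890 (iv F10677)
theorem F12715 : act 6 n2924 = n2713 := d27_2 F12590 D2924 (iv F12588)
theorem F12716 : act 7 n2924 = n2924 := d28_2 F11694 D2924 (iv D2924)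
def n2925 : Q := act 8 n2674
theorem D2925 : act 8 n2674 = n2925 := rfl
theorem F12717 : act 0 n2925 = n2745 := d7_1 D2925 (iv D2745) (iv F11691)
theorem F12718 : act 1 n2925 = n2686 := d14_1 D2925 (iv D2686) (iv F11692)
theorem F12719 : act 3 n2925 = n2675 := d25_1 D2925 (iv D2675) D2674
theorem F12720 : act 5 n2925 = n2677 := d32_1 D2925 (iv D2677) (iv F11693)
def n2926 : Q := act 8 n2676
theorem D2926 : act 8 n2676 = n2926 := rfl
theorem F12721 : act 0 n2926 = n2728 := d7_1 D2926 (iv D2728) (iv F11700)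
theorem F12722 : act 2 n2926 = n2677 := d20_1 D2926 (iv D2677) D2676
theorem F12723 : act 3 n2926 = n2926 := d25_1 D2926 (iv D2926) F11701
theorem F12724 : act 4 n2926 = n2726 := d29_1 D2926 (iv D2726) (iv F11702)
theorem F12725 : act 6 n2926 = n2926 := d34_1 D2926 (iv D2926) F11703
def n2927 : Q := act 7 n2677
theorem D2927 : act 7 n2677 = n2927 := rfl
theorem F12726 : act 0 n2927 = n2746 := d6_1 D2927 (iv D2746) (iv F11705)
theorem F12727 : act 1 n2927 = n2689 := d13_1 D2927 (iv D2689) (iv F11706)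
theorem F12728 : act 3 n2927 = n2709 := d24_1 D2927 (iv D2709) F10787 (iv F10685) (iv F11707)
theorem F12729 : act 4 n2927 = n2736 := d28_1 D2927 (iv D2736) (iv F11708)
theorem F12730 : act 6 n2927 = n2927 := d33_1 D2927 (iv D2927) F11709
theorem F12731 : act 8 n2927 = n2927 := d35_2 D2677 D2927 (iv D2927) (iv D2677) F10679
def n2928 : Q := act 7 n2678
theorem D2928 : act 7 n2678 = n2928 := rfl
theorem F12732 : act 0 n2928 = n2694 := d6_1 D2928 (iv D2694) (iv F11710)
theorem F12733 : act 1 n2928 = n2784 := d13_1 D2928 F12148 (iv F11711)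
theorem F12734 : act 2 n2928 = n2928 := d19_1 D2928 (iv D2928) F11712
theorem F12735 : act 4 n2928 = n2928 := d28_1 D2928 (iv D2928) F11714
theorem F12736 : act 5 n2928 = n2834 := d31_1 D2928 F12352 (iv F11715)
theorem F12737 : act 6 n2928 = n2679 := d33_1 D2928 (iv D2679) D2678
def n2929 : Q := act 3 n2679
theorem D2929 : act 3 n2679 = n2929 := rfl
theorem F12738 : act 0 n2929 = n2695 := d2_1 D2929 (iv D2695) (iv F11717)
theorem F12739 : act 1 n2929 = n2861 := d9_1 D2929 F12425 (iv F11718)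
theorem F12740 : act 5 n2929 = n2808 := d22_2 (iv F11721) D2929 (iv D2808)
theorem F12741 : act 7 n2929 = n2682 := d24_2 D2679 D2929 (iv D2682) (iv D2430) D2428
def n2930 : Q := act 8 n2679
theorem D2930 : act 8 n2679 = n2930 := rfl
theorem F12742 : act 0 n2930 = n2696 := d7_1 D2930 (iv D2696) (iv F11717)
theorem F12743 : act 1 n2930 = n2872 := d14_1 D2930 (iv D2872) (iv F11718)
theorem F12744 : act 2 n2930 = n2930 := d20_1 D2930 (iv D2930) F11719
theorem F12745 : act 4 n2930 = n2930 := d29_1 D2930 (iv D2930) F11720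
theorem F12746 : act 5 n2930 = n2809 := d32_1 D2930 (iv D2809) (iv F11721)
theorem F12747 : act 7 n2930 = n2887 := d35_1 D2930 (iv D2887) F11502 (iv F10691) D2679
def n2931 : Q := act 7 n2680
theorem D2931 : act 7 n2680 = n2931 := rfl
theorem F12748 : act 0 n2931 = n2697 := d6_1 D2931 (iv D2697) (iv F11722)
theorem F12749 : act 1 n2931 = n2874 := d13_1 D2931 F12455 (iv F11723)
theorem F12750 : act 2 n2931 = n2690 := d19_1 D2931 (iv D2690) (iv F11724)
theorem F12751 : act 4 n2931 = n2931 := d28_1 D2931 (iv D2931) F11726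
theorem F12752 : act 5 n2931 = n2681 := d31_1 D2931 (iv D2681) D2680
theorem F12753 : act 6 n2931 = n2810 := d33_1 D2931 (iv D2810) (iv F11727)
def n2932 : Q := act 3 n2681
theorem D2932 : act 3 n2681 = n2932 := rfl
theorem F12754 : act 0 n2932 = n2698 := d2_1 D2932 (iv D2698) (iv F11729)
theorem F12755 : act 2 n2932 = n2701 := d15_1 D2932 F11813 (iv F11564) F11565 (iv F11730)
theorem F12756 : act 4 n2932 = n2700 := d21_2 (iv F11731) D2932 F11810 (iv F11588) F11587
theorem F12757 : act 6 n2932 = n2682 := d23_2 (iv F11732) D2932 (iv D2682)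
def n2933 : Q := act 8 n2681
theorem D2933 : act 8 n2681 = n2933 := rfl
theorem F12758 : act 0 n2933 = n2699 := d7_1 D2933 (iv D2699) (iv F11729)
theorem F12759 : act 2 n2933 = n2691 := d20_1 D2933 (iv D2691) (iv F11730)
theorem F12760 : act 4 n2933 = n2684 := d29_1 D2933 (iv D2684) (iv F11731)
theorem F12761 : act 6 n2933 = n2683 := d34_1 D2933 (iv D2683) (iv F11732)
theorem F12762 : act 7 n2933 = n2873 := d35_1 D2933 (iv D2873) F11419 (iv F10695) D2681
def n2934 : Q := act 2 n2682
theorem D2934 : act 2 n2682 = n2934 := rfl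
theorem F12763 : act 0 n2934 = n2700 := d1_1 D2934 (iv D2700) (iv F11733)
theorem F12764 : act 3 n2934 = n2692 := d15_2 D2682 D2934 (iv D2692) (iv D2438) (iv F10697)
theorem F12765 : act 5 n2934 = n2813 := d17_2 (iv F11734) D2934 (iv D2813)
theorem F12766 : act 6 n2934 = n2701 := d18_2 F12757 D2934 (iv F12755)
theorem F12767 : act 1 n2768 = n2934 := d36_6 (iv F8089) D2008 D2253 F9979 D2512 (iv F12098) (iv D2934) (iv D2682) D2683 F11739 (iv F12442) F12443 F11409 F10394 (iv F10249) F10250 (iv F10289) (iv D2323) F9238 (iv D2067) (iv F8820) F8819 (iv F8699) F8698 F7891 F7892 D1763 (iv F8763) F8760 F8761 F7930 (iv F8209) F8207 F7649 (iv F7564) (iv D1657) (iv D1465) (iv D1281) D1282 F5959 (iv F6032) F6031 (iv F6817) F6818 F6012 F5213 (iv F5331) F5332 (iv F4965) F4964 (iv D1064) (iv D900) (iv D754) F2928 (iv D610) F2348 (iv F2331) (iv F2890) F2889 F2887 F2888 (iv F2982) (iv D622) F2395 (iv D495) F1926 F1925 F1567 F1566 F1342 F1343 D336 D420 D532 F2569 D536 F2587 (iv F3016) (iv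 F3710) D935 F4406 D942 F4432 (iv F4545) (iv F5343) D1330 (iv F6937) D1704 F7726
theorem F12768 : act 4 n2934 = n2698 := d10_2 D2768 F12767 F11803
def n2935 : Q := act 4 n2682
theorem D2935 : act 4 n2682 = n2935 := rfl
theorem F12769 : act 0 n2935 = n2701 := d3_1 D2935 (iv D2701) (iv F11733)
theorem F12770 : act 2 n2935 = n2698 := d16_1 D2935 (iv F12768) (iv D2934)
theorem F12771 : act 3 n2935 = n2685 := d21_1 D2935 (iv D2685) (iv D2432) (iv F10698) D2682
theorem F12772 : act 6 n2935 = n2700 := d27_2 F12757 D2935 (iv F12756)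
def n2936 : Q := act 8 n2682
theorem D2936 : act 8 n2682 = n2936 := rfl
theorem F12773 : act 0 n2936 = n2702 := d7_1 D2936 (iv D2702) (iv F11733)
theorem F12774 : act 3 n2936 = n2683 := d25_1 D2936 (iv D2683) D2682
theorem F12775 : act 5 n2936 = n2815 := d32_1 D2936 (iv D2815) (iv F11734)
def n2937 : Q := act 5 n2685
theorem D2937 : act 5 n2685 = n2937 := rfl
theorem F12776 : act 0 n2937 = n2704 := d4_1 D2937 (iv D2704) (iv F11745)
theorem F12777 : act 1 n2937 = n2734 := d11_1 D2937 (iv F12714) F12712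
theorem F12778 : act 2 n2937 = n2710 := d17_1 D2937 F11842 (iv F11746)
theorem F12779 : act 4 n2937 = n2687 := d26_1 D2937 (iv D2687) (iv D2434) (iv F10705) D2685
theorem F12780 : act 6 n2937 = n2799 := d30_2 (iv F11747) D2937 F12221 F11311 (iv F10804)
theorem F12781 : act 7 n2937 = n2937 := d31_2 F11748 D2937 (iv D2937)
def n2938 : Q := act 8 n2685
theorem D2938 : act 8 n2685 = n2938 := rfl
theorem F12782 : act 0 n2938 = n2705 := d7_1 D2938 (iv D2705) (iv F11745)
theorem F12783 : act 2 n2938 = n2712 := d20_1 D2938 (iv D2712) (iv F11746)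
theorem F12784 : act 4 n2938 = n2686 := d29_1 D2938 (iv D2686) D2685
theorem F12785 : act 6 n2938 = n2714 := d34_1 D2938 (iv D2714) (iv F11747)
def n2939 : Q := act 7 n2686
theorem D2939 : act 7 n2686 = n2939 := rfl
theorem F12786 : act 0 n2939 = n2706 := d6_1 D2939 (iv D2706) (iv F11749)
theorem F12787 : act 3 n2939 = n2783 := d24_1 D2939 (iv D2783) F11059 (iv F10710) (iv F11750)
theorem F12788 : act 5 n2939 = n2689 := d31_1 D2939 (iv D2689) (iv F11751)
theorem F12789 : act 8 n2939 = n2939 := d35_2 D2686 D2939 (iv D2939) (iv D2686) F10706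
def n2940 : Q := act 8 n2687
theorem D2940 : act 8 n2687 = n2940 := rfl
theorem F12790 : act 0 n2940 = n2708 := d7_1 D2940 (iv D2708) (iv F11752)
theorem F12791 : act 1 n2940 = n2735 := d14_1 D2940 (iv D2735) (iv F11753)
theorem F12792 : act 3 n2940 = n2731 := d25_1 D2940 (iv D2731) (iv F11754)
theorem F12793 : act 5 n2940 = n2688 := d32_1 D2940 (iv D2688) D2687
theorem F12794 : act 6 n2940 = n2877 := d34_1 D2940 (iv D2877) F11756
def n2941 : Q := act 7 n2688
theorem D2941 : act 7 n2688 = n2941 := rfl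
theorem F12795 : act 0 n2941 = n2709 := d6_1 D2941 (iv D2709) (iv F11757)
theorem F12796 : act 1 n2941 = n2736 := d13_1 D2941 (iv D2736) (iv F11758)
theorem F12797 : act 3 n2941 = n2746 := d24_1 D2941 (iv D2746) F10932 (iv F10882) (iv F11759)
theorem F12798 : act 4 n2941 = n2689 := d28_1 D2941 (iv D2689) (iv F11760)
theorem F12799 : act 6 n2941 = n2941 := d33_1 D2941 (iv D2941) F11761
theorem F12800 : act 8 n2941 = n2941 := d35_2 D2688 D2941 (iv D2941) (iv D2688) F10715
def n2942 : Q := act 8 n2690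
theorem D2942 : act 8 n2690 = n2942 := rfl
theorem F12801 : act 0 n2942 = n2711 := d7_1 D2942 (iv D2711) (iv F11766)
theorem F12802 : act 1 n2942 = n2942 := d14_1 D2942 (iv D2942) F11767
theorem F12803 : act 4 n2942 = n2942 := d29_1 D2942 (iv D2942) F11768
theorem F12804 : act 5 n2942 = n2691 := d32_1 D2942 (iv D2691) (iv F11769)
theorem F12805 : act 6 n2942 = n2817 := d34_1 D2942 (iv D2817) (iv F11770)
theorem F12806 : act 7 n2942 = n2787 := d35_1 D2942 (iv D2787) F11101 (iv F10724) D2690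
def n2943 : Q := act 8 n2692
theorem D2943 : act 8 n2692 = n2943 := rfl
theorem F12807 : act 0 n2943 = n2714 := d7_1 D2943 (iv D2714) (iv F11776)
theorem F12808 : act 1 n2943 = n2777 := d14_1 D2943 (iv D2777) F11781
theorem F12809 : act 2 n2943 = n2693 := d20_1 D2943 (iv D2693) D2692
theorem F12810 : act 4 n2943 = n2703 := d29_1 D2943 (iv D2703) (iv F11777)
theorem F12811 : act 5 n2943 = n2820 := d32_1 D2943 (iv D2820) (iv F11778)
theorem F12812 : act 6 n2943 = n2705 := d34_1 D2943 (iv D2705) (iv F11779)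
def n2944 : Q := act 7 n2693
theorem D2944 : act 7 n2693 = n2944 := rfl
theorem F12813 : act 0 n2944 = n2715 := d6_1 D2944 (iv D2715) (iv F11782)
theorem F12814 : act 1 n2944 = n2944 := d13_1 D2944 (iv D2944) F11783
theorem F12815 : act 3 n2944 = n2886 := d24_1 D2944 (iv D2886) F11491 (iv F10737) (iv F11784)
theorem F12816 : act 5 n2944 = n2821 := d31_1 D2944 (iv D2821) (iv F11785)
theorem F12817 : act 8 n2944 = n2944 := d35_2 D2693 D2944 (iv D2944) (iv D2693) F10732
def n2945 : Q := act 3 n2694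
theorem D2945 : act 3 n2694 = n2945 := rfl
theorem F12818 : act 1 n2945 = n2756 := d9_1 D2945 F12052 (iv F11786)
theorem F12819 : act 5 n2945 = n2851 := d22_2 (iv F11789) D2945 F12405
theorem F12820 : act 6 n2945 = n2695 := d23_2 (iv F11790) D2945 (iv D2695)
theorem F12821 : act 7 n2945 = n2698 := d24_2 D2694 D2945 (iv D2698) (iv D2444) (iv F10745)
def n2946 : Q := act 8 n2694
theorem D2946 : act 8 n2694 = n2946 := rfl
theorem F12822 : act 1 n2946 = n2763 := d14_1 D2946 (iv D2763) (iv F11786)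
theorem F12823 : act 2 n2946 = n2946 := d20_1 D2946 (iv D2946) F11787
theorem F12824 : act 4 n2946 = n2946 := d29_1 D2946 (iv D2946) F11788
theorem F12825 : act 5 n2946 = n2854 := d32_1 D2946 (iv D2854) (iv F11789)
theorem F12826 : act 6 n2946 = n2696 := d34_1 D2946 (iv D2696) (iv F11790)
theorem F12827 : act 7 n2946 = n2875 := d35_1 D2946 (iv D2875) F11440 (iv F10747) D2694
def n2947 : Q := act 2 n2695
theorem D2947 : act 2 n2695 = n2947 := rfl
theorem F12828 : act 3 n2947 = n2947 := d15_2 D2695 D2947 (iv D2947) (iv D2695) F10750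
theorem F12829 : act 5 n2947 = n2822 := d17_2 (iv F11792) D2947 (iv D2822)
theorem F12830 : act 7 n2947 = n2700 := d19_2 (iv F11793) D2947 (iv D2700)
def n2948 : Q := act 4 n2695
theorem D2948 : act 4 n2695 = n2948 := rfl
theorem F12831 : act 1 n2948 = n2764 := d10_1 D2948 (iv D2764) (iv F11791)
theorem F12832 : act 3 n2948 = n2948 := d21_1 D2948 (iv D2948) (iv D2695) F10751 D2695
theorem F12833 : act 7 n2948 = n2701 := d28_2 (iv F11793) D2948 (iv D2701)
def n2949 : Q := act 8 n2695
theorem D2949 : act 8 n2695 = n2949 := rfl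
theorem F12834 : act 1 n2949 = n2765 := d14_1 D2949 (iv D2765) (iv F11791)
theorem F12835 : act 3 n2949 = n2696 := d25_1 D2949 (iv D2696) D2695
theorem F12836 : act 5 n2949 = n2823 := d32_1 D2949 (iv D2823) (iv F11792)
def n2950 : Q := act 3 n2697
theorem D2950 : act 3 n2697 = n2950 := rfl
theorem F12837 : act 1 n2950 = n2766 := d9_1 D2950 (iv D2766) (iv F11798)
theorem F12838 : act 5 n2950 = n2698 := d22_2 (iv F11801) D2950 (iv D2698)
theorem F12839 : act 6 n2950 = n2824 := d23_2 (iv F11802) D2950 (iv D2824)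
theorem F12840 : act 7 n2950 = n2851 := d24_2 D2697 D2950 F12405 F11389 (iv F10755)
def n2951 : Q := act 8 n2697
theorem D2951 : act 8 n2697 = n2951 := rfl
theorem F12841 : act 1 n2951 = n2767 := d14_1 D2951 (iv D2767) (iv F11798)
theorem F12842 : act 2 n2951 = n2711 := d20_1 D2951 (iv D2711) (iv F11799)
theorem F12843 : act 4 n2951 = n2951 := d29_1 D2951 (iv D2951) F11800
theorem F12844 : act 5 n2951 = n2699 := d32_1 D2951 (iv D2699) (iv F11801)
theorem F12845 : act 6 n2951 = n2825 := d34_1 D2951 (iv D2825) (iv F11802)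
theorem F12846 : act 7 n2951 = n2785 := d35_1 D2951 (iv D2785) F11082 (iv F10758) D2697
def n2952 : Q := act 8 n2698
theorem D2952 : act 8 n2698 = n2952 := rfl
theorem F12847 : act 1 n2952 = n2769 := d14_1 D2952 (iv D2769) (iv F11803)
theorem F12848 : act 3 n2952 = n2699 := d25_1 D2952 (iv D2699) D2698
theorem F12849 : act 6 n2952 = n2702 := d34_1 D2952 (iv D2702) (iv F11804)
def n2953 : Q := act 1 n2700
theorem D2953 : act 1 n2700 = n2953 := rfl
theorem F12850 : act 2 n2953 = n2770 := d8_2 D2700 D2953 (iv D2770) (iv D2509) (iv F10763)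
theorem F12851 : act 3 n2953 = n2713 := d9_2 (iv F11810) D2953 (iv D2713)
theorem F12852 : act 5 n2953 = n2828 := d11_2 (iv F11811) D2953 (iv D2828)
def n2954 : Q := act 8 n2700
theorem D2954 : act 8 n2700 = n2954 := rfl
theorem F12853 : act 2 n2954 = n2702 := d20_1 D2954 (iv D2702) D2700
theorem F12854 : act 3 n2954 = n2714 := d25_1 D2954 (iv D2714) (iv F11810)
theorem F12855 : act 5 n2954 = n2830 := d32_1 D2954 (iv D2830) (iv F11811)
def n2955 : Q := act 5 n2701
theorem D2955 : act 5 n2701 = n2955 := rfl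
theorem F12856 : act 1 n2955 = n2773 := d11_1 D2955 (iv D2773) (iv F11812)
theorem F12857 : act 3 n2955 = n2704 := d22_1 D2955 (iv D2704) (iv F11813)
theorem F12858 : act 4 n2955 = n2831 := d26_1 D2955 (iv D2831) (iv D2568) (iv F10764) D2701
def n2956 : Q := act 8 n2701
theorem D2956 : act 8 n2701 = n2956 := rfl
theorem F12859 : act 1 n2956 = n2774 := d14_1 D2956 (iv D2774) (iv F11812)
theorem F12860 : act 3 n2956 = n2705 := d25_1 D2956 (iv D2705) (iv F11813)
theorem F12861 : act 4 n2956 = n2702 := d29_1 D2956 (iv D2702) D2701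
def n2957 : Q := act 7 n2702
theorem D2957 : act 7 n2702 = n2957 := rfl
theorem F12862 : act 1 n2957 = n2775 := d13_1 D2957 (iv D2775) (iv F11814)
theorem F12863 : act 5 n2957 = n2833 := d31_1 D2957 (iv D2833) (iv F11816)
def n2958 : Q := act 7 n2703
theorem D2958 : act 7 n2703 = n2958 := rfl
theorem F12864 : act 1 n2958 = n2778 := d13_1 D2958 (iv D2778) (iv F11817)
theorem F12865 : act 3 n2958 = n2883 := d24_1 D2958 (iv D2883) F11480 (iv F10777) (iv F11818)
theorem F12866 : act 5 n2958 = n2958 := d31_1 D2958 (iv D2958) F11819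
theorem F12867 : act 6 n2958 = n2706 := d33_1 D2958 (iv D2706) (iv F11820)
theorem F12868 : act 8 n2958 = n2958 := d35_2 D2703 D2958 (iv D2958) (iv D2703) F10772
def n2959 : Q := act 6 n2704
theorem D2959 : act 6 n2704 = n2959 := rfl
theorem F12869 : act 0 n2959 = n2799 := d5_1 D2959 (iv F12780) F12776
theorem F12870 : act 1 n2959 = n2779 := d12_1 D2959 (iv D2779) (iv F11821)
theorem F12871 : act 2 n2959 = n2803 := d18_1 D2959 (iv F12556) F12553
theorem F12872 : act 4 n2959 = n2707 := d27_1 D2959 (iv D2707) (iv F11822)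
theorem F12873 : act 5 n2959 = n2818 := d30_1 D2959 F12306 (iv F11778) F11779 D2704
theorem F12874 : act 7 n2959 = n2959 := d33_2 F11823 D2959 (iv D2959)
def n2960 : Q := act 8 n2704
theorem D2960 : act 8 n2704 = n2960 := rfl
theorem F12875 : act 1 n2960 = n2780 := d14_1 D2960 (iv D2780) (iv F11821)
theorem F12876 : act 4 n2960 = n2708 := d29_1 D2960 (iv D2708) (iv F11822)
theorem F12877 : act 5 n2960 = n2705 := d32_1 D2960 (iv D2705) D2704
def n2961 : Q := act 7 n2705
theorem D2961 : act 7 n2705 = n2961 := rfl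
theorem F12878 : act 1 n2961 = n2781 := d13_1 D2961 (iv D2781) (iv F11824)
theorem F12879 : act 4 n2961 = n2706 := d28_1 D2961 (iv D2706) (iv F11825)
theorem F12880 : act 8 n2961 = n2961 := d35_2 D2705 D2961 (iv D2961) (iv D2705) F10779
def n2962 : Q := act 8 n2707
theorem D2962 : act 8 n2707 = n2962 := rfl
theorem F12881 : act 0 n2962 = n2877 := d7_1 D2962 (iv D2877) (iv F11829)
theorem F12882 : act 1 n2962 = n2782 := d14_1 D2962 (iv D2782) (iv F11830)
theorem F12883 : act 3 n2962 = n2836 := d25_1 D2962 (iv D2836) (iv F11831)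
theorem F12884 : act 5 n2962 = n2962 := d32_1 D2962 (iv D2962) F11832
theorem F12885 : act 6 n2962 = n2708 := d34_1 D2962 (iv D2708) D2707
def n2963 : Q := act 7 n2708
theorem D2963 : act 7 n2708 = n2963 := rfl
theorem F12886 : act 1 n2963 = n2783 := d13_1 D2963 (iv D2783) (iv F11834)
theorem F12887 : act 5 n2963 = n2709 := d31_1 D2963 (iv D2709) (iv F11836)
theorem F12888 : act 8 n2963 = n2963 := d35_2 D2708 D2963 (iv D2963) (iv D2708) F10785
def n2964 : Q := act 8 n2710
theorem D2964 : act 8 n2710 = n2964 := rfl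
theorem F12889 : act 1 n2964 = n2717 := d14_1 D2964 (iv D2717) (iv F11841)
theorem F12890 : act 3 n2964 = n2711 := d25_1 D2964 (iv D2711) D2710
theorem F12891 : act 5 n2964 = n2712 := d32_1 D2964 (iv D2712) (iv F11842)
theorem F12892 : act 6 n2964 = n2804 := d34_1 D2964 (iv D2804) (iv F11843)
def n2965 : Q := act 7 n2712
theorem D2965 : act 7 n2712 = n2965 := rfl
theorem F12893 : act 1 n2965 = n2720 := d13_1 D2965 (iv D2720) (iv F11850)
theorem F12894 : act 3 n2965 = n2843 := d24_1 D2965 (iv D2843) F11335 (iv F10803) (iv F11851)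
theorem F12895 : act 6 n2965 = n2715 := d33_1 D2965 (iv D2715) (iv F11852)
theorem F12896 : act 8 n2965 = n2965 := d35_2 D2712 D2965 (iv D2965) (iv D2712) F10799
def n2966 : Q := act 0 n2713
theorem D2966 : act 0 n2713 = n2966 := rfl
theorem F12897 : act 1 n2966 = n2759 := d0_2 D2713 D2966 F12061 F11781 F11776
theorem F12898 : act 2 n2966 = n2721 := d1_2 (iv F11853) D2966 (iv D2721)
theorem F12899 : act 4 n2966 = n2744 := d3_2 F12588 D2966 (iv F12585)
theorem F12900 : act 5 n2966 = n2839 := d4_2 (iv F11854) D2966 (iv D2839)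
theorem F12901 : act 6 n2966 = n2741 := d5_2 F12715 D2966 (iv F12711)
theorem F12902 : act 7 n2966 = n2966 := d6_2 F11855 D2966 (iv D2966)
def n2967 : Q := act 8 n2713
theorem D2967 : act 8 n2713 = n2967 := rfl
theorem F12903 : act 1 n2967 = n2714 := d14_1 D2967 (iv D2714) D2713
theorem F12904 : act 2 n2967 = n2722 := d20_1 D2967 (iv D2722) (iv F11853)
theorem F12905 : act 5 n2967 = n2840 := d32_1 D2967 (iv D2840) (iv F11854)
def n2968 : Q := act 7 n2714
theorem D2968 : act 7 n2714 = n2968 := rfl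
theorem F12906 : act 2 n2968 = n2715 := d19_1 D2968 (iv D2715) (iv F11856)
theorem F12907 : act 5 n2968 = n2841 := d31_1 D2968 (iv D2841) (iv F11857)
theorem F12908 : act 8 n2968 = n2968 := d35_2 D2714 D2968 (iv D2968) (iv D2714) F10805
def n2969 : Q := act 8 n2716
theorem D2969 : act 8 n2716 = n2969 := rfl
theorem F12909 : act 0 n2969 = n2969 := d7_1 D2969 (iv D2969) F11861
theorem F12910 : act 2 n2969 = n2788 := d20_1 D2969 (iv D2788) (iv F11862)
theorem F12911 : act 3 n2969 = n2969 := d25_1 D2969 (iv D2969) F11863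
theorem F12912 : act 4 n2969 = n2717 := d29_1 D2969 (iv D2717) D2716
theorem F12913 : act 6 n2969 = n2790 := d34_1 D2969 (iv D2790) (iv F11864)
def n2970 : Q := act 7 n2717
theorem D2970 : act 7 n2717 = n2970 := rfl
theorem F12914 : act 0 n2970 = n2970 := d6_1 D2970 (iv D2970) F11866
theorem F12915 : act 2 n2970 = n2802 := d19_1 D2970 (iv D2802) (iv F11867)
theorem F12916 : act 3 n2970 = n2723 := d24_1 D2970 (iv D2723) F10833 (iv F10819) (iv F11868)
theorem F12917 : act 5 n2970 = n2720 := d31_1 D2970 (iv D2720) (iv F11869)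
theorem F12918 : act 6 n2970 = n2805 := d33_1 D2970 (iv D2805) (iv F11870)
theorem F12919 : act 8 n2970 = n2970 := d35_2 D2717 D2970 (iv D2970) (iv D2717) F10813
def n2971 : Q := act 8 n2718
theorem D2971 : act 8 n2718 = n2971 := rfl
theorem F12920 : act 0 n2971 = n2879 := d7_1 D2971 (iv D2879) F11875
theorem F12921 : act 1 n2971 = n2719 := d14_1 D2971 (iv D2719) D2718
theorem F12922 : act 3 n2971 = n2786 := d25_1 D2971 (iv D2786) (iv F11871)
theorem F12923 : act 5 n2971 = n2798 := d32_1 D2971 (iv D2798) (iv F11872)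
theorem F12924 : act 6 n2971 = n2722 := d34_1 D2971 (iv D2722) (iv F11873)
def n2972 : Q := act 7 n2719
theorem D2972 : act 7 n2719 = n2972 := rfl
theorem F12925 : act 0 n2972 = n2972 := d6_1 D2972 (iv D2972) F11876
theorem F12926 : act 2 n2972 = n2720 := d19_1 D2972 (iv D2720) (iv F11877)
theorem F12927 : act 3 n2972 = n2805 := d24_1 D2972 (iv D2805) F11187 (iv F11096) (iv F11878)
theorem F12928 : act 5 n2972 = n2802 := d31_1 D2972 (iv D2802) (iv F11879)
theorem F12929 : act 6 n2972 = n2723 := d33_1 D2972 (iv D2723) (iv F11880)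
theorem F12930 : act 8 n2972 = n2972 := d35_2 D2719 D2972 (iv D2972) (iv D2719) F10824
def n2973 : Q := act 8 n2721
theorem D2973 : act 8 n2721 = n2973 := rfl
theorem F12931 : act 0 n2973 = n2722 := d7_1 D2973 (iv D2722) D2721
theorem F12932 : act 1 n2973 = n2973 := d14_1 D2973 (iv D2973) F11885
theorem F12933 : act 3 n2973 = n2787 := d25_1 D2973 (iv D2787) (iv F11886)
theorem F12934 : act 5 n2973 = n2842 := d32_1 D2973 (iv D2842) (iv F11887)
theorem F12935 : act 6 n2973 = n2879 := d34_1 D2973 (iv D2879) (iv F11888)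
def n2974 : Q := act 7 n2722
theorem D2974 : act 7 n2722 = n2974 := rfl
theorem F12936 : act 1 n2974 = n2723 := d13_1 D2974 (iv D2723) (iv F11890)
theorem F12937 : act 5 n2974 = n2843 := d31_1 D2974 (iv D2843) (iv F11892)
theorem F12938 : act 8 n2974 = n2974 := d35_2 D2722 D2974 (iv D2974) (iv D2722) F10830
def n2975 : Q := act 8 n2724
theorem D2975 : act 8 n2724 = n2975 := rfl
theorem F12939 : act 0 n2975 = n2975 := d7_1 D2975 (iv D2975) F11897
theorem F12940 : act 1 n2975 = n2726 := d14_1 D2975 (iv D2726) (iv F11898)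
theorem F12941 : act 3 n2975 = n2725 := d25_1 D2975 (iv D2725) D2724
theorem F12942 : act 5 n2975 = n2788 := d32_1 D2975 (iv D2788) (iv F11899)
theorem F12943 : act 6 n2975 = n2975 := d34_1 D2975 (iv D2975) F11900
def n2976 : Q := act 7 n2726
theorem D2976 : act 7 n2726 = n2976 := rfl
theorem F12944 : act 0 n2976 = n2729 := d6_1 D2976 (iv D2729) (iv F11909)
theorem F12945 : act 2 n2976 = n2736 := d19_1 D2976 (iv D2736) (iv F11910)
theorem F12946 : act 3 n2976 = n2976 := d24_1 D2976 (iv D2976) F11911 F10854 (iv F11911)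
theorem F12947 : act 5 n2976 = n2876 := d31_1 D2976 (iv D2876) (iv F11912)
theorem F12948 : act 6 n2976 = n2976 := d33_1 D2976 (iv D2976) F11913
theorem F12949 : act 8 n2976 = n2976 := d35_2 D2726 D2976 (iv D2976) (iv D2726) F10848
def n2977 : Q := act 8 n2727
theorem D2977 : act 8 n2727 = n2977 := rfl
theorem F12950 : act 1 n2977 = n2977 := d14_1 D2977 (iv D2977) F11914
theorem F12951 : act 2 n2977 = n2745 := d20_1 D2977 (iv D2745) (iv F11915)
theorem F12952 : act 3 n2977 = n2977 := d25_1 D2977 (iv D2977) F11916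
theorem F12953 : act 4 n2977 = n2879 := d29_1 D2977 (iv D2879) (iv F11917)
theorem F12954 : act 5 n2977 = n2728 := d32_1 D2977 (iv D2728) D2727
def n2978 : Q := act 7 n2728
theorem D2978 : act 7 n2728 = n2978 := rfl
theorem F12955 : act 1 n2978 = n2978 := d13_1 D2978 (iv D2978) F11919
theorem F12956 : act 2 n2978 = n2746 := d19_1 D2978 (iv D2746) (iv F11920)
theorem F12957 : act 4 n2978 = n2729 := d28_1 D2978 (iv D2729) (iv F11922)
theorem F12958 : act 6 n2978 = n2978 := d33_1 D2978 (iv D2978) F11923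
theorem F12959 : act 8 n2978 = n2978 := d35_2 D2728 D2978 (iv D2978) (iv D2728) F10859
def n2979 : Q := act 3 n2730
theorem D2979 : act 3 n2730 = n2979 := rfl
theorem F12960 : act 0 n2979 = n2831 := d2_1 D2979 F12343 (iv F11930)
theorem F12961 : act 1 n2979 = n2732 := d9_1 D2979 (iv D2732) (iv F11931)
theorem F12962 : act 5 n2979 = n2814 := d22_2 (iv F11934) D2979 F12288
theorem F12963 : act 6 n2979 = n2851 := d23_2 (iv F11935) D2979 F12405
theorem F12964 : act 7 n2979 = n2824 := d24_2 D2730 D2979 (iv D2824) (iv D2564) (iv F10871)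
def n2980 : Q := act 8 n2730
theorem D2980 : act 8 n2730 = n2980 := rfl
theorem F12965 : act 0 n2980 = n2835 := d7_1 D2980 (iv D2835) (iv F11930)
theorem F12966 : act 1 n2980 = n2733 := d14_1 D2980 (iv D2733) (iv F11931)
theorem F12967 : act 2 n2980 = n2980 := d20_1 D2980 (iv D2980) F11932
theorem F12968 : act 4 n2980 = n2731 := d29_1 D2980 (iv D2731) (iv F11933)
theorem F12969 : act 5 n2980 = n2816 := d32_1 D2980 (iv D2816) (iv F11934)
theorem F12970 : act 6 n2980 = n2854 := d34_1 D2980 (iv D2854) (iv F11935)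
theorem F12971 : act 7 n2980 = n2750 := d35_1 D2980 (iv D2750) (iv D2489) (iv F10870) D2730
def n2981 : Q := act 4 n2732
theorem D2981 : act 4 n2732 = n2981 := rfl
theorem F12972 : act 0 n2981 = n2739 := d3_1 D2981 (iv D2739) (iv F11942)
theorem F12973 : act 2 n2981 = n2794 := d16_1 D2981 F12198 (iv F11943)
theorem F12974 : act 3 n2981 = n2734 := d21_1 D2981 (iv D2734) (iv D2475) (iv F10885) D2732
theorem F12975 : act 6 n2981 = n2796 := d27_2 (iv F11945) D2981 F12209
theorem F12976 : act 7 n2981 = n2847 := d28_2 (iv F11946) D2981 (iv D2847)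
def n2982 : Q := act 8 n2732
theorem D2982 : act 8 n2732 = n2982 := rfl
theorem F12977 : act 0 n2982 = n2740 := d7_1 D2982 (iv D2740) (iv F11942)
theorem F12978 : act 2 n2982 = n2845 := d20_1 D2982 (iv D2845) (iv F11943)
theorem F12979 : act 3 n2982 = n2733 := d25_1 D2982 (iv D2733) D2732
theorem F12980 : act 5 n2982 = n2844 := d32_1 D2982 (iv D2844) (iv F11944)
theorem F12981 : act 6 n2982 = n2852 := d34_1 D2982 (iv D2852) (iv F11945)
def n2983 : Q := act 8 n2734
theorem D2983 : act 8 n2734 = n2983 := rfl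
theorem F12982 : act 0 n2983 = n2742 := d7_1 D2983 (iv D2742) (iv F11953)
theorem F12983 : act 2 n2983 = n2798 := d20_1 D2983 (iv D2798) (iv F11954)
theorem F12984 : act 4 n2983 = n2735 := d29_1 D2983 (iv D2735) D2734
theorem F12985 : act 6 n2983 = n2800 := d34_1 D2983 (iv D2800) (iv F11955)
def n2984 : Q := act 7 n2735
theorem D2984 : act 7 n2735 = n2984 := rfl
theorem F12986 : act 0 n2984 = n2743 := d6_1 D2984 (iv D2743) (iv F11957)
theorem F12987 : act 2 n2984 = n2876 := d19_1 D2984 (iv D2876) (iv F11958)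
theorem F12988 : act 3 n2984 = n2762 := d24_1 D2984 (iv D2762) F10993 (iv F10897) (iv F11959)
theorem F12989 : act 5 n2984 = n2736 := d31_1 D2984 (iv D2736) (iv F11960)
theorem F12990 : act 6 n2984 = n2878 := d33_1 D2984 (iv D2878) (iv F11961)
theorem F12991 : act 8 n2984 = n2984 := d35_2 D2735 D2984 (iv D2984) (iv D2735) F10892
def n2985 : Q := act 4 n2737
theorem D2985 : act 4 n2737 = n2985 := rfl
theorem F12992 : act 0 n2985 = n2847 := d3_1 D2985 (iv D2847) (iv F11966)
theorem F12993 : act 2 n2985 = n2806 := d16_1 D2985 F12248 (iv F11967)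
theorem F12994 : act 3 n2985 = n2985 := d21_1 D2985 (iv D2985) (iv D2737) F10910 D2737
theorem F12995 : act 6 n2985 = n2856 := d27_2 (iv F11969) D2985 (iv D2856)
theorem F12996 : act 7 n2985 = n2739 := d28_2 (iv F11970) D2985 (iv D2739)
def n2986 : Q := act 8 n2737
theorem D2986 : act 8 n2737 = n2986 := rfl
theorem F12997 : act 0 n2986 = n2848 := d7_1 D2986 (iv D2848) (iv F11966)
theorem F12998 : act 2 n2986 = n2844 := d20_1 D2986 (iv D2844) (iv F11967)
theorem F12999 : act 3 n2986 = n2738 := d25_1 D2986 (iv D2738) D2737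
theorem F13000 : act 5 n2986 = n2845 := d32_1 D2986 (iv D2845) (iv F11968)
theorem F13001 : act 6 n2986 = n2857 := d34_1 D2986 (iv D2857) (iv F11969)
def n2987 : Q := act 5 n2739
theorem D2987 : act 5 n2739 = n2987 := rfl
theorem F13002 : act 1 n2987 = n2757 := d11_1 D2987 (iv F12656) F12654
theorem F13003 : act 2 n2987 = n2861 := d17_1 D2987 (iv D2861) (iv F11977)
theorem F13004 : act 3 n2987 = n2741 := d22_1 D2987 (iv D2741) (iv F11978)
theorem F13005 : act 4 n2987 = n2749 := d26_1 D2987 F12019 (iv D2592) (iv F10914) D2739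
def n2988 : Q := act 8 n2739
theorem D2988 : act 8 n2739 = n2988 := rfl
theorem F13006 : act 2 n2988 = n2862 := d20_1 D2988 (iv D2862) (iv F11977)
theorem F13007 : act 3 n2988 = n2742 := d25_1 D2988 (iv D2742) (iv F11978)
theorem F13008 : act 4 n2988 = n2740 := d29_1 D2988 (iv D2740) D2739
theorem F13009 : act 6 n2988 = n2868 := d34_1 D2988 (iv D2868) (iv F11979)
def n2989 : Q := act 7 n2740
theorem D2989 : act 7 n2740 = n2989 := rfl
theorem F13010 : act 2 n2989 = n2863 := d19_1 D2989 (iv D2863) (iv F11980)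
theorem F13011 : act 3 n2989 = n2775 := d24_1 D2989 (iv D2775) F11036 (iv F10920) (iv F11981)
theorem F13012 : act 5 n2989 = n2850 := d31_1 D2989 (iv D2850) (iv F11982)
theorem F13013 : act 6 n2989 = n2869 := d33_1 D2989 (iv D2869) (iv F11983)
def n2990 : Q := act 8 n2741
theorem D2990 : act 8 n2741 = n2990 := rfl
theorem F13014 : act 1 n2990 = n2761 := d14_1 D2990 (iv D2761) (iv F11984)
theorem F13015 : act 2 n2990 = n2879 := d20_1 D2990 (iv D2879) (iv F11985)
theorem F13016 : act 4 n2990 = n2745 := d29_1 D2990 (iv D2745) (iv F11986)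
theorem F13017 : act 5 n2990 = n2742 := d32_1 D2990 (iv D2742) D2741
def n2991 : Q := act 7 n2742
theorem D2991 : act 7 n2742 = n2991 := rfl
theorem F13018 : act 2 n2991 = n2880 := d19_1 D2991 (iv D2880) (iv F11988)
theorem F13019 : act 4 n2991 = n2743 := d28_1 D2991 (iv D2743) (iv F11989)
theorem F13020 : act 6 n2991 = n2885 := d33_1 D2991 (iv D2885) (iv F11990)
theorem F13021 : act 8 n2991 = n2991 := d35_2 D2742 D2991 (iv D2991) (iv D2742) F10923
def n2992 : Q := act 8 n2744
theorem D2992 : act 8 n2744 = n2992 := rfl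
theorem F13022 : act 1 n2992 = n2760 := d14_1 D2992 (iv D2760) (iv F11996)
theorem F13023 : act 3 n2992 = n2751 := d25_1 D2992 (iv D2751) (iv F11997)
theorem F13024 : act 5 n2992 = n2992 := d32_1 D2992 (iv D2992) F11998
theorem F13025 : act 6 n2992 = n2745 := d34_1 D2992 (iv D2745) D2744
def n2993 : Q := act 7 n2745
theorem D2993 : act 7 n2745 = n2993 := rfl
theorem F13026 : act 1 n2993 = n2762 := d13_1 D2993 (iv D2762) (iv F12000)
theorem F13027 : act 5 n2993 = n2746 := d31_1 D2993 (iv D2746) (iv F12002)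
theorem F13028 : act 8 n2993 = n2993 := d35_2 D2745 D2993 (iv D2993) (iv D2745) F10930
def n2994 : Q := act 3 n2747
theorem D2994 : act 3 n2747 = n2994 := rfl
theorem F13029 : act 0 n2994 = n2861 := d2_1 D2994 F12425 (iv F12007)
theorem F13030 : act 1 n2994 = n2752 := d9_1 D2994 (iv D2752) (iv F12008)
theorem F13031 : act 5 n2994 = n2794 := d22_2 (iv F12011) D2994 (iv D2794)
theorem F13032 : act 6 n2994 = n2770 := d23_2 (iv F12012) D2994 F12102
theorem F13033 : act 7 n2994 = n2749 := d24_2 D2747 D2994 (iv D2749) (iv D2489) D2487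
def n2995 : Q := act 8 n2747
theorem D2995 : act 8 n2747 = n2995 := rfl
theorem F13034 : act 0 n2995 = n2872 := d7_1 D2995 (iv D2872) (iv F12007)
theorem F13035 : act 1 n2995 = n2753 := d14_1 D2995 (iv D2753) (iv F12008)
theorem F13036 : act 2 n2995 = n2786 := d20_1 D2995 (iv D2786) (iv F12009)
theorem F13037 : act 4 n2995 = n2995 := d29_1 D2995 (iv D2995) F12010
theorem F13038 : act 5 n2995 = n2795 := d32_1 D2995 (iv D2795) (iv F12011)
theorem F13039 : act 6 n2995 = n2785 := d34_1 D2995 (iv D2785) (iv F12012)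
theorem F13040 : act 7 n2995 = n2825 := d35_1 D2995 (iv D2825) (iv D2564) (iv F10942) D2747
def n2996 : Q := act 3 n2748
theorem D2996 : act 3 n2748 = n2996 := rfl
theorem F13041 : act 1 n2996 = n2754 := d9_1 D2996 (iv D2754) (iv F12013)
theorem F13042 : act 5 n2996 = n2855 := d22_2 (iv F12016) D2996 F12413
theorem F13043 : act 6 n2996 = n2749 := d23_2 (iv F12017) D2996 (iv D2749)
theorem F13044 : act 7 n2996 = n2770 := d24_2 D2748 D2996 F12102 F11082 (iv F10947)
def n2997 : Q := act 8 n2748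
theorem D2997 : act 8 n2748 = n2997 := rfl
theorem F13045 : act 1 n2997 = n2755 := d14_1 D2997 (iv D2755) (iv F12013)
theorem F13046 : act 2 n2997 = n2997 := d20_1 D2997 (iv D2997) F12014
theorem F13047 : act 4 n2997 = n2751 := d29_1 D2997 (iv D2751) (iv F12015)
theorem F13048 : act 5 n2997 = n2875 := d32_1 D2997 (iv D2875) (iv F12016)
theorem F13049 : act 6 n2997 = n2750 := d34_1 D2997 (iv D2750) (iv F12017)
theorem F13050 : act 7 n2997 = n2854 := d35_1 D2997 (iv D2854) F11389 (iv F10950) D2748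
def n2998 : Q := act 2 n2749
theorem D2998 : act 2 n2749 = n2998 := rfl
theorem F13051 : act 3 n2998 = n2998 := d15_2 D2749 D2998 (iv D2998) (iv D2749) F10952
theorem F13052 : act 4 n2998 = n2861 := d16_2 F13005 D2998 (iv F13003)
theorem F13053 : act 5 n2998 = n2847 := d17_2 (iv F12019) D2998 F12396
def n2999 : Q := act 8 n2749
theorem D2999 : act 8 n2749 = n2999 := rfl
theorem F13054 : act 1 n2999 = n2758 := d14_1 D2999 (iv D2758) (iv F12018)
theorem F13055 : act 3 n2999 = n2750 := d25_1 D2999 (iv D2750) D2749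
theorem F13056 : act 5 n2999 = n2849 := d32_1 D2999 (iv D2849) (iv F12019)
def n3000 : Q := act 4 n2752
theorem D3000 : act 4 n2752 = n3000 := rfl
theorem F13057 : act 0 n3000 = n2764 := d3_1 D3000 (iv D2764) (iv F12029)
theorem F13058 : act 2 n3000 = n2768 := d16_1 D3000 (iv D2768) (iv F12030)
theorem F13059 : act 3 n3000 = n3000 := d21_1 D3000 (iv D3000) (iv D2752) F10964 D2752
theorem F13060 : act 6 n3000 = n2771 := d27_2 (iv F12032) D3000 (iv D2771)
theorem F13061 : act 7 n3000 = n2757 := d28_2 (iv F12033) D3000 (iv D2757)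
def n3001 : Q := act 8 n2752
theorem D3001 : act 8 n2752 = n3001 := rfl
theorem F13062 : act 0 n3001 = n2765 := d7_1 D3001 (iv D2765) (iv F12029)
theorem F13063 : act 2 n3001 = n2769 := d20_1 D3001 (iv D2769) (iv F12030)
theorem F13064 : act 3 n3001 = n2753 := d25_1 D3001 (iv D2753) D2752
theorem F13065 : act 5 n3001 = n2846 := d32_1 D3001 (iv D2846) (iv F12031)
theorem F13066 : act 6 n3001 = n2772 := d34_1 D3001 (iv D2772) (iv F12032)
def n3002 : Q := act 4 n2754
theorem D3002 : act 4 n2754 = n3002 := rfl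
theorem F13067 : act 0 n3002 = n2768 := d3_1 D3002 (iv D2768) (iv F12040)
theorem F13068 : act 2 n3002 = n2764 := d16_1 D3002 (iv D2764) (iv F12041)
theorem F13069 : act 3 n3002 = n2759 := d21_1 D3002 (iv D2759) (iv D2496) (iv F10969) D2754
theorem F13070 : act 6 n3002 = n2757 := d27_2 (iv F12043) D3002 (iv D2757)
theorem F13071 : act 7 n3002 = n2771 := d28_2 (iv F12044) D3002 (iv D2771)
def n3003 : Q := act 8 n2754
theorem D3003 : act 8 n2754 = n3003 := rfl
theorem F13072 : act 0 n3003 = n2769 := d7_1 D3003 (iv D2769) (iv F12040)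
theorem F13073 : act 2 n3003 = n2765 := d20_1 D3003 (iv D2765) (iv F12041)
theorem F13074 : act 3 n3003 = n2755 := d25_1 D3003 (iv D2755) D2754
theorem F13075 : act 5 n3003 = n2857 := d32_1 D3003 (iv D2857) (iv F12042)
theorem F13076 : act 6 n3003 = n2758 := d34_1 D3003 (iv D2758) (iv F12043)
def n3004 : Q := act 4 n2756
theorem D3004 : act 4 n2756 = n3004 := rfl
theorem F13077 : act 0 n3004 = n2771 := d3_1 D3004 (iv D2771) (iv F12051)
theorem F13078 : act 2 n3004 = n2757 := d16_1 D3004 (iv D2757) D2756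
theorem F13079 : act 3 n3004 = n3004 := d21_1 D3004 (iv D3004) F12052 F11007 (iv F12052)
theorem F13080 : act 6 n3004 = n2764 := d27_2 (iv F12054) D3004 (iv D2764)
theorem F13081 : act 7 n3004 = n2768 := d28_2 (iv F12055) D3004 (iv D2768)
def n3005 : Q := act 8 n2756
theorem D3005 : act 8 n2756 = n3005 := rfl
theorem F13082 : act 0 n3005 = n2772 := d7_1 D3005 (iv D2772) (iv F12051)
theorem F13083 : act 2 n3005 = n2758 := d20_1 D3005 (iv D2758) D2756
theorem F13084 : act 3 n3005 = n2763 := d25_1 D3005 (iv D2763) (iv F12052)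
theorem F13085 : act 5 n3005 = n2852 := d32_1 D3005 (iv D2852) (iv F12053)
theorem F13086 : act 6 n3005 = n2765 := d34_1 D3005 (iv D2765) (iv F12054)
def n3006 : Q := act 8 n2757
theorem D3006 : act 8 n2757 = n3006 := rfl
theorem F13087 : act 0 n3006 = n2774 := d7_1 D3006 (iv D2774) (iv F12056)
theorem F13088 : act 3 n3006 = n2761 := d25_1 D3006 (iv D2761) (iv F12057)
theorem F13089 : act 4 n3006 = n2758 := d29_1 D3006 (iv D2758) D2757
def n3007 : Q := act 7 n2758
theorem D3007 : act 7 n2758 = n3007 := rfl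
theorem F13090 : act 0 n3007 = n2775 := d6_1 D3007 (iv D2775) (iv F12058)
theorem F13091 : act 5 n3007 = n2853 := d31_1 D3007 (iv D2853) (iv F12060)
def n3008 : Q := act 5 n2759
theorem D3008 : act 5 n2759 = n3008 := rfl
theorem F13092 : act 0 n3008 = n2776 := d4_1 D3008 (iv D2776) (iv F12061)
theorem F13093 : act 1 n3008 = n2839 := d11_1 D3008 (iv F12900) F12897
theorem F13094 : act 2 n3008 = n3008 := d17_1 D3008 (iv D3008) F12062
theorem F13095 : act 4 n3008 = n3008 := d26_1 D3008 (iv D3008) (iv D2759) F10980 D2759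
theorem F13096 : act 6 n3008 = n2881 := d30_2 (iv F12063) D3008 (iv D2881) (iv F11640) F11639
theorem F13097 : act 7 n3008 = n3008 := d31_2 F12064 D3008 (iv D3008)
def n3009 : Q := act 8 n2759
theorem D3009 : act 8 n2759 = n3009 := rfl
theorem F13098 : act 0 n3009 = n2777 := d7_1 D3009 (iv D2777) (iv F12061)
theorem F13099 : act 2 n3009 = n3009 := d20_1 D3009 (iv D3009) F12062
theorem F13100 : act 4 n3009 = n2760 := d29_1 D3009 (iv D2760) D2759
theorem F13101 : act 6 n3009 = n2761 := d34_1 D3009 (iv D2761) (iv F12063)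
def n3010 : Q := act 7 n2760
theorem D3010 : act 7 n2760 = n3010 := rfl
theorem F13102 : act 0 n3010 = n2778 := d6_1 D3010 (iv D2778) (iv F12065)
theorem F13103 : act 2 n3010 = n3010 := d19_1 D3010 (iv D3010) F12066
theorem F13104 : act 3 n3010 = n2878 := d24_1 D3010 (iv D2878) F11455 (iv F10987) (iv F12067)
theorem F13105 : act 5 n3010 = n3010 := d31_1 D3010 (iv D3010) F12068
theorem F13106 : act 6 n3010 = n2762 := d33_1 D3010 (iv D2762) (iv F12069)
theorem F13107 : act 8 n3010 = n3010 := d35_2 D2760 D3010 (iv D3010) (iv D2760) F10982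
def n3011 : Q := act 7 n2761
theorem D3011 : act 7 n2761 = n3011 := rfl
theorem F13108 : act 0 n3011 = n2781 := d6_1 D3011 (iv D2781) (iv F12070)
theorem F13109 : act 2 n3011 = n3011 := d19_1 D3011 (iv D3011) F12071
theorem F13110 : act 4 n3011 = n2762 := d28_1 D3011 (iv D2762) (iv F12072)
theorem F13111 : act 8 n3011 = n3011 := d35_2 D2761 D3011 (iv D3011) (iv D2761) F10990
def n3012 : Q := act 5 n2764
theorem D3012 : act 5 n2764 = n3012 := rfl
theorem F13112 : act 3 n3012 = n3012 := d22_1 D3012 (iv D3012) F12083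
theorem F13113 : act 4 n3012 = n2858 := d26_1 D3012 (iv D2858) (iv D2602) (iv F11018) D2764
theorem F13114 : act 7 n3012 = n2773 := d31_2 (iv F12084) D3012 (iv D2773)
def n3013 : Q := act 8 n2764
theorem D3013 : act 8 n2764 = n3013 := rfl
theorem F13115 : act 3 n3013 = n3013 := d25_1 D3013 (iv D3013) F12083
theorem F13116 : act 4 n3013 = n2765 := d29_1 D3013 (iv D2765) D2764
def n3014 : Q := act 7 n2765
theorem D3014 : act 7 n2765 = n3014 := rfl
theorem F13117 : act 5 n3014 = n2860 := d31_1 D3014 (iv D2860) (iv F12086)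
theorem F13118 : act 8 n3014 = n2775 := d35_2 D2765 D3014 (iv D2775) (iv D2511) (iv F11019)
def n3015 : Q := act 4 n2766
theorem D3015 : act 4 n2766 = n3015 := rfl
theorem F13119 : act 0 n3015 = n2856 := d3_1 D3015 (iv D2856) (iv F12087)
theorem F13120 : act 2 n3015 = n2792 := d16_1 D3015 F12187 (iv F12088)
theorem F13121 : act 3 n3015 = n3015 := d21_1 D3015 (iv D3015) (iv D2766) F11025 D2766
theorem F13122 : act 6 n3015 = n2847 := d27_2 (iv F12090) D3015 (iv D2847)
theorem F13123 : act 7 n3015 = n2796 := d28_2 (iv F12091) D3015 F12209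
def n3016 : Q := act 8 n2766
theorem D3016 : act 8 n2766 = n3016 := rfl
theorem F13124 : act 0 n3016 = n2857 := d7_1 D3016 (iv D2857) (iv F12087)
theorem F13125 : act 2 n3016 = n2846 := d20_1 D3016 (iv D2846) (iv F12088)
theorem F13126 : act 3 n3016 = n2767 := d25_1 D3016 (iv D2767) D2766
theorem F13127 : act 5 n3016 = n2769 := d32_1 D3016 (iv D2769) (iv F12089)
theorem F13128 : act 6 n3016 = n2848 := d34_1 D3016 (iv D2848) (iv F12090)
def n3017 : Q := act 5 n2768
theorem D3017 : act 5 n2768 = n3017 := rfl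
theorem F13129 : act 1 n3017 = n2813 := d11_1 D3017 (iv F12765) (iv F12767)
theorem F13130 : act 3 n3017 = n2776 := d22_1 D3017 (iv D2776) (iv F12098)
def n3018 : Q := act 8 n2768
theorem D3018 : act 8 n2768 = n3018 := rfl
theorem F13131 : act 3 n3018 = n2777 := d25_1 D3018 (iv D2777) (iv F12098)
theorem F13132 : act 4 n3018 = n2769 := d29_1 D3018 (iv D2769) D2768
theorem F13133 : act 6 n3018 = n2774 := d34_1 D3018 (iv D2774) (iv F12099)
def n3019 : Q := act 7 n2769
theorem D3019 : act 7 n2769 = n3019 := rfl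
theorem F13134 : act 3 n3019 = n2869 := d24_1 D3019 (iv D2869) F11406 (iv F11032) (iv F12100)
theorem F13135 : act 6 n3019 = n2775 := d33_1 D3019 (iv D2775) (iv F12101)
def n3020 : Q := act 0 n2770
theorem D3020 : act 0 n2770 = n3020 := rfl
theorem F13136 : act 3 n3020 = n2784 := d2_2 (iv F12102) D3020 (iv D2784)
theorem F13137 : act 5 n3020 = n2864 := d4_2 (iv F12103) D3020 (iv D2864)
theorem F13138 : act 6 n3020 = n2861 := d5_2 F13032 D3020 (iv F13029)
def n3021 : Q := act 4 n2770
theorem D3021 : act 4 n2770 = n3021 := rfl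
theorem F13139 : act 1 n3021 = n2771 := d10_1 D3021 (iv D2771) D2770
theorem F13140 : act 3 n3021 = n3021 := d21_1 D3021 (iv D3021) F12102 F11080 (iv F12102)
def n3022 : Q := act 8 n2770
theorem D3022 : act 8 n2770 = n3022 := rfl
theorem F13141 : act 1 n3022 = n2772 := d14_1 D3022 (iv D2772) D2770
theorem F13142 : act 3 n3022 = n2785 := d25_1 D3022 (iv D2785) (iv F12102)
theorem F13143 : act 5 n3022 = n2866 := d32_1 D3022 (iv D2866) (iv F12103)
def n3023 : Q := act 5 n2771
theorem D3023 : act 5 n2771 = n3023 := rfl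
theorem F13144 : act 2 n3023 = n2773 := d17_1 D3023 (iv D2773) (iv F12104)
theorem F13145 : act 3 n3023 = n3023 := d22_1 D3023 (iv D3023) F12105
theorem F13146 : act 4 n3023 = n2867 := d26_1 D3023 (iv D2867) (iv D2607) (iv F11034) D2771
def n3024 : Q := act 8 n2771
theorem D3024 : act 8 n2771 = n3024 := rfl
theorem F13147 : act 2 n3024 = n2774 := d20_1 D3024 (iv D2774) (iv F12104)
theorem F13148 : act 3 n3024 = n3024 := d25_1 D3024 (iv D3024) F12105
theorem F13149 : act 4 n3024 = n2772 := d29_1 D3024 (iv D2772) D2771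
def n3025 : Q := act 7 n2772
theorem D3025 : act 7 n2772 = n3025 := rfl
theorem F13150 : act 2 n3025 = n2775 := d19_1 D3025 (iv D2775) (iv F12106)
theorem F13151 : act 5 n3025 = n2869 := d31_1 D3025 (iv D2869) (iv F12108)
def n3026 : Q := act 6 n2773
theorem D3026 : act 6 n2773 = n3026 := rfl
theorem F13152 : act 0 n3026 = n2865 := d5_1 D3026 (iv F12657) F12653
theorem F13153 : act 3 n3026 = n2779 := d23_1 D3026 (iv D2779) (iv F12109)
theorem F13154 : act 4 n3026 = n2864 := d27_1 D3026 F12431 (iv F12110)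
def n3027 : Q := act 8 n2773
theorem D3027 : act 8 n2773 = n3027 := rfl
theorem F13155 : act 3 n3027 = n2780 := d25_1 D3027 (iv D2780) (iv F12109)
theorem F13156 : act 4 n3027 = n2870 := d29_1 D3027 (iv D2870) (iv F12110)
theorem F13157 : act 5 n3027 = n2774 := d32_1 D3027 (iv D2774) D2773
def n3028 : Q := act 7 n2774
theorem D3028 : act 7 n2774 = n3028 := rfl
theorem F13158 : act 4 n3028 = n2775 := d28_1 D3028 (iv D2775) (iv F12112)
def n3029 : Q := act 6 n2776
theorem D3029 : act 6 n2776 = n3029 := rfl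
theorem F13159 : act 0 n3029 = n2881 := d5_1 D3029 (iv F13096) F13092
theorem F13160 : act 1 n3029 = n2818 := d12_1 D3029 F12306 (iv F12114)
theorem F13161 : act 2 n3029 = n3029 := d18_1 D3029 (iv D3029) F12115
theorem F13162 : act 4 n3029 = n3029 := d27_1 D3029 (iv D3029) F12116
theorem F13163 : act 5 n3029 = n2779 := d30_1 D3029 (iv D2779) (iv D2514) (iv F11039) D2776
theorem F13164 : act 7 n3029 = n3029 := d33_2 F12117 D3029 (iv D3029)
def n3030 : Q := act 8 n2776
theorem D3030 : act 8 n2776 = n3030 := rfl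
theorem F13165 : act 1 n3030 = n2820 := d14_1 D3030 (iv D2820) (iv F12114)
theorem F13166 : act 2 n3030 = n3030 := d20_1 D3030 (iv D3030) F12115
theorem F13167 : act 4 n3030 = n3030 := d29_1 D3030 (iv D3030) F12116
theorem F13168 : act 5 n3030 = n2777 := d32_1 D3030 (iv D2777) D2776
def n3031 : Q := act 7 n2777
theorem D3031 : act 7 n2777 = n3031 := rfl
theorem F13169 : act 2 n3031 = n3031 := d19_1 D3031 (iv D3031) F12118
theorem F13170 : act 4 n3031 = n2778 := d28_1 D3031 (iv D2778) (iv F12119)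
theorem F13171 : act 6 n3031 = n2781 := d33_1 D3031 (iv D2781) (iv F12120)
theorem F13172 : act 8 n3031 = n3031 := d35_2 D2777 D3031 (iv D3031) (iv D2777) F11040
def n3032 : Q := act 8 n2779
theorem D3032 : act 8 n2779 = n3032 := rfl
theorem F13173 : act 0 n3032 = n2882 := d7_1 D3032 (iv D2882) (iv F12126)
theorem F13174 : act 2 n3032 = n3032 := d20_1 D3032 (iv D3032) F12127
theorem F13175 : act 4 n3032 = n2782 := d29_1 D3032 (iv D2782) (iv F12128)
theorem F13176 : act 6 n3032 = n2780 := d34_1 D3032 (iv D2780) D2779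
def n3033 : Q := act 7 n2780
theorem D3033 : act 7 n2780 = n3033 := rfl
theorem F13177 : act 2 n3033 = n3033 := d19_1 D3033 (iv D3033) F12130
theorem F13178 : act 4 n3033 = n2783 := d28_1 D3033 (iv D2783) (iv F12131)
theorem F13179 : act 5 n3033 = n2781 := d31_1 D3033 (iv D2781) (iv F12132)
theorem F13180 : act 8 n3033 = n3033 := d35_2 D2780 D3033 (iv D3033) (iv D2780) F11047
def n3034 : Q := act 3 n2781
theorem D3034 : act 3 n2781 = n3034 := rfl
theorem F13181 : act 8 n3034 = n3034 := d25_2 F12135 D3034 (iv D3034)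
def n3035 : Q := act 7 n2782
theorem D3035 : act 7 n2782 = n3035 := rfl
theorem F13182 : act 0 n3035 = n2883 := d6_1 D3035 (iv D2883) (iv F12136)
theorem F13183 : act 2 n3035 = n3035 := d19_1 D3035 (iv D3035) F12137
theorem F13184 : act 5 n3035 = n3035 := d31_1 D3035 (iv D3035) F12139
theorem F13185 : act 6 n3035 = n2783 := d33_1 D3035 (iv D2783) (iv F12140)
theorem F13186 : act 8 n3035 = n3035 := d35_2 D2782 D3035 (iv D3035) (iv D2782) F11057
def n3036 : Q := act 8 n2784
theorem D3036 : act 8 n2784 = n3036 := rfl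
theorem F13187 : act 0 n3036 = n2785 := d7_1 D3036 (iv D2785) D2784
theorem F13188 : act 2 n3036 = n2787 := d20_1 D3036 (iv D2787) (iv F12144)
theorem F13189 : act 4 n3036 = n3036 := d29_1 D3036 (iv D3036) F12145
theorem F13190 : act 5 n3036 = n2873 := d32_1 D3036 (iv D2873) (iv F12146)
theorem F13191 : act 6 n3036 = n2872 := d34_1 D3036 (iv D2872) (iv F12147)
def n3037 : Q := act 7 n2788
theorem D3037 : act 7 n2788 = n3037 := rfl
theorem F13192 : act 0 n3037 = n3037 := d6_1 D3037 (iv D3037) F12164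
theorem F13193 : act 1 n3037 = n2876 := d13_1 D3037 (iv D2876) (iv F12165)
theorem F13194 : act 3 n3037 = n3037 := d24_1 D3037 (iv D3037) F12166 F11126 (iv F12166)
theorem F13195 : act 4 n3037 = n2802 := d28_1 D3037 (iv D2802) (iv F12167)
theorem F13196 : act 6 n3037 = n2791 := d33_1 D3037 (iv D2791) (iv F12168)
theorem F13197 : act 8 n3037 = n3037 := d35_2 D2788 D3037 (iv D3037) (iv D2788) F11120
def n3038 : Q := act 8 n2789
theorem D3038 : act 8 n2789 = n3038 := rfl
theorem F13198 : act 1 n3038 = n2790 := d14_1 D3038 (iv D2790) D2789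
theorem F13199 : act 2 n3038 = n2877 := d20_1 D3038 (iv D2877) (iv F12169)
theorem F13200 : act 3 n3038 = n3038 := d25_1 D3038 (iv D3038) F12170
theorem F13201 : act 4 n3038 = n2804 := d29_1 D3038 (iv D2804) (iv F12171)
theorem F13202 : act 5 n3038 = n3038 := d32_1 D3038 (iv D3038) F12172
def n3039 : Q := act 7 n2790
theorem D3039 : act 7 n2790 = n3039 := rfl
theorem F13203 : act 0 n3039 = n3039 := d6_1 D3039 (iv D3039) F12174
theorem F13204 : act 2 n3039 = n2791 := d19_1 D3039 (iv D2791) (iv F12175)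
theorem F13205 : act 4 n3039 = n2805 := d28_1 D3039 (iv D2805) (iv F12177)
theorem F13206 : act 5 n3039 = n3039 := d31_1 D3039 (iv D3039) F12178
theorem F13207 : act 8 n3039 = n3039 := d35_2 D2790 D3039 (iv D3039) (iv D2790) F11131
def n3040 : Q := act 8 n2792
theorem D3040 : act 8 n2792 = n3040 := rfl
theorem F13208 : act 0 n3040 = n2859 := d7_1 D3040 (iv D2859) (iv F12185)
theorem F13209 : act 1 n3040 = n2845 := d14_1 D3040 (iv D2845) (iv F12186)
theorem F13210 : act 3 n3040 = n2793 := d25_1 D3040 (iv D2793) D2792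
theorem F13211 : act 4 n3040 = n2846 := d29_1 D3040 (iv D2846) (iv F12187)
theorem F13212 : act 6 n3040 = n2849 := d34_1 D3040 (iv D2849) (iv F12188)
def n3041 : Q := act 8 n2794
theorem D3041 : act 8 n2794 = n3041 := rfl
theorem F13213 : act 0 n3041 = n2862 := d7_1 D3041 (iv D2862) (iv F12196)
theorem F13214 : act 1 n3041 = n2846 := d14_1 D3041 (iv D2846) (iv F12197)
theorem F13215 : act 3 n3041 = n2795 := d25_1 D3041 (iv D2795) D2794
theorem F13216 : act 4 n3041 = n2845 := d29_1 D3041 (iv D2845) (iv F12198)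
theorem F13217 : act 6 n3041 = n2797 := d34_1 D3041 (iv D2797) (iv F12199)
def n3042 : Q := act 1 n2796
theorem D3042 : act 1 n2796 = n3042 := rfl
theorem F13218 : act 2 n3042 = n2824 := d8_2 D2796 D3042 F12325 (iv D2591) (iv F11148)
theorem F13219 : act 3 n3042 = n2799 := d9_2 (iv F12208) D3042 (iv D2799)
theorem F13220 : act 4 n3042 = n2851 := d10_2 (iv F12209) D3042 (iv D2851)
theorem F13221 : act 5 n3042 = n2826 := d11_2 F12651 D3042 (iv F12649)
def n3043 : Q := act 8 n2796
theorem D3043 : act 8 n2796 = n3043 := rfl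
theorem F13222 : act 0 n3043 = n2868 := d7_1 D3043 (iv D2868) (iv F12207)
theorem F13223 : act 2 n3043 = n2797 := d20_1 D3043 (iv D2797) D2796
theorem F13224 : act 3 n3043 = n2800 := d25_1 D3043 (iv D2800) (iv F12208)
theorem F13225 : act 4 n3043 = n2852 := d29_1 D3043 (iv D2852) (iv F12209)
def n3044 : Q := act 7 n2797
theorem D3044 : act 7 n2797 = n3044 := rfl
theorem F13226 : act 0 n3044 = n2871 := d6_1 D3044 (iv D2871) (iv F12210)
theorem F13227 : act 1 n3044 = n2850 := d13_1 D3044 (iv D2850) (iv F12211)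
theorem F13228 : act 3 n3044 = n2833 := d24_1 D3044 (iv D2833) F11284 (iv F11154) (iv F12212)
theorem F13229 : act 4 n3044 = n2853 := d28_1 D3044 (iv D2853) (iv F12213)
def n3045 : Q := act 7 n2798
theorem D3045 : act 7 n2798 = n3045 := rfl
theorem F13230 : act 0 n3045 = n2880 := d6_1 D3045 (iv D2880) (iv F12214)
theorem F13231 : act 1 n3045 = n2802 := d13_1 D3045 (iv D2802) (iv F12215)
theorem F13232 : act 3 n3045 = n2838 := d24_1 D3045 (iv D2838) F11314 (iv F11171) (iv F12216)
theorem F13233 : act 4 n3045 = n2876 := d28_1 D3045 (iv D2876) (iv F12217)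
theorem F13234 : act 6 n3045 = n2801 := d33_1 D3045 (iv D2801) (iv F12218)
theorem F13235 : act 8 n3045 = n3045 := d35_2 D2798 D3045 (iv D3045) (iv D2798) F11166
def n3046 : Q := act 8 n2799
theorem D3046 : act 8 n2799 = n3046 := rfl
theorem F13236 : act 1 n3046 = n2800 := d14_1 D3046 (iv D2800) D2799
theorem F13237 : act 2 n3046 = n2804 := d20_1 D3046 (iv D2804) (iv F12219)
theorem F13238 : act 4 n3046 = n2877 := d29_1 D3046 (iv D2877) (iv F12220)
theorem F13239 : act 5 n3046 = n2837 := d32_1 D3046 (iv D2837) (iv F12221)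
def n3047 : Q := act 7 n2800
theorem D3047 : act 7 n2800 = n3047 := rfl
theorem F13240 : act 0 n3047 = n2885 := d6_1 D3047 (iv D2885) (iv F12223)
theorem F13241 : act 2 n3047 = n2801 := d19_1 D3047 (iv D2801) (iv F12224)
theorem F13242 : act 4 n3047 = n2878 := d28_1 D3047 (iv D2878) (iv F12225)
theorem F13243 : act 8 n3047 = n3047 := d35_2 D2800 D3047 (iv D3047) (iv D2800) F11174
def n3048 : Q := act 8 n2803
theorem D3048 : act 8 n2803 = n3048 := rfl
theorem F13244 : act 0 n3048 = n2804 := d7_1 D3048 (iv D2804) D2803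
theorem F13245 : act 1 n3048 = n3048 := d14_1 D3048 (iv D3048) F12235
theorem F13246 : act 3 n3048 = n2817 := d25_1 D3048 (iv D2817) (iv F12236)
theorem F13247 : act 5 n3048 = n2819 := d32_1 D3048 (iv D2819) (iv F12237)
def n3049 : Q := act 7 n2804
theorem D3049 : act 7 n2804 = n3049 := rfl
theorem F13248 : act 1 n3049 = n2805 := d13_1 D3049 (iv D2805) (iv F12239)
theorem F13249 : act 5 n3049 = n2838 := d31_1 D3049 (iv D2838) (iv F12241)
theorem F13250 : act 8 n3049 = n3049 := d35_2 D2804 D3049 (iv D3049) (iv D2804) F11184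
def n3050 : Q := act 8 n2806
theorem D3050 : act 8 n2806 = n3050 := rfl
theorem F13251 : act 0 n3050 = n2849 := d7_1 D3050 (iv D2849) (iv F12246)
theorem F13252 : act 1 n3050 = n2815 := d14_1 D3050 (iv D2815) (iv F12247)
theorem F13253 : act 3 n3050 = n2807 := d25_1 D3050 (iv D2807) D2806
theorem F13254 : act 4 n3050 = n2844 := d29_1 D3050 (iv D2844) (iv F12248)
theorem F13255 : act 6 n3050 = n2859 := d34_1 D3050 (iv D2859) (iv F12249)
def n3051 : Q := act 2 n2808
theorem D3051 : act 2 n2808 = n3051 := rfl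
theorem F13256 : act 0 n3051 = n2822 := d1_1 D3051 (iv D2822) (iv F12257)
theorem F13257 : act 3 n3051 = n3051 := d15_2 D2808 D3051 (iv D3051) (iv D2808) F11206
theorem F13258 : act 4 n3051 = n2826 := d16_2 (iv F12259) D3051 (iv D2826)
theorem F13259 : act 6 n3051 = n2829 := d18_2 (iv F12260) D3051 F12338
theorem F13260 : act 7 n3051 = n2813 := d19_2 (iv F12261) D3051 (iv D2813)
def n3052 : Q := act 8 n2808
theorem D3052 : act 8 n2808 = n3052 := rfl
theorem F13261 : act 0 n3052 = n2823 := d7_1 D3052 (iv D2823) (iv F12257)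
theorem F13262 : act 1 n3052 = n2862 := d14_1 D3052 (iv D2862) (iv F12258)
theorem F13263 : act 3 n3052 = n2809 := d25_1 D3052 (iv D2809) D2808
theorem F13264 : act 4 n3052 = n2827 := d29_1 D3052 (iv D2827) (iv F12259)
theorem F13265 : act 6 n3052 = n2832 := d34_1 D3052 (iv D2832) (iv F12260)
def n3053 : Q := act 3 n2810
theorem D3053 : act 3 n2810 = n3053 := rfl
theorem F13266 : act 0 n3053 = n2824 := d2_1 D3053 (iv D2824) (iv F12268)
theorem F13267 : act 1 n3053 = n2858 := d9_1 D3053 F12420 (iv F12269)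
theorem F13268 : act 5 n3053 = n2811 := d22_2 (iv F12272) D3053 (iv D2811)
theorem F13269 : act 7 n3053 = n2831 := d24_2 D2810 D3053 F12343 F11295 (iv F11212)
def n3054 : Q := act 8 n2810
theorem D3054 : act 8 n2810 = n3054 := rfl
theorem F13270 : act 0 n3054 = n2825 := d7_1 D3054 (iv D2825) (iv F12268)
theorem F13271 : act 1 n3054 = n2887 := d14_1 D3054 (iv D2887) (iv F12269)
theorem F13272 : act 2 n3054 = n2817 := d20_1 D3054 (iv D2817) (iv F12270)
theorem F13273 : act 4 n3054 = n3054 := d29_1 D3054 (iv D3054) F12271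
theorem F13274 : act 5 n3054 = n2812 := d32_1 D3054 (iv D2812) (iv F12272)
theorem F13275 : act 7 n3054 = n2872 := d35_1 D3054 (iv D2872) F11412 (iv F11214) D2810
def n3055 : Q := act 2 n2811
theorem D3055 : act 2 n2811 = n3055 := rfl
theorem F13276 : act 0 n3055 = n2826 := d1_1 D3055 (iv D2826) (iv F12273)
theorem F13277 : act 3 n3055 = n2818 := d15_2 D2811 D3055 (iv D2818) (iv D2558) (iv F11217)
theorem F13278 : act 4 n3055 = n2822 := d16_2 (iv F12275) D3055 (iv D2822)
theorem F13279 : act 6 n3055 = n2813 := d18_2 (iv F12276) D3055 (iv D2813)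
theorem F13280 : act 7 n3055 = n2829 := d19_2 (iv F12277) D3055 F12338
def n3056 : Q := act 8 n2811
theorem D3056 : act 8 n2811 = n3056 := rfl
theorem F13281 : act 0 n3056 = n2827 := d7_1 D3056 (iv D2827) (iv F12273)
theorem F13282 : act 1 n3056 = n2859 := d14_1 D3056 (iv D2859) (iv F12274)
theorem F13283 : act 3 n3056 = n2812 := d25_1 D3056 (iv D2812) D2811
theorem F13284 : act 4 n3056 = n2823 := d29_1 D3056 (iv D2823) (iv F12275)
theorem F13285 : act 6 n3056 = n2815 := d34_1 D3056 (iv D2815) (iv F12276)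
def n3057 : Q := act 4 n2813
theorem D3057 : act 4 n2813 = n3057 := rfl
theorem F13286 : act 0 n3057 = n2829 := d3_1 D3057 (iv D2829) (iv F12284)
theorem F13287 : act 2 n3057 = n2814 := d16_1 D3057 (iv D2814) D2813
theorem F13288 : act 3 n3057 = n3057 := d21_1 D3057 (iv D3057) F12285 F11259 (iv F12285)
theorem F13289 : act 6 n3057 = n2822 := d27_2 F13279 D3057 (iv F13278)
theorem F13290 : act 7 n3057 = n2826 := d28_2 F13260 D3057 (iv F13258)
def n3058 : Q := act 8 n2813
theorem D3058 : act 8 n2813 = n3058 := rfl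
theorem F13291 : act 0 n3058 = n2830 := d7_1 D3058 (iv D2830) (iv F12284)
theorem F13292 : act 2 n3058 = n2815 := d20_1 D3058 (iv D2815) D2813
theorem F13293 : act 3 n3058 = n2820 := d25_1 D3058 (iv D2820) (iv F12285)
def n3059 : Q := act 8 n2814
theorem D3059 : act 8 n2814 = n3059 := rfl
theorem F13294 : act 0 n3059 = n2832 := d7_1 D3059 (iv D2832) (iv F12286)
theorem F13295 : act 1 n3059 = n2844 := d14_1 D3059 (iv D2844) (iv F12287)
theorem F13296 : act 3 n3059 = n2816 := d25_1 D3059 (iv D2816) (iv F12288)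
theorem F13297 : act 4 n3059 = n2815 := d29_1 D3059 (iv D2815) D2814
theorem F13298 : act 6 n3059 = n2823 := d34_1 D3059 (iv D2823) (iv F12289)
def n3060 : Q := act 7 n2815
theorem D3060 : act 7 n2815 = n3060 := rfl
theorem F13299 : act 0 n3060 = n2833 := d6_1 D3060 (iv D2833) (iv F12291)
theorem F13300 : act 3 n3060 = n2871 := d24_1 D3060 (iv D2871) F11408 (iv F11224) (iv F12292)
def n3061 : Q := act 8 n2818
theorem D3061 : act 8 n2818 = n3061 := rfl
theorem F13301 : act 0 n3061 = n2837 := d7_1 D3061 (iv D2837) (iv F12304)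
theorem F13302 : act 2 n3061 = n2819 := d20_1 D3061 (iv D2819) D2818
theorem F13303 : act 4 n3061 = n3061 := d29_1 D3061 (iv D3061) F12305
theorem F13304 : act 6 n3061 = n2820 := d34_1 D3061 (iv D2820) (iv F12306)
def n3062 : Q := act 7 n2819
theorem D3062 : act 7 n2819 = n3062 := rfl
theorem F13305 : act 0 n3062 = n2838 := d6_1 D3062 (iv D2838) (iv F12308)
theorem F13306 : act 1 n3062 = n3062 := d13_1 D3062 (iv D3062) F12309
theorem F13307 : act 3 n3062 = n2880 := d24_1 D3062 (iv D2880) F11468 (iv F11257) (iv F12310)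
theorem F13308 : act 4 n3062 = n3062 := d28_1 D3062 (iv D3062) F12311
theorem F13309 : act 6 n3062 = n2821 := d33_1 D3062 (iv D2821) (iv F12312)
theorem F13310 : act 8 n3062 = n3062 := d35_2 D2819 D3062 (iv D3062) (iv D2819) F11252
def n3063 : Q := act 7 n2820
theorem D3063 : act 7 n2820 = n3063 := rfl
theorem F13311 : act 0 n3063 = n2841 := d6_1 D3063 (iv D2841) (iv F12313)
theorem F13312 : act 2 n3063 = n2821 := d19_1 D3063 (iv D2821) (iv F12314)
theorem F13313 : act 4 n3063 = n3063 := d28_1 D3063 (iv D3063) F12315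
theorem F13314 : act 8 n3063 = n3063 := d35_2 D2820 D3063 (iv D3063) (iv D2820) F11260
def n3064 : Q := act 1 n2822
theorem D3064 : act 1 n2822 = n3064 := rfl
theorem F13315 : act 2 n3064 = n2855 := d8_2 D2822 D3064 (iv D2855) (iv D2601) (iv F11265)
theorem F13316 : act 3 n3064 = n3064 := d9_2 F12321 D3064 (iv D3064)
theorem F13317 : act 7 n3064 = n2828 := d13_2 (iv F12322) D3064 (iv D2828)
def n3065 : Q := act 8 n2822
theorem D3065 : act 8 n2822 = n3065 := rfl
theorem F13318 : act 2 n3065 = n2823 := d20_1 D3065 (iv D2823) D2822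
theorem F13319 : act 3 n3065 = n3065 := d25_1 D3065 (iv D3065) F12321
def n3066 : Q := act 7 n2823
theorem D3066 : act 7 n2823 = n3066 := rfl
theorem F13320 : act 1 n3066 = n2860 := d13_1 D3066 (iv D2860) (iv F12323)
theorem F13321 : act 8 n3066 = n2833 := d35_2 D2823 D3066 (iv D2833) (iv D2569) (iv F11266)
def n3067 : Q := act 4 n2824
theorem D3067 : act 4 n2824 = n3067 := rfl
theorem F13322 : act 1 n3067 = n2847 := d10_1 D3067 (iv D2847) (iv F12325)
theorem F13323 : act 2 n3067 = n2851 := d16_1 D3067 (iv F13220) F13218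
theorem F13324 : act 3 n3067 = n3067 := d21_1 D3067 (iv D3067) (iv D2824) F11272 D2824
def n3068 : Q := act 8 n2824
theorem D3068 : act 8 n2824 = n3068 := rfl
theorem F13325 : act 1 n3068 = n2848 := d14_1 D3068 (iv D2848) (iv F12325)
theorem F13326 : act 3 n3068 = n2825 := d25_1 D3068 (iv D2825) D2824
theorem F13327 : act 5 n3068 = n2827 := d32_1 D3068 (iv D2827) (iv F12326)
def n3069 : Q := act 8 n2826
theorem D3069 : act 8 n2826 = n3069 := rfl
theorem F13328 : act 2 n3069 = n2827 := d20_1 D3069 (iv D2827) D2826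
theorem F13329 : act 3 n3069 = n2837 := d25_1 D3069 (iv D2837) (iv F12331)
theorem F13330 : act 6 n3069 = n2830 := d34_1 D3069 (iv D2830) (iv F12332)
def n3070 : Q := act 7 n2827
theorem D3070 : act 7 n2827 = n3070 := rfl
theorem F13331 : act 1 n3070 = n2863 := d13_1 D3070 (iv D2863) (iv F12333)
theorem F13332 : act 6 n3070 = n2833 := d33_1 D3070 (iv D2833) (iv F12335)
def n3071 : Q := act 0 n2828
theorem D3071 : act 0 n2828 = n3071 := rfl
theorem F13333 : act 2 n3071 = n2864 := d1_2 (iv F12336) D3071 (iv D2864)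
theorem F13334 : act 3 n3071 = n2839 := d2_2 (iv F12337) D3071 (iv D2839)
theorem F13335 : act 6 n3071 = n2867 := d5_2 F12652 D3071 (iv F12648)
def n3072 : Q := act 4 n2828
theorem D3072 : act 4 n2828 = n3072 := rfl
theorem F13336 : act 1 n3072 = n2829 := d10_1 D3072 (iv D2829) D2828
theorem F13337 : act 2 n3072 = n2865 := d16_1 D3072 (iv D2865) (iv F12336)
theorem F13338 : act 3 n3072 = n3072 := d21_1 D3072 (iv D3072) F12337 F11318 (iv F12337)
def n3073 : Q := act 8 n2828
theorem D3073 : act 8 n2828 = n3073 := rfl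
theorem F13339 : act 1 n3073 = n2830 := d14_1 D3073 (iv D2830) D2828
theorem F13340 : act 2 n3073 = n2866 := d20_1 D3073 (iv D2866) (iv F12336)
theorem F13341 : act 3 n3073 = n2840 := d25_1 D3073 (iv D2840) (iv F12337)
def n3074 : Q := act 5 n2829
theorem D3074 : act 5 n2829 = n3074 := rfl
theorem F13342 : act 2 n3074 = n2831 := d17_1 D3074 (iv D2831) (iv F12338)
theorem F13343 : act 3 n3074 = n3074 := d22_1 D3074 (iv D3074) F12339
def n3075 : Q := act 8 n2829
theorem D3075 : act 8 n2829 = n3075 := rfl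
theorem F13344 : act 2 n3075 = n2832 := d20_1 D3075 (iv D2832) (iv F12338)
theorem F13345 : act 3 n3075 = n3075 := d25_1 D3075 (iv D3075) F12339
theorem F13346 : act 4 n3075 = n2830 := d29_1 D3075 (iv D2830) D2829
def n3076 : Q := act 7 n2830
theorem D3076 : act 7 n2830 = n3076 := rfl
theorem F13347 : act 2 n3076 = n2833 := d19_1 D3076 (iv D2833) (iv F12340)
def n3077 : Q := act 6 n2831
theorem D3077 : act 6 n2831 = n3077 := rfl
theorem F13348 : act 0 n3077 = n2851 := d5_1 D3077 (iv F12963) F12960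
theorem F13349 : act 1 n3077 = n2864 := d12_1 D3077 F12431 (iv F12342)
theorem F13350 : act 3 n3077 = n2834 := d23_1 D3077 (iv D2834) (iv F12343)
def n3078 : Q := act 8 n2831
theorem D3078 : act 8 n2831 = n3078 := rfl
theorem F13351 : act 1 n3078 = n2870 := d14_1 D3078 (iv D2870) (iv F12342)
theorem F13352 : act 3 n3078 = n2835 := d25_1 D3078 (iv D2835) (iv F12343)
theorem F13353 : act 5 n3078 = n2832 := d32_1 D3078 (iv D2832) D2831
def n3079 : Q := act 7 n2832
theorem D3079 : act 7 n2832 = n3079 := rfl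
theorem F13354 : act 1 n3079 = n2871 := d13_1 D3079 (iv D2871) (iv F12344)
theorem F13355 : act 4 n3079 = n2833 := d28_1 D3079 (iv D2833) (iv F12346)
def n3080 : Q := act 8 n2834
theorem D3080 : act 8 n2834 = n3080 := rfl
theorem F13356 : act 0 n3080 = n2854 := d7_1 D3080 (iv D2854) (iv F12348)
theorem F13357 : act 1 n3080 = n2873 := d14_1 D3080 (iv D2873) (iv F12349)
theorem F13358 : act 2 n3080 = n3080 := d20_1 D3080 (iv D3080) F12350
theorem F13359 : act 4 n3080 = n2836 := d29_1 D3080 (iv D2836) (iv F12351)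
theorem F13360 : act 6 n3080 = n2835 := d34_1 D3080 (iv D2835) D2834
def n3081 : Q := act 7 n2837
theorem D3081 : act 7 n2837 = n3081 := rfl
theorem F13361 : act 2 n3081 = n2838 := d19_1 D3081 (iv D2838) (iv F12362)
theorem F13362 : act 4 n3081 = n3081 := d28_1 D3081 (iv D3081) F12363
theorem F13363 : act 6 n3081 = n2841 := d33_1 D3081 (iv D2841) (iv F12364)
theorem F13364 : act 8 n3081 = n3081 := d35_2 D2837 D3081 (iv D3081) (iv D2837) F11312
def n3082 : Q := act 8 n2839
theorem D3082 : act 8 n2839 = n3082 := rfl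
theorem F13365 : act 0 n3082 = n2840 := d7_1 D3082 (iv D2840) D2839
theorem F13366 : act 2 n3082 = n2842 := d20_1 D3082 (iv D2842) (iv F12369)
theorem F13367 : act 4 n3082 = n3082 := d29_1 D3082 (iv D3082) F12370
theorem F13368 : act 6 n3082 = n2884 := d34_1 D3082 (iv D2884) (iv F12371)
def n3083 : Q := act 7 n2840
theorem D3083 : act 7 n2840 = n3083 := rfl
theorem F13369 : act 1 n3083 = n2841 := d13_1 D3083 (iv D2841) (iv F12373)
theorem F13370 : act 2 n3083 = n2843 := d19_1 D3083 (iv D2843) (iv F12374)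
theorem F13371 : act 4 n3083 = n3083 := d28_1 D3083 (iv D3083) F12375
theorem F13372 : act 8 n3083 = n3083 := d35_2 D2840 D3083 (iv D3083) (iv D2840) F11319
def n3084 : Q := act 3 n2841
theorem D3084 : act 3 n2841 = n3084 := rfl
theorem F13373 : act 8 n3084 = n3084 := d25_2 F12378 D3084 (iv D3084)
def n3085 : Q := act 7 n2842
theorem D3085 : act 7 n2842 = n3085 := rfl
theorem F13374 : act 0 n3085 = n2843 := d6_1 D3085 (iv D2843) (iv F12379)
theorem F13375 : act 1 n3085 = n3085 := d13_1 D3085 (iv D3085) F12380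
theorem F13376 : act 4 n3085 = n3085 := d28_1 D3085 (iv D3085) F12382
theorem F13377 : act 6 n3085 = n2886 := d33_1 D3085 (iv D2886) (iv F12383)
theorem F13378 : act 8 n3085 = n3085 := d35_2 D2842 D3085 (iv D3085) (iv D2842) F11333
def n3086 : Q := act 7 n2844
theorem D3086 : act 7 n2844 = n3086 := rfl
theorem F13379 : act 0 n3086 = n2850 := d6_1 D3086 (iv D2850) (iv F12387)
theorem F13380 : act 3 n3086 = n2853 := d24_1 D3086 (iv D2853) F11386 (iv F11348) (iv F12388)
theorem F13381 : act 6 n3086 = n2860 := d33_1 D3086 (iv D2860) (iv F12389)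
theorem F13382 : act 8 n3086 = n2863 := d35_2 D2844 D3086 (iv D2863) (iv D2605) (iv F11343)
def n3087 : Q := act 7 n2845
theorem D3087 : act 7 n2845 = n3087 := rfl
theorem F13383 : act 0 n3087 = n2863 := d6_1 D3087 (iv D2863) (iv F12390)
theorem F13384 : act 3 n3087 = n2860 := d24_1 D3087 (iv D2860) F11397 (iv F11356) (iv F12391)
theorem F13385 : act 6 n3087 = n2853 := d33_1 D3087 (iv D2853) (iv F12392)
theorem F13386 : act 8 n3087 = n2850 := d35_2 D2845 D3087 (iv D2850) (iv D2593) (iv F11351)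
def n3088 : Q := act 7 n2846
theorem D3088 : act 7 n2846 = n3088 := rfl
theorem F13387 : act 0 n3088 = n2860 := d6_1 D3088 (iv D2860) (iv F12393)
theorem F13388 : act 3 n3088 = n2863 := d24_1 D3088 (iv D2863) F11400 (iv F11364) (iv F12394)
theorem F13389 : act 6 n3088 = n2850 := d33_1 D3088 (iv D2850) (iv F12395)
theorem F13390 : act 8 n3088 = n2853 := d35_2 D2846 D3088 (iv D2853) (iv D2598) (iv F11359)
def n3089 : Q := act 8 n2847
theorem D3089 : act 8 n2847 = n3089 := rfl
theorem F13391 : act 2 n3089 = n2849 := d20_1 D3089 (iv D2849) (iv F12396)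
theorem F13392 : act 3 n3089 = n3089 := d25_1 D3089 (iv D3089) F12397
theorem F13393 : act 4 n3089 = n2848 := d29_1 D3089 (iv D2848) D2847
def n3090 : Q := act 7 n2848
theorem D3090 : act 7 n2848 = n3090 := rfl
theorem F13394 : act 2 n3090 = n2850 := d19_1 D3090 (iv D2850) (iv F12398)
theorem F13395 : act 5 n3090 = n2863 := d31_1 D3090 (iv D2863) (iv F12400)
def n3091 : Q := act 7 n2849
theorem D3091 : act 7 n2849 = n3091 := rfl
theorem F13396 : act 1 n3091 = n2853 := d13_1 D3091 (iv D2853) (iv F12401)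
theorem F13397 : act 4 n3091 = n2850 := d28_1 D3091 (iv D2850) (iv F12403)
def n3092 : Q := act 8 n2851
theorem D3092 : act 8 n2851 = n3092 := rfl
theorem F13398 : act 1 n3092 = n2852 := d14_1 D3092 (iv D2852) D2851
theorem F13399 : act 3 n3092 = n2854 := d25_1 D3092 (iv D2854) (iv F12405)
def n3093 : Q := act 7 n2852
theorem D3093 : act 7 n2852 = n3093 := rfl
theorem F13400 : act 0 n3093 = n2869 := d6_1 D3093 (iv D2869) (iv F12406)
theorem F13401 : act 2 n3093 = n2853 := d19_1 D3093 (iv D2853) (iv F12407)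
def n3094 : Q := act 0 n2855
theorem D3094 : act 0 n2855 = n3094 := rfl
theorem F13402 : act 3 n3094 = n2874 := d2_2 (iv F12413) D3094 (iv D2874)
theorem F13403 : act 6 n3094 = n2858 := d5_2 F12639 D3094 (iv F12636)
theorem F13404 : act 7 n3094 = n2864 := d6_2 (iv F12414) D3094 (iv D2864)
def n3095 : Q := act 4 n2855
theorem D3095 : act 4 n2855 = n3095 := rfl
theorem F13405 : act 1 n3095 = n2856 := d10_1 D3095 (iv D2856) D2855
theorem F13406 : act 3 n3095 = n3095 := d21_1 D3095 (iv D3095) F12413 F11439 (iv F12413)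
theorem F13407 : act 7 n3095 = n2865 := d28_2 (iv F12414) D3095 (iv D2865)
def n3096 : Q := act 8 n2855
theorem D3096 : act 8 n2855 = n3096 := rfl
theorem F13408 : act 1 n3096 = n2857 := d14_1 D3096 (iv D2857) D2855
theorem F13409 : act 3 n3096 = n2875 := d25_1 D3096 (iv D2875) (iv F12413)
def n3097 : Q := act 5 n2856
theorem D3097 : act 5 n2856 = n3097 := rfl
theorem F13410 : act 2 n3097 = n2858 := d17_1 D3097 (iv D2858) (iv F12415)
theorem F13411 : act 3 n3097 = n3097 := d22_1 D3097 (iv D3097) F12416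
theorem F13412 : act 7 n3097 = n2867 := d31_2 (iv F12417) D3097 (iv D2867)
def n3098 : Q := act 8 n2856
theorem D3098 : act 8 n2856 = n3098 := rfl
theorem F13413 : act 2 n3098 = n2859 := d20_1 D3098 (iv D2859) (iv F12415)
theorem F13414 : act 3 n3098 = n3098 := d25_1 D3098 (iv D3098) F12416
theorem F13415 : act 4 n3098 = n2857 := d29_1 D3098 (iv D2857) D2856
def n3099 : Q := act 7 n2857
theorem D3099 : act 7 n2857 = n3099 := rfl
theorem F13416 : act 2 n3099 = n2860 := d19_1 D3099 (iv D2860) (iv F12418)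
theorem F13417 : act 8 n3099 = n2869 := d35_2 D2857 D3099 (iv D2869) (iv D2608) (iv F11394)
def n3100 : Q := act 8 n2858
theorem D3100 : act 8 n2858 = n3100 := rfl
theorem F13418 : act 3 n3100 = n2887 := d25_1 D3100 (iv D2887) (iv F12420)
theorem F13419 : act 5 n3100 = n2859 := d32_1 D3100 (iv D2859) D2858
def n3101 : Q := act 7 n2859
theorem D3101 : act 7 n2859 = n3101 := rfl
theorem F13420 : act 4 n3101 = n2860 := d28_1 D3101 (iv D2860) (iv F12423)
theorem F13421 : act 8 n3101 = n2871 := d35_2 D2859 D3101 (iv D2871) (iv D2610) (iv F11396)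
def n3102 : Q := act 8 n2861
theorem D3102 : act 8 n2861 = n3102 := rfl
theorem F13422 : act 3 n3102 = n2872 := d25_1 D3102 (iv D2872) (iv F12425)
theorem F13423 : act 5 n3102 = n2862 := d32_1 D3102 (iv D2862) D2861
def n3103 : Q := act 7 n2862
theorem D3103 : act 7 n2862 = n3103 := rfl
theorem F13424 : act 4 n3103 = n2863 := d28_1 D3103 (iv D2863) (iv F12427)
theorem F13425 : act 6 n3103 = n2871 := d33_1 D3103 (iv D2871) (iv F12428)
def n3104 : Q := act 8 n2864
theorem D3104 : act 8 n2864 = n3104 := rfl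
theorem F13426 : act 0 n3104 = n2866 := d7_1 D3104 (iv D2866) D2864
theorem F13427 : act 3 n3104 = n2873 := d25_1 D3104 (iv D2873) (iv F12430)
theorem F13428 : act 6 n3104 = n2870 := d34_1 D3104 (iv D2870) (iv F12431)
def n3105 : Q := act 5 n2865
theorem D3105 : act 5 n2865 = n3105 := rfl
theorem F13429 : act 1 n3105 = n2867 := d11_1 D3105 (iv D2867) (iv F12432)
theorem F13430 : act 3 n3105 = n2881 := d22_1 D3105 (iv D2881) (iv F12433)
def n3106 : Q := act 8 n2865
theorem D3106 : act 8 n2865 = n3106 := rfl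
theorem F13431 : act 1 n3106 = n2868 := d14_1 D3106 (iv D2868) (iv F12432)
theorem F13432 : act 3 n3106 = n2882 := d25_1 D3106 (iv D2882) (iv F12433)
theorem F13433 : act 4 n3106 = n2866 := d29_1 D3106 (iv D2866) D2865
def n3107 : Q := act 7 n2866
theorem D3107 : act 7 n2866 = n3107 := rfl
theorem F13434 : act 1 n3107 = n2869 := d13_1 D3107 (iv D2869) (iv F12434)
def n3108 : Q := act 8 n2867
theorem D3108 : act 8 n2867 = n3108 := rfl
theorem F13435 : act 2 n3108 = n2870 := d20_1 D3108 (iv D2870) (iv F12436)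
theorem F13436 : act 3 n3108 = n2884 := d25_1 D3108 (iv D2884) (iv F12437)
theorem F13437 : act 5 n3108 = n2868 := d32_1 D3108 (iv D2868) D2867
def n3109 : Q := act 7 n2868
theorem D3109 : act 7 n2868 = n3109 := rfl
theorem F13438 : act 2 n3109 = n2871 := d19_1 D3109 (iv D2871) (iv F12438)
theorem F13439 : act 4 n3109 = n2869 := d28_1 D3109 (iv D2869) (iv F12440)
def n3110 : Q := act 7 n2870
theorem D3110 : act 7 n2870 = n3110 := rfl
theorem F13440 : act 5 n3110 = n2871 := d31_1 D3110 (iv D2871) (iv F12443)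
def n3111 : Q := act 8 n2874
theorem D3111 : act 8 n2874 = n3111 := rfl
theorem F13441 : act 0 n3111 = n2875 := d7_1 D3111 (iv D2875) D2874
theorem F13442 : act 2 n3111 = n3111 := d20_1 D3111 (iv D3111) F12452
theorem F13443 : act 4 n3111 = n3111 := d29_1 D3111 (iv D3111) F12453
theorem F13444 : act 6 n3111 = n2887 := d34_1 D3111 (iv D2887) (iv F12454)
def n3112 : Q := act 7 n2877
theorem D3112 : act 7 n2877 = n3112 := rfl
theorem F13445 : act 1 n3112 = n2878 := d13_1 D3112 (iv D2878) (iv F12463)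
theorem F13446 : act 5 n3112 = n3112 := d31_1 D3112 (iv D3112) F12465
theorem F13447 : act 8 n3112 = n3112 := d35_2 D2877 D3112 (iv D3112) (iv D2877) F11452
def n3113 : Q := act 7 n2879
theorem D3113 : act 7 n2879 = n3113 := rfl
theorem F13448 : act 1 n3113 = n3113 := d13_1 D3113 (iv D3113) F12470
theorem F13449 : act 5 n3113 = n2880 := d31_1 D3113 (iv D2880) (iv F12472)
theorem F13450 : act 8 n3113 = n3113 := d35_2 D2879 D3113 (iv D3113) (iv D2879) F11466
def n3114 : Q := act 8 n2881
theorem D3114 : act 8 n2881 = n3114 := rfl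
theorem F13451 : act 1 n3114 = n2884 := d14_1 D3114 (iv D2884) (iv F12477)
theorem F13452 : act 2 n3114 = n3114 := d20_1 D3114 (iv D3114) F12478
theorem F13453 : act 4 n3114 = n3114 := d29_1 D3114 (iv D3114) F12479
theorem F13454 : act 5 n3114 = n2882 := d32_1 D3114 (iv D2882) D2881
def n3115 : Q := act 7 n2882
theorem D3115 : act 7 n2882 = n3115 := rfl
theorem F13455 : act 1 n3115 = n2885 := d13_1 D3115 (iv D2885) (iv F12481)
theorem F13456 : act 2 n3115 = n3115 := d19_1 D3115 (iv D3115) F12482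
theorem F13457 : act 4 n3115 = n2883 := d28_1 D3115 (iv D2883) (iv F12483)
theorem F13458 : act 8 n3115 = n3115 := d35_2 D2882 D3115 (iv D3115) (iv D2882) F11477
def n3116 : Q := act 7 n2884
theorem D3116 : act 7 n2884 = n3116 := rfl
theorem F13459 : act 2 n3116 = n2886 := d19_1 D3116 (iv D2886) (iv F12488)
theorem F13460 : act 4 n3116 = n3116 := d28_1 D3116 (iv D3116) F12489
theorem F13461 : act 5 n3116 = n2885 := d31_1 D3116 (iv D2885) (iv F12490)
theorem F13462 : act 8 n3116 = n3116 := d35_2 D2884 D3116 (iv D3116) (iv D2884) F11484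
def n3117 : Q := act 3 n2885
theorem D3117 : act 3 n2885 = n3117 := rfl
theorem F13463 : act 8 n3117 = n3117 := d25_2 F12493 D3117 (iv D3117)
def n3118 : Q := act 8 n2888
theorem D3118 : act 8 n2888 = n3118 := rfl
theorem F13464 : act 0 n3118 = n3118 := d7_1 D3118 (iv D3118) F12501
theorem F13465 : act 1 n3118 = n2926 := d14_1 D3118 (iv D2926) (iv F12502)
theorem F13466 : act 2 n3118 = n2890 := d20_1 D3118 (iv D2890) D2888
theorem F13467 : act 3 n3118 = n3118 := d25_1 D3118 (iv D3118) F12503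
theorem F13468 : act 4 n3118 = n2975 := d29_1 D3118 (iv D2975) F12507
theorem F13469 : act 5 n3118 = n2906 := d32_1 D3118 (iv D2906) (iv F12504)
theorem F13470 : act 6 n3118 = n3118 := d34_1 D3118 (iv D3118) F12505
def n3119 : Q := act 8 n2889
theorem D3119 : act 8 n2889 = n3119 := rfl
theorem F13471 : act 0 n3119 = n3119 := d7_1 D3119 (iv D3119) F12508
theorem F13472 : act 1 n3119 = n2893 := d14_1 D3119 (iv D2893) (iv F12509)
theorem F13473 : act 2 n3119 = n2975 := d20_1 D3119 (iv D2975) (iv F12510)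
theorem F13474 : act 3 n3119 = n3119 := d25_1 D3119 (iv D3119) F12511
theorem F13475 : act 4 n3119 = n2890 := d29_1 D3119 (iv D2890) D2889
theorem F13476 : act 5 n3119 = n2969 := d32_1 D3119 (iv D2969) (iv F12512)
theorem F13477 : act 6 n3119 = n3119 := d34_1 D3119 (iv D3119) F12513
def n3120 : Q := act 7 n2890
theorem D3120 : act 7 n2890 = n3120 := rfl
theorem F13478 : act 0 n3120 = n3120 := d6_1 D3120 (iv D3120) F12515
theorem F13479 : act 1 n3120 = n2894 := d13_1 D3120 (iv D2894) (iv F12516)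
theorem F13480 : act 3 n3120 = n3120 := d24_1 D3120 (iv D3120) F12517 F11516 (iv F12517)
theorem F13481 : act 5 n3120 = n2907 := d31_1 D3120 (iv D2907) (iv F12518)
theorem F13482 : act 6 n3120 = n3120 := d33_1 D3120 (iv D3120) F12519
theorem F13483 : act 8 n3120 = n3120 := d35_2 D2890 D3120 (iv D3120) (iv D2890) F11509
def n3121 : Q := act 7 n2891
theorem D3121 : act 7 n2891 = n3121 := rfl
theorem F13484 : act 0 n3121 = n2898 := d6_1 D3121 (iv D2898) (iv F12520)
theorem F13485 : act 1 n3121 = n2907 := d13_1 D3121 (iv D2907) (iv F12521)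
theorem F13486 : act 2 n3121 = n2939 := d19_1 D3121 (iv D2939) (iv F12522)
theorem F13487 : act 3 n3121 = n3121 := d24_1 D3121 (iv D3121) F12523 F11530 (iv F12523)
theorem F13488 : act 4 n3121 = n2965 := d28_1 D3121 (iv D2965) (iv F12524)
theorem F13489 : act 5 n3121 = n2894 := d31_1 D3121 (iv D2894) (iv F12525)
theorem F13490 : act 6 n3121 = n2904 := d33_1 D3121 (iv D2904) (iv F12526)
theorem F13491 : act 8 n3121 = n3121 := d35_2 D2891 D3121 (iv D3121) (iv D2891) F11523
def n3122 : Q := act 8 n2892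
theorem D3122 : act 8 n2892 = n3122 := rfl
theorem F13492 : act 0 n3122 = n2900 := d7_1 D3122 (iv D2900) (iv F12527)
theorem F13493 : act 1 n3122 = n2969 := d14_1 D3122 (iv D2969) (iv F12528)
theorem F13494 : act 2 n3122 = n2940 := d20_1 D3122 (iv D2940) (iv F12529)
theorem F13495 : act 3 n3122 = n3122 := d25_1 D3122 (iv D3122) F12530
theorem F13496 : act 4 n3122 = n2964 := d29_1 D3122 (iv D2964) (iv F12531)
theorem F13497 : act 5 n3122 = n2893 := d32_1 D3122 (iv D2893) D2892
theorem F13498 : act 6 n3122 = n3038 := d34_1 D3122 (iv D3038) F12533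
def n3123 : Q := act 7 n2893
theorem D3123 : act 7 n2893 = n3123 := rfl
theorem F13499 : act 0 n3123 = n2901 := d6_1 D3123 (iv D2901) (iv F12534)
theorem F13500 : act 2 n3123 = n2941 := d19_1 D3123 (iv D2941) (iv F12535)
theorem F13501 : act 4 n3123 = n2894 := d28_1 D3123 (iv D2894) (iv F12537)
theorem F13502 : act 6 n3123 = n3123 := d33_1 D3123 (iv D3123) F12538
theorem F13503 : act 8 n3123 = n3123 := d35_2 D2893 D3123 (iv D3123) (iv D2893) F11535
def n3124 : Q := act 7 n2895
theorem D3124 : act 7 n2895 = n3124 := rfl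
theorem F13504 : act 0 n3124 = n2904 := d6_1 D3124 (iv D2904) (iv F12544)
theorem F13505 : act 1 n3124 = n3124 := d13_1 D3124 (iv D3124) F12545
theorem F13506 : act 2 n3124 = n2958 := d19_1 D3124 (iv D2958) (iv F12546)
theorem F13507 : act 3 n3124 = n3124 := d24_1 D3124 (iv D3124) F12547 F11553 (iv F12547)
theorem F13508 : act 4 n3124 = n2944 := d28_1 D3124 (iv D2944) (iv F12548)
theorem F13509 : act 5 n3124 = n3124 := d31_1 D3124 (iv D3124) F12549
theorem F13510 : act 6 n3124 = n2898 := d33_1 D3124 (iv D2898) (iv F12550)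
theorem F13511 : act 8 n3124 = n3124 := d35_2 D2895 D3124 (iv D3124) (iv D2895) F11546
def n3125 : Q := act 8 n2896
theorem D3125 : act 8 n2896 = n3125 := rfl
theorem F13512 : act 0 n3125 = n2964 := d7_1 D3125 (iv D2964) (iv F12551)
theorem F13513 : act 1 n3125 = n3125 := d14_1 D3125 (iv D3125) F12552
theorem F13514 : act 2 n3125 = n2960 := d20_1 D3125 (iv D2960) (iv F12553)
theorem F13515 : act 3 n3125 = n2942 := d25_1 D3125 (iv D2942) (iv F12554)
theorem F13516 : act 4 n3125 = n2900 := d29_1 D3125 (iv D2900) (iv F12555)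
theorem F13517 : act 5 n3125 = n2897 := d32_1 D3125 (iv D2897) D2896
theorem F13518 : act 6 n3125 = n3048 := d34_1 D3125 (iv D3048) (iv F12556)
def n3126 : Q := act 7 n2897
theorem D3126 : act 7 n2897 = n3126 := rfl
theorem F13519 : act 0 n3126 = n2965 := d6_1 D3126 (iv D2965) (iv F12558)
theorem F13520 : act 1 n3126 = n3126 := d13_1 D3126 (iv D3126) F12559
theorem F13521 : act 2 n3126 = n2961 := d19_1 D3126 (iv D2961) (iv F12560)
theorem F13522 : act 3 n3126 = n3085 := d24_1 D3126 (iv D3085) F12381 (iv F11775) (iv F12561)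
theorem F13523 : act 4 n3126 = n2898 := d28_1 D3126 (iv D2898) (iv F12562)
theorem F13524 : act 6 n3126 = n2944 := d33_1 D3126 (iv D2944) (iv F12563)
theorem F13525 : act 8 n3126 = n3126 := d35_2 D2897 D3126 (iv D3126) (iv D2897) F11567
def n3127 : Q := act 8 n2899
theorem D3127 : act 8 n2899 = n3127 := rfl
theorem F13526 : act 0 n3127 = n3038 := d7_1 D3127 (iv D3038) (iv F12569)
theorem F13527 : act 1 n3127 = n3127 := d14_1 D3127 (iv D3127) F12570
theorem F13528 : act 2 n3127 = n2962 := d20_1 D3127 (iv D2962) (iv F12571)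
theorem F13529 : act 3 n3127 = n3127 := d25_1 D3127 (iv D3127) F12572
theorem F13530 : act 4 n3127 = n3048 := d29_1 D3127 (iv D3048) (iv F12573)
theorem F13531 : act 5 n3127 = n3127 := d32_1 D3127 (iv D3127) F12574
theorem F13532 : act 6 n3127 = n2900 := d34_1 D3127 (iv D2900) D2899
def n3128 : Q := act 7 n2900
theorem D3128 : act 7 n2900 = n3128 := rfl
theorem F13533 : act 1 n3128 = n3128 := d13_1 D3128 (iv D3128) F12576
theorem F13534 : act 2 n3128 = n2963 := d19_1 D3128 (iv D2963) (iv F12577)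
theorem F13535 : act 5 n3128 = n2901 := d31_1 D3128 (iv D2901) (iv F12579)
theorem F13536 : act 8 n3128 = n3128 := d35_2 D2900 D3128 (iv D3128) (iv D2900) F11575
def n3129 : Q := act 3 n2901
theorem D3129 : act 3 n2901 = n3129 := rfl
theorem F13537 : act 1 n3129 = n3129 := d9_1 D3129 (iv D3129) F12580
theorem F13538 : act 4 n3129 = n3129 := d21_2 (iv F12582) D3129 (iv D3129) F12582 F11583
theorem F13539 : act 6 n3129 = n3129 := d23_2 F12583 D3129 (iv D3129)
theorem F13540 : act 7 n3129 = n3129 := d24_2 D2901 D3129 (iv D3129) (iv D2901) F11578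
theorem F13541 : act 8 n3129 = n3129 := d25_2 F12584 D3129 (iv D3129)
def n3130 : Q := act 8 n2902
theorem D3130 : act 8 n2902 = n3130 := rfl
theorem F13542 : act 0 n3130 = n2992 := d7_1 D3130 (iv D2992) (iv F12585)
theorem F13543 : act 1 n3130 = n2903 := d14_1 D3130 (iv D2903) D2902
theorem F13544 : act 2 n3130 = n2909 := d20_1 D3130 (iv D2909) (iv F12586)
theorem F13545 : act 3 n3130 = n2923 := d25_1 D3130 (iv D2923) (iv F12587)
theorem F13546 : act 4 n3130 = n2967 := d29_1 D3130 (iv D2967) (iv F12588)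
theorem F13547 : act 5 n3130 = n3130 := d32_1 D3130 (iv D3130) F12589
theorem F13548 : act 6 n3130 = n2925 := d34_1 D3130 (iv D2925) (iv F12590)
def n3131 : Q := act 7 n2903
theorem D3131 : act 7 n2903 = n3131 := rfl
theorem F13549 : act 0 n3131 = n2958 := d6_1 D3131 (iv D2958) (iv F12592)
theorem F13550 : act 2 n3131 = n2904 := d19_1 D3131 (iv D2904) (iv F12593)
theorem F13551 : act 3 n3131 = n3035 := d24_1 D3131 (iv D3035) F12138 (iv F11744) (iv F12594)
theorem F13552 : act 4 n3131 = n2968 := d28_1 D3131 (iv D2968) (iv F12595)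
theorem F13553 : act 5 n3131 = n3131 := d31_1 D3131 (iv D3131) F12596
theorem F13554 : act 6 n3131 = n2939 := d33_1 D3131 (iv D2939) (iv F12597)
theorem F13555 : act 8 n3131 = n3131 := d35_2 D2903 D3131 (iv D3131) (iv D2903) F11591
def n3132 : Q := act 8 n2905
theorem D3132 : act 8 n2905 = n3132 := rfl
theorem F13556 : act 0 n3132 = n2977 := d7_1 D3132 (iv D2977) (iv F12609)
theorem F13557 : act 1 n3132 = n2906 := d14_1 D3132 (iv D2906) D2905
theorem F13558 : act 2 n3132 = n2925 := d20_1 D3132 (iv D2925) (iv F12603)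
theorem F13559 : act 3 n3132 = n3132 := d25_1 D3132 (iv D3132) F12604
theorem F13560 : act 4 n3132 = n2971 := d29_1 D3132 (iv D2971) (iv F12605)
theorem F13561 : act 5 n3132 = n2926 := d32_1 D3132 (iv D2926) (iv F12606)
theorem F13562 : act 6 n3132 = n2909 := d34_1 D3132 (iv D2909) (iv F12607)
def n3133 : Q := act 7 n2906
theorem D3133 : act 7 n2906 = n3133 := rfl
theorem F13563 : act 0 n3133 = n3133 := d6_1 D3133 (iv D3133) F12610
theorem F13564 : act 2 n3133 = n2907 := d19_1 D3133 (iv D2907) (iv F12611)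
theorem F13565 : act 4 n3133 = n2972 := d28_1 D3133 (iv D2972) (iv F12613)
theorem F13566 : act 6 n3133 = n2910 := d33_1 D3133 (iv D2910) (iv F12614)
theorem F13567 : act 8 n3133 = n3133 := d35_2 D2906 D3133 (iv D3133) (iv D2906) F11600
def n3134 : Q := act 8 n2908
theorem D3134 : act 8 n2908 = n3134 := rfl
theorem F13568 : act 0 n3134 = n2909 := d7_1 D3134 (iv D2909) D2908
theorem F13569 : act 1 n3134 = n3134 := d14_1 D3134 (iv D3134) F12620
theorem F13570 : act 2 n3134 = n2992 := d20_1 D3134 (iv D2992) (iv F12621)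
theorem F13571 : act 3 n3134 = n3134 := d25_1 D3134 (iv D3134) F12622
theorem F13572 : act 4 n3134 = n2973 := d29_1 D3134 (iv D2973) (iv F12623)
theorem F13573 : act 5 n3134 = n3134 := d32_1 D3134 (iv D3134) F12624
theorem F13574 : act 6 n3134 = n2977 := d34_1 D3134 (iv D2977) (iv F12625)
def n3135 : Q := act 7 n2909
theorem D3135 : act 7 n2909 = n3135 := rfl
theorem F13575 : act 1 n3135 = n2910 := d13_1 D3135 (iv D2910) (iv F12627)
theorem F13576 : act 4 n3135 = n2974 := d28_1 D3135 (iv D2974) (iv F12629)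
theorem F13577 : act 5 n3135 = n3135 := d31_1 D3135 (iv D3135) F12630
theorem F13578 : act 8 n3135 = n3135 := d35_2 D2909 D3135 (iv D3135) (iv D2909) F11608
def n3136 : Q := act 3 n2910
theorem D3136 : act 3 n2910 = n3136 := rfl
theorem F13579 : act 0 n3136 = n3136 := d2_1 D3136 (iv D3136) F12631
theorem F13580 : act 2 n3136 = n3136 := d15_1 D3136 (iv D3136) F12632 F11615 (iv F12632)
theorem F13581 : act 5 n3136 = n3136 := d22_2 F12634 D3136 (iv D3136)
theorem F13582 : act 7 n3136 = n3136 := d24_2 D2910 D3136 (iv D3136) (iv D2910) F11611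
theorem F13583 : act 8 n3136 = n3136 := d25_2 F12635 D3136 (iv D3136)
def n3137 : Q := act 2 n2911
theorem D3137 : act 2 n2911 = n3137 := rfl
theorem F13584 : act 0 n3137 = n3097 := d1_1 D3137 F13410 (iv F12636)
theorem F13585 : act 1 n3137 = n3057 := d8_1 D3137 F13287 F12287 (iv F11967) (iv F12637)
theorem F13586 : act 3 n3137 = n3137 := d15_2 D2911 D3137 (iv D3137) (iv D2911) F11621
theorem F13587 : act 5 n3137 = n3015 := d17_2 (iv F12638) D3137 F13120
theorem F13588 : act 6 n3137 = n3064 := d18_2 (iv F12639) D3137 F13315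
theorem F13589 : act 7 n3137 = n2913 := d19_2 (iv F12640) D3137 (iv D2913)
theorem F13590 : act 4 n3017 = n3137 := d26_5 F13587 (iv D3015) F12089 D2768 D3017
def n3138 : Q := act 4 n2911
theorem D3138 : act 4 n2911 = n3138 := rfl
theorem F13591 : act 0 n3138 = n3012 := d3_1 D3138 F13113 (iv F12636)
theorem F13592 : act 1 n3138 = n2985 := d10_1 D3138 (iv D2985) (iv F12637)
theorem F13593 : act 2 n3138 = n3017 := d16_1 D3138 F13590 (iv D3137)
theorem F13594 : act 3 n3138 = n3138 := d21_1 D3138 (iv D3138) (iv D2911) F11622 D2911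
theorem F13595 : act 5 n3138 = n3000 := d26_2 (iv F12638) D3138 (iv D3000) F12031 (iv F12187)
theorem F13596 : act 6 n3138 = n3095 := d27_2 (iv F12639) D3138 (iv D3095)
theorem F13597 : act 7 n3138 = n2914 := d28_2 (iv F12640) D3138 (iv D2914)
def n3139 : Q := act 8 n2911
theorem D3139 : act 8 n2911 = n3139 := rfl
theorem F13598 : act 0 n3139 = n3100 := d7_1 D3139 (iv D3100) (iv F12636)
theorem F13599 : act 1 n3139 = n2986 := d14_1 D3139 (iv D2986) (iv F12637)
theorem F13600 : act 3 n3139 = n2912 := d25_1 D3139 (iv D2912) D2911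
theorem F13601 : act 5 n3139 = n3040 := d32_1 D3139 (iv D3040) (iv F12638)
theorem F13602 : act 6 n3139 = n3096 := d34_1 D3139 (iv D3096) (iv F12639)
def n3140 : Q := act 4 n2913
theorem D3140 : act 4 n2913 = n3140 := rfl
theorem F13603 : act 0 n3140 = n3023 := d3_1 D3140 F13146 (iv F12648)
theorem F13604 : act 1 n3140 = n3051 := d10_1 D3140 F13258 (iv F12649)
theorem F13605 : act 2 n3140 = n2914 := d16_1 D3140 (iv D2914) D2913
theorem F13606 : act 3 n3140 = n3140 := d21_1 D3140 (iv D3140) F12650 F11657 (iv F12650)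
theorem F13607 : act 5 n3140 = n3004 := d26_2 (iv F12651) D3140 (iv D3004) F12053 (iv F12209)
theorem F13608 : act 6 n3140 = n3072 := d27_2 (iv F12652) D3140 (iv D3072)
theorem F13609 : act 7 n3140 = n3017 := d28_2 F13589 D3140 F13590
def n3141 : Q := act 8 n2913
theorem D3141 : act 8 n2913 = n3141 := rfl
theorem F13610 : act 0 n3141 = n3108 := d7_1 D3141 (iv D3108) (iv F12648)
theorem F13611 : act 1 n3141 = n3069 := d14_1 D3141 (iv D3069) (iv F12649)
theorem F13612 : act 2 n3141 = n2915 := d20_1 D3141 (iv D2915) D2913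
theorem F13613 : act 3 n3141 = n2918 := d25_1 D3141 (iv D2918) (iv F12650)
theorem F13614 : act 5 n3141 = n3043 := d32_1 D3141 (iv D3043) (iv F12651)
theorem F13615 : act 6 n3141 = n3073 := d34_1 D3141 (iv D3073) (iv F12652)
def n3142 : Q := act 8 n2914
theorem D3142 : act 8 n2914 = n3142 := rfl
theorem F13616 : act 0 n3142 = n3027 := d7_1 D3142 (iv D3027) (iv F12653)
theorem F13617 : act 1 n3142 = n2988 := d14_1 D3142 (iv D2988) (iv F12654)
theorem F13618 : act 3 n3142 = n2916 := d25_1 D3142 (iv D2916) (iv F12655)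
theorem F13619 : act 4 n3142 = n2915 := d29_1 D3142 (iv D2915) D2914
theorem F13620 : act 5 n3142 = n3006 := d32_1 D3142 (iv D3006) (iv F12656)
theorem F13621 : act 6 n3142 = n3106 := d34_1 D3142 (iv D3106) (iv F12657)
def n3143 : Q := act 7 n2915
theorem D3143 : act 7 n2915 = n3143 := rfl
theorem F13622 : act 0 n3143 = n3110 := d6_1 D3143 (iv D3110) (iv F12658)
theorem F13623 : act 1 n3143 = n2989 := d13_1 D3143 (iv D2989) (iv F12659)
theorem F13624 : act 3 n3143 = n2957 := d24_1 D3143 (iv D2957) F11815 (iv F11635) (iv F12660)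
theorem F13625 : act 5 n3143 = n3044 := d31_1 D3143 (iv D3044) (iv F12661)
theorem F13626 : act 6 n3143 = n3107 := d33_1 D3143 (iv D3107) (iv F12662)
def n3144 : Q := act 7 n2916
theorem D3144 : act 7 n2916 = n3144 := rfl
theorem F13627 : act 0 n3144 = n3033 := d6_1 D3144 (iv D3033) (iv F12663)
theorem F13628 : act 1 n3144 = n2991 := d13_1 D3144 (iv D2991) (iv F12664)
theorem F13629 : act 2 n3144 = n3144 := d19_1 D3144 (iv D3144) F12665
theorem F13630 : act 4 n3144 = n2917 := d28_1 D3144 (iv D2917) (iv F12666)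
theorem F13631 : act 5 n3144 = n3011 := d31_1 D3144 (iv D3011) (iv F12667)
theorem F13632 : act 6 n3144 = n3115 := d33_1 D3144 (iv D3115) (iv F12668)
theorem F13633 : act 8 n3144 = n3144 := d35_2 D2916 D3144 (iv D3144) (iv D2916) F11641
def n3145 : Q := act 7 n2918
theorem D3145 : act 7 n2918 = n3145 := rfl
theorem F13634 : act 0 n3145 = n3116 := d6_1 D3145 (iv D3116) (iv F12676)
theorem F13635 : act 1 n3145 = n3081 := d13_1 D3145 (iv D3081) (iv F12677)
theorem F13636 : act 2 n3145 = n2919 := d19_1 D3145 (iv D2919) (iv F12678)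
theorem F13637 : act 4 n3145 = n3145 := d28_1 D3145 (iv D3145) F12679
theorem F13638 : act 5 n3145 = n3047 := d31_1 D3145 (iv D3047) (iv F12680)
theorem F13639 : act 6 n3145 = n3083 := d33_1 D3145 (iv D3083) (iv F12681)
theorem F13640 : act 8 n3145 = n3145 := d35_2 D2918 D3145 (iv D3145) (iv D2918) F11660
def n3146 : Q := act 3 n2920
theorem D3146 : act 3 n2920 = n3146 := rfl
theorem F13641 : act 0 n3146 = n2996 := d2_1 D3146 (iv D2996) (iv F12689)
theorem F13642 : act 1 n3146 = n2932 := d9_1 D3146 (iv D2932) (iv F12690)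
theorem F13643 : act 4 n3146 = n2953 := d21_2 (iv F12692) D3146 F12851 (iv F12588) F12587
theorem F13644 : act 5 n3146 = n3094 := d22_2 (iv F12693) D3146 F13402
theorem F13645 : act 6 n3146 = n2921 := d23_2 (iv F12694) D3146 (iv D2921)
theorem F13646 : act 7 n3146 = n3020 := d24_2 D2920 D3146 F13136 F12148 (iv F11677)
theorem F13647 : act 2 n3146 = n3021 := d37_4 D2673 F11689 (iv F12692) D3146 F13139 (iv F13077) F13081 D3017 F13590 F13586 (iv D3137) F12637 F11966 (iv F11946) F11944 (iv F12248) (iv D2806) F11194 F11193 F10184 (iv D2059) (iv F8798) (iv D1963) F7954 F7953 F7182 F6446 D1572 F7203 F6451 F5920 F5919 (iv F5965) (iv F6763) (iv D1465) D1464 D1654 F7552 (iv F7616) F7615 F6824 F7378 (iv D1610) F6619 F5801 F5010 F4279 F4278 F4282 F4281 F3659 F3658 (iv F4326) (iv F5050) (iv F5849) F5853 (iv F6588) (iv F7277) (iv F8072) (iv F8942) (iv F9891) (iv F10665)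
def n3147 : Q := act 8 n2920
theorem D3147 : act 8 n2920 = n3147 := rfl
theorem F13648 : act 0 n3147 = n2997 := d7_1 D3147 (iv D2997) (iv F12689)
theorem F13649 : act 1 n3147 = n2933 := d14_1 D3147 (iv D2933) (iv F12690)
theorem F13650 : act 2 n3147 = n3147 := d20_1 D3147 (iv D3147) F12691
theorem F13651 : act 4 n3147 = n2923 := d29_1 D3147 (iv D2923) (iv F12692)
theorem F13652 : act 5 n3147 = n3111 := d32_1 D3147 (iv D3111) (iv F12693)
theorem F13653 : act 6 n3147 = n2922 := d34_1 D3147 (iv D2922) (iv F12694)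
theorem F13654 : act 7 n3147 = n3080 := d35_1 D3147 (iv D3080) F12352 (iv F11680) D2920
def n3148 : Q := act 2 n2921
theorem D3148 : act 2 n2921 = n3148 := rfl
theorem F13655 : act 0 n3148 = n2998 := d1_1 D3148 (iv D2998) (iv F12695)
theorem F13656 : act 1 n3148 = n3000 := d8_1 D3148 F13058 F12767 (iv D2934) (iv F12696)
theorem F13657 : act 3 n3148 = n3148 := d15_2 D2921 D3148 (iv D3148) (iv D2921) F11683
theorem F13658 : act 5 n3148 = n2985 := d17_2 (iv F12697) D3148 F12993
theorem F13659 : act 6 n3148 = n3021 := d18_2 F13645 D3148 (iv F13647)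
theorem F13660 : act 7 n3148 = n2987 := d19_2 (iv F12698) D3148 F13003
theorem F13661 : act 4 n2994 = n3148 := d37_2 (iv F12200) (iv F13031) F13657 (iv D3148) F12696 F11733 (iv F11793) F11792 (iv F12275) (iv D2811) F11217 F10215 F10214 (iv D2066) D2065 F9232 F9231 (iv F10242) F10241 (iv F9858) D2479 F10911 F10325 (iv F10113) F10112 F9128 F8249 (iv D1821) F7433 (iv F8244) F8243 F8242 (iv F8379) F8378 D1889 (iv F9063) F9062 (iv F9936) (iv F10968) (iv F12013) (iv F12689) (iv D2920) F11679 F11445 F11444 F10434 F9430 (iv D2124) (iv F9415) (iv F10042) F10041 (iv F10828) (iv F11853) (iv D2713) (iv F11776) F11780 F11778 F11259 (iv F12285) (iv D2813) (iv F12247) F12246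
def n3149 : Q := act 4 n2921
theorem D3149 : act 4 n2921 = n3149 := rfl
theorem F13662 : act 0 n3149 = n2987 := d3_1 D3149 F13005 (iv F12695)
theorem F13663 : act 1 n3149 = n2935 := d10_1 D3149 (iv D2935) (iv F12696)
theorem F13664 : act 2 n3149 = n2994 := d16_1 D3149 F13661 (iv D3148)
theorem F13665 : act 3 n3149 = n2924 := d21_1 D3149 (iv D2924) (iv D2674) (iv F11684) D2921
theorem F13666 : act 5 n3149 = n2981 := d26_2 (iv F12697) D3149 (iv D2981) F11944 (iv F12248)
theorem F13667 : act 6 n3149 = n2953 := d27_2 F13645 D3149 (iv F13643)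
theorem F13668 : act 7 n3149 = n2998 := d28_2 (iv F12698) D3149 F13052
def n3150 : Q := act 8 n2921
theorem D3150 : act 8 n2921 = n3150 := rfl
theorem F13669 : act 0 n3150 = n2999 := d7_1 D3150 (iv D2999) (iv F12695)
theorem F13670 : act 1 n3150 = n2936 := d14_1 D3150 (iv D2936) (iv F12696)
theorem F13671 : act 3 n3150 = n2922 := d25_1 D3150 (iv D2922) D2921
theorem F13672 : act 5 n3150 = n3050 := d32_1 D3150 (iv D3050) (iv F12697)
def n3151 : Q := act 8 n2924
theorem D3151 : act 8 n2924 = n3151 := rfl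
theorem F13673 : act 0 n3151 = n2990 := d7_1 D3151 (iv D2990) (iv F12711)
theorem F13674 : act 1 n3151 = n2938 := d14_1 D3151 (iv D2938) (iv F12712)
theorem F13675 : act 2 n3151 = n2971 := d20_1 D3151 (iv D2971) (iv F12713)
theorem F13676 : act 4 n3151 = n2925 := d29_1 D3151 (iv D2925) D2924
theorem F13677 : act 5 n3151 = n2983 := d32_1 D3151 (iv D2983) (iv F12714)
theorem F13678 : act 6 n3151 = n2967 := d34_1 D3151 (iv D2967) (iv F12715)
def n3152 : Q := act 7 n2925
theorem D3152 : act 7 n2925 = n3152 := rfl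
theorem F13679 : act 0 n3152 = n2993 := d6_1 D3152 (iv D2993) (iv F12717)
theorem F13680 : act 1 n3152 = n2939 := d13_1 D3152 (iv D2939) (iv F12718)
theorem F13681 : act 3 n3152 = n2963 := d24_1 D3152 (iv D2963) F11835 (iv F11699) (iv F12719)
theorem F13682 : act 5 n3152 = n2927 := d31_1 D3152 (iv D2927) (iv F12720)
theorem F13683 : act 8 n3152 = n3152 := d35_2 D2925 D3152 (iv D3152) (iv D2925) F11694
def n3153 : Q := act 7 n2926
theorem D3153 : act 7 n2926 = n3153 := rfl
theorem F13684 : act 0 n3153 = n2978 := d6_1 D3153 (iv D2978) (iv F12721)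
theorem F13685 : act 2 n3153 = n2927 := d19_1 D3153 (iv D2927) (iv F12722)
theorem F13686 : act 4 n3153 = n2976 := d28_1 D3153 (iv D2976) (iv F12724)
theorem F13687 : act 6 n3153 = n3153 := d33_1 D3153 (iv D3153) F12725
theorem F13688 : act 8 n3153 = n3153 := d35_2 D2926 D3153 (iv D3153) (iv D2926) F11704
def n3154 : Q := act 3 n2928
theorem D3154 : act 3 n2928 = n3154 := rfl
theorem F13689 : act 0 n3154 = n2945 := d2_1 D3154 (iv D2945) (iv F12732)
theorem F13690 : act 1 n3154 = n3020 := d9_1 D3154 F13136 (iv F12733)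
theorem F13691 : act 5 n3154 = n3077 := d22_2 (iv F12736) D3154 F13350
theorem F13692 : act 6 n3154 = n2929 := d23_2 (iv F12737) D3154 (iv D2929)
theorem F13693 : act 7 n3154 = n2932 := d24_2 D2928 D3154 (iv D2932) (iv D2681) (iv F11713)
theorem F13694 : act 2 n3154 = n2948 := d37_4 (iv F12352) (iv F12736) F12735 D3154 F12831 (iv F13057) F13061 (iv F12656) (iv D2914) (iv D2663) F10619 F9651 F8753 (iv D1954) F7919 (iv D1620) F6668 F5894 F5095 F4590 (iv F4774) (iv D1021) (iv D860) (iv D713) (iv F3474) F2696 F2158 D563 F2705 F2704 F2703 F2702 F3476 (iv F3179) (iv F3478) F3374 F3373 (iv D707) (iv F2866) (iv F3356) F3355 F2683 F2681 (iv D559) (iv F2632) (iv F3064) (iv D641) F2449 (iv F3006) F3004 D631 D782 F3728 (iv F4422) (iv F5195) D1302 (iv F6837) (iv F7624) D1888 D2119 D2366 D2619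
theorem F13695 : act 4 n2947 = n3154 := d38_3 (iv F13290) F13289 (iv F12829) (iv D3154) F12734 F12733 F12148 F11115 (iv D2396) (iv D2155) (iv D1929) F7833 F7091 (iv D1367) (iv D1177) (iv D994) F3920 (iv D827) F3219 (iv F3008) F3010 F2457 D643 F3076 F2469 (iv F2499) F2498 F2501 D657 F3136 F2520 (iv F2531) F2530 F2529 (iv F3282) F2923 (iv F3281) F2025 F2024 F2023 F2022 (iv D415) F1638 D414 (iv F3277) D616 D760 D909 F4288 (iv F4249) (iv F4927) D1230 D1402 D1579 (iv F7901) D1950 F8735 (iv F9636) (iv F10620) D2663 D2913 F12649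
def n3155 : Q := act 8 n2928
theorem D3155 : act 8 n2928 = n3155 := rfl
theorem F13696 : act 0 n3155 = n2946 := d7_1 D3155 (iv D2946) (iv F12732)
theorem F13697 : act 1 n3155 = n3036 := d14_1 D3155 (iv D3036) (iv F12733)
theorem F13698 : act 2 n3155 = n3155 := d20_1 D3155 (iv D3155) F12734
theorem F13699 : act 4 n3155 = n3155 := d29_1 D3155 (iv D3155) F12735
theorem F13700 : act 5 n3155 = n3080 := d32_1 D3155 (iv D3080) (iv F12736)
theorem F13701 : act 6 n3155 = n2930 := d34_1 D3155 (iv D2930) (iv F12737)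
theorem F13702 : act 7 n3155 = n3111 := d35_1 D3155 (iv D3111) F12455 (iv F11716) D2928
def n3156 : Q := act 2 n2929
theorem D3156 : act 2 n2929 = n3156 := rfl
theorem F13703 : act 0 n3156 = n2947 := d1_1 D3156 (iv D2947) (iv F12738)
theorem F13704 : act 1 n3156 = n3004 := d8_1 D3156 F13078 (iv F13002) F13003 (iv F12739)
theorem F13705 : act 3 n3156 = n3156 := d15_2 D2929 D3156 (iv D3156) (iv D2929) F11719
theorem F13706 : act 5 n3156 = n3051 := d17_2 (iv F12740) D3156 (iv D3051)
theorem F13707 : act 6 n3156 = n2948 := d18_2 F13692 D3156 (iv F13694)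
theorem F13708 : act 7 n3156 = n2934 := d19_2 (iv F12741) D3156 (iv D2934)
theorem F13709 : act 4 n2945 = n3156 := d28_3 F13708 F12768 (iv F12821)
def n3157 : Q := act 4 n2929
theorem D3157 : act 4 n2929 = n3157 := rfl
theorem F13710 : act 0 n3157 = n2948 := d3_1 D3157 (iv D2948) (iv F12738)
theorem F13711 : act 1 n3157 = n2998 := d10_1 D3157 F13052 (iv F12739)
theorem F13712 : act 2 n3157 = n2945 := d16_1 D3157 F13709 (iv D3156)
theorem F13713 : act 3 n3157 = n3157 := d21_1 D3157 (iv D3157) (iv D2929) F11720 D2929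
theorem F13714 : act 5 n3157 = n3067 := d26_2 (iv F12740) D3157 (iv D3067) F12326 (iv F12259)
theorem F13715 : act 6 n3157 = n2947 := d27_2 F13692 D3157 F13695
theorem F13716 : act 7 n3157 = n2935 := d28_2 (iv F12741) D3157 (iv D2935)
def n3158 : Q := act 8 n2929
theorem D3158 : act 8 n2929 = n3158 := rfl
theorem F13717 : act 0 n3158 = n2949 := d7_1 D3158 (iv D2949) (iv F12738)
theorem F13718 : act 1 n3158 = n3102 := d14_1 D3158 (iv D3102) (iv F12739)
theorem F13719 : act 3 n3158 = n2930 := d25_1 D3158 (iv D2930) D2929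
theorem F13720 : act 5 n3158 = n3052 := d32_1 D3158 (iv D3052) (iv F12740)
def n3159 : Q := act 3 n2931
theorem D3159 : act 3 n2931 = n3159 := rfl
theorem F13721 : act 0 n3159 = n2950 := d2_1 D3159 (iv D2950) (iv F12748)
theorem F13722 : act 1 n3159 = n3094 := d9_1 D3159 F13402 (iv F12749)
theorem F13723 : act 2 n3159 = n2955 := d15_1 D3159 F12857 (iv F12553) F12554 (iv F12750)
theorem F13724 : act 5 n3159 = n2932 := d22_2 (iv F12752) D3159 (iv D2932)
theorem F13725 : act 6 n3159 = n3053 := d23_2 (iv F12753) D3159 (iv D3053)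
theorem F13726 : act 7 n3159 = n3077 := d24_2 D2931 D3159 F13350 F12352 (iv F11725)
theorem F13727 : act 4 n3074 = n3159 := d37_2 F13280 D3074 (iv D3159) F12750 F11767 F11766 (iv D2454) (iv D2202) F8816 F7963 F7188 F7187 F6453 (iv F7144) F7143 F7142 (iv F7887) F7886 (iv F8694) (iv F9562) D2402 F10555 F10554 D2404 F10563 F9736 (iv F9923) F9926 F9925 (iv F9641) (iv D2177) F8733 F7912 F7163 (iv D1563) D1562 D1747 F7918 F7917 (iv F8032) (iv F8886) D2223 F9850 F9285 F8354 (iv F9276) (iv F10194) F10193 F9218 F8637 D1926 F8640 F8639 F8638 (iv F7900) D1950 (iv F9636) (iv F10620) D2663 D2913 F12649 (iv F13276)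
def n3160 : Q := act 8 n2931
theorem D3160 : act 8 n2931 = n3160 := rfl
theorem F13728 : act 0 n3160 = n2951 := d7_1 D3160 (iv D2951) (iv F12748)
theorem F13729 : act 1 n3160 = n3111 := d14_1 D3160 (iv D3111) (iv F12749)
theorem F13730 : act 2 n3160 = n2942 := d20_1 D3160 (iv D2942) (iv F12750)
theorem F13731 : act 4 n3160 = n3160 := d29_1 D3160 (iv D3160) F12751
theorem F13732 : act 5 n3160 = n2933 := d32_1 D3160 (iv D2933) (iv F12752)
theorem F13733 : act 6 n3160 = n3054 := d34_1 D3160 (iv D3054) (iv F12753)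
theorem F13734 : act 7 n3160 = n3036 := d35_1 D3160 (iv D3036) F12148 (iv F11728) D2931
def n3161 : Q := act 8 n2932
theorem D3161 : act 8 n2932 = n3161 := rfl
theorem F13735 : act 0 n3161 = n2952 := d7_1 D3161 (iv D2952) (iv F12754)
theorem F13736 : act 2 n3161 = n2956 := d20_1 D3161 (iv D2956) (iv F12755)
theorem F13737 : act 3 n3161 = n2933 := d25_1 D3161 (iv D2933) D2932
theorem F13738 : act 4 n3161 = n2954 := d29_1 D3161 (iv D2954) (iv F12756)
theorem F13739 : act 6 n3161 = n2936 := d34_1 D3161 (iv D2936) (iv F12757)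
def n3162 : Q := act 8 n2934
theorem D3162 : act 8 n2934 = n3162 := rfl
theorem F13740 : act 0 n3162 = n2954 := d7_1 D3162 (iv D2954) (iv F12763)
theorem F13741 : act 1 n3162 = n3018 := d14_1 D3162 (iv D3018) F12767
theorem F13742 : act 2 n3162 = n2936 := d20_1 D3162 (iv D2936) D2934
theorem F13743 : act 3 n3162 = n2943 := d25_1 D3162 (iv D2943) (iv F12764)
theorem F13744 : act 4 n3162 = n2952 := d29_1 D3162 (iv D2952) (iv F12768)
theorem F13745 : act 5 n3162 = n3058 := d32_1 D3162 (iv D3058) (iv F12765)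
theorem F13746 : act 6 n3162 = n2956 := d34_1 D3162 (iv D2956) (iv F12766)
def n3163 : Q := act 5 n2935
theorem D3163 : act 5 n2935 = n3163 := rfl
theorem F13747 : act 0 n3163 = n2955 := d4_1 D3163 (iv D2955) (iv F12769)
theorem F13748 : act 1 n3163 = n2981 := d11_1 D3163 (iv F13666) F13663
theorem F13749 : act 2 n3163 = n2950 := d17_1 D3163 F12838 (iv F12770)
theorem F13750 : act 3 n3163 = n2937 := d22_1 D3163 (iv D2937) (iv F12771)
theorem F13751 : act 4 n3163 = n2979 := d26_1 D3163 F12962 (iv D2814) (iv F11734) D2935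
theorem F13752 : act 6 n3163 = n3042 := d30_2 (iv F12772) D3163 F13221 F12332 (iv F11811)
theorem F13753 : act 7 n3163 = n3067 := d31_2 F13716 D3163 (iv F13714)
def n3164 : Q := act 8 n2935
theorem D3164 : act 8 n2935 = n3164 := rfl
theorem F13754 : act 0 n3164 = n2956 := d7_1 D3164 (iv D2956) (iv F12769)
theorem F13755 : act 2 n3164 = n2952 := d20_1 D3164 (iv D2952) (iv F12770)
theorem F13756 : act 3 n3164 = n2938 := d25_1 D3164 (iv D2938) (iv F12771)
theorem F13757 : act 4 n3164 = n2936 := d29_1 D3164 (iv D2936) D2935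
theorem F13758 : act 6 n3164 = n2954 := d34_1 D3164 (iv D2954) (iv F12772)
def n3165 : Q := act 7 n2936
theorem D3165 : act 7 n2936 = n3165 := rfl
theorem F13759 : act 0 n3165 = n2957 := d6_1 D3165 (iv D2957) (iv F12773)
theorem F13760 : act 3 n3165 = n3110 := d24_1 D3165 (iv D3110) F12442 (iv F11739) (iv F12774)
theorem F13761 : act 5 n3165 = n3060 := d31_1 D3165 (iv D3060) (iv F12775)
def n3166 : Q := act 8 n2937
theorem D3166 : act 8 n2937 = n3166 := rfl
theorem F13762 : act 0 n3166 = n2960 := d7_1 D3166 (iv D2960) (iv F12776)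
theorem F13763 : act 1 n3166 = n2983 := d14_1 D3166 (iv D2983) (iv F12777)
theorem F13764 : act 2 n3166 = n2964 := d20_1 D3166 (iv D2964) (iv F12778)
theorem F13765 : act 4 n3166 = n2940 := d29_1 D3166 (iv D2940) (iv F12779)
theorem F13766 : act 5 n3166 = n2938 := d32_1 D3166 (iv D2938) D2937
theorem F13767 : act 6 n3166 = n3046 := d34_1 D3166 (iv D3046) (iv F12780)
def n3167 : Q := act 7 n2938
theorem D3167 : act 7 n2938 = n3167 := rfl
theorem F13768 : act 0 n3167 = n2961 := d6_1 D3167 (iv D2961) (iv F12782)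
theorem F13769 : act 2 n3167 = n2965 := d19_1 D3167 (iv D2965) (iv F12783)
theorem F13770 : act 4 n3167 = n2939 := d28_1 D3167 (iv D2939) (iv F12784)
theorem F13771 : act 6 n3167 = n2968 := d33_1 D3167 (iv D2968) (iv F12785)
theorem F13772 : act 8 n3167 = n3167 := d35_2 D2938 D3167 (iv D3167) (iv D2938) F11748
def n3168 : Q := act 7 n2940
theorem D3168 : act 7 n2940 = n3168 := rfl
theorem F13773 : act 0 n3168 = n2963 := d6_1 D3168 (iv D2963) (iv F12790)
theorem F13774 : act 1 n3168 = n2984 := d13_1 D3168 (iv D2984) (iv F12791)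
theorem F13775 : act 3 n3168 = n2993 := d24_1 D3168 (iv D2993) F12001 (iv F11941) (iv F12792)
theorem F13776 : act 5 n3168 = n2941 := d31_1 D3168 (iv D2941) (iv F12793)
theorem F13777 : act 6 n3168 = n3112 := d33_1 D3168 (iv D3112) (iv F12794)
theorem F13778 : act 8 n3168 = n3168 := d35_2 D2940 D3168 (iv D3168) (iv D2940) F11755
def n3169 : Q := act 7 n2943
theorem D3169 : act 7 n2943 = n3169 := rfl
theorem F13779 : act 0 n3169 = n2968 := d6_1 D3169 (iv D2968) (iv F12807)
theorem F13780 : act 1 n3169 = n3031 := d13_1 D3169 (iv D3031) (iv F12808)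
theorem F13781 : act 2 n3169 = n2944 := d19_1 D3169 (iv D2944) (iv F12809)
theorem F13782 : act 4 n3169 = n2958 := d28_1 D3169 (iv D2958) (iv F12810)
theorem F13783 : act 5 n3169 = n3063 := d31_1 D3169 (iv D3063) (iv F12811)
theorem F13784 : act 6 n3169 = n2961 := d33_1 D3169 (iv D2961) (iv F12812)
theorem F13785 : act 8 n3169 = n3169 := d35_2 D2943 D3169 (iv D3169) (iv D2943) F11780
def n3170 : Q := act 8 n2945
theorem D3170 : act 8 n2945 = n3170 := rfl
theorem F13786 : act 1 n3170 = n3005 := d14_1 D3170 (iv D3005) (iv F12818)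
theorem F13787 : act 3 n3170 = n2946 := d25_1 D3170 (iv D2946) D2945
theorem F13788 : act 5 n3170 = n3092 := d32_1 D3170 (iv D3092) (iv F12819)
theorem F13789 : act 6 n3170 = n2949 := d34_1 D3170 (iv D2949) (iv F12820)
def n3171 : Q := act 1 n2947
theorem D3171 : act 1 n2947 = n3171 := rfl
theorem F13790 : act 0 n3171 = n3021 := d0_1 D3171 F13139 (iv F13077) (iv F13704) F13703
theorem F13791 : act 2 n3171 = n2996 := d8_2 D2947 D3171 F13041 F12041 (iv F11791)
theorem F13792 : act 3 n3171 = n3171 := d9_2 F12828 D3171 (iv D3171)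
theorem F13793 : act 4 n3171 = n3020 := d10_2 (iv F13695) D3171 (iv F13690)
theorem F13794 : act 5 n3171 = n3064 := d11_2 (iv F12829) D3171 (iv D3064)
theorem F13795 : act 6 n3171 = n2998 := d12_2 F13715 D3171 (iv F13711)
theorem F13796 : act 7 n3171 = n2953 := d13_2 (iv F12830) D3171 (iv D2953)
def n3172 : Q := act 8 n2947
theorem D3172 : act 8 n2947 = n3172 := rfl
theorem F13797 : act 2 n3172 = n2949 := d20_1 D3172 (iv D2949) D2947
theorem F13798 : act 3 n3172 = n3172 := d25_1 D3172 (iv D3172) F12828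
theorem F13799 : act 5 n3172 = n3065 := d32_1 D3172 (iv D3065) (iv F12829)
def n3173 : Q := act 5 n2948
theorem D3173 : act 5 n2948 = n3173 := rfl
theorem F13800 : act 0 n3173 = n3067 := d4_1 D3173 (iv F13714) F13710
theorem F13801 : act 1 n3173 = n3012 := d11_1 D3173 (iv D3012) (iv F12831)
theorem F13802 : act 2 n3173 = n3077 := d17_1 D3173 (iv F13691) F13694
theorem F13803 : act 3 n3173 = n3173 := d22_1 D3173 (iv D3173) F12832
theorem F13804 : act 4 n3173 = n3053 := d26_1 D3173 F13268 F12275 (iv F11792) D2948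
theorem F13805 : act 6 n3173 = n3074 := d30_2 F13707 D3173 (iv D3074) (iv F13259) (iv F13706)
theorem F13806 : act 7 n3173 = n2955 := d31_2 (iv F12833) D3173 (iv D2955)
def n3174 : Q := act 8 n2948
theorem D3174 : act 8 n2948 = n3174 := rfl
theorem F13807 : act 1 n3174 = n3013 := d14_1 D3174 (iv D3013) (iv F12831)
theorem F13808 : act 3 n3174 = n3174 := d25_1 D3174 (iv D3174) F12832
theorem F13809 : act 4 n3174 = n2949 := d29_1 D3174 (iv D2949) D2948
def n3175 : Q := act 7 n2949
theorem D3175 : act 7 n2949 = n3175 := rfl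
theorem F13810 : act 1 n3175 = n3014 := d13_1 D3175 (iv D3014) (iv F12834)
theorem F13811 : act 5 n3175 = n3066 := d31_1 D3175 (iv D3066) (iv F12836)
theorem F13812 : act 8 n3175 = n2957 := d35_2 D2949 D3175 (iv D2957) (iv D2702) (iv F11793)
def n3176 : Q := act 4 n2950
theorem D3176 : act 4 n2950 = n3176 := rfl
theorem F13813 : act 0 n3176 = n3074 := d3_1 D3176 F13727 F13721
theorem F13814 : act 1 n3176 = n3015 := d10_1 D3176 (iv D3015) (iv F12837)
theorem F13815 : act 2 n3176 = n2979 := d16_1 D3176 (iv F13751) F13749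
theorem F13816 : act 3 n3176 = n3176 := d21_1 D3176 (iv D3176) (iv D2950) F11800 D2950
theorem F13817 : act 5 n3176 = n3057 := d26_2 (iv F12838) D3176 (iv D3057) (iv F12765) F12768
theorem F13818 : act 6 n3176 = n3067 := d27_2 (iv F12839) D3176 (iv D3067)
theorem F13819 : act 7 n3176 = n3042 := d28_2 (iv F12840) D3176 F13220
def n3177 : Q := act 8 n2950
theorem D3177 : act 8 n2950 = n3177 := rfl
theorem F13820 : act 1 n3177 = n3016 := d14_1 D3177 (iv D3016) (iv F12837)
theorem F13821 : act 3 n3177 = n2951 := d25_1 D3177 (iv D2951) D2950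
theorem F13822 : act 5 n3177 = n2952 := d32_1 D3177 (iv D2952) (iv F12838)
theorem F13823 : act 6 n3177 = n3068 := d34_1 D3177 (iv D3068) (iv F12839)
def n3178 : Q := act 7 n2952
theorem D3178 : act 7 n2952 = n3178 := rfl
theorem F13824 : act 1 n3178 = n3019 := d13_1 D3178 (iv D3019) (iv F12847)
theorem F13825 : act 3 n3178 = n3107 := d24_1 D3178 (iv D3107) F12435 (iv F11809) (iv F12848)
theorem F13826 : act 6 n3178 = n2957 := d33_1 D3178 (iv D2957) (iv F12849)
def n3179 : Q := act 0 n2953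
theorem D3179 : act 0 n2953 = n3179 := rfl
theorem F13827 : act 1 n3179 = n3002 := d0_2 D2953 D3179 F13067 F12767 F12763
theorem F13828 : act 2 n3179 = n3020 := d1_2 (iv F12850) D3179 (iv D3020)
theorem F13829 : act 3 n3179 = n2966 := d2_2 (iv F12851) D3179 (iv D2966)
theorem F13830 : act 4 n3179 = n2996 := d3_2 F13643 D3179 (iv F13641)
theorem F13831 : act 5 n3179 = n3071 := d4_2 (iv F12852) D3179 (iv D3071)
theorem F13832 : act 6 n3179 = n2987 := d5_2 F13667 D3179 (iv F13662)
theorem F13833 : act 7 n3179 = n3021 := d6_2 F13796 D3179 (iv F13790)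
def n3180 : Q := act 8 n2953
theorem D3180 : act 8 n2953 = n3180 := rfl
theorem F13834 : act 1 n3180 = n2954 := d14_1 D3180 (iv D2954) D2953
theorem F13835 : act 2 n3180 = n3022 := d20_1 D3180 (iv D3022) (iv F12850)
theorem F13836 : act 3 n3180 = n2967 := d25_1 D3180 (iv D2967) (iv F12851)
theorem F13837 : act 5 n3180 = n3073 := d32_1 D3180 (iv D3073) (iv F12852)
def n3181 : Q := act 7 n2954
theorem D3181 : act 7 n2954 = n3181 := rfl
theorem F13838 : act 2 n3181 = n2957 := d19_1 D3181 (iv D2957) (iv F12853)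
theorem F13839 : act 5 n3181 = n3076 := d31_1 D3181 (iv D3076) (iv F12855)
def n3182 : Q := act 6 n2955
theorem D3182 : act 6 n2955 = n3182 := rfl
theorem F13840 : act 0 n3182 = n3042 := d5_1 D3182 (iv F13752) F13747
theorem F13841 : act 1 n3182 = n3026 := d12_1 D3182 (iv D3026) (iv F12856)
theorem F13842 : act 2 n3182 = n3053 := d18_1 D3182 (iv F13725) F13723
theorem F13843 : act 3 n3182 = n2959 := d23_1 D3182 (iv D2959) (iv F12857)
theorem F13844 : act 4 n3182 = n3077 := d27_1 D3182 (iv D3077) (iv F12858)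
theorem F13845 : act 5 n3182 = n3055 := d30_1 D3182 F13279 (iv F12765) F12766 D2955
theorem F13846 : act 7 n3182 = n3074 := d33_2 F13806 D3182 (iv F13805)
def n3183 : Q := act 8 n2955
theorem D3183 : act 8 n2955 = n3183 := rfl
theorem F13847 : act 1 n3183 = n3027 := d14_1 D3183 (iv D3027) (iv F12856)
theorem F13848 : act 3 n3183 = n2960 := d25_1 D3183 (iv D2960) (iv F12857)
theorem F13849 : act 4 n3183 = n3078 := d29_1 D3183 (iv D3078) (iv F12858)
theorem F13850 : act 5 n3183 = n2956 := d32_1 D3183 (iv D2956) D2955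
def n3184 : Q := act 7 n2956
theorem D3184 : act 7 n2956 = n3184 := rfl
theorem F13851 : act 1 n3184 = n3028 := d13_1 D3184 (iv D3028) (iv F12859)
theorem F13852 : act 4 n3184 = n2957 := d28_1 D3184 (iv D2957) (iv F12861)
def n3185 : Q := act 8 n2959
theorem D3185 : act 8 n2959 = n3185 := rfl
theorem F13853 : act 0 n3185 = n3046 := d7_1 D3185 (iv D3046) (iv F12869)
theorem F13854 : act 1 n3185 = n3032 := d14_1 D3185 (iv D3032) (iv F12870)
theorem F13855 : act 2 n3185 = n3048 := d20_1 D3185 (iv D3048) (iv F12871)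
theorem F13856 : act 4 n3185 = n2962 := d29_1 D3185 (iv D2962) (iv F12872)
theorem F13857 : act 5 n3185 = n3061 := d32_1 D3185 (iv D3061) (iv F12873)
theorem F13858 : act 6 n3185 = n2960 := d34_1 D3185 (iv D2960) D2959
def n3186 : Q := act 7 n2960
theorem D3186 : act 7 n2960 = n3186 := rfl
theorem F13859 : act 1 n3186 = n3033 := d13_1 D3186 (iv D3033) (iv F12875)
theorem F13860 : act 4 n3186 = n2963 := d28_1 D3186 (iv D2963) (iv F12876)
theorem F13861 : act 5 n3186 = n2961 := d31_1 D3186 (iv D2961) (iv F12877)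
theorem F13862 : act 8 n3186 = n3186 := d35_2 D2960 D3186 (iv D3186) (iv D2960) F11823
def n3187 : Q := act 3 n2961
theorem D3187 : act 3 n2961 = n3187 := rfl
theorem F13863 : act 1 n3187 = n3034 := d9_1 D3187 (iv D3034) (iv F12878)
theorem F13864 : act 8 n3187 = n3187 := d25_2 F12880 D3187 (iv D3187)
def n3188 : Q := act 7 n2962
theorem D3188 : act 7 n2962 = n3188 := rfl
theorem F13865 : act 0 n3188 = n3112 := d6_1 D3188 (iv D3112) (iv F12881)
theorem F13866 : act 1 n3188 = n3035 := d13_1 D3188 (iv D3035) (iv F12882)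
theorem F13867 : act 5 n3188 = n3188 := d31_1 D3188 (iv D3188) F12884
theorem F13868 : act 6 n3188 = n2963 := d33_1 D3188 (iv D2963) (iv F12885)
theorem F13869 : act 8 n3188 = n3188 := d35_2 D2962 D3188 (iv D3188) (iv D2962) F11833
def n3189 : Q := act 7 n2964
theorem D3189 : act 7 n2964 = n3189 := rfl
theorem F13870 : act 1 n3189 = n2970 := d13_1 D3189 (iv D2970) (iv F12889)
theorem F13871 : act 3 n3189 = n2974 := d24_1 D3189 (iv D2974) F11891 (iv F11849) (iv F12890)
theorem F13872 : act 5 n3189 = n2965 := d31_1 D3189 (iv D2965) (iv F12891)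
theorem F13873 : act 6 n3189 = n3049 := d33_1 D3189 (iv D3049) (iv F12892)
theorem F13874 : act 8 n3189 = n3189 := d35_2 D2964 D3189 (iv D3189) (iv D2964) F11844
def n3190 : Q := act 8 n2966
theorem D3190 : act 8 n2966 = n3190 := rfl
theorem F13875 : act 0 n3190 = n2967 := d7_1 D3190 (iv D2967) D2966
theorem F13876 : act 1 n3190 = n3009 := d14_1 D3190 (iv D3009) (iv F12897)
theorem F13877 : act 2 n3190 = n2973 := d20_1 D3190 (iv D2973) (iv F12898)
theorem F13878 : act 4 n3190 = n2992 := d29_1 D3190 (iv D2992) (iv F12899)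
theorem F13879 : act 5 n3190 = n3082 := d32_1 D3190 (iv D3082) (iv F12900)
theorem F13880 : act 6 n3190 = n2990 := d34_1 D3190 (iv D2990) (iv F12901)
def n3191 : Q := act 7 n2967
theorem D3191 : act 7 n2967 = n3191 := rfl
theorem F13881 : act 1 n3191 = n2968 := d13_1 D3191 (iv D2968) (iv F12903)
theorem F13882 : act 2 n3191 = n2974 := d19_1 D3191 (iv D2974) (iv F12904)
theorem F13883 : act 5 n3191 = n3083 := d31_1 D3191 (iv D3083) (iv F12905)
theorem F13884 : act 8 n3191 = n3191 := d35_2 D2967 D3191 (iv D3191) (iv D2967) F11855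
def n3192 : Q := act 3 n2968
theorem D3192 : act 3 n2968 = n3192 := rfl
theorem F13885 : act 5 n3192 = n3084 := d22_2 (iv F12907) D3192 (iv D3084)
theorem F13886 : act 8 n3192 = n3192 := d25_2 F12908 D3192 (iv D3192)
def n3193 : Q := act 7 n2969
theorem D3193 : act 7 n2969 = n3193 := rfl
theorem F13887 : act 0 n3193 = n3193 := d6_1 D3193 (iv D3193) F12909
theorem F13888 : act 2 n3193 = n3037 := d19_1 D3193 (iv D3037) (iv F12910)
theorem F13889 : act 4 n3193 = n2970 := d28_1 D3193 (iv D2970) (iv F12912)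
theorem F13890 : act 6 n3193 = n3039 := d33_1 D3193 (iv D3039) (iv F12913)
theorem F13891 : act 8 n3193 = n3193 := d35_2 D2969 D3193 (iv D3193) (iv D2969) F11865
def n3194 : Q := act 7 n2971
theorem D3194 : act 7 n2971 = n3194 := rfl
theorem F13892 : act 0 n3194 = n3113 := d6_1 D3194 (iv D3113) (iv F12920)
theorem F13893 : act 1 n3194 = n2972 := d13_1 D3194 (iv D2972) (iv F12921)
theorem F13894 : act 3 n3194 = n3049 := d24_1 D3194 (iv D3049) F12240 (iv F12158) (iv F12922)
theorem F13895 : act 5 n3194 = n3045 := d31_1 D3194 (iv D3045) (iv F12923)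
theorem F13896 : act 6 n3194 = n2974 := d33_1 D3194 (iv D2974) (iv F12924)
theorem F13897 : act 8 n3194 = n3194 := d35_2 D2971 D3194 (iv D3194) (iv D2971) F11874
def n3195 : Q := act 7 n2973
theorem D3195 : act 7 n2973 = n3195 := rfl
theorem F13898 : act 0 n3195 = n2974 := d6_1 D3195 (iv D2974) (iv F12931)
theorem F13899 : act 1 n3195 = n3195 := d13_1 D3195 (iv D3195) F12932
theorem F13900 : act 5 n3195 = n3085 := d31_1 D3195 (iv D3085) (iv F12934)
theorem F13901 : act 6 n3195 = n3113 := d33_1 D3195 (iv D3113) (iv F12935)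
theorem F13902 : act 8 n3195 = n3195 := d35_2 D2973 D3195 (iv D3195) (iv D2973) F11889
def n3196 : Q := act 7 n2975
theorem D3196 : act 7 n2975 = n3196 := rfl
theorem F13903 : act 0 n3196 = n3196 := d6_1 D3196 (iv D3196) F12939
theorem F13904 : act 1 n3196 = n2976 := d13_1 D3196 (iv D2976) (iv F12940)
theorem F13905 : act 3 n3196 = n3196 := d24_1 D3196 (iv D3196) F12941 F11908 (iv F12941)
theorem F13906 : act 5 n3196 = n3037 := d31_1 D3196 (iv D3037) (iv F12942)
theorem F13907 : act 6 n3196 = n3196 := d33_1 D3196 (iv D3196) F12943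
theorem F13908 : act 8 n3196 = n3196 := d35_2 D2975 D3196 (iv D3196) (iv D2975) F11901
def n3197 : Q := act 7 n2977
theorem D3197 : act 7 n2977 = n3197 := rfl
theorem F13909 : act 1 n3197 = n3197 := d13_1 D3197 (iv D3197) F12950
theorem F13910 : act 2 n3197 = n2993 := d19_1 D3197 (iv D2993) (iv F12951)
theorem F13911 : act 4 n3197 = n3113 := d28_1 D3197 (iv D3113) (iv F12953)
theorem F13912 : act 5 n3197 = n2978 := d31_1 D3197 (iv D2978) (iv F12954)
theorem F13913 : act 8 n3197 = n3197 := d35_2 D2977 D3197 (iv D3197) (iv D2977) F11918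
def n3198 : Q := act 3 n2978
theorem D3198 : act 3 n2978 = n3198 := rfl
theorem F13914 : act 1 n3198 = n3198 := d9_1 D3198 (iv D3198) F12955
theorem F13915 : act 4 n3198 = n3198 := d21_2 (iv F12957) D3198 (iv D3198) F12957 F11926
theorem F13916 : act 6 n3198 = n3198 := d23_2 F12958 D3198 (iv D3198)
theorem F13917 : act 7 n3198 = n3198 := d24_2 D2978 D3198 (iv D3198) (iv D2978) F11921
theorem F13918 : act 8 n3198 = n3198 := d25_2 F12959 D3198 (iv D3198)
def n3199 : Q := act 8 n2979
theorem D3199 : act 8 n2979 = n3199 := rfl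
theorem F13919 : act 0 n3199 = n3078 := d7_1 D3199 (iv D3078) (iv F12960)
theorem F13920 : act 1 n3199 = n2982 := d14_1 D3199 (iv D2982) (iv F12961)
theorem F13921 : act 3 n3199 = n2980 := d25_1 D3199 (iv D2980) D2979
theorem F13922 : act 5 n3199 = n3059 := d32_1 D3199 (iv D3059) (iv F12962)
theorem F13923 : act 6 n3199 = n3092 := d34_1 D3199 (iv D3092) (iv F12963)
def n3200 : Q := act 8 n2981
theorem D3200 : act 8 n2981 = n3200 := rfl
theorem F13924 : act 0 n3200 = n2988 := d7_1 D3200 (iv D2988) (iv F12972)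
theorem F13925 : act 2 n3200 = n3041 := d20_1 D3200 (iv D3041) (iv F12973)
theorem F13926 : act 3 n3200 = n2983 := d25_1 D3200 (iv D2983) (iv F12974)
theorem F13927 : act 4 n3200 = n2982 := d29_1 D3200 (iv D2982) D2981
theorem F13928 : act 6 n3200 = n3043 := d34_1 D3200 (iv D3043) (iv F12975)
def n3201 : Q := act 7 n2982
theorem D3201 : act 7 n2982 = n3201 := rfl
theorem F13929 : act 0 n3201 = n2989 := d6_1 D3201 (iv D2989) (iv F12977)
theorem F13930 : act 2 n3201 = n3087 := d19_1 D3201 (iv D3087) (iv F12978)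
theorem F13931 : act 3 n3201 = n3007 := d24_1 D3201 (iv D3007) F12059 (iv F11952) (iv F12979)
theorem F13932 : act 5 n3201 = n3086 := d31_1 D3201 (iv D3086) (iv F12980)
theorem F13933 : act 6 n3201 = n3093 := d33_1 D3201 (iv D3093) (iv F12981)
theorem F13934 : act 8 n3201 = n3090 := d35_2 D2982 D3201 (iv D3090) (iv D2848) (iv F11946)
def n3202 : Q := act 7 n2983
theorem D3202 : act 7 n2983 = n3202 := rfl
theorem F13935 : act 0 n3202 = n2991 := d6_1 D3202 (iv D2991) (iv F12982)
theorem F13936 : act 2 n3202 = n3045 := d19_1 D3202 (iv D3045) (iv F12983)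
theorem F13937 : act 4 n3202 = n2984 := d28_1 D3202 (iv D2984) (iv F12984)
theorem F13938 : act 6 n3202 = n3047 := d33_1 D3202 (iv D3047) (iv F12985)
theorem F13939 : act 8 n3202 = n3202 := d35_2 D2983 D3202 (iv D3202) (iv D2983) F11956
def n3203 : Q := act 8 n2985
theorem D3203 : act 8 n2985 = n3203 := rfl
theorem F13940 : act 0 n3203 = n3089 := d7_1 D3203 (iv D3089) (iv F12992)
theorem F13941 : act 2 n3203 = n3050 := d20_1 D3203 (iv D3050) (iv F12993)
theorem F13942 : act 3 n3203 = n3203 := d25_1 D3203 (iv D3203) F12994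
theorem F13943 : act 4 n3203 = n2986 := d29_1 D3203 (iv D2986) D2985
theorem F13944 : act 6 n3203 = n3098 := d34_1 D3203 (iv D3098) (iv F12995)
def n3204 : Q := act 7 n2986
theorem D3204 : act 7 n2986 = n3204 := rfl
theorem F13945 : act 0 n3204 = n3090 := d6_1 D3204 (iv D3090) (iv F12997)
theorem F13946 : act 2 n3204 = n3086 := d19_1 D3204 (iv D3086) (iv F12998)
theorem F13947 : act 3 n3204 = n3014 := d24_1 D3204 (iv D3014) F12085 (iv F11976) (iv F12999)
theorem F13948 : act 5 n3204 = n3087 := d31_1 D3204 (iv D3087) (iv F13000)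
theorem F13949 : act 6 n3204 = n3099 := d33_1 D3204 (iv D3099) (iv F13001)
theorem F13950 : act 8 n3204 = n2989 := d35_2 D2986 D3204 (iv D2989) (iv D2740) (iv F11970)
def n3205 : Q := act 8 n2987
theorem D3205 : act 8 n2987 = n3205 := rfl
theorem F13951 : act 1 n3205 = n3006 := d14_1 D3205 (iv D3006) (iv F13002)
theorem F13952 : act 2 n3205 = n3102 := d20_1 D3205 (iv D3102) (iv F13003)
theorem F13953 : act 3 n3205 = n2990 := d25_1 D3205 (iv D2990) (iv F13004)
theorem F13954 : act 4 n3205 = n2999 := d29_1 D3205 (iv D2999) (iv F13005)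
theorem F13955 : act 5 n3205 = n2988 := d32_1 D3205 (iv D2988) D2987
def n3206 : Q := act 7 n2988
theorem D3206 : act 7 n2988 = n3206 := rfl
theorem F13956 : act 2 n3206 = n3103 := d19_1 D3206 (iv D3103) (iv F13006)
theorem F13957 : act 4 n3206 = n2989 := d28_1 D3206 (iv D2989) (iv F13008)
theorem F13958 : act 6 n3206 = n3109 := d33_1 D3206 (iv D3109) (iv F13009)
def n3207 : Q := act 7 n2990
theorem D3207 : act 7 n2990 = n3207 := rfl
theorem F13959 : act 1 n3207 = n3011 := d13_1 D3207 (iv D3011) (iv F13014)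
theorem F13960 : act 2 n3207 = n3113 := d19_1 D3207 (iv D3113) (iv F13015)
theorem F13961 : act 4 n3207 = n2993 := d28_1 D3207 (iv D2993) (iv F13016)
theorem F13962 : act 5 n3207 = n2991 := d31_1 D3207 (iv D2991) (iv F13017)
theorem F13963 : act 8 n3207 = n3207 := d35_2 D2990 D3207 (iv D3207) (iv D2990) F11987
def n3208 : Q := act 3 n2991
theorem D3208 : act 3 n2991 = n3208 := rfl
theorem F13964 : act 4 n3208 = n3034 := d21_2 (iv F13019) D3208 (iv D3034) F12134 (iv F11992)
theorem F13965 : act 6 n3208 = n3117 := d23_2 (iv F13020) D3208 (iv D3117)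
theorem F13966 : act 8 n3208 = n3208 := d25_2 F13021 D3208 (iv D3208)
def n3209 : Q := act 7 n2992
theorem D3209 : act 7 n2992 = n3209 := rfl
theorem F13967 : act 1 n3209 = n3010 := d13_1 D3209 (iv D3010) (iv F13022)
theorem F13968 : act 3 n3209 = n3112 := d24_1 D3209 (iv D3112) F12464 (iv F12028) (iv F13023)
theorem F13969 : act 5 n3209 = n3209 := d31_1 D3209 (iv D3209) F13024
theorem F13970 : act 6 n3209 = n2993 := d33_1 D3209 (iv D2993) (iv F13025)
theorem F13971 : act 8 n3209 = n3209 := d35_2 D2992 D3209 (iv D3209) (iv D2992) F11999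
def n3210 : Q := act 8 n2994
theorem D3210 : act 8 n2994 = n3210 := rfl
theorem F13972 : act 0 n3210 = n3102 := d7_1 D3210 (iv D3102) (iv F13029)
theorem F13973 : act 1 n3210 = n3001 := d14_1 D3210 (iv D3001) (iv F13030)
theorem F13974 : act 3 n3210 = n2995 := d25_1 D3210 (iv D2995) D2994
theorem F13975 : act 5 n3210 = n3041 := d32_1 D3210 (iv D3041) (iv F13031)
theorem F13976 : act 6 n3210 = n3022 := d34_1 D3210 (iv D3022) (iv F13032)
def n3211 : Q := act 8 n2996
theorem D3211 : act 8 n2996 = n3211 := rfl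
theorem F13977 : act 1 n3211 = n3003 := d14_1 D3211 (iv D3003) (iv F13041)
theorem F13978 : act 3 n3211 = n2997 := d25_1 D3211 (iv D2997) D2996
theorem F13979 : act 5 n3211 = n3096 := d32_1 D3211 (iv D3096) (iv F13042)
theorem F13980 : act 6 n3211 = n2999 := d34_1 D3211 (iv D2999) (iv F13043)
def n3212 : Q := act 8 n2998
theorem D3212 : act 8 n2998 = n3212 := rfl
theorem F13981 : act 2 n3212 = n2999 := d20_1 D3212 (iv D2999) D2998
theorem F13982 : act 3 n3212 = n3212 := d25_1 D3212 (iv D3212) F13051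
theorem F13983 : act 4 n3212 = n3102 := d29_1 D3212 (iv D3102) (iv F13052)
theorem F13984 : act 5 n3212 = n3089 := d32_1 D3212 (iv D3089) (iv F13053)
def n3213 : Q := act 7 n2999
theorem D3213 : act 7 n2999 = n3213 := rfl
theorem F13985 : act 1 n3213 = n3007 := d13_1 D3213 (iv D3007) (iv F13054)
theorem F13986 : act 5 n3213 = n3091 := d31_1 D3213 (iv D3091) (iv F13056)
def n3214 : Q := act 8 n3000
theorem D3214 : act 8 n3000 = n3214 := rfl
theorem F13987 : act 0 n3214 = n3013 := d7_1 D3214 (iv D3013) (iv F13057)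
theorem F13988 : act 2 n3214 = n3018 := d20_1 D3214 (iv D3018) (iv F13058)
theorem F13989 : act 3 n3214 = n3214 := d25_1 D3214 (iv D3214) F13059
theorem F13990 : act 4 n3214 = n3001 := d29_1 D3214 (iv D3001) D3000
theorem F13991 : act 6 n3214 = n3024 := d34_1 D3214 (iv D3024) (iv F13060)
def n3215 : Q := act 7 n3001
theorem D3215 : act 7 n3001 = n3215 := rfl
theorem F13992 : act 0 n3215 = n3014 := d6_1 D3215 (iv D3014) (iv F13062)
theorem F13993 : act 2 n3215 = n3019 := d19_1 D3215 (iv D3019) (iv F13063)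
theorem F13994 : act 3 n3215 = n3090 := d24_1 D3215 (iv D3090) F12399 (iv F12039) (iv F13064)
theorem F13995 : act 5 n3215 = n3088 := d31_1 D3215 (iv D3088) (iv F13065)
theorem F13996 : act 6 n3215 = n3025 := d33_1 D3215 (iv D3025) (iv F13066)
theorem F13997 : act 8 n3215 = n3007 := d35_2 D3001 D3215 (iv D3007) (iv D2758) (iv F12033)
def n3216 : Q := act 5 n3002
theorem D3216 : act 5 n3002 = n3216 := rfl
theorem F13998 : act 0 n3216 = n3017 := d4_1 D3216 (iv D3017) (iv F13067)
theorem F13999 : act 1 n3216 = n3071 := d11_1 D3216 (iv F13831) F13827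
theorem F14000 : act 2 n3216 = n3012 := d17_1 D3216 (iv D3012) (iv F13068)
theorem F14001 : act 3 n3216 = n3008 := d22_1 D3216 (iv D3008) (iv F13069)
theorem F14002 : act 4 n3216 = n3097 := d26_1 D3216 (iv D3097) (iv D2856) (iv F12042) D3002
theorem F14003 : act 6 n3216 = n3105 := d30_2 (iv F13070) D3216 (iv D3105) (iv F12657) F12656
theorem F14004 : act 7 n3216 = n3023 := d31_2 (iv F13071) D3216 (iv D3023)
def n3217 : Q := act 8 n3002
theorem D3217 : act 8 n3002 = n3217 := rfl
theorem F14005 : act 0 n3217 = n3018 := d7_1 D3217 (iv D3018) (iv F13067)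
theorem F14006 : act 2 n3217 = n3013 := d20_1 D3217 (iv D3013) (iv F13068)
theorem F14007 : act 3 n3217 = n3009 := d25_1 D3217 (iv D3009) (iv F13069)
theorem F14008 : act 4 n3217 = n3003 := d29_1 D3217 (iv D3003) D3002
theorem F14009 : act 6 n3217 = n3006 := d34_1 D3217 (iv D3006) (iv F13070)
def n3218 : Q := act 7 n3003
theorem D3218 : act 7 n3003 = n3218 := rfl
theorem F14010 : act 0 n3218 = n3019 := d6_1 D3218 (iv D3019) (iv F13072)
theorem F14011 : act 2 n3218 = n3014 := d19_1 D3218 (iv D3014) (iv F13073)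
theorem F14012 : act 3 n3218 = n3093 := d24_1 D3218 (iv D3093) F12408 (iv F12050) (iv F13074)
theorem F14013 : act 5 n3218 = n3099 := d31_1 D3218 (iv D3099) (iv F13075)
theorem F14014 : act 6 n3218 = n3007 := d33_1 D3218 (iv D3007) (iv F13076)
theorem F14015 : act 8 n3218 = n3025 := d35_2 D3003 D3218 (iv D3025) (iv D2772) (iv F12044)
def n3219 : Q := act 8 n3004
theorem D3219 : act 8 n3004 = n3219 := rfl
theorem F14016 : act 0 n3219 = n3024 := d7_1 D3219 (iv D3024) (iv F13077)
theorem F14017 : act 2 n3219 = n3006 := d20_1 D3219 (iv D3006) (iv F13078)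
theorem F14018 : act 3 n3219 = n3219 := d25_1 D3219 (iv D3219) F13079
theorem F14019 : act 4 n3219 = n3005 := d29_1 D3219 (iv D3005) D3004
theorem F14020 : act 6 n3219 = n3013 := d34_1 D3219 (iv D3013) (iv F13080)
def n3220 : Q := act 7 n3005
theorem D3220 : act 7 n3005 = n3220 := rfl
theorem F14021 : act 0 n3220 = n3025 := d6_1 D3220 (iv D3025) (iv F13082)
theorem F14022 : act 2 n3220 = n3007 := d19_1 D3220 (iv D3007) (iv F13083)
theorem F14023 : act 3 n3220 = n3099 := d24_1 D3220 (iv D3099) F12419 (iv F12082) (iv F13084)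
theorem F14024 : act 5 n3220 = n3093 := d31_1 D3220 (iv D3093) (iv F13085)
theorem F14025 : act 6 n3220 = n3014 := d33_1 D3220 (iv D3014) (iv F13086)
theorem F14026 : act 8 n3220 = n3019 := d35_2 D3005 D3220 (iv D3019) (iv D2769) (iv F12055)
def n3221 : Q := act 7 n3006
theorem D3221 : act 7 n3006 = n3221 := rfl
theorem F14027 : act 0 n3221 = n3028 := d6_1 D3221 (iv D3028) (iv F13087)
theorem F14028 : act 4 n3221 = n3007 := d28_1 D3221 (iv D3007) (iv F13089)
def n3222 : Q := act 8 n3008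
theorem D3222 : act 8 n3008 = n3222 := rfl
theorem F14029 : act 0 n3222 = n3030 := d7_1 D3222 (iv D3030) (iv F13092)
theorem F14030 : act 1 n3222 = n3082 := d14_1 D3222 (iv D3082) (iv F13093)
theorem F14031 : act 2 n3222 = n3222 := d20_1 D3222 (iv D3222) F13094
theorem F14032 : act 4 n3222 = n3222 := d29_1 D3222 (iv D3222) F13095
theorem F14033 : act 5 n3222 = n3009 := d32_1 D3222 (iv D3009) D3008
theorem F14034 : act 6 n3222 = n3114 := d34_1 D3222 (iv D3114) (iv F13096)
def n3223 : Q := act 7 n3009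
theorem D3223 : act 7 n3009 = n3223 := rfl
theorem F14035 : act 0 n3223 = n3031 := d6_1 D3223 (iv D3031) (iv F13098)
theorem F14036 : act 2 n3223 = n3223 := d19_1 D3223 (iv D3223) F13099
theorem F14037 : act 4 n3223 = n3010 := d28_1 D3223 (iv D3010) (iv F13100)
theorem F14038 : act 6 n3223 = n3011 := d33_1 D3223 (iv D3011) (iv F13101)
theorem F14039 : act 8 n3223 = n3223 := d35_2 D3009 D3223 (iv D3223) (iv D3009) F12064
def n3224 : Q := act 3 n3011
theorem D3224 : act 3 n3011 = n3224 := rfl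
theorem F14040 : act 0 n3224 = n3034 := d2_1 D3224 (iv D3034) (iv F13108)
theorem F14041 : act 8 n3224 = n3224 := d25_2 F13111 D3224 (iv D3224)
def n3225 : Q := act 6 n3012
theorem D3225 : act 6 n3012 = n3225 := rfl
theorem F14042 : act 0 n3225 = n3095 := d5_1 D3225 (iv F13596) F13591
theorem F14043 : act 1 n3225 = n3074 := d12_1 D3225 (iv F13805) F13801
theorem F14044 : act 2 n3225 = n3105 := d18_1 D3225 (iv F14003) F14000
theorem F14045 : act 3 n3225 = n3225 := d23_1 D3225 (iv D3225) F13112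
theorem F14046 : act 4 n3225 = n3094 := d27_1 D3225 F13403 (iv F13113)
theorem F14047 : act 5 n3225 = n3072 := d30_1 D3225 (iv F13608) F13607 F13080 D3012
theorem F14048 : act 7 n3225 = n3026 := d33_2 (iv F13114) D3225 (iv D3026)
def n3226 : Q := act 8 n3012
theorem D3226 : act 8 n3012 = n3226 := rfl
theorem F14049 : act 3 n3226 = n3226 := d25_1 D3226 (iv D3226) F13112
theorem F14050 : act 4 n3226 = n3100 := d29_1 D3226 (iv D3100) (iv F13113)
theorem F14051 : act 5 n3226 = n3013 := d32_1 D3226 (iv D3013) D3012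
def n3227 : Q := act 7 n3013
theorem D3227 : act 7 n3013 = n3227 := rfl
theorem F14052 : act 4 n3227 = n3014 := d28_1 D3227 (iv D3014) (iv F13116)
theorem F14053 : act 8 n3227 = n3028 := d35_2 D3013 D3227 (iv D3028) (iv D2774) (iv F12084)
def n3228 : Q := act 8 n3015
theorem D3228 : act 8 n3015 = n3228 := rfl
theorem F14054 : act 0 n3228 = n3098 := d7_1 D3228 (iv D3098) (iv F13119)
theorem F14055 : act 2 n3228 = n3040 := d20_1 D3228 (iv D3040) (iv F13120)
theorem F14056 : act 3 n3228 = n3228 := d25_1 D3228 (iv D3228) F13121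
theorem F14057 : act 4 n3228 = n3016 := d29_1 D3228 (iv D3016) D3015
theorem F14058 : act 6 n3228 = n3089 := d34_1 D3228 (iv D3089) (iv F13122)
def n3229 : Q := act 7 n3016
theorem D3229 : act 7 n3016 = n3229 := rfl
theorem F14059 : act 0 n3229 = n3099 := d6_1 D3229 (iv D3099) (iv F13124)
theorem F14060 : act 2 n3229 = n3088 := d19_1 D3229 (iv D3088) (iv F13125)
theorem F14061 : act 3 n3229 = n3025 := d24_1 D3229 (iv D3025) F12107 (iv F12097) (iv F13126)
theorem F14062 : act 5 n3229 = n3019 := d31_1 D3229 (iv D3019) (iv F13127)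
theorem F14063 : act 6 n3229 = n3090 := d33_1 D3229 (iv D3090) (iv F13128)
theorem F14064 : act 8 n3229 = n3093 := d35_2 D3016 D3229 (iv D3093) (iv D2852) (iv F12091)
def n3230 : Q := act 6 n3017
theorem D3230 : act 6 n3017 = n3230 := rfl
theorem F14065 : act 0 n3230 = n3105 := d5_1 D3230 (iv F14003) F13998
theorem F14066 : act 1 n3230 = n3055 := d12_1 D3230 F13279 (iv F13129)
theorem F14067 : act 2 n3230 = n3095 := d18_1 D3230 (iv F13596) F13593
theorem F14068 : act 3 n3230 = n3029 := d23_1 D3230 (iv D3029) (iv F13130)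
theorem F14069 : act 4 n3230 = n3064 := d27_1 D3230 (iv F13588) (iv F13590)
theorem F14070 : act 5 n3230 = n3026 := d30_1 D3230 (iv D3026) (iv D2773) (iv F12099) D3017
theorem F14071 : act 7 n3230 = n3072 := d33_2 F13609 D3230 (iv F13608)
def n3231 : Q := act 8 n3017
theorem D3231 : act 8 n3017 = n3231 := rfl
theorem F14072 : act 1 n3231 = n3058 := d14_1 D3231 (iv D3058) (iv F13129)
theorem F14073 : act 3 n3231 = n3030 := d25_1 D3231 (iv D3030) (iv F13130)
theorem F14074 : act 5 n3231 = n3018 := d32_1 D3231 (iv D3018) D3017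
def n3232 : Q := act 7 n3018
theorem D3232 : act 7 n3018 = n3232 := rfl
theorem F14075 : act 4 n3232 = n3019 := d28_1 D3232 (iv D3019) (iv F13132)
theorem F14076 : act 6 n3232 = n3028 := d33_1 D3232 (iv D3028) (iv F13133)
def n3233 : Q := act 8 n3020
theorem D3233 : act 8 n3020 = n3233 := rfl
theorem F14077 : act 0 n3233 = n3022 := d7_1 D3233 (iv D3022) D3020
theorem F14078 : act 3 n3233 = n3036 := d25_1 D3233 (iv D3036) (iv F13136)
theorem F14079 : act 5 n3233 = n3104 := d32_1 D3233 (iv D3104) (iv F13137)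
theorem F14080 : act 6 n3233 = n3102 := d34_1 D3233 (iv D3102) (iv F13138)
def n3234 : Q := act 5 n3021
theorem D3234 : act 5 n3021 = n3234 := rfl
theorem F14081 : act 0 n3234 = n3064 := d4_1 D3234 (iv F13794) F13790
theorem F14082 : act 1 n3234 = n3023 := d11_1 D3234 (iv D3023) (iv F13139)
theorem F14083 : act 2 n3234 = n3094 := d17_1 D3234 (iv F13644) F13647
theorem F14084 : act 3 n3234 = n3234 := d22_1 D3234 (iv D3234) F13140
theorem F14085 : act 4 n3234 = n3105 := d26_1 D3234 (iv D3105) (iv D2865) (iv F12103) D3021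
theorem F14086 : act 6 n3234 = n3097 := d30_2 F13659 D3234 (iv D3097) (iv F12995) (iv F13658)
theorem F14087 : act 7 n3234 = n3071 := d31_2 F13833 D3234 (iv F13831)
def n3235 : Q := act 8 n3021
theorem D3235 : act 8 n3021 = n3235 := rfl
theorem F14088 : act 1 n3235 = n3024 := d14_1 D3235 (iv D3024) (iv F13139)
theorem F14089 : act 3 n3235 = n3235 := d25_1 D3235 (iv D3235) F13140
theorem F14090 : act 4 n3235 = n3022 := d29_1 D3235 (iv D3022) D3021
def n3236 : Q := act 7 n3022
theorem D3236 : act 7 n3022 = n3236 := rfl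
theorem F14091 : act 1 n3236 = n3025 := d13_1 D3236 (iv D3025) (iv F13141)
theorem F14092 : act 5 n3236 = n3107 := d31_1 D3236 (iv D3107) (iv F13143)
def n3237 : Q := act 6 n3023
theorem D3237 : act 6 n3023 = n3237 := rfl
theorem F14093 : act 0 n3237 = n3072 := d5_1 D3237 (iv F13608) F13603
theorem F14094 : act 1 n3237 = n3097 := d12_1 D3237 (iv F14086) F14082
theorem F14095 : act 2 n3237 = n3026 := d18_1 D3237 (iv D3026) (iv F13144)
theorem F14096 : act 3 n3237 = n3237 := d23_1 D3237 (iv D3237) F13145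
theorem F14097 : act 4 n3237 = n3071 := d27_1 D3237 F13335 (iv F13146)
theorem F14098 : act 5 n3237 = n3095 := d30_1 D3237 (iv F13596) F13595 F13060 D3023
theorem F14099 : act 7 n3237 = n3105 := d33_2 F14004 D3237 (iv F14003)
def n3238 : Q := act 8 n3023
theorem D3238 : act 8 n3023 = n3238 := rfl
theorem F14100 : act 2 n3238 = n3027 := d20_1 D3238 (iv D3027) (iv F13144)
theorem F14101 : act 3 n3238 = n3238 := d25_1 D3238 (iv D3238) F13145
theorem F14102 : act 4 n3238 = n3108 := d29_1 D3238 (iv D3108) (iv F13146)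
theorem F14103 : act 5 n3238 = n3024 := d32_1 D3238 (iv D3024) D3023
def n3239 : Q := act 7 n3024
theorem D3239 : act 7 n3024 = n3239 := rfl
theorem F14104 : act 2 n3239 = n3028 := d19_1 D3239 (iv D3028) (iv F13147)
theorem F14105 : act 4 n3239 = n3025 := d28_1 D3239 (iv D3025) (iv F13149)
def n3240 : Q := act 8 n3026
theorem D3240 : act 8 n3026 = n3240 := rfl
theorem F14106 : act 0 n3240 = n3106 := d7_1 D3240 (iv D3106) (iv F13152)
theorem F14107 : act 3 n3240 = n3032 := d25_1 D3240 (iv D3032) (iv F13153)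
theorem F14108 : act 4 n3240 = n3104 := d29_1 D3240 (iv D3104) (iv F13154)
theorem F14109 : act 6 n3240 = n3027 := d34_1 D3240 (iv D3027) D3026
def n3241 : Q := act 7 n3027
theorem D3241 : act 7 n3027 = n3241 := rfl
theorem F14110 : act 4 n3241 = n3110 := d28_1 D3241 (iv D3110) (iv F13156)
theorem F14111 : act 5 n3241 = n3028 := d31_1 D3241 (iv D3028) (iv F13157)
def n3242 : Q := act 3 n3028
theorem D3242 : act 3 n3028 = n3242 := rfl
theorem F14112 : act 7 n3242 = n3034 := d24_2 D3028 D3242 (iv D3034) (iv D2781) (iv F12111)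
def n3243 : Q := act 8 n3029
theorem D3243 : act 8 n3029 = n3243 := rfl
theorem F14113 : act 0 n3243 = n3114 := d7_1 D3243 (iv D3114) (iv F13159)
theorem F14114 : act 1 n3243 = n3061 := d14_1 D3243 (iv D3061) (iv F13160)
theorem F14115 : act 2 n3243 = n3243 := d20_1 D3243 (iv D3243) F13161
theorem F14116 : act 4 n3243 = n3243 := d29_1 D3243 (iv D3243) F13162
theorem F14117 : act 5 n3243 = n3032 := d32_1 D3243 (iv D3032) (iv F13163)
theorem F14118 : act 6 n3243 = n3030 := d34_1 D3243 (iv D3030) D3029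
def n3244 : Q := act 7 n3030
theorem D3244 : act 7 n3030 = n3244 := rfl
theorem F14119 : act 1 n3244 = n3063 := d13_1 D3244 (iv D3063) (iv F13165)
theorem F14120 : act 2 n3244 = n3244 := d19_1 D3244 (iv D3244) F13166
theorem F14121 : act 4 n3244 = n3244 := d28_1 D3244 (iv D3244) F13167
theorem F14122 : act 5 n3244 = n3031 := d31_1 D3244 (iv D3031) (iv F13168)
theorem F14123 : act 8 n3244 = n3244 := d35_2 D3030 D3244 (iv D3244) (iv D3030) F12117
def n3245 : Q := act 3 n3031
theorem D3245 : act 3 n3031 = n3245 := rfl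
theorem F14124 : act 4 n3245 = n3117 := d21_2 (iv F13170) D3245 (iv D3117) F12492 (iv F12122)
theorem F14125 : act 6 n3245 = n3034 := d23_2 (iv F13171) D3245 (iv D3034)
theorem F14126 : act 8 n3245 = n3245 := d25_2 F13172 D3245 (iv D3245)
def n3246 : Q := act 7 n3032
theorem D3246 : act 7 n3032 = n3246 := rfl
theorem F14127 : act 0 n3246 = n3115 := d6_1 D3246 (iv D3115) (iv F13173)
theorem F14128 : act 2 n3246 = n3246 := d19_1 D3246 (iv D3246) F13174
theorem F14129 : act 4 n3246 = n3035 := d28_1 D3246 (iv D3035) (iv F13175)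
theorem F14130 : act 6 n3246 = n3033 := d33_1 D3246 (iv D3033) (iv F13176)
theorem F14131 : act 8 n3246 = n3246 := d35_2 D3032 D3246 (iv D3246) (iv D3032) F12129
def n3247 : Q := act 3 n3033
theorem D3247 : act 3 n3033 = n3247 := rfl
theorem F14132 : act 5 n3247 = n3034 := d22_2 (iv F13179) D3247 (iv D3034)
theorem F14133 : act 8 n3247 = n3247 := d25_2 F13180 D3247 (iv D3247)
def n3248 : Q := act 2 n3034
theorem D3248 : act 2 n3034 = n3248 := rfl
theorem F14134 : act 3 n3248 = n3248 := d15_2 D3034 D3248 (iv D3248) (iv D3034) F12133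
theorem F14135 : act 8 n3248 = n3248 := d20_2 F13181 D3248 (iv D3248)
def n3249 : Q := act 7 n3038
theorem D3249 : act 7 n3038 = n3249 := rfl
theorem F14136 : act 1 n3249 = n3039 := d13_1 D3249 (iv D3039) (iv F13198)
theorem F14137 : act 2 n3249 = n3112 := d19_1 D3249 (iv D3112) (iv F13199)
theorem F14138 : act 4 n3249 = n3049 := d28_1 D3249 (iv D3049) (iv F13201)
theorem F14139 : act 5 n3249 = n3249 := d31_1 D3249 (iv D3249) F13202
theorem F14140 : act 8 n3249 = n3249 := d35_2 D3038 D3249 (iv D3249) (iv D3038) F12173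
def n3250 : Q := act 3 n3039
theorem D3250 : act 3 n3039 = n3250 := rfl
theorem F14141 : act 0 n3250 = n3250 := d2_1 D3250 (iv D3250) F13203
theorem F14142 : act 2 n3250 = n3250 := d15_1 D3250 (iv D3250) F13204 F12181 (iv F13204)
theorem F14143 : act 5 n3250 = n3250 := d22_2 F13206 D3250 (iv D3250)
theorem F14144 : act 7 n3250 = n3250 := d24_2 D3039 D3250 (iv D3250) (iv D3039) F12176
theorem F14145 : act 8 n3250 = n3250 := d25_2 F13207 D3250 (iv D3250)
def n3251 : Q := act 7 n3040
theorem D3251 : act 7 n3040 = n3251 := rfl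
theorem F14146 : act 0 n3251 = n3101 := d6_1 D3251 (iv D3101) (iv F13208)
theorem F14147 : act 1 n3251 = n3087 := d13_1 D3251 (iv D3087) (iv F13209)
theorem F14148 : act 3 n3251 = n3066 := d24_1 D3251 (iv D3066) F12324 (iv F12195) (iv F13210)
theorem F14149 : act 4 n3251 = n3088 := d28_1 D3251 (iv D3088) (iv F13211)
theorem F14150 : act 6 n3251 = n3091 := d33_1 D3251 (iv D3091) (iv F13212)
theorem F14151 : act 8 n3251 = n3044 := d35_2 D3040 D3251 (iv D3044) (iv D2797) (iv F12189)
def n3252 : Q := act 7 n3041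
theorem D3252 : act 7 n3041 = n3252 := rfl
theorem F14152 : act 0 n3252 = n3103 := d6_1 D3252 (iv D3103) (iv F13213)
theorem F14153 : act 1 n3252 = n3088 := d13_1 D3252 (iv D3088) (iv F13214)
theorem F14154 : act 3 n3252 = n3070 := d24_1 D3252 (iv D3070) F12334 (iv F12206) (iv F13215)
theorem F14155 : act 4 n3252 = n3087 := d28_1 D3252 (iv D3087) (iv F13216)
theorem F14156 : act 6 n3252 = n3044 := d33_1 D3252 (iv D3044) (iv F13217)
theorem F14157 : act 8 n3252 = n3091 := d35_2 D3041 D3252 (iv D3091) (iv D2849) (iv F12200)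
def n3253 : Q := act 8 n3042
theorem D3253 : act 8 n3042 = n3253 := rfl
theorem F14158 : act 1 n3253 = n3043 := d14_1 D3253 (iv D3043) D3042
theorem F14159 : act 2 n3253 = n3068 := d20_1 D3253 (iv D3068) (iv F13218)
theorem F14160 : act 3 n3253 = n3046 := d25_1 D3253 (iv D3046) (iv F13219)
theorem F14161 : act 4 n3253 = n3092 := d29_1 D3253 (iv D3092) (iv F13220)
theorem F14162 : act 5 n3253 = n3069 := d32_1 D3253 (iv D3069) (iv F13221)
def n3254 : Q := act 7 n3043
theorem D3254 : act 7 n3043 = n3254 := rfl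
theorem F14163 : act 0 n3254 = n3109 := d6_1 D3254 (iv D3109) (iv F13222)
theorem F14164 : act 2 n3254 = n3044 := d19_1 D3254 (iv D3044) (iv F13223)
theorem F14165 : act 4 n3254 = n3093 := d28_1 D3254 (iv D3093) (iv F13225)
def n3255 : Q := act 7 n3046
theorem D3255 : act 7 n3046 = n3255 := rfl
theorem F14166 : act 1 n3255 = n3047 := d13_1 D3255 (iv D3047) (iv F13236)
theorem F14167 : act 2 n3255 = n3049 := d19_1 D3255 (iv D3049) (iv F13237)
theorem F14168 : act 4 n3255 = n3112 := d28_1 D3255 (iv D3112) (iv F13238)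
theorem F14169 : act 5 n3255 = n3081 := d31_1 D3255 (iv D3081) (iv F13239)
theorem F14170 : act 8 n3255 = n3255 := d35_2 D3046 D3255 (iv D3255) (iv D3046) F12222
def n3256 : Q := act 3 n3047
theorem D3256 : act 3 n3047 = n3256 := rfl
theorem F14171 : act 0 n3256 = n3117 := d2_1 D3256 (iv D3117) (iv F13240)
theorem F14172 : act 2 n3256 = n3084 := d15_1 D3256 (iv D3084) F12376 (iv F12228) (iv F13241)
theorem F14173 : act 8 n3256 = n3256 := d25_2 F13243 D3256 (iv D3256)
def n3257 : Q := act 7 n3048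
theorem D3257 : act 7 n3048 = n3257 := rfl
theorem F14174 : act 0 n3257 = n3049 := d6_1 D3257 (iv D3049) (iv F13244)
theorem F14175 : act 1 n3257 = n3257 := d13_1 D3257 (iv D3257) F13245
theorem F14176 : act 3 n3257 = n3113 := d24_1 D3257 (iv D3113) F12471 (iv F12303) (iv F13246)
theorem F14177 : act 5 n3257 = n3062 := d31_1 D3257 (iv D3062) (iv F13247)
theorem F14178 : act 8 n3257 = n3257 := d35_2 D3048 D3257 (iv D3257) (iv D3048) F12238
def n3258 : Q := act 7 n3050
theorem D3258 : act 7 n3050 = n3258 := rfl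
theorem F14179 : act 0 n3258 = n3091 := d6_1 D3258 (iv D3091) (iv F13251)
theorem F14180 : act 1 n3258 = n3060 := d13_1 D3258 (iv D3060) (iv F13252)
theorem F14181 : act 3 n3258 = n3079 := d24_1 D3258 (iv D3079) F12345 (iv F12256) (iv F13253)
theorem F14182 : act 4 n3258 = n3086 := d28_1 D3258 (iv D3086) (iv F13254)
theorem F14183 : act 6 n3258 = n3101 := d33_1 D3258 (iv D3101) (iv F13255)
theorem F14184 : act 8 n3258 = n3103 := d35_2 D3050 D3258 (iv D3103) (iv D2862) (iv F12250)
def n3259 : Q := act 8 n3051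
theorem D3259 : act 8 n3051 = n3259 := rfl
theorem F14185 : act 0 n3259 = n3065 := d7_1 D3259 (iv D3065) (iv F13256)
theorem F14186 : act 2 n3259 = n3052 := d20_1 D3259 (iv D3052) D3051
theorem F14187 : act 3 n3259 = n3259 := d25_1 D3259 (iv D3259) F13257
theorem F14188 : act 4 n3259 = n3069 := d29_1 D3259 (iv D3069) (iv F13258)
theorem F14189 : act 6 n3259 = n3075 := d34_1 D3259 (iv D3075) (iv F13259)
def n3260 : Q := act 7 n3052
theorem D3260 : act 7 n3052 = n3260 := rfl
theorem F14190 : act 0 n3260 = n3066 := d6_1 D3260 (iv D3066) (iv F13261)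
theorem F14191 : act 1 n3260 = n3103 := d13_1 D3260 (iv D3103) (iv F13262)
theorem F14192 : act 3 n3260 = n3101 := d24_1 D3260 (iv D3101) F12422 (iv F12267) (iv F13263)
theorem F14193 : act 4 n3260 = n3070 := d28_1 D3260 (iv D3070) (iv F13264)
theorem F14194 : act 6 n3260 = n3079 := d33_1 D3260 (iv D3079) (iv F13265)
theorem F14195 : act 8 n3260 = n3060 := d35_2 D3052 D3260 (iv D3060) (iv D2815) (iv F12261)
def n3261 : Q := act 8 n3053
theorem D3261 : act 8 n3053 = n3261 := rfl
theorem F14196 : act 0 n3261 = n3068 := d7_1 D3261 (iv D3068) (iv F13266)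
theorem F14197 : act 1 n3261 = n3100 := d14_1 D3261 (iv D3100) (iv F13267)
theorem F14198 : act 3 n3261 = n3054 := d25_1 D3261 (iv D3054) D3053
theorem F14199 : act 5 n3261 = n3056 := d32_1 D3261 (iv D3056) (iv F13268)
def n3262 : Q := act 8 n3055
theorem D3262 : act 8 n3055 = n3262 := rfl
theorem F14200 : act 0 n3262 = n3069 := d7_1 D3262 (iv D3069) (iv F13276)
theorem F14201 : act 2 n3262 = n3056 := d20_1 D3262 (iv D3056) D3055
theorem F14202 : act 3 n3262 = n3061 := d25_1 D3262 (iv D3061) (iv F13277)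
theorem F14203 : act 4 n3262 = n3065 := d29_1 D3262 (iv D3065) (iv F13278)
theorem F14204 : act 6 n3262 = n3058 := d34_1 D3262 (iv D3058) (iv F13279)
def n3263 : Q := act 7 n3056
theorem D3263 : act 7 n3056 = n3263 := rfl
theorem F14205 : act 0 n3263 = n3070 := d6_1 D3263 (iv D3070) (iv F13281)
theorem F14206 : act 1 n3263 = n3101 := d13_1 D3263 (iv D3101) (iv F13282)
theorem F14207 : act 3 n3263 = n3103 := d24_1 D3263 (iv D3103) F12426 (iv F12283) (iv F13283)
theorem F14208 : act 4 n3263 = n3066 := d28_1 D3263 (iv D3066) (iv F13284)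
theorem F14209 : act 6 n3263 = n3060 := d33_1 D3263 (iv D3060) (iv F13285)
theorem F14210 : act 8 n3263 = n3079 := d35_2 D3056 D3263 (iv D3079) (iv D2832) (iv F12277)
def n3264 : Q := act 8 n3057
theorem D3264 : act 8 n3057 = n3264 := rfl
theorem F14211 : act 0 n3264 = n3075 := d7_1 D3264 (iv D3075) (iv F13286)
theorem F14212 : act 2 n3264 = n3059 := d20_1 D3264 (iv D3059) (iv F13287)
theorem F14213 : act 3 n3264 = n3264 := d25_1 D3264 (iv D3264) F13288
theorem F14214 : act 4 n3264 = n3058 := d29_1 D3264 (iv D3058) D3057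
theorem F14215 : act 6 n3264 = n3065 := d34_1 D3264 (iv D3065) (iv F13289)
def n3265 : Q := act 7 n3058
theorem D3265 : act 7 n3058 = n3265 := rfl
theorem F14216 : act 0 n3265 = n3076 := d6_1 D3265 (iv D3076) (iv F13291)
theorem F14217 : act 2 n3265 = n3060 := d19_1 D3265 (iv D3060) (iv F13292)
def n3266 : Q := act 7 n3059
theorem D3266 : act 7 n3059 = n3266 := rfl
theorem F14218 : act 0 n3266 = n3079 := d6_1 D3266 (iv D3079) (iv F13294)
theorem F14219 : act 1 n3266 = n3086 := d13_1 D3266 (iv D3086) (iv F13295)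
theorem F14220 : act 3 n3266 = n3091 := d24_1 D3266 (iv D3091) F12402 (iv F12298) (iv F13296)
theorem F14221 : act 4 n3266 = n3060 := d28_1 D3266 (iv D3060) (iv F13297)
theorem F14222 : act 6 n3266 = n3066 := d33_1 D3266 (iv D3066) (iv F13298)
theorem F14223 : act 8 n3266 = n3070 := d35_2 D3059 D3266 (iv D3070) (iv D2827) (iv F12290)
def n3267 : Q := act 7 n3061
theorem D3267 : act 7 n3061 = n3267 := rfl
theorem F14224 : act 0 n3267 = n3081 := d6_1 D3267 (iv D3081) (iv F13301)
theorem F14225 : act 2 n3267 = n3062 := d19_1 D3267 (iv D3062) (iv F13302)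
theorem F14226 : act 4 n3267 = n3267 := d28_1 D3267 (iv D3267) F13303
theorem F14227 : act 6 n3267 = n3063 := d33_1 D3267 (iv D3063) (iv F13304)
theorem F14228 : act 8 n3267 = n3267 := d35_2 D3061 D3267 (iv D3267) (iv D3061) F12307
def n3268 : Q := act 3 n3063
theorem D3268 : act 3 n3063 = n3268 := rfl
theorem F14229 : act 0 n3268 = n3084 := d2_1 D3268 (iv D3084) (iv F13311)
theorem F14230 : act 2 n3268 = n3117 := d15_1 D3268 (iv D3117) F12491 (iv F12318) (iv F13312)
theorem F14231 : act 8 n3268 = n3268 := d25_2 F13314 D3268 (iv D3268)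
def n3269 : Q := act 8 n3064
theorem D3269 : act 8 n3064 = n3269 := rfl
theorem F14232 : act 1 n3269 = n3065 := d14_1 D3269 (iv D3065) D3064
theorem F14233 : act 2 n3269 = n3096 := d20_1 D3269 (iv D3096) (iv F13315)
theorem F14234 : act 3 n3269 = n3269 := d25_1 D3269 (iv D3269) F13316
def n3270 : Q := act 7 n3065
theorem D3270 : act 7 n3065 = n3270 := rfl
theorem F14235 : act 2 n3270 = n3066 := d19_1 D3270 (iv D3066) (iv F13318)
theorem F14236 : act 8 n3270 = n3076 := d35_2 D3065 D3270 (iv D3076) (iv D2830) (iv F12322)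
def n3271 : Q := act 8 n3067
theorem D3271 : act 8 n3067 = n3271 := rfl
theorem F14237 : act 1 n3271 = n3089 := d14_1 D3271 (iv D3089) (iv F13322)
theorem F14238 : act 2 n3271 = n3092 := d20_1 D3271 (iv D3092) (iv F13323)
theorem F14239 : act 3 n3271 = n3271 := d25_1 D3271 (iv D3271) F13324
theorem F14240 : act 4 n3271 = n3068 := d29_1 D3271 (iv D3068) D3067
def n3272 : Q := act 7 n3068
theorem D3272 : act 7 n3068 = n3272 := rfl
theorem F14241 : act 1 n3272 = n3090 := d13_1 D3272 (iv D3090) (iv F13325)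
theorem F14242 : act 5 n3272 = n3070 := d31_1 D3272 (iv D3070) (iv F13327)
def n3273 : Q := act 7 n3069
theorem D3273 : act 7 n3069 = n3273 := rfl
theorem F14243 : act 2 n3273 = n3070 := d19_1 D3273 (iv D3070) (iv F13328)
theorem F14244 : act 6 n3273 = n3076 := d33_1 D3273 (iv D3076) (iv F13330)
def n3274 : Q := act 8 n3071
theorem D3274 : act 8 n3071 = n3274 := rfl
theorem F14245 : act 0 n3274 = n3073 := d7_1 D3274 (iv D3073) D3071
theorem F14246 : act 2 n3274 = n3104 := d20_1 D3274 (iv D3104) (iv F13333)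
theorem F14247 : act 3 n3274 = n3082 := d25_1 D3274 (iv D3082) (iv F13334)
theorem F14248 : act 6 n3274 = n3108 := d34_1 D3274 (iv D3108) (iv F13335)
def n3275 : Q := act 8 n3072
theorem D3275 : act 8 n3072 = n3275 := rfl
theorem F14249 : act 1 n3275 = n3075 := d14_1 D3275 (iv D3075) (iv F13336)
theorem F14250 : act 2 n3275 = n3106 := d20_1 D3275 (iv D3106) (iv F13337)
theorem F14251 : act 3 n3275 = n3275 := d25_1 D3275 (iv D3275) F13338
theorem F14252 : act 4 n3275 = n3073 := d29_1 D3275 (iv D3073) D3072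
def n3276 : Q := act 7 n3073
theorem D3276 : act 7 n3073 = n3276 := rfl
theorem F14253 : act 1 n3276 = n3076 := d13_1 D3276 (iv D3076) (iv F13339)
theorem F14254 : act 2 n3276 = n3107 := d19_1 D3276 (iv D3107) (iv F13340)
def n3277 : Q := act 8 n3074
theorem D3277 : act 8 n3074 = n3277 := rfl
theorem F14255 : act 2 n3277 = n3078 := d20_1 D3277 (iv D3078) (iv F13342)
theorem F14256 : act 3 n3277 = n3277 := d25_1 D3277 (iv D3277) F13343
theorem F14257 : act 5 n3277 = n3075 := d32_1 D3277 (iv D3075) D3074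
def n3278 : Q := act 7 n3075
theorem D3278 : act 7 n3075 = n3278 := rfl
theorem F14258 : act 2 n3278 = n3079 := d19_1 D3278 (iv D3079) (iv F13344)
theorem F14259 : act 4 n3278 = n3076 := d28_1 D3278 (iv D3076) (iv F13346)
def n3279 : Q := act 3 n3076
theorem D3279 : act 3 n3076 = n3279 := rfl
theorem F14260 : act 7 n3279 = n3084 := d24_2 D3076 D3279 (iv D3084) (iv D2841) (iv F12341)
def n3280 : Q := act 8 n3077
theorem D3280 : act 8 n3077 = n3280 := rfl
theorem F14261 : act 0 n3280 = n3092 := d7_1 D3280 (iv D3092) (iv F13348)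
theorem F14262 : act 1 n3280 = n3104 := d14_1 D3280 (iv D3104) (iv F13349)
theorem F14263 : act 3 n3280 = n3080 := d25_1 D3280 (iv D3080) (iv F13350)
theorem F14264 : act 6 n3280 = n3078 := d34_1 D3280 (iv D3078) D3077
def n3281 : Q := act 7 n3078
theorem D3281 : act 7 n3078 = n3281 := rfl
theorem F14265 : act 1 n3281 = n3110 := d13_1 D3281 (iv D3110) (iv F13351)
theorem F14266 : act 5 n3281 = n3079 := d31_1 D3281 (iv D3079) (iv F13353)
def n3282 : Q := act 3 n3081
theorem D3282 : act 3 n3081 = n3282 := rfl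
theorem F14267 : act 6 n3282 = n3084 := d23_2 (iv F13363) D3282 (iv D3084)
theorem F14268 : act 8 n3282 = n3282 := d25_2 F13364 D3282 (iv D3282)
def n3283 : Q := act 7 n3082
theorem D3283 : act 7 n3082 = n3283 := rfl
theorem F14269 : act 0 n3283 = n3083 := d6_1 D3283 (iv D3083) (iv F13365)
theorem F14270 : act 2 n3283 = n3085 := d19_1 D3283 (iv D3085) (iv F13366)
theorem F14271 : act 4 n3283 = n3283 := d28_1 D3283 (iv D3283) F13367
theorem F14272 : act 6 n3283 = n3116 := d33_1 D3283 (iv D3116) (iv F13368)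
theorem F14273 : act 8 n3283 = n3283 := d35_2 D3082 D3283 (iv D3283) (iv D3082) F12372
def n3284 : Q := act 3 n3083
theorem D3284 : act 3 n3083 = n3284 := rfl
theorem F14274 : act 1 n3284 = n3084 := d9_1 D3284 (iv D3084) (iv F13369)
theorem F14275 : act 8 n3284 = n3284 := d25_2 F13372 D3284 (iv D3284)
def n3285 : Q := act 4 n3084
theorem D3285 : act 4 n3084 = n3285 := rfl
theorem F14276 : act 3 n3285 = n3285 := d21_1 D3285 (iv D3285) (iv D3084) F12377 D3084
theorem F14277 : act 8 n3285 = n3285 := d29_2 F13373 D3285 (iv D3285)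
def n3286 : Q := act 7 n3089
theorem D3286 : act 7 n3089 = n3286 := rfl
theorem F14278 : act 2 n3286 = n3091 := d19_1 D3286 (iv D3091) (iv F13391)
theorem F14279 : act 4 n3286 = n3090 := d28_1 D3286 (iv D3090) (iv F13393)
def n3287 : Q := act 7 n3092
theorem D3287 : act 7 n3092 = n3287 := rfl
theorem F14280 : act 1 n3287 = n3093 := d13_1 D3287 (iv D3093) (iv F13398)
def n3288 : Q := act 8 n3094
theorem D3288 : act 8 n3094 = n3288 := rfl
theorem F14281 : act 0 n3288 = n3096 := d7_1 D3288 (iv D3096) D3094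
theorem F14282 : act 3 n3288 = n3111 := d25_1 D3288 (iv D3111) (iv F13402)
theorem F14283 : act 6 n3288 = n3100 := d34_1 D3288 (iv D3100) (iv F13403)
def n3289 : Q := act 8 n3095
theorem D3289 : act 8 n3095 = n3289 := rfl
theorem F14284 : act 1 n3289 = n3098 := d14_1 D3289 (iv D3098) (iv F13405)
theorem F14285 : act 3 n3289 = n3289 := d25_1 D3289 (iv D3289) F13406
theorem F14286 : act 4 n3289 = n3096 := d29_1 D3289 (iv D3096) D3095
def n3290 : Q := act 7 n3096
theorem D3290 : act 7 n3096 = n3290 := rfl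
theorem F14287 : act 1 n3290 = n3099 := d13_1 D3290 (iv D3099) (iv F13408)
theorem F14288 : act 8 n3290 = n3107 := d35_2 D3096 D3290 (iv D3107) (iv D2866) (iv F12414)
def n3291 : Q := act 8 n3097
theorem D3291 : act 8 n3097 = n3291 := rfl
theorem F14289 : act 2 n3291 = n3100 := d20_1 D3291 (iv D3100) (iv F13410)
theorem F14290 : act 3 n3291 = n3291 := d25_1 D3291 (iv D3291) F13411
theorem F14291 : act 5 n3291 = n3098 := d32_1 D3291 (iv D3098) D3097
def n3292 : Q := act 7 n3098
theorem D3292 : act 7 n3098 = n3292 := rfl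
theorem F14292 : act 2 n3292 = n3101 := d19_1 D3292 (iv D3101) (iv F13413)
theorem F14293 : act 4 n3292 = n3099 := d28_1 D3292 (iv D3099) (iv F13415)
theorem F14294 : act 8 n3292 = n3109 := d35_2 D3098 D3292 (iv D3109) (iv D2868) (iv F12417)
def n3293 : Q := act 7 n3100
theorem D3293 : act 7 n3100 = n3293 := rfl
theorem F14295 : act 5 n3293 = n3101 := d31_1 D3293 (iv D3101) (iv F13419)
theorem F14296 : act 8 n3293 = n3110 := d35_2 D3100 D3293 (iv D3110) (iv D2870) (iv F12421)
def n3294 : Q := act 7 n3102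
theorem D3294 : act 7 n3102 = n3294 := rfl
theorem F14297 : act 5 n3294 = n3103 := d31_1 D3294 (iv D3103) (iv F13423)
def n3295 : Q := act 7 n3104
theorem D3295 : act 7 n3104 = n3295 := rfl
theorem F14298 : act 0 n3295 = n3107 := d6_1 D3295 (iv D3107) (iv F13426)
theorem F14299 : act 6 n3295 = n3110 := d33_1 D3295 (iv D3110) (iv F13428)
def n3296 : Q := act 8 n3105
theorem D3296 : act 8 n3105 = n3296 := rfl
theorem F14300 : act 1 n3296 = n3108 := d14_1 D3296 (iv D3108) (iv F13429)
theorem F14301 : act 3 n3296 = n3114 := d25_1 D3296 (iv D3114) (iv F13430)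
theorem F14302 : act 5 n3296 = n3106 := d32_1 D3296 (iv D3106) D3105
def n3297 : Q := act 7 n3106
theorem D3297 : act 7 n3106 = n3297 := rfl
theorem F14303 : act 1 n3297 = n3109 := d13_1 D3297 (iv D3109) (iv F13431)
theorem F14304 : act 4 n3297 = n3107 := d28_1 D3297 (iv D3107) (iv F13433)
def n3298 : Q := act 7 n3108
theorem D3298 : act 7 n3108 = n3298 := rfl
theorem F14305 : act 2 n3298 = n3110 := d19_1 D3298 (iv D3110) (iv F13435)
theorem F14306 : act 5 n3298 = n3109 := d31_1 D3298 (iv D3109) (iv F13437)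
def n3299 : Q := act 3 n3109
theorem D3299 : act 3 n3109 = n3299 := rfl
theorem F14307 : act 7 n3299 = n3117 := d24_2 D3109 D3299 (iv D3117) (iv D2885) (iv F12439)
def n3300 : Q := act 7 n3114
theorem D3300 : act 7 n3114 = n3300 := rfl
theorem F14308 : act 1 n3300 = n3116 := d13_1 D3300 (iv D3116) (iv F13451)
theorem F14309 : act 2 n3300 = n3300 := d19_1 D3300 (iv D3300) F13452
theorem F14310 : act 4 n3300 = n3300 := d28_1 D3300 (iv D3300) F13453
theorem F14311 : act 5 n3300 = n3115 := d31_1 D3300 (iv D3115) (iv F13454)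
theorem F14312 : act 8 n3300 = n3300 := d35_2 D3114 D3300 (iv D3300) (iv D3114) F12480
def n3301 : Q := act 3 n3115
theorem D3301 : act 3 n3115 = n3301 := rfl
theorem F14313 : act 1 n3301 = n3117 := d9_1 D3301 (iv D3117) (iv F13455)
theorem F14314 : act 8 n3301 = n3301 := d25_2 F13458 D3301 (iv D3301)
def n3302 : Q := act 3 n3116
theorem D3302 : act 3 n3116 = n3302 := rfl
theorem F14315 : act 5 n3302 = n3117 := d22_2 (iv F13461) D3302 (iv D3117)
theorem F14316 : act 8 n3302 = n3302 := d25_2 F13462 D3302 (iv D3302)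
def n3303 : Q := act 7 n3118
theorem D3303 : act 7 n3118 = n3303 := rfl
theorem F14317 : act 0 n3303 = n3303 := d6_1 D3303 (iv D3303) F13464
theorem F14318 : act 1 n3303 = n3153 := d13_1 D3303 (iv D3153) (iv F13465)
theorem F14319 : act 2 n3303 = n3120 := d19_1 D3303 (iv D3120) (iv F13466)
theorem F14320 : act 4 n3303 = n3196 := d28_1 D3303 (iv D3196) (iv F13468)
theorem F14321 : act 5 n3303 = n3133 := d31_1 D3303 (iv D3133) (iv F13469)
theorem F14322 : act 6 n3303 = n3303 := d33_1 D3303 (iv D3303) F13470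
theorem F14323 : act 8 n3303 = n3303 := d35_2 D3118 D3303 (iv D3303) (iv D3118) F12506
def n3304 : Q := act 7 n3119
theorem D3304 : act 7 n3119 = n3304 := rfl
theorem F14324 : act 0 n3304 = n3304 := d6_1 D3304 (iv D3304) F13471
theorem F14325 : act 1 n3304 = n3123 := d13_1 D3304 (iv D3123) (iv F13472)
theorem F14326 : act 2 n3304 = n3196 := d19_1 D3304 (iv D3196) (iv F13473)
theorem F14327 : act 4 n3304 = n3120 := d28_1 D3304 (iv D3120) (iv F13475)
theorem F14328 : act 5 n3304 = n3193 := d31_1 D3304 (iv D3193) (iv F13476)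
theorem F14329 : act 6 n3304 = n3304 := d33_1 D3304 (iv D3304) F13477
theorem F14330 : act 8 n3304 = n3304 := d35_2 D3119 D3304 (iv D3304) (iv D3119) F12514
def n3305 : Q := act 7 n3122
theorem D3305 : act 7 n3122 = n3305 := rfl
theorem F14331 : act 0 n3305 = n3128 := d6_1 D3305 (iv D3128) (iv F13492)
theorem F14332 : act 1 n3305 = n3193 := d13_1 D3305 (iv D3193) (iv F13493)
theorem F14333 : act 2 n3305 = n3168 := d19_1 D3305 (iv D3168) (iv F13494)
theorem F14334 : act 4 n3305 = n3189 := d28_1 D3305 (iv D3189) (iv F13496)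
theorem F14335 : act 5 n3305 = n3123 := d31_1 D3305 (iv D3123) (iv F13497)
theorem F14336 : act 6 n3305 = n3249 := d33_1 D3305 (iv D3249) (iv F13498)
theorem F14337 : act 8 n3305 = n3305 := d35_2 D3122 D3305 (iv D3305) (iv D3122) F12532
def n3306 : Q := act 3 n3123
theorem D3306 : act 3 n3123 = n3306 := rfl
theorem F14338 : act 0 n3306 = n3129 := d2_1 D3306 (iv D3129) (iv F13499)
theorem F14339 : act 2 n3306 = n3198 := d15_1 D3306 (iv D3198) F12956 (iv F12797) (iv F13500)
theorem F14340 : act 4 n3306 = n3306 := d21_2 (iv F13501) D3306 (iv D3306) F13501 F12541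
theorem F14341 : act 6 n3306 = n3306 := d23_2 F13502 D3306 (iv D3306)
theorem F14342 : act 7 n3306 = n3306 := d24_2 D3123 D3306 (iv D3306) (iv D3123) F12536
theorem F14343 : act 8 n3306 = n3306 := d25_2 F13503 D3306 (iv D3306)
def n3307 : Q := act 7 n3125
theorem D3307 : act 7 n3125 = n3307 := rfl
theorem F14344 : act 0 n3307 = n3189 := d6_1 D3307 (iv D3189) (iv F13512)
theorem F14345 : act 1 n3307 = n3307 := d13_1 D3307 (iv D3307) F13513
theorem F14346 : act 2 n3307 = n3186 := d19_1 D3307 (iv D3186) (iv F13514)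
theorem F14347 : act 3 n3307 = n3195 := d24_1 D3307 (iv D3195) F12933 (iv F12806) (iv F13515)
theorem F14348 : act 4 n3307 = n3128 := d28_1 D3307 (iv D3128) (iv F13516)
theorem F14349 : act 5 n3307 = n3126 := d31_1 D3307 (iv D3126) (iv F13517)
theorem F14350 : act 6 n3307 = n3257 := d33_1 D3307 (iv D3257) (iv F13518)
theorem F14351 : act 8 n3307 = n3307 := d35_2 D3125 D3307 (iv D3307) (iv D3125) F12557
def n3308 : Q := act 7 n3127
theorem D3308 : act 7 n3127 = n3308 := rfl
theorem F14352 : act 0 n3308 = n3249 := d6_1 D3308 (iv D3249) (iv F13526)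
theorem F14353 : act 1 n3308 = n3308 := d13_1 D3308 (iv D3308) F13527
theorem F14354 : act 2 n3308 = n3188 := d19_1 D3308 (iv D3188) (iv F13528)
theorem F14355 : act 4 n3308 = n3257 := d28_1 D3308 (iv D3257) (iv F13530)
theorem F14356 : act 5 n3308 = n3308 := d31_1 D3308 (iv D3308) F13531
theorem F14357 : act 6 n3308 = n3128 := d33_1 D3308 (iv D3128) (iv F13532)
theorem F14358 : act 8 n3308 = n3308 := d35_2 D3127 D3308 (iv D3308) (iv D3127) F12575
def n3309 : Q := act 3 n3128
theorem D3309 : act 3 n3128 = n3309 := rfl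
theorem F14359 : act 1 n3309 = n3309 := d9_1 D3309 (iv D3309) F13533
theorem F14360 : act 5 n3309 = n3129 := d22_2 (iv F13535) D3309 (iv D3129)
theorem F14361 : act 7 n3309 = n3309 := d24_2 D3128 D3309 (iv D3309) (iv D3128) F12578
theorem F14362 : act 8 n3309 = n3309 := d25_2 F13536 D3309 (iv D3309)
def n3310 : Q := act 2 n3129
theorem D3310 : act 2 n3129 = n3310 := rfl
theorem F14363 : act 0 n3310 = n3198 := d1_1 D3310 (iv F14339) F14338
theorem F14364 : act 3 n3310 = n3153 := d15_2 D3129 D3310 F13685 F12728 (iv F12581)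
theorem F14365 : act 4 n3310 = n3310 := d16_2 F13538 D3310 (iv D3310)
theorem F14366 : act 6 n3310 = n3310 := d18_2 F13539 D3310 (iv D3310)
theorem F14367 : act 7 n3310 = n3310 := d19_2 F13540 D3310 (iv D3310)
theorem F14368 : act 8 n3310 = n3310 := d20_2 F13541 D3310 (iv D3310)
def n3311 : Q := act 7 n3130
theorem D3311 : act 7 n3130 = n3311 := rfl
theorem F14369 : act 0 n3311 = n3209 := d6_1 D3311 (iv D3209) (iv F13542)
theorem F14370 : act 1 n3311 = n3131 := d13_1 D3311 (iv D3131) (iv F13543)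
theorem F14371 : act 2 n3311 = n3135 := d19_1 D3311 (iv D3135) (iv F13544)
theorem F14372 : act 3 n3311 = n3188 := d24_1 D3311 (iv D3188) F12883 (iv F12710) (iv F13545)
theorem F14373 : act 4 n3311 = n3191 := d28_1 D3311 (iv D3191) (iv F13546)
theorem F14374 : act 5 n3311 = n3311 := d31_1 D3311 (iv D3311) F13547
theorem F14375 : act 6 n3311 = n3152 := d33_1 D3311 (iv D3152) (iv F13548)
theorem F14376 : act 8 n3311 = n3311 := d35_2 D3130 D3311 (iv D3311) (iv D3130) F12591
def n3312 : Q := act 7 n3132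
theorem D3312 : act 7 n3132 = n3312 := rfl
theorem F14377 : act 0 n3312 = n3197 := d6_1 D3312 (iv D3197) (iv F13556)
theorem F14378 : act 1 n3312 = n3133 := d13_1 D3312 (iv D3133) (iv F13557)
theorem F14379 : act 2 n3312 = n3152 := d19_1 D3312 (iv D3152) (iv F13558)
theorem F14380 : act 4 n3312 = n3194 := d28_1 D3312 (iv D3194) (iv F13560)
theorem F14381 : act 5 n3312 = n3153 := d31_1 D3312 (iv D3153) (iv F13561)
theorem F14382 : act 6 n3312 = n3135 := d33_1 D3312 (iv D3135) (iv F13562)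
theorem F14383 : act 8 n3312 = n3312 := d35_2 D3132 D3312 (iv D3312) (iv D3132) F12608
def n3313 : Q := act 3 n3133
theorem D3313 : act 3 n3133 = n3313 := rfl
theorem F14384 : act 0 n3313 = n3313 := d2_1 D3313 (iv D3313) F13563
theorem F14385 : act 2 n3313 = n3313 := d15_1 D3313 (iv D3313) F13564 F12616 (iv F13564)
theorem F14386 : act 4 n3313 = n3250 := d21_2 (iv F13565) D3313 (iv D3250) F13205 (iv F12927)
theorem F14387 : act 6 n3313 = n3136 := d23_2 (iv F13566) D3313 (iv D3136)
theorem F14388 : act 7 n3313 = n3313 := d24_2 D3133 D3313 (iv D3313) (iv D3133) F12612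
theorem F14389 : act 8 n3313 = n3313 := d25_2 F13567 D3313 (iv D3313)
def n3314 : Q := act 7 n3134
theorem D3314 : act 7 n3134 = n3314 := rfl
theorem F14390 : act 0 n3314 = n3135 := d6_1 D3314 (iv D3135) (iv F13568)
theorem F14391 : act 1 n3314 = n3314 := d13_1 D3314 (iv D3314) F13569
theorem F14392 : act 2 n3314 = n3209 := d19_1 D3314 (iv D3209) (iv F13570)
theorem F14393 : act 4 n3314 = n3195 := d28_1 D3314 (iv D3195) (iv F13572)
theorem F14394 : act 5 n3314 = n3314 := d31_1 D3314 (iv D3314) F13573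
theorem F14395 : act 6 n3314 = n3197 := d33_1 D3314 (iv D3197) (iv F13574)
theorem F14396 : act 8 n3314 = n3314 := d35_2 D3134 D3314 (iv D3314) (iv D3134) F12626
def n3315 : Q := act 3 n3135
theorem D3315 : act 3 n3135 = n3315 := rfl
theorem F14397 : act 1 n3315 = n3136 := d9_1 D3315 (iv D3136) (iv F13575)
theorem F14398 : act 5 n3315 = n3315 := d22_2 F13577 D3315 (iv D3315)
theorem F14399 : act 7 n3315 = n3315 := d24_2 D3135 D3315 (iv D3315) (iv D3135) F12628
theorem F14400 : act 8 n3315 = n3315 := d25_2 F13578 D3315 (iv D3315)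
def n3316 : Q := act 4 n3136
theorem D3316 : act 4 n3136 = n3316 := rfl
theorem F14401 : act 0 n3316 = n3316 := d3_1 D3316 (iv D3316) F13579
theorem F14402 : act 2 n3316 = n3316 := d16_1 D3316 (iv D3316) F13580
theorem F14403 : act 3 n3316 = n3193 := d21_1 D3316 F13889 F12916 (iv F12633) D3136
theorem F14404 : act 6 n3316 = n3250 := d27_2 F14387 D3316 (iv F14386)
theorem F14405 : act 7 n3316 = n3316 := d28_2 F13582 D3316 (iv D3316)
theorem F14406 : act 8 n3316 = n3316 := d29_2 F13583 D3316 (iv D3316)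
def n3317 : Q := act 8 n3137
theorem D3317 : act 8 n3137 = n3317 := rfl
theorem F14407 : act 0 n3317 = n3291 := d7_1 D3317 (iv D3291) (iv F13584)
theorem F14408 : act 1 n3317 = n3264 := d14_1 D3317 (iv D3264) (iv F13585)
theorem F14409 : act 2 n3317 = n3139 := d20_1 D3317 (iv D3139) D3137
theorem F14410 : act 3 n3317 = n3317 := d25_1 D3317 (iv D3317) F13586
theorem F14411 : act 4 n3317 = n3231 := d29_1 D3317 (iv D3231) F13590
theorem F14412 : act 5 n3317 = n3228 := d32_1 D3317 (iv D3228) (iv F13587)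
theorem F14413 : act 6 n3317 = n3269 := d34_1 D3317 (iv D3269) (iv F13588)
def n3318 : Q := act 8 n3138
theorem D3318 : act 8 n3138 = n3318 := rfl
theorem F14414 : act 0 n3318 = n3226 := d7_1 D3318 (iv D3226) (iv F13591)
theorem F14415 : act 1 n3318 = n3203 := d14_1 D3318 (iv D3203) (iv F13592)
theorem F14416 : act 2 n3318 = n3231 := d20_1 D3318 (iv D3231) (iv F13593)
theorem F14417 : act 3 n3318 = n3318 := d25_1 D3318 (iv D3318) F13594
theorem F14418 : act 4 n3318 = n3139 := d29_1 D3318 (iv D3139) D3138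
theorem F14419 : act 5 n3318 = n3214 := d32_1 D3318 (iv D3214) (iv F13595)
theorem F14420 : act 6 n3318 = n3289 := d34_1 D3318 (iv D3289) (iv F13596)
def n3319 : Q := act 7 n3139
theorem D3319 : act 7 n3139 = n3319 := rfl
theorem F14421 : act 0 n3319 = n3293 := d6_1 D3319 (iv D3293) (iv F13598)
theorem F14422 : act 1 n3319 = n3204 := d13_1 D3319 (iv D3204) (iv F13599)
theorem F14423 : act 3 n3319 = n3175 := d24_1 D3319 (iv D3175) F12835 (iv F12647) (iv F13600)
theorem F14424 : act 5 n3319 = n3251 := d31_1 D3319 (iv D3251) (iv F13601)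
theorem F14425 : act 6 n3319 = n3290 := d33_1 D3319 (iv D3290) (iv F13602)
theorem F14426 : act 8 n3319 = n3143 := d35_2 D3139 D3319 (iv D3143) (iv D2915) (iv F12640)
def n3320 : Q := act 8 n3140
theorem D3320 : act 8 n3140 = n3320 := rfl
theorem F14427 : act 0 n3320 = n3238 := d7_1 D3320 (iv D3238) (iv F13603)
theorem F14428 : act 1 n3320 = n3259 := d14_1 D3320 (iv D3259) (iv F13604)
theorem F14429 : act 2 n3320 = n3142 := d20_1 D3320 (iv D3142) (iv F13605)
theorem F14430 : act 3 n3320 = n3320 := d25_1 D3320 (iv D3320) F13606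
theorem F14431 : act 4 n3320 = n3141 := d29_1 D3320 (iv D3141) D3140
theorem F14432 : act 5 n3320 = n3219 := d32_1 D3320 (iv D3219) (iv F13607)
theorem F14433 : act 6 n3320 = n3275 := d34_1 D3320 (iv D3275) (iv F13608)
def n3321 : Q := act 7 n3141
theorem D3321 : act 7 n3141 = n3321 := rfl
theorem F14434 : act 0 n3321 = n3298 := d6_1 D3321 (iv D3298) (iv F13610)
theorem F14435 : act 1 n3321 = n3273 := d13_1 D3321 (iv D3273) (iv F13611)
theorem F14436 : act 2 n3321 = n3143 := d19_1 D3321 (iv D3143) (iv F13612)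
theorem F14437 : act 5 n3321 = n3254 := d31_1 D3321 (iv D3254) (iv F13614)
theorem F14438 : act 6 n3321 = n3276 := d33_1 D3321 (iv D3276) (iv F13615)
def n3322 : Q := act 7 n3142
theorem D3322 : act 7 n3142 = n3322 := rfl
theorem F14439 : act 0 n3322 = n3241 := d6_1 D3322 (iv D3241) (iv F13616)
theorem F14440 : act 1 n3322 = n3206 := d13_1 D3322 (iv D3206) (iv F13617)
theorem F14441 : act 4 n3322 = n3143 := d28_1 D3322 (iv D3143) (iv F13619)
theorem F14442 : act 5 n3322 = n3221 := d31_1 D3322 (iv D3221) (iv F13620)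
theorem F14443 : act 6 n3322 = n3297 := d33_1 D3322 (iv D3297) (iv F13621)
def n3323 : Q := act 3 n3144
theorem D3323 : act 3 n3144 = n3323 := rfl
theorem F14444 : act 0 n3323 = n3247 := d2_1 D3323 (iv D3247) (iv F13627)
theorem F14445 : act 1 n3323 = n3208 := d9_1 D3323 (iv D3208) (iv F13628)
theorem F14446 : act 4 n3323 = n3187 := d21_2 (iv F13630) D3323 (iv D3187) F12879 (iv F12672)
theorem F14447 : act 5 n3323 = n3224 := d22_2 (iv F13631) D3323 (iv D3224)
theorem F14448 : act 6 n3323 = n3301 := d23_2 (iv F13632) D3323 (iv D3301)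
theorem F14449 : act 8 n3323 = n3323 := d25_2 F13633 D3323 (iv D3323)
def n3324 : Q := act 3 n3145
theorem D3324 : act 3 n3145 = n3324 := rfl
theorem F14450 : act 0 n3324 = n3302 := d2_1 D3324 (iv D3302) (iv F13634)
theorem F14451 : act 1 n3324 = n3282 := d9_1 D3324 (iv D3282) (iv F13635)
theorem F14452 : act 2 n3324 = n3192 := d15_1 D3324 (iv D3192) F12906 (iv F12684) (iv F13636)
theorem F14453 : act 5 n3324 = n3256 := d22_2 (iv F13638) D3324 (iv D3256)
theorem F14454 : act 6 n3324 = n3284 := d23_2 (iv F13639) D3324 (iv D3284)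
theorem F14455 : act 8 n3324 = n3324 := d25_2 F13640 D3324 (iv D3324)
def n3325 : Q := act 8 n3146
theorem D3325 : act 8 n3146 = n3325 := rfl
theorem F14456 : act 0 n3325 = n3211 := d7_1 D3325 (iv D3211) (iv F13641)
theorem F14457 : act 1 n3325 = n3161 := d14_1 D3325 (iv D3161) (iv F13642)
theorem F14458 : act 2 n3325 = n3235 := d20_1 D3325 (iv D3235) (iv F13647)
theorem F14459 : act 3 n3325 = n3147 := d25_1 D3325 (iv D3147) D3146
theorem F14460 : act 4 n3325 = n3180 := d29_1 D3325 (iv D3180) (iv F13643)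
theorem F14461 : act 5 n3325 = n3288 := d32_1 D3325 (iv D3288) (iv F13644)
theorem F14462 : act 6 n3325 = n3150 := d34_1 D3325 (iv D3150) (iv F13645)
def n3326 : Q := act 8 n3148
theorem D3326 : act 8 n3148 = n3326 := rfl
theorem F14463 : act 0 n3326 = n3212 := d7_1 D3326 (iv D3212) (iv F13655)
theorem F14464 : act 1 n3326 = n3214 := d14_1 D3326 (iv D3214) (iv F13656)
theorem F14465 : act 2 n3326 = n3150 := d20_1 D3326 (iv D3150) D3148
theorem F14466 : act 3 n3326 = n3326 := d25_1 D3326 (iv D3326) F13657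
theorem F14467 : act 4 n3326 = n3210 := d29_1 D3326 (iv D3210) F13661
theorem F14468 : act 5 n3326 = n3203 := d32_1 D3326 (iv D3203) (iv F13658)
theorem F14469 : act 6 n3326 = n3235 := d34_1 D3326 (iv D3235) (iv F13659)
def n3327 : Q := act 8 n3149
theorem D3327 : act 8 n3149 = n3327 := rfl
theorem F14470 : act 0 n3327 = n3205 := d7_1 D3327 (iv D3205) (iv F13662)
theorem F14471 : act 1 n3327 = n3164 := d14_1 D3327 (iv D3164) (iv F13663)
theorem F14472 : act 2 n3327 = n3210 := d20_1 D3327 (iv D3210) (iv F13664)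
theorem F14473 : act 3 n3327 = n3151 := d25_1 D3327 (iv D3151) (iv F13665)
theorem F14474 : act 4 n3327 = n3150 := d29_1 D3327 (iv D3150) D3149
theorem F14475 : act 5 n3327 = n3200 := d32_1 D3327 (iv D3200) (iv F13666)
theorem F14476 : act 6 n3327 = n3180 := d34_1 D3327 (iv D3180) (iv F13667)
def n3328 : Q := act 7 n3150
theorem D3328 : act 7 n3150 = n3328 := rfl
theorem F14477 : act 0 n3328 = n3213 := d6_1 D3328 (iv D3213) (iv F13669)
theorem F14478 : act 1 n3328 = n3165 := d13_1 D3328 (iv D3165) (iv F13670)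
theorem F14479 : act 3 n3328 = n3281 := d24_1 D3328 (iv D3281) F13352 (iv F12704) (iv F13671)
theorem F14480 : act 5 n3328 = n3258 := d31_1 D3328 (iv D3258) (iv F13672)
theorem F14481 : act 8 n3328 = n3294 := d35_2 D3150 D3328 (iv D3294) (iv D3102) (iv F12698)
def n3329 : Q := act 7 n3151
theorem D3329 : act 7 n3151 = n3329 := rfl
theorem F14482 : act 0 n3329 = n3207 := d6_1 D3329 (iv D3207) (iv F13673)
theorem F14483 : act 1 n3329 = n3167 := d13_1 D3329 (iv D3167) (iv F13674)
theorem F14484 : act 2 n3329 = n3194 := d19_1 D3329 (iv D3194) (iv F13675)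
theorem F14485 : act 4 n3329 = n3152 := d28_1 D3329 (iv D3152) (iv F13676)
theorem F14486 : act 5 n3329 = n3202 := d31_1 D3329 (iv D3202) (iv F13677)
theorem F14487 : act 6 n3329 = n3191 := d33_1 D3329 (iv D3191) (iv F13678)
theorem F14488 : act 8 n3329 = n3329 := d35_2 D3151 D3329 (iv D3329) (iv D3151) F12716
def n3330 : Q := act 8 n3154
theorem D3330 : act 8 n3154 = n3330 := rfl
theorem F14489 : act 0 n3330 = n3170 := d7_1 D3330 (iv D3170) (iv F13689)
theorem F14490 : act 1 n3330 = n3233 := d14_1 D3330 (iv D3233) (iv F13690)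
theorem F14491 : act 2 n3330 = n3174 := d20_1 D3330 (iv D3174) (iv F13694)
theorem F14492 : act 3 n3330 = n3155 := d25_1 D3330 (iv D3155) D3154
theorem F14493 : act 4 n3330 = n3172 := d29_1 D3330 (iv D3172) F13695
theorem F14494 : act 5 n3330 = n3280 := d32_1 D3330 (iv D3280) (iv F13691)
theorem F14495 : act 6 n3330 = n3158 := d34_1 D3330 (iv D3158) (iv F13692)
def n3331 : Q := act 8 n3156
theorem D3331 : act 8 n3156 = n3331 := rfl
theorem F14496 : act 0 n3331 = n3172 := d7_1 D3331 (iv D3172) (iv F13703)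
theorem F14497 : act 1 n3331 = n3219 := d14_1 D3331 (iv D3219) (iv F13704)
theorem F14498 : act 2 n3331 = n3158 := d20_1 D3331 (iv D3158) D3156
theorem F14499 : act 3 n3331 = n3331 := d25_1 D3331 (iv D3331) F13705
theorem F14500 : act 4 n3331 = n3170 := d29_1 D3331 (iv D3170) F13709
theorem F14501 : act 5 n3331 = n3259 := d32_1 D3331 (iv D3259) (iv F13706)
theorem F14502 : act 6 n3331 = n3174 := d34_1 D3331 (iv D3174) (iv F13707)
def n3332 : Q := act 8 n3157
theorem D3332 : act 8 n3157 = n3332 := rfl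
theorem F14503 : act 0 n3332 = n3174 := d7_1 D3332 (iv D3174) (iv F13710)
theorem F14504 : act 1 n3332 = n3212 := d14_1 D3332 (iv D3212) (iv F13711)
theorem F14505 : act 2 n3332 = n3170 := d20_1 D3332 (iv D3170) (iv F13712)
theorem F14506 : act 3 n3332 = n3332 := d25_1 D3332 (iv D3332) F13713
theorem F14507 : act 4 n3332 = n3158 := d29_1 D3332 (iv D3158) D3157
theorem F14508 : act 5 n3332 = n3271 := d32_1 D3332 (iv D3271) (iv F13714)
theorem F14509 : act 6 n3332 = n3172 := d34_1 D3332 (iv D3172) (iv F13715)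
def n3333 : Q := act 7 n3158
theorem D3333 : act 7 n3158 = n3333 := rfl
theorem F14510 : act 0 n3333 = n3175 := d6_1 D3333 (iv D3175) (iv F13717)
theorem F14511 : act 1 n3333 = n3294 := d13_1 D3333 (iv D3294) (iv F13718)
theorem F14512 : act 3 n3333 = n3293 := d24_1 D3333 (iv D3293) F13418 (iv F12747) (iv F13719)
theorem F14513 : act 5 n3333 = n3260 := d31_1 D3333 (iv D3260) (iv F13720)
theorem F14514 : act 8 n3333 = n3165 := d35_2 D3158 D3333 (iv D3165) (iv D2936) (iv F12741)
def n3334 : Q := act 8 n3159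
theorem D3334 : act 8 n3159 = n3334 := rfl
theorem F14515 : act 0 n3334 = n3177 := d7_1 D3334 (iv D3177) (iv F13721)
theorem F14516 : act 1 n3334 = n3288 := d14_1 D3334 (iv D3288) (iv F13722)
theorem F14517 : act 2 n3334 = n3183 := d20_1 D3334 (iv D3183) (iv F13723)
theorem F14518 : act 3 n3334 = n3160 := d25_1 D3334 (iv D3160) D3159
theorem F14519 : act 4 n3334 = n3277 := d29_1 D3334 (iv D3277) F13727
theorem F14520 : act 5 n3334 = n3161 := d32_1 D3334 (iv D3161) (iv F13724)
theorem F14521 : act 6 n3334 = n3261 := d34_1 D3334 (iv D3261) (iv F13725)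
def n3335 : Q := act 7 n3161
theorem D3335 : act 7 n3161 = n3335 := rfl
theorem F14522 : act 0 n3335 = n3178 := d6_1 D3335 (iv D3178) (iv F13735)
theorem F14523 : act 2 n3335 = n3184 := d19_1 D3335 (iv D3184) (iv F13736)
theorem F14524 : act 3 n3335 = n3295 := d24_1 D3335 (iv D3295) F13427 (iv F12762) (iv F13737)
theorem F14525 : act 4 n3335 = n3181 := d28_1 D3335 (iv D3181) (iv F13738)
theorem F14526 : act 6 n3335 = n3165 := d33_1 D3335 (iv D3165) (iv F13739)
def n3336 : Q := act 7 n3162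
theorem D3336 : act 7 n3162 = n3336 := rfl
theorem F14527 : act 0 n3336 = n3181 := d6_1 D3336 (iv D3181) (iv F13740)
theorem F14528 : act 1 n3336 = n3232 := d13_1 D3336 (iv D3232) (iv F13741)
theorem F14529 : act 2 n3336 = n3165 := d19_1 D3336 (iv D3165) (iv F13742)
theorem F14530 : act 4 n3336 = n3178 := d28_1 D3336 (iv D3178) (iv F13744)
theorem F14531 : act 5 n3336 = n3265 := d31_1 D3336 (iv D3265) (iv F13745)
theorem F14532 : act 6 n3336 = n3184 := d33_1 D3336 (iv D3184) (iv F13746)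
def n3337 : Q := act 8 n3163
theorem D3337 : act 8 n3163 = n3337 := rfl
theorem F14533 : act 0 n3337 = n3183 := d7_1 D3337 (iv D3183) (iv F13747)
theorem F14534 : act 1 n3337 = n3200 := d14_1 D3337 (iv D3200) (iv F13748)
theorem F14535 : act 2 n3337 = n3177 := d20_1 D3337 (iv D3177) (iv F13749)
theorem F14536 : act 3 n3337 = n3166 := d25_1 D3337 (iv D3166) (iv F13750)
theorem F14537 : act 4 n3337 = n3199 := d29_1 D3337 (iv D3199) (iv F13751)
theorem F14538 : act 5 n3337 = n3164 := d32_1 D3337 (iv D3164) D3163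
theorem F14539 : act 6 n3337 = n3253 := d34_1 D3337 (iv D3253) (iv F13752)
def n3338 : Q := act 7 n3164
theorem D3338 : act 7 n3164 = n3338 := rfl
theorem F14540 : act 0 n3338 = n3184 := d6_1 D3338 (iv D3184) (iv F13754)
theorem F14541 : act 2 n3338 = n3178 := d19_1 D3338 (iv D3178) (iv F13755)
theorem F14542 : act 4 n3338 = n3165 := d28_1 D3338 (iv D3165) (iv F13757)
theorem F14543 : act 6 n3338 = n3181 := d33_1 D3338 (iv D3181) (iv F13758)
def n3339 : Q := act 7 n3166
theorem D3339 : act 7 n3166 = n3339 := rfl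
theorem F14544 : act 0 n3339 = n3186 := d6_1 D3339 (iv D3186) (iv F13762)
theorem F14545 : act 1 n3339 = n3202 := d13_1 D3339 (iv D3202) (iv F13763)
theorem F14546 : act 2 n3339 = n3189 := d19_1 D3339 (iv D3189) (iv F13764)
theorem F14547 : act 4 n3339 = n3168 := d28_1 D3339 (iv D3168) (iv F13765)
theorem F14548 : act 5 n3339 = n3167 := d31_1 D3339 (iv D3167) (iv F13766)
theorem F14549 : act 6 n3339 = n3255 := d33_1 D3339 (iv D3255) (iv F13767)
theorem F14550 : act 8 n3339 = n3339 := d35_2 D3166 D3339 (iv D3339) (iv D3166) F12781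
def n3340 : Q := act 3 n3167
theorem D3340 : act 3 n3167 = n3340 := rfl
theorem F14551 : act 0 n3340 = n3187 := d2_1 D3340 (iv D3187) (iv F13768)
theorem F14552 : act 2 n3340 = n3284 := d15_1 D3340 (iv D3284) F13370 (iv F12894) (iv F13769)
theorem F14553 : act 4 n3340 = n3247 := d21_2 (iv F13770) D3340 (iv D3247) F13178 (iv F12787)
theorem F14554 : act 6 n3340 = n3192 := d23_2 (iv F13771) D3340 (iv D3192)
theorem F14555 : act 8 n3340 = n3340 := d25_2 F13772 D3340 (iv D3340)
def n3341 : Q := act 3 n3169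
theorem D3341 : act 3 n3169 = n3341 := rfl
theorem F14556 : act 0 n3341 = n3192 := d2_1 D3341 (iv D3192) (iv F13779)
theorem F14557 : act 1 n3341 = n3245 := d9_1 D3341 (iv D3245) (iv F13780)
theorem F14558 : act 2 n3341 = n3302 := d15_1 D3341 (iv D3302) F13459 (iv F12815) (iv F13781)
theorem F14559 : act 4 n3341 = n3301 := d21_2 (iv F13782) D3341 (iv D3301) F13457 (iv F12865)
theorem F14560 : act 5 n3341 = n3268 := d22_2 (iv F13783) D3341 (iv D3268)
theorem F14561 : act 6 n3341 = n3187 := d23_2 (iv F13784) D3341 (iv D3187)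
theorem F14562 : act 8 n3341 = n3341 := d25_2 F13785 D3341 (iv D3341)
def n3342 : Q := act 7 n3170
theorem D3342 : act 7 n3170 = n3342 := rfl
theorem F14563 : act 1 n3342 = n3220 := d13_1 D3342 (iv D3220) (iv F13786)
theorem F14564 : act 3 n3342 = n3290 := d24_1 D3342 (iv D3290) F13409 (iv F12827) (iv F13787)
theorem F14565 : act 5 n3342 = n3287 := d31_1 D3342 (iv D3287) (iv F13788)
theorem F14566 : act 6 n3342 = n3175 := d33_1 D3342 (iv D3175) (iv F13789)
theorem F14567 : act 8 n3342 = n3178 := d35_2 D3170 D3342 (iv D3178) (iv D2952) (iv F12821)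
def n3343 : Q := act 8 n3171
theorem D3343 : act 8 n3171 = n3343 := rfl
theorem F14568 : act 0 n3343 = n3235 := d7_1 D3343 (iv D3235) (iv F13790)
theorem F14569 : act 1 n3343 = n3172 := d14_1 D3343 (iv D3172) D3171
theorem F14570 : act 2 n3343 = n3211 := d20_1 D3343 (iv D3211) (iv F13791)
theorem F14571 : act 3 n3343 = n3343 := d25_1 D3343 (iv D3343) F13792
theorem F14572 : act 4 n3343 = n3233 := d29_1 D3343 (iv D3233) (iv F13793)
theorem F14573 : act 5 n3343 = n3269 := d32_1 D3343 (iv D3269) (iv F13794)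
theorem F14574 : act 6 n3343 = n3212 := d34_1 D3343 (iv D3212) (iv F13795)
def n3344 : Q := act 7 n3172
theorem D3344 : act 7 n3172 = n3344 := rfl
theorem F14575 : act 2 n3344 = n3175 := d19_1 D3344 (iv D3175) (iv F13797)
theorem F14576 : act 5 n3344 = n3270 := d31_1 D3344 (iv D3270) (iv F13799)
theorem F14577 : act 8 n3344 = n3181 := d35_2 D3172 D3344 (iv D3181) (iv D2954) (iv F12830)
def n3345 : Q := act 8 n3173
theorem D3345 : act 8 n3173 = n3345 := rfl
theorem F14578 : act 0 n3345 = n3271 := d7_1 D3345 (iv D3271) (iv F13800)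
theorem F14579 : act 1 n3345 = n3226 := d14_1 D3345 (iv D3226) (iv F13801)
theorem F14580 : act 2 n3345 = n3280 := d20_1 D3345 (iv D3280) (iv F13802)
theorem F14581 : act 3 n3345 = n3345 := d25_1 D3345 (iv D3345) F13803
theorem F14582 : act 4 n3345 = n3261 := d29_1 D3345 (iv D3261) (iv F13804)
theorem F14583 : act 5 n3345 = n3174 := d32_1 D3345 (iv D3174) D3173
theorem F14584 : act 6 n3345 = n3277 := d34_1 D3345 (iv D3277) (iv F13805)
def n3346 : Q := act 7 n3174
theorem D3346 : act 7 n3174 = n3346 := rfl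
theorem F14585 : act 1 n3346 = n3227 := d13_1 D3346 (iv D3227) (iv F13807)
theorem F14586 : act 4 n3346 = n3175 := d28_1 D3346 (iv D3175) (iv F13809)
theorem F14587 : act 8 n3346 = n3184 := d35_2 D3174 D3346 (iv D3184) (iv D2956) (iv F12833)
def n3347 : Q := act 8 n3176
theorem D3347 : act 8 n3176 = n3347 := rfl
theorem F14588 : act 0 n3347 = n3277 := d7_1 D3347 (iv D3277) (iv F13813)
theorem F14589 : act 1 n3347 = n3228 := d14_1 D3347 (iv D3228) (iv F13814)
theorem F14590 : act 2 n3347 = n3199 := d20_1 D3347 (iv D3199) (iv F13815)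
theorem F14591 : act 3 n3347 = n3347 := d25_1 D3347 (iv D3347) F13816
theorem F14592 : act 4 n3347 = n3177 := d29_1 D3347 (iv D3177) D3176
theorem F14593 : act 5 n3347 = n3264 := d32_1 D3347 (iv D3264) (iv F13817)
theorem F14594 : act 6 n3347 = n3271 := d34_1 D3347 (iv D3271) (iv F13818)
def n3348 : Q := act 7 n3177
theorem D3348 : act 7 n3177 = n3348 := rfl
theorem F14595 : act 1 n3348 = n3229 := d13_1 D3348 (iv D3229) (iv F13820)
theorem F14596 : act 3 n3348 = n3236 := d24_1 D3348 (iv D3236) F13142 (iv F12846) (iv F13821)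
theorem F14597 : act 5 n3348 = n3178 := d31_1 D3348 (iv D3178) (iv F13822)
theorem F14598 : act 6 n3348 = n3272 := d33_1 D3348 (iv D3272) (iv F13823)
theorem F14599 : act 8 n3348 = n3287 := d35_2 D3177 D3348 (iv D3287) (iv D3092) (iv F12840)
def n3349 : Q := act 8 n3179
theorem D3349 : act 8 n3179 = n3349 := rfl
theorem F14600 : act 0 n3349 = n3180 := d7_1 D3349 (iv D3180) D3179
theorem F14601 : act 1 n3349 = n3217 := d14_1 D3349 (iv D3217) (iv F13827)
theorem F14602 : act 2 n3349 = n3233 := d20_1 D3349 (iv D3233) (iv F13828)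
theorem F14603 : act 3 n3349 = n3190 := d25_1 D3349 (iv D3190) (iv F13829)
theorem F14604 : act 4 n3349 = n3211 := d29_1 D3349 (iv D3211) (iv F13830)
theorem F14605 : act 5 n3349 = n3274 := d32_1 D3349 (iv D3274) (iv F13831)
theorem F14606 : act 6 n3349 = n3205 := d34_1 D3349 (iv D3205) (iv F13832)
def n3350 : Q := act 7 n3180
theorem D3350 : act 7 n3180 = n3350 := rfl
theorem F14607 : act 1 n3350 = n3181 := d13_1 D3350 (iv D3181) (iv F13834)
theorem F14608 : act 2 n3350 = n3236 := d19_1 D3350 (iv D3236) (iv F13835)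
theorem F14609 : act 5 n3350 = n3276 := d31_1 D3350 (iv D3276) (iv F13837)
def n3351 : Q := act 3 n3181
theorem D3351 : act 3 n3181 = n3351 := rfl
theorem F14610 : act 5 n3351 = n3279 := d22_2 (iv F13839) D3351 (iv D3279)
theorem F14611 : act 7 n3351 = n3192 := d24_2 D3181 D3351 (iv D3192) (iv D2968) (iv F12854)
def n3352 : Q := act 8 n3182
theorem D3352 : act 8 n3182 = n3352 := rfl
theorem F14612 : act 0 n3352 = n3253 := d7_1 D3352 (iv D3253) (iv F13840)
theorem F14613 : act 1 n3352 = n3240 := d14_1 D3352 (iv D3240) (iv F13841)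
theorem F14614 : act 2 n3352 = n3261 := d20_1 D3352 (iv D3261) (iv F13842)
theorem F14615 : act 3 n3352 = n3185 := d25_1 D3352 (iv D3185) (iv F13843)
theorem F14616 : act 4 n3352 = n3280 := d29_1 D3352 (iv D3280) (iv F13844)
theorem F14617 : act 5 n3352 = n3262 := d32_1 D3352 (iv D3262) (iv F13845)
theorem F14618 : act 6 n3352 = n3183 := d34_1 D3352 (iv D3183) D3182
def n3353 : Q := act 7 n3183
theorem D3353 : act 7 n3183 = n3353 := rfl
theorem F14619 : act 1 n3353 = n3241 := d13_1 D3353 (iv D3241) (iv F13847)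
theorem F14620 : act 4 n3353 = n3281 := d28_1 D3353 (iv D3281) (iv F13849)
theorem F14621 : act 5 n3353 = n3184 := d31_1 D3353 (iv D3184) (iv F13850)
def n3354 : Q := act 3 n3184
theorem D3354 : act 3 n3184 = n3354 := rfl
theorem F14622 : act 1 n3354 = n3242 := d9_1 D3354 (iv D3242) (iv F13851)
theorem F14623 : act 7 n3354 = n3187 := d24_2 D3184 D3354 (iv D3187) (iv D2961) (iv F12860)
def n3355 : Q := act 7 n3185
theorem D3355 : act 7 n3185 = n3355 := rfl
theorem F14624 : act 0 n3355 = n3255 := d6_1 D3355 (iv D3255) (iv F13853)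
theorem F14625 : act 1 n3355 = n3246 := d13_1 D3355 (iv D3246) (iv F13854)
theorem F14626 : act 2 n3355 = n3257 := d19_1 D3355 (iv D3257) (iv F13855)
theorem F14627 : act 4 n3355 = n3188 := d28_1 D3355 (iv D3188) (iv F13856)
theorem F14628 : act 5 n3355 = n3267 := d31_1 D3355 (iv D3267) (iv F13857)
theorem F14629 : act 6 n3355 = n3186 := d33_1 D3355 (iv D3186) (iv F13858)
theorem F14630 : act 8 n3355 = n3355 := d35_2 D3185 D3355 (iv D3355) (iv D3185) F12874
def n3356 : Q := act 3 n3186
theorem D3356 : act 3 n3186 = n3356 := rfl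
theorem F14631 : act 1 n3356 = n3247 := d9_1 D3356 (iv D3247) (iv F13859)
theorem F14632 : act 5 n3356 = n3187 := d22_2 (iv F13861) D3356 (iv D3187)
theorem F14633 : act 8 n3356 = n3356 := d25_2 F13862 D3356 (iv D3356)
def n3357 : Q := act 2 n3187
theorem D3357 : act 2 n3187 = n3357 := rfl
theorem F14634 : act 0 n3357 = n3284 := d1_1 D3357 (iv F14552) F14551
theorem F14635 : act 3 n3357 = n3283 := d15_2 D3187 D3357 F14270 (iv F13522) F13521
theorem F14636 : act 6 n3357 = n3302 := d18_2 F14561 D3357 (iv F14558)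
theorem F14637 : act 8 n3357 = n3357 := d20_2 F13864 D3357 (iv D3357)
def n3358 : Q := act 7 n3190
theorem D3358 : act 7 n3190 = n3358 := rfl
theorem F14638 : act 0 n3358 = n3191 := d6_1 D3358 (iv D3191) (iv F13875)
theorem F14639 : act 1 n3358 = n3223 := d13_1 D3358 (iv D3223) (iv F13876)
theorem F14640 : act 2 n3358 = n3195 := d19_1 D3358 (iv D3195) (iv F13877)
theorem F14641 : act 4 n3358 = n3209 := d28_1 D3358 (iv D3209) (iv F13878)
theorem F14642 : act 5 n3358 = n3283 := d31_1 D3358 (iv D3283) (iv F13879)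
theorem F14643 : act 6 n3358 = n3207 := d33_1 D3358 (iv D3207) (iv F13880)
theorem F14644 : act 8 n3358 = n3358 := d35_2 D3190 D3358 (iv D3358) (iv D3190) F12902
def n3359 : Q := act 3 n3191
theorem D3359 : act 3 n3191 = n3359 := rfl
theorem F14645 : act 1 n3359 = n3192 := d9_1 D3359 (iv D3192) (iv F13881)
theorem F14646 : act 5 n3359 = n3284 := d22_2 (iv F13883) D3359 (iv D3284)
theorem F14647 : act 8 n3359 = n3359 := d25_2 F13884 D3359 (iv D3359)
def n3360 : Q := act 4 n3192
theorem D3360 : act 4 n3192 = n3360 := rfl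
theorem F14648 : act 0 n3360 = n3301 := d3_1 D3360 (iv F14559) F14556
theorem F14649 : act 3 n3360 = n3246 := d21_1 D3360 F14129 (iv F13551) F13552 D3192
theorem F14650 : act 6 n3360 = n3247 := d27_2 F14554 D3360 (iv F14553)
theorem F14651 : act 8 n3360 = n3360 := d29_2 F13886 D3360 (iv D3360)
def n3361 : Q := act 3 n3197
theorem D3361 : act 3 n3197 = n3361 := rfl
theorem F14652 : act 1 n3361 = n3361 := d9_1 D3361 (iv D3361) F13909
theorem F14653 : act 5 n3361 = n3198 := d22_2 (iv F13912) D3361 (iv D3198)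
theorem F14654 : act 7 n3361 = n3361 := d24_2 D3197 D3361 (iv D3361) (iv D3197) F12952
theorem F14655 : act 8 n3361 = n3361 := d25_2 F13913 D3361 (iv D3361)
def n3362 : Q := act 7 n3199
theorem D3362 : act 7 n3199 = n3362 := rfl
theorem F14656 : act 0 n3362 = n3281 := d6_1 D3362 (iv D3281) (iv F13919)
theorem F14657 : act 1 n3362 = n3201 := d13_1 D3362 (iv D3201) (iv F13920)
theorem F14658 : act 3 n3362 = n3213 := d24_1 D3362 (iv D3213) F13055 (iv F12971) (iv F13921)
theorem F14659 : act 5 n3362 = n3266 := d31_1 D3362 (iv D3266) (iv F13922)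
theorem F14660 : act 6 n3362 = n3287 := d33_1 D3362 (iv D3287) (iv F13923)
theorem F14661 : act 8 n3362 = n3272 := d35_2 D3199 D3362 (iv D3272) (iv D3068) (iv F12964)
def n3363 : Q := act 7 n3200
theorem D3363 : act 7 n3200 = n3363 := rfl
theorem F14662 : act 0 n3363 = n3206 := d6_1 D3363 (iv D3206) (iv F13924)
theorem F14663 : act 2 n3363 = n3252 := d19_1 D3363 (iv D3252) (iv F13925)
theorem F14664 : act 4 n3363 = n3201 := d28_1 D3363 (iv D3201) (iv F13927)
theorem F14665 : act 6 n3363 = n3254 := d33_1 D3363 (iv D3254) (iv F13928)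
theorem F14666 : act 8 n3363 = n3286 := d35_2 D3200 D3363 (iv D3286) (iv D3089) (iv F12976)
def n3364 : Q := act 3 n3202
theorem D3364 : act 3 n3202 = n3364 := rfl
theorem F14667 : act 0 n3364 = n3208 := d2_1 D3364 (iv D3208) (iv F13935)
theorem F14668 : act 2 n3364 = n3282 := d15_1 D3364 (iv D3282) F13361 (iv F13232) (iv F13936)
theorem F14669 : act 4 n3364 = n3224 := d21_2 (iv F13937) D3364 (iv D3224) F13110 (iv F12988)
theorem F14670 : act 6 n3364 = n3256 := d23_2 (iv F13938) D3364 (iv D3256)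
theorem F14671 : act 8 n3364 = n3364 := d25_2 F13939 D3364 (iv D3364)
def n3365 : Q := act 7 n3203
theorem D3365 : act 7 n3203 = n3365 := rfl
theorem F14672 : act 0 n3365 = n3286 := d6_1 D3365 (iv D3286) (iv F13940)
theorem F14673 : act 2 n3365 = n3258 := d19_1 D3365 (iv D3258) (iv F13941)
theorem F14674 : act 4 n3365 = n3204 := d28_1 D3365 (iv D3204) (iv F13943)
theorem F14675 : act 6 n3365 = n3292 := d33_1 D3365 (iv D3292) (iv F13944)
theorem F14676 : act 8 n3365 = n3206 := d35_2 D3203 D3365 (iv D3206) (iv D2988) (iv F12996)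
def n3366 : Q := act 7 n3205
theorem D3366 : act 7 n3205 = n3366 := rfl
theorem F14677 : act 1 n3366 = n3221 := d13_1 D3366 (iv D3221) (iv F13951)
theorem F14678 : act 2 n3366 = n3294 := d19_1 D3366 (iv D3294) (iv F13952)
theorem F14679 : act 4 n3366 = n3213 := d28_1 D3366 (iv D3213) (iv F13954)
theorem F14680 : act 5 n3366 = n3206 := d31_1 D3366 (iv D3206) (iv F13955)
def n3367 : Q := act 3 n3206
theorem D3367 : act 3 n3206 = n3367 := rfl
theorem F14681 : act 4 n3367 = n3242 := d21_2 (iv F13957) D3367 (iv D3242) F13158 (iv F13011)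
theorem F14682 : act 6 n3367 = n3299 := d23_2 (iv F13958) D3367 (iv D3299)
theorem F14683 : act 7 n3367 = n3208 := d24_2 D3206 D3367 (iv D3208) (iv D2991) (iv F13007)
def n3368 : Q := act 3 n3207
theorem D3368 : act 3 n3207 = n3368 := rfl
theorem F14684 : act 1 n3368 = n3224 := d9_1 D3368 (iv D3224) (iv F13959)
theorem F14685 : act 5 n3368 = n3208 := d22_2 (iv F13962) D3368 (iv D3208)
theorem F14686 : act 8 n3368 = n3368 := d25_2 F13963 D3368 (iv D3368)
def n3369 : Q := act 2 n3208
theorem D3369 : act 2 n3208 = n3369 := rfl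
theorem F14687 : act 0 n3369 = n3282 := d1_1 D3369 (iv F14668) F14667
theorem F14688 : act 3 n3369 = n3267 := d15_2 D3208 D3369 F14225 F13307 (iv F13018)
theorem F14689 : act 4 n3369 = n3248 := d16_2 (iv F13964) D3369 (iv D3248)
theorem F14690 : act 6 n3369 = n3268 := d18_2 (iv F13965) D3369 F14230
theorem F14691 : act 8 n3369 = n3369 := d20_2 F13966 D3369 (iv D3369)
def n3370 : Q := act 7 n3210
theorem D3370 : act 7 n3210 = n3370 := rfl
theorem F14692 : act 0 n3370 = n3294 := d6_1 D3370 (iv D3294) (iv F13972)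
theorem F14693 : act 1 n3370 = n3215 := d13_1 D3370 (iv D3215) (iv F13973)
theorem F14694 : act 3 n3370 = n3272 := d24_1 D3370 (iv D3272) F13326 (iv F13040) (iv F13974)
theorem F14695 : act 5 n3370 = n3252 := d31_1 D3370 (iv D3252) (iv F13975)
theorem F14696 : act 6 n3370 = n3236 := d33_1 D3370 (iv D3236) (iv F13976)
theorem F14697 : act 8 n3370 = n3213 := d35_2 D3210 D3370 (iv D3213) (iv D2999) (iv F13033)
def n3371 : Q := act 7 n3211
theorem D3371 : act 7 n3211 = n3371 := rfl
theorem F14698 : act 1 n3371 = n3218 := d13_1 D3371 (iv D3218) (iv F13977)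
theorem F14699 : act 3 n3371 = n3287 := d24_1 D3371 (iv D3287) F13399 (iv F13050) (iv F13978)
theorem F14700 : act 5 n3371 = n3290 := d31_1 D3371 (iv D3290) (iv F13979)
theorem F14701 : act 6 n3371 = n3213 := d33_1 D3371 (iv D3213) (iv F13980)
theorem F14702 : act 8 n3371 = n3236 := d35_2 D3211 D3371 (iv D3236) (iv D3022) (iv F13044)
def n3372 : Q := act 7 n3212
theorem D3372 : act 7 n3212 = n3372 := rfl
theorem F14703 : act 2 n3372 = n3213 := d19_1 D3372 (iv D3213) (iv F13981)
theorem F14704 : act 4 n3372 = n3294 := d28_1 D3372 (iv D3294) (iv F13983)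
theorem F14705 : act 5 n3372 = n3286 := d31_1 D3372 (iv D3286) (iv F13984)
def n3373 : Q := act 7 n3214
theorem D3373 : act 7 n3214 = n3373 := rfl
theorem F14706 : act 0 n3373 = n3227 := d6_1 D3373 (iv D3227) (iv F13987)
theorem F14707 : act 2 n3373 = n3232 := d19_1 D3373 (iv D3232) (iv F13988)
theorem F14708 : act 4 n3373 = n3215 := d28_1 D3373 (iv D3215) (iv F13990)
theorem F14709 : act 6 n3373 = n3239 := d33_1 D3373 (iv D3239) (iv F13991)
theorem F14710 : act 8 n3373 = n3221 := d35_2 D3214 D3373 (iv D3221) (iv D3006) (iv F13061)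
def n3374 : Q := act 8 n3216
theorem D3374 : act 8 n3216 = n3374 := rfl
theorem F14711 : act 0 n3374 = n3231 := d7_1 D3374 (iv D3231) (iv F13998)
theorem F14712 : act 1 n3374 = n3274 := d14_1 D3374 (iv D3274) (iv F13999)
theorem F14713 : act 2 n3374 = n3226 := d20_1 D3374 (iv D3226) (iv F14000)
theorem F14714 : act 3 n3374 = n3222 := d25_1 D3374 (iv D3222) (iv F14001)
theorem F14715 : act 4 n3374 = n3291 := d29_1 D3374 (iv D3291) (iv F14002)
theorem F14716 : act 5 n3374 = n3217 := d32_1 D3374 (iv D3217) D3216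
theorem F14717 : act 6 n3374 = n3296 := d34_1 D3374 (iv D3296) (iv F14003)
def n3375 : Q := act 7 n3217
theorem D3375 : act 7 n3217 = n3375 := rfl
theorem F14718 : act 0 n3375 = n3232 := d6_1 D3375 (iv D3232) (iv F14005)
theorem F14719 : act 2 n3375 = n3227 := d19_1 D3375 (iv D3227) (iv F14006)
theorem F14720 : act 4 n3375 = n3218 := d28_1 D3375 (iv D3218) (iv F14008)
theorem F14721 : act 6 n3375 = n3221 := d33_1 D3375 (iv D3221) (iv F14009)
theorem F14722 : act 8 n3375 = n3239 := d35_2 D3217 D3375 (iv D3239) (iv D3024) (iv F13071)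
def n3376 : Q := act 7 n3219
theorem D3376 : act 7 n3219 = n3376 := rfl
theorem F14723 : act 0 n3376 = n3239 := d6_1 D3376 (iv D3239) (iv F14016)
theorem F14724 : act 2 n3376 = n3221 := d19_1 D3376 (iv D3221) (iv F14017)
theorem F14725 : act 4 n3376 = n3220 := d28_1 D3376 (iv D3220) (iv F14019)
theorem F14726 : act 6 n3376 = n3227 := d33_1 D3376 (iv D3227) (iv F14020)
theorem F14727 : act 8 n3376 = n3232 := d35_2 D3219 D3376 (iv D3232) (iv D3018) (iv F13081)
def n3377 : Q := act 3 n3221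
theorem D3377 : act 3 n3221 = n3377 := rfl
theorem F14728 : act 0 n3377 = n3242 := d2_1 D3377 (iv D3242) (iv F14027)
theorem F14729 : act 7 n3377 = n3224 := d24_2 D3221 D3377 (iv D3224) (iv D3011) (iv F13088)
def n3378 : Q := act 7 n3222
theorem D3378 : act 7 n3222 = n3378 := rfl
theorem F14730 : act 0 n3378 = n3244 := d6_1 D3378 (iv D3244) (iv F14029)
theorem F14731 : act 1 n3378 = n3283 := d13_1 D3378 (iv D3283) (iv F14030)
theorem F14732 : act 2 n3378 = n3378 := d19_1 D3378 (iv D3378) F14031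
theorem F14733 : act 4 n3378 = n3378 := d28_1 D3378 (iv D3378) F14032
theorem F14734 : act 5 n3378 = n3223 := d31_1 D3378 (iv D3223) (iv F14033)
theorem F14735 : act 6 n3378 = n3300 := d33_1 D3378 (iv D3300) (iv F14034)
theorem F14736 : act 8 n3378 = n3378 := d35_2 D3222 D3378 (iv D3378) (iv D3222) F13097
def n3379 : Q := act 3 n3223
theorem D3379 : act 3 n3223 = n3379 := rfl
theorem F14737 : act 0 n3379 = n3245 := d2_1 D3379 (iv D3245) (iv F14035)
theorem F14738 : act 4 n3379 = n3256 := d21_2 (iv F14037) D3379 (iv D3256) F13242 (iv F13104)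
theorem F14739 : act 6 n3379 = n3224 := d23_2 (iv F14038) D3379 (iv D3224)
theorem F14740 : act 8 n3379 = n3379 := d25_2 F14039 D3379 (iv D3379)
theorem F14741 : act 2 n3285 = n3379 := d16_3 F14738 F14172 D3285
def n3380 : Q := act 2 n3224
theorem D3380 : act 2 n3224 = n3380 := rfl
theorem F14742 : act 0 n3380 = n3248 := d1_1 D3380 (iv D3248) (iv F14040)
theorem F14743 : act 3 n3380 = n3380 := d15_2 D3224 D3380 (iv D3380) (iv D3224) F13109
theorem F14744 : act 4 n3380 = n3282 := d16_2 F14669 D3380 (iv F14668)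
theorem F14745 : act 6 n3380 = n3285 := d18_2 F14739 D3380 F14741
theorem F14746 : act 8 n3380 = n3380 := d20_2 F14041 D3380 (iv D3380)
def n3381 : Q := act 8 n3225
theorem D3381 : act 8 n3225 = n3381 := rfl
theorem F14747 : act 0 n3381 = n3289 := d7_1 D3381 (iv D3289) (iv F14042)
theorem F14748 : act 1 n3381 = n3277 := d14_1 D3381 (iv D3277) (iv F14043)
theorem F14749 : act 2 n3381 = n3296 := d20_1 D3381 (iv D3296) (iv F14044)
theorem F14750 : act 3 n3381 = n3381 := d25_1 D3381 (iv D3381) F14045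
theorem F14751 : act 4 n3381 = n3288 := d29_1 D3381 (iv D3288) (iv F14046)
theorem F14752 : act 5 n3381 = n3275 := d32_1 D3381 (iv D3275) (iv F14047)
theorem F14753 : act 6 n3381 = n3226 := d34_1 D3381 (iv D3226) D3225
def n3382 : Q := act 7 n3226
theorem D3382 : act 7 n3226 = n3382 := rfl
theorem F14754 : act 4 n3382 = n3293 := d28_1 D3382 (iv D3293) (iv F14050)
theorem F14755 : act 5 n3382 = n3227 := d31_1 D3382 (iv D3227) (iv F14051)
theorem F14756 : act 8 n3382 = n3241 := d35_2 D3226 D3382 (iv D3241) (iv D3027) (iv F13114)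
def n3383 : Q := act 3 n3227
theorem D3383 : act 3 n3227 = n3383 := rfl
theorem F14757 : act 7 n3383 = n3383 := d24_2 D3227 D3383 (iv D3383) (iv D3227) F13115
theorem F14758 : act 8 n3383 = n3242 := d25_2 (iv F14053) D3383 (iv D3242)
def n3384 : Q := act 7 n3228
theorem D3384 : act 7 n3228 = n3384 := rfl
theorem F14759 : act 0 n3384 = n3292 := d6_1 D3384 (iv D3292) (iv F14054)
theorem F14760 : act 2 n3384 = n3251 := d19_1 D3384 (iv D3251) (iv F14055)
theorem F14761 : act 4 n3384 = n3229 := d28_1 D3384 (iv D3229) (iv F14057)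
theorem F14762 : act 6 n3384 = n3286 := d33_1 D3384 (iv D3286) (iv F14058)
theorem F14763 : act 8 n3384 = n3254 := d35_2 D3228 D3384 (iv D3254) (iv D3043) (iv F13123)
def n3385 : Q := act 8 n3230
theorem D3385 : act 8 n3230 = n3385 := rfl
theorem F14764 : act 0 n3385 = n3296 := d7_1 D3385 (iv D3296) (iv F14065)
theorem F14765 : act 1 n3385 = n3262 := d14_1 D3385 (iv D3262) (iv F14066)
theorem F14766 : act 2 n3385 = n3289 := d20_1 D3385 (iv D3289) (iv F14067)
theorem F14767 : act 3 n3385 = n3243 := d25_1 D3385 (iv D3243) (iv F14068)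
theorem F14768 : act 4 n3385 = n3269 := d29_1 D3385 (iv D3269) (iv F14069)
theorem F14769 : act 5 n3385 = n3240 := d32_1 D3385 (iv D3240) (iv F14070)
theorem F14770 : act 6 n3385 = n3231 := d34_1 D3385 (iv D3231) D3230
def n3386 : Q := act 7 n3231
theorem D3386 : act 7 n3231 = n3386 := rfl
theorem F14771 : act 1 n3386 = n3265 := d13_1 D3386 (iv D3265) (iv F14072)
theorem F14772 : act 5 n3386 = n3232 := d31_1 D3386 (iv D3232) (iv F14074)
def n3387 : Q := act 3 n3232
theorem D3387 : act 3 n3232 = n3387 := rfl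
theorem F14773 : act 4 n3387 = n3299 := d21_2 (iv F14075) D3387 (iv D3299) F13439 (iv F13134)
theorem F14774 : act 6 n3387 = n3242 := d23_2 (iv F14076) D3387 (iv D3242)
theorem F14775 : act 7 n3387 = n3245 := d24_2 D3232 D3387 (iv D3245) (iv D3031) (iv F13131)
def n3388 : Q := act 7 n3233
theorem D3388 : act 7 n3233 = n3388 := rfl
theorem F14776 : act 0 n3388 = n3236 := d6_1 D3388 (iv D3236) (iv F14077)
theorem F14777 : act 5 n3388 = n3295 := d31_1 D3388 (iv D3295) (iv F14079)
theorem F14778 : act 6 n3388 = n3294 := d33_1 D3388 (iv D3294) (iv F14080)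
def n3389 : Q := act 8 n3234
theorem D3389 : act 8 n3234 = n3389 := rfl
theorem F14779 : act 0 n3389 = n3269 := d7_1 D3389 (iv D3269) (iv F14081)
theorem F14780 : act 1 n3389 = n3238 := d14_1 D3389 (iv D3238) (iv F14082)
theorem F14781 : act 2 n3389 = n3288 := d20_1 D3389 (iv D3288) (iv F14083)
theorem F14782 : act 3 n3389 = n3389 := d25_1 D3389 (iv D3389) F14084
theorem F14783 : act 4 n3389 = n3296 := d29_1 D3389 (iv D3296) (iv F14085)
theorem F14784 : act 5 n3389 = n3235 := d32_1 D3389 (iv D3235) D3234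
theorem F14785 : act 6 n3389 = n3291 := d34_1 D3389 (iv D3291) (iv F14086)
def n3390 : Q := act 7 n3235
theorem D3390 : act 7 n3235 = n3390 := rfl
theorem F14786 : act 1 n3390 = n3239 := d13_1 D3390 (iv D3239) (iv F14088)
theorem F14787 : act 4 n3390 = n3236 := d28_1 D3390 (iv D3236) (iv F14090)
def n3391 : Q := act 8 n3237
theorem D3391 : act 8 n3237 = n3391 := rfl
theorem F14788 : act 0 n3391 = n3275 := d7_1 D3391 (iv D3275) (iv F14093)
theorem F14789 : act 1 n3391 = n3291 := d14_1 D3391 (iv D3291) (iv F14094)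
theorem F14790 : act 2 n3391 = n3240 := d20_1 D3391 (iv D3240) (iv F14095)
theorem F14791 : act 3 n3391 = n3391 := d25_1 D3391 (iv D3391) F14096
theorem F14792 : act 4 n3391 = n3274 := d29_1 D3391 (iv D3274) (iv F14097)
theorem F14793 : act 5 n3391 = n3289 := d32_1 D3391 (iv D3289) (iv F14098)
theorem F14794 : act 6 n3391 = n3238 := d34_1 D3391 (iv D3238) D3237
def n3392 : Q := act 7 n3238
theorem D3392 : act 7 n3238 = n3392 := rfl
theorem F14795 : act 2 n3392 = n3241 := d19_1 D3392 (iv D3241) (iv F14100)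
theorem F14796 : act 4 n3392 = n3298 := d28_1 D3392 (iv D3298) (iv F14102)
theorem F14797 : act 5 n3392 = n3239 := d31_1 D3392 (iv D3239) (iv F14103)
def n3393 : Q := act 3 n3239
theorem D3393 : act 3 n3239 = n3393 := rfl
theorem F14798 : act 7 n3393 = n3393 := d24_2 D3239 D3393 (iv D3393) (iv D3239) F13148
def n3394 : Q := act 7 n3240
theorem D3394 : act 7 n3240 = n3394 := rfl
theorem F14799 : act 0 n3394 = n3297 := d6_1 D3394 (iv D3297) (iv F14106)
theorem F14800 : act 4 n3394 = n3295 := d28_1 D3394 (iv D3295) (iv F14108)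
theorem F14801 : act 6 n3394 = n3241 := d33_1 D3394 (iv D3241) (iv F14109)
def n3395 : Q := act 3 n3241
theorem D3395 : act 3 n3241 = n3395 := rfl
theorem F14802 : act 5 n3395 = n3242 := d22_2 (iv F14111) D3395 (iv D3242)
theorem F14803 : act 7 n3395 = n3247 := d24_2 D3241 D3395 (iv D3247) (iv D3033) (iv F13155)
def n3396 : Q := act 2 n3242
theorem D3396 : act 2 n3242 = n3396 := rfl
theorem F14804 : act 7 n3396 = n3248 := d19_2 (iv F14112) D3396 (iv D3248)
def n3397 : Q := act 7 n3243
theorem D3397 : act 7 n3243 = n3397 := rfl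
theorem F14805 : act 0 n3397 = n3300 := d6_1 D3397 (iv D3300) (iv F14113)
theorem F14806 : act 1 n3397 = n3267 := d13_1 D3397 (iv D3267) (iv F14114)
theorem F14807 : act 2 n3397 = n3397 := d19_1 D3397 (iv D3397) F14115
theorem F14808 : act 4 n3397 = n3397 := d28_1 D3397 (iv D3397) F14116
theorem F14809 : act 5 n3397 = n3246 := d31_1 D3397 (iv D3246) (iv F14117)
theorem F14810 : act 6 n3397 = n3244 := d33_1 D3397 (iv D3244) (iv F14118)
theorem F14811 : act 8 n3397 = n3397 := d35_2 D3243 D3397 (iv D3397) (iv D3243) F13164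
def n3398 : Q := act 3 n3244
theorem D3398 : act 3 n3244 = n3398 := rfl
theorem F14812 : act 1 n3398 = n3268 := d9_1 D3398 (iv D3268) (iv F14119)
theorem F14813 : act 5 n3398 = n3245 := d22_2 (iv F14122) D3398 (iv D3245)
theorem F14814 : act 8 n3398 = n3398 := d25_2 F14123 D3398 (iv D3398)
def n3399 : Q := act 2 n3245
theorem D3399 : act 2 n3245 = n3399 := rfl
theorem F14815 : act 0 n3399 = n3285 := d1_1 D3399 F14741 F14737
theorem F14816 : act 3 n3399 = n3399 := d15_2 D3245 D3399 (iv D3399) (iv D3245) F13169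
theorem F14817 : act 4 n3399 = n3268 := d16_2 (iv F14124) D3399 F14230
theorem F14818 : act 6 n3399 = n3248 := d18_2 (iv F14125) D3399 (iv D3248)
theorem F14819 : act 8 n3399 = n3399 := d20_2 F14126 D3399 (iv D3399)
def n3400 : Q := act 2 n3247
theorem D3400 : act 2 n3247 = n3400 := rfl
theorem F14820 : act 3 n3400 = n3400 := d15_2 D3247 D3400 (iv D3400) (iv D3247) F13177
theorem F14821 : act 4 n3400 = n3284 := d16_2 F14553 D3400 (iv F14552)
theorem F14822 : act 5 n3400 = n3248 := d17_2 (iv F14132) D3400 (iv D3248)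
theorem F14823 : act 8 n3400 = n3400 := d20_2 F14133 D3400 (iv D3400)
theorem F14824 : act 1 n3285 = n3400 := d10_3 F14821 F14274 D3285
def n3401 : Q := act 1 n3248
theorem D3401 : act 1 n3248 = n3401 := rfl
theorem F14825 : act 3 n3401 = n3401 := d9_2 F14134 D3401 (iv D3401)
theorem F14826 : act 5 n3401 = n3285 := d11_2 F14822 D3401 F14824
theorem F14827 : act 8 n3401 = n3401 := d14_2 F14135 D3401 (iv D3401)
def n3402 : Q := act 3 n3249
theorem D3402 : act 3 n3249 = n3402 := rfl
theorem F14828 : act 1 n3402 = n3250 := d9_1 D3402 (iv D3250) (iv F14136)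
theorem F14829 : act 5 n3402 = n3402 := d22_2 F14139 D3402 (iv D3402)
theorem F14830 : act 7 n3402 = n3402 := d24_2 D3249 D3402 (iv D3402) (iv D3249) F13200
theorem F14831 : act 8 n3402 = n3402 := d25_2 F14140 D3402 (iv D3402)
def n3403 : Q := act 7 n3253
theorem D3403 : act 7 n3253 = n3403 := rfl
theorem F14832 : act 1 n3403 = n3254 := d13_1 D3403 (iv D3254) (iv F14158)
theorem F14833 : act 2 n3403 = n3272 := d19_1 D3403 (iv D3272) (iv F14159)
theorem F14834 : act 4 n3403 = n3287 := d28_1 D3403 (iv D3287) (iv F14161)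
theorem F14835 : act 5 n3403 = n3273 := d31_1 D3403 (iv D3273) (iv F14162)
def n3404 : Q := act 3 n3254
theorem D3404 : act 3 n3254 = n3404 := rfl
theorem F14836 : act 0 n3404 = n3299 := d2_1 D3404 (iv D3299) (iv F14163)
theorem F14837 : act 2 n3404 = n3279 := d15_1 D3404 (iv D3279) F13347 (iv F13228) (iv F14164)
theorem F14838 : act 7 n3404 = n3256 := d24_2 D3254 D3404 (iv D3256) (iv D3047) (iv F13224)
def n3405 : Q := act 3 n3255
theorem D3405 : act 3 n3255 = n3405 := rfl
theorem F14839 : act 1 n3405 = n3256 := d9_1 D3405 (iv D3256) (iv F14166)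
theorem F14840 : act 5 n3405 = n3282 := d22_2 (iv F14169) D3405 (iv D3282)
theorem F14841 : act 8 n3405 = n3405 := d25_2 F14170 D3405 (iv D3405)
def n3406 : Q := act 7 n3259
theorem D3406 : act 7 n3259 = n3406 := rfl
theorem F14842 : act 0 n3406 = n3270 := d6_1 D3406 (iv D3270) (iv F14185)
theorem F14843 : act 2 n3406 = n3260 := d19_1 D3406 (iv D3260) (iv F14186)
theorem F14844 : act 4 n3406 = n3273 := d28_1 D3406 (iv D3273) (iv F14188)
theorem F14845 : act 6 n3406 = n3278 := d33_1 D3406 (iv D3278) (iv F14189)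
theorem F14846 : act 8 n3406 = n3265 := d35_2 D3259 D3406 (iv D3265) (iv D3058) (iv F13260)
def n3407 : Q := act 7 n3261
theorem D3407 : act 7 n3261 = n3407 := rfl
theorem F14847 : act 0 n3407 = n3272 := d6_1 D3407 (iv D3272) (iv F14196)
theorem F14848 : act 1 n3407 = n3293 := d13_1 D3407 (iv D3293) (iv F14197)
theorem F14849 : act 3 n3407 = n3294 := d24_1 D3407 (iv D3294) F13422 (iv F13275) (iv F14198)
theorem F14850 : act 5 n3407 = n3263 := d31_1 D3407 (iv D3263) (iv F14199)
theorem F14851 : act 8 n3407 = n3281 := d35_2 D3261 D3407 (iv D3281) (iv D3078) (iv F13269)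
def n3408 : Q := act 7 n3262
theorem D3408 : act 7 n3262 = n3408 := rfl
theorem F14852 : act 0 n3408 = n3273 := d6_1 D3408 (iv D3273) (iv F14200)
theorem F14853 : act 2 n3408 = n3263 := d19_1 D3408 (iv D3263) (iv F14201)
theorem F14854 : act 4 n3408 = n3270 := d28_1 D3408 (iv D3270) (iv F14203)
theorem F14855 : act 6 n3408 = n3265 := d33_1 D3408 (iv D3265) (iv F14204)
theorem F14856 : act 8 n3408 = n3278 := d35_2 D3262 D3408 (iv D3278) (iv D3075) (iv F13280)
def n3409 : Q := act 7 n3264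
theorem D3409 : act 7 n3264 = n3409 := rfl
theorem F14857 : act 0 n3409 = n3278 := d6_1 D3409 (iv D3278) (iv F14211)
theorem F14858 : act 2 n3409 = n3266 := d19_1 D3409 (iv D3266) (iv F14212)
theorem F14859 : act 4 n3409 = n3265 := d28_1 D3409 (iv D3265) (iv F14214)
theorem F14860 : act 6 n3409 = n3270 := d33_1 D3409 (iv D3270) (iv F14215)
theorem F14861 : act 8 n3409 = n3273 := d35_2 D3264 D3409 (iv D3273) (iv D3069) (iv F13290)
def n3410 : Q := act 3 n3265
theorem D3410 : act 3 n3265 = n3410 := rfl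
theorem F14862 : act 0 n3410 = n3279 := d2_1 D3410 (iv D3279) (iv F14216)
theorem F14863 : act 2 n3410 = n3299 := d15_1 D3410 (iv D3299) F13438 (iv F13300) (iv F14217)
theorem F14864 : act 7 n3410 = n3268 := d24_2 D3265 D3410 (iv D3268) (iv D3063) (iv F13293)
def n3411 : Q := act 7 n3269
theorem D3411 : act 7 n3269 = n3411 := rfl
theorem F14865 : act 1 n3411 = n3270 := d13_1 D3411 (iv D3270) (iv F14232)
theorem F14866 : act 2 n3411 = n3290 := d19_1 D3411 (iv D3290) (iv F14233)
theorem F14867 : act 8 n3411 = n3276 := d35_2 D3269 D3411 (iv D3276) (iv D3073) (iv F13317)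
def n3412 : Q := act 3 n3270
theorem D3412 : act 3 n3270 = n3412 := rfl
theorem F14868 : act 7 n3412 = n3412 := d24_2 D3270 D3412 (iv D3412) (iv D3270) F13319
theorem F14869 : act 8 n3412 = n3279 := d25_2 (iv F14236) D3412 (iv D3279)
def n3413 : Q := act 7 n3271
theorem D3413 : act 7 n3271 = n3413 := rfl
theorem F14870 : act 1 n3413 = n3286 := d13_1 D3413 (iv D3286) (iv F14237)
theorem F14871 : act 2 n3413 = n3287 := d19_1 D3413 (iv D3287) (iv F14238)
theorem F14872 : act 4 n3413 = n3272 := d28_1 D3413 (iv D3272) (iv F14240)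
def n3414 : Q := act 3 n3273
theorem D3414 : act 3 n3273 = n3414 := rfl
theorem F14873 : act 6 n3414 = n3279 := d23_2 (iv F14244) D3414 (iv D3279)
theorem F14874 : act 7 n3414 = n3282 := d24_2 D3273 D3414 (iv D3282) (iv D3081) (iv F13329)
def n3415 : Q := act 7 n3274
theorem D3415 : act 7 n3274 = n3415 := rfl
theorem F14875 : act 0 n3415 = n3276 := d6_1 D3415 (iv D3276) (iv F14245)
theorem F14876 : act 2 n3415 = n3295 := d19_1 D3415 (iv D3295) (iv F14246)
theorem F14877 : act 6 n3415 = n3298 := d33_1 D3415 (iv D3298) (iv F14248)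
def n3416 : Q := act 7 n3275
theorem D3416 : act 7 n3275 = n3416 := rfl
theorem F14878 : act 1 n3416 = n3278 := d13_1 D3416 (iv D3278) (iv F14249)
theorem F14879 : act 2 n3416 = n3297 := d19_1 D3416 (iv D3297) (iv F14250)
theorem F14880 : act 4 n3416 = n3276 := d28_1 D3416 (iv D3276) (iv F14252)
def n3417 : Q := act 3 n3276
theorem D3417 : act 3 n3276 = n3417 := rfl
theorem F14881 : act 1 n3417 = n3279 := d9_1 D3417 (iv D3279) (iv F14253)
theorem F14882 : act 7 n3417 = n3284 := d24_2 D3276 D3417 (iv D3284) (iv D3083) (iv F13341)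
def n3418 : Q := act 7 n3277
theorem D3418 : act 7 n3277 = n3418 := rfl
theorem F14883 : act 2 n3418 = n3281 := d19_1 D3418 (iv D3281) (iv F14255)
theorem F14884 : act 5 n3418 = n3278 := d31_1 D3418 (iv D3278) (iv F14257)
def n3419 : Q := act 3 n3278
theorem D3419 : act 3 n3278 = n3419 := rfl
theorem F14885 : act 7 n3419 = n3419 := d24_2 D3278 D3419 (iv D3419) (iv D3278) F13345
def n3420 : Q := act 4 n3279
theorem D3420 : act 4 n3279 = n3420 := rfl
theorem F14886 : act 7 n3420 = n3285 := d28_2 (iv F14260) D3420 (iv D3285)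
def n3421 : Q := act 7 n3280
theorem D3421 : act 7 n3280 = n3421 := rfl
theorem F14887 : act 0 n3421 = n3287 := d6_1 D3421 (iv D3287) (iv F14261)
theorem F14888 : act 1 n3421 = n3295 := d13_1 D3421 (iv D3295) (iv F14262)
theorem F14889 : act 6 n3421 = n3281 := d33_1 D3421 (iv D3281) (iv F14264)
def n3422 : Q := act 3 n3286
theorem D3422 : act 3 n3286 = n3422 := rfl
theorem F14890 : act 7 n3422 = n3422 := d24_2 D3286 D3422 (iv D3422) (iv D3286) F13392
def n3423 : Q := act 7 n3288
theorem D3423 : act 7 n3288 = n3423 := rfl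
theorem F14891 : act 0 n3423 = n3290 := d6_1 D3423 (iv D3290) (iv F14281)
theorem F14892 : act 6 n3423 = n3293 := d33_1 D3423 (iv D3293) (iv F14283)
theorem F14893 : act 8 n3423 = n3295 := d35_2 D3288 D3423 (iv D3295) (iv D3104) (iv F13404)
def n3424 : Q := act 7 n3289
theorem D3424 : act 7 n3289 = n3424 := rfl
theorem F14894 : act 1 n3424 = n3292 := d13_1 D3424 (iv D3292) (iv F14284)
theorem F14895 : act 4 n3424 = n3290 := d28_1 D3424 (iv D3290) (iv F14286)
theorem F14896 : act 8 n3424 = n3297 := d35_2 D3289 D3424 (iv D3297) (iv D3106) (iv F13407)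
def n3425 : Q := act 7 n3291
theorem D3425 : act 7 n3291 = n3425 := rfl
theorem F14897 : act 2 n3425 = n3293 := d19_1 D3425 (iv D3293) (iv F14289)
theorem F14898 : act 5 n3425 = n3292 := d31_1 D3425 (iv D3292) (iv F14291)
theorem F14899 : act 8 n3425 = n3298 := d35_2 D3291 D3425 (iv D3298) (iv D3108) (iv F13412)
def n3426 : Q := act 3 n3292
theorem D3426 : act 3 n3292 = n3426 := rfl
theorem F14900 : act 7 n3426 = n3426 := d24_2 D3292 D3426 (iv D3426) (iv D3292) F13414
theorem F14901 : act 8 n3426 = n3299 := d25_2 (iv F14294) D3426 (iv D3299)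
def n3427 : Q := act 7 n3296
theorem D3427 : act 7 n3296 = n3427 := rfl
theorem F14902 : act 1 n3427 = n3298 := d13_1 D3427 (iv D3298) (iv F14300)
theorem F14903 : act 5 n3427 = n3297 := d31_1 D3427 (iv D3297) (iv F14302)
def n3428 : Q := act 3 n3297
theorem D3428 : act 3 n3297 = n3428 := rfl
theorem F14904 : act 1 n3428 = n3299 := d9_1 D3428 (iv D3299) (iv F14303)
theorem F14905 : act 7 n3428 = n3301 := d24_2 D3297 D3428 (iv D3301) (iv D3115) (iv F13432)
def n3429 : Q := act 3 n3298
theorem D3429 : act 3 n3298 = n3429 := rfl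
theorem F14906 : act 5 n3429 = n3299 := d22_2 (iv F14306) D3429 (iv D3299)
theorem F14907 : act 7 n3429 = n3302 := d24_2 D3298 D3429 (iv D3302) (iv D3116) (iv F13436)
def n3430 : Q := act 3 n3300
theorem D3430 : act 3 n3300 = n3430 := rfl
theorem F14908 : act 1 n3430 = n3302 := d9_1 D3430 (iv D3302) (iv F14308)
theorem F14909 : act 5 n3430 = n3301 := d22_2 (iv F14311) D3430 (iv D3301)
theorem F14910 : act 8 n3430 = n3430 := d25_2 F14312 D3430 (iv D3430)
def n3431 : Q := act 2 n3301
theorem D3431 : act 2 n3301 = n3431 := rfl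
theorem F14911 : act 3 n3431 = n3431 := d15_2 D3301 D3431 (iv D3431) (iv D3301) F13456
theorem F14912 : act 4 n3431 = n3302 := d16_2 F14559 D3431 (iv F14558)
theorem F14913 : act 8 n3431 = n3431 := d20_2 F14314 D3431 (iv D3431)
def n3432 : Q := act 3 n3303
theorem D3432 : act 3 n3303 = n3432 := rfl
theorem F14914 : act 0 n3432 = n3432 := d2_1 D3432 (iv D3432) F14317
theorem F14915 : act 1 n3432 = n3310 := d9_1 D3432 F14364 (iv F14318)
theorem F14916 : act 2 n3432 = n3432 := d15_1 D3432 (iv D3432) F14319 F13480 (iv F14319)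
theorem F14917 : act 4 n3432 = n3432 := d21_2 (iv F14320) D3432 (iv D3432) F14320 F13905
theorem F14918 : act 5 n3432 = n3313 := d22_2 (iv F14321) D3432 (iv D3313)
theorem F14919 : act 6 n3432 = n3432 := d23_2 F14322 D3432 (iv D3432)
theorem F14920 : act 7 n3432 = n3432 := d24_2 D3303 D3432 (iv D3432) (iv D3303) F13467
theorem F14921 : act 8 n3432 = n3432 := d25_2 F14323 D3432 (iv D3432)
def n3433 : Q := act 3 n3304
theorem D3433 : act 3 n3304 = n3433 := rfl
theorem F14922 : act 0 n3433 = n3433 := d2_1 D3433 (iv D3433) F14324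
theorem F14923 : act 1 n3433 = n3306 := d9_1 D3433 (iv D3306) (iv F14325)
theorem F14924 : act 2 n3433 = n3433 := d15_1 D3433 (iv D3433) F14326 F13905 (iv F14326)
theorem F14925 : act 4 n3433 = n3433 := d21_2 (iv F14327) D3433 (iv D3433) F14327 F13480
theorem F14926 : act 5 n3433 = n3316 := d22_2 (iv F14328) D3433 F14403
theorem F14927 : act 6 n3433 = n3433 := d23_2 F14329 D3433 (iv D3433)
theorem F14928 : act 7 n3433 = n3433 := d24_2 D3304 D3433 (iv D3433) (iv D3304) F13474
theorem F14929 : act 8 n3433 = n3433 := d25_2 F14330 D3433 (iv D3433)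
def n3434 : Q := act 3 n3305
theorem D3434 : act 3 n3305 = n3434 := rfl
theorem F14930 : act 0 n3434 = n3309 := d2_1 D3434 (iv D3309) (iv F14331)
theorem F14931 : act 1 n3434 = n3316 := d9_1 D3434 F14403 (iv F14332)
theorem F14932 : act 2 n3434 = n3361 := d15_1 D3434 (iv D3361) F13910 (iv F13775) (iv F14333)
theorem F14933 : act 4 n3434 = n3315 := d21_2 (iv F14334) D3434 (iv D3315) F13576 (iv F13871)
theorem F14934 : act 5 n3434 = n3306 := d22_2 (iv F14335) D3434 (iv D3306)
theorem F14935 : act 6 n3434 = n3402 := d23_2 (iv F14336) D3434 (iv D3402)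
theorem F14936 : act 7 n3434 = n3434 := d24_2 D3305 D3434 (iv D3434) (iv D3305) F13495
theorem F14937 : act 8 n3434 = n3434 := d25_2 F14337 D3434 (iv D3434)
def n3435 : Q := act 3 n3308
theorem D3435 : act 3 n3308 = n3435 := rfl
theorem F14938 : act 0 n3435 = n3402 := d2_1 D3435 (iv D3402) (iv F14352)
theorem F14939 : act 1 n3435 = n3435 := d9_1 D3435 (iv D3435) F14353
theorem F14940 : act 2 n3435 = n3315 := d15_1 D3435 (iv D3315) (iv F14371) F14372 (iv F14354)
theorem F14941 : act 4 n3435 = n3361 := d21_2 (iv F14355) D3435 (iv D3361) F13911 (iv F14176)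
theorem F14942 : act 5 n3435 = n3435 := d22_2 F14356 D3435 (iv D3435)
theorem F14943 : act 6 n3435 = n3309 := d23_2 (iv F14357) D3435 (iv D3309)
theorem F14944 : act 7 n3435 = n3435 := d24_2 D3308 D3435 (iv D3435) (iv D3308) F13529
theorem F14945 : act 8 n3435 = n3435 := d25_2 F14358 D3435 (iv D3435)
def n3436 : Q := act 2 n3309
theorem D3436 : act 2 n3309 = n3436 := rfl
theorem F14946 : act 0 n3436 = n3361 := d1_1 D3436 (iv F14932) F14930
theorem F14947 : act 3 n3436 = n3312 := d15_2 D3309 D3436 F14379 F13681 (iv F13534)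
theorem F14948 : act 5 n3436 = n3310 := d17_2 (iv F14360) D3436 (iv D3310)
theorem F14949 : act 6 n3436 = n3315 := d18_2 F14943 D3436 (iv F14940)
theorem F14950 : act 7 n3436 = n3436 := d19_2 F14361 D3436 (iv D3436)
theorem F14951 : act 8 n3436 = n3436 := d20_2 F14362 D3436 (iv D3436)
theorem F14952 : act 1 n3313 = n3436 := d12_3 F14949 F14397 (iv F14387)
theorem F14953 : act 4 n3402 = n3436 := d27_3 F14949 (iv F14933) F14935
def n3437 : Q := act 4 n3309
theorem D3437 : act 4 n3309 = n3437 := rfl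
theorem F14954 : act 0 n3437 = n3315 := d3_1 D3437 (iv F14933) F14930
theorem F14955 : act 1 n3437 = n3437 := d10_1 D3437 (iv D3437) F14359
theorem F14956 : act 2 n3437 = n3402 := d16_1 D3437 F14953 (iv D3436)
theorem F14957 : act 3 n3437 = n3314 := d21_1 D3437 F14393 (iv F14347) F14348 D3309
theorem F14958 : act 5 n3437 = n3437 := d26_2 (iv F14360) D3437 (iv D3437) F14360 F13538
theorem F14959 : act 6 n3437 = n3361 := d27_2 F14943 D3437 (iv F14941)
theorem F14960 : act 7 n3437 = n3437 := d28_2 F14361 D3437 (iv D3437)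
theorem F14961 : act 8 n3437 = n3437 := d29_2 F14362 D3437 (iv D3437)
def n3438 : Q := act 7 n3317
theorem D3438 : act 7 n3317 = n3438 := rfl
theorem F14962 : act 0 n3438 = n3425 := d6_1 D3438 (iv D3425) (iv F14407)
theorem F14963 : act 1 n3438 = n3409 := d13_1 D3438 (iv D3409) (iv F14408)
theorem F14964 : act 2 n3438 = n3319 := d19_1 D3438 (iv D3319) (iv F14409)
theorem F14965 : act 4 n3438 = n3386 := d28_1 D3438 (iv D3386) (iv F14411)
theorem F14966 : act 5 n3438 = n3384 := d31_1 D3438 (iv D3384) (iv F14412)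
theorem F14967 : act 6 n3438 = n3411 := d33_1 D3438 (iv D3411) (iv F14413)
theorem F14968 : act 8 n3438 = n3321 := d35_2 D3317 D3438 (iv D3321) (iv D3141) (iv F13589)
def n3439 : Q := act 7 n3318
theorem D3439 : act 7 n3318 = n3439 := rfl
theorem F14969 : act 0 n3439 = n3382 := d6_1 D3439 (iv D3382) (iv F14414)
theorem F14970 : act 1 n3439 = n3365 := d13_1 D3439 (iv D3365) (iv F14415)
theorem F14971 : act 2 n3439 = n3386 := d19_1 D3439 (iv D3386) (iv F14416)
theorem F14972 : act 4 n3439 = n3319 := d28_1 D3439 (iv D3319) (iv F14418)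
theorem F14973 : act 5 n3439 = n3373 := d31_1 D3439 (iv D3373) (iv F14419)
theorem F14974 : act 6 n3439 = n3424 := d33_1 D3439 (iv D3424) (iv F14420)
theorem F14975 : act 8 n3439 = n3322 := d35_2 D3318 D3439 (iv D3322) (iv D3142) (iv F13597)
def n3440 : Q := act 7 n3320
theorem D3440 : act 7 n3320 = n3440 := rfl
theorem F14976 : act 0 n3440 = n3392 := d6_1 D3440 (iv D3392) (iv F14427)
theorem F14977 : act 1 n3440 = n3406 := d13_1 D3440 (iv D3406) (iv F14428)
theorem F14978 : act 2 n3440 = n3322 := d19_1 D3440 (iv D3322) (iv F14429)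
theorem F14979 : act 4 n3440 = n3321 := d28_1 D3440 (iv D3321) (iv F14431)
theorem F14980 : act 5 n3440 = n3376 := d31_1 D3440 (iv D3376) (iv F14432)
theorem F14981 : act 6 n3440 = n3416 := d33_1 D3440 (iv D3416) (iv F14433)
theorem F14982 : act 8 n3440 = n3386 := d35_2 D3320 D3440 (iv D3386) (iv D3231) (iv F13609)
def n3441 : Q := act 3 n3321
theorem D3441 : act 3 n3321 = n3441 := rfl
theorem F14983 : act 0 n3441 = n3429 := d2_1 D3441 (iv D3429) (iv F14434)
theorem F14984 : act 1 n3441 = n3414 := d9_1 D3441 (iv D3414) (iv F14435)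
theorem F14985 : act 2 n3441 = n3351 := d15_1 D3441 (iv D3351) F13838 (iv F13624) (iv F14436)
theorem F14986 : act 5 n3441 = n3404 := d22_2 (iv F14437) D3441 (iv D3404)
theorem F14987 : act 6 n3441 = n3417 := d23_2 (iv F14438) D3441 (iv D3417)
theorem F14988 : act 7 n3441 = n3324 := d24_2 D3321 D3441 (iv D3324) (iv D3145) (iv F13613)
def n3442 : Q := act 3 n3322
theorem D3442 : act 3 n3322 = n3442 := rfl
theorem F14989 : act 0 n3442 = n3395 := d2_1 D3442 (iv D3395) (iv F14439)
theorem F14990 : act 1 n3442 = n3367 := d9_1 D3442 (iv D3367) (iv F14440)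
theorem F14991 : act 4 n3442 = n3354 := d21_2 (iv F14441) D3442 (iv D3354) F13852 (iv F13624)
theorem F14992 : act 5 n3442 = n3377 := d22_2 (iv F14442) D3442 (iv D3377)
theorem F14993 : act 6 n3442 = n3428 := d23_2 (iv F14443) D3442 (iv D3428)
theorem F14994 : act 7 n3442 = n3323 := d24_2 D3322 D3442 (iv D3323) (iv D3144) (iv F13618)
def n3443 : Q := act 2 n3323
theorem D3443 : act 2 n3323 = n3443 := rfl
theorem F14995 : act 0 n3443 = n3400 := d1_1 D3443 (iv D3400) (iv F14444)
theorem F14996 : act 3 n3443 = n3443 := d15_2 D3323 D3443 (iv D3443) (iv D3323) F13629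
theorem F14997 : act 4 n3443 = n3357 := d16_2 (iv F14446) D3443 (iv D3357)
theorem F14998 : act 5 n3443 = n3380 := d17_2 (iv F14447) D3443 (iv D3380)
theorem F14999 : act 6 n3443 = n3431 := d18_2 (iv F14448) D3443 (iv D3431)
theorem F15000 : act 8 n3443 = n3443 := d20_2 F14449 D3443 (iv D3443)
def n3444 : Q := act 4 n3324
theorem D3444 : act 4 n3324 = n3444 := rfl
theorem F15001 : act 0 n3444 = n3431 := d3_1 D3444 F14912 (iv F14450)
theorem F15002 : act 1 n3444 = n3380 := d10_1 D3444 F14744 (iv F14451)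
theorem F15003 : act 2 n3444 = n3360 := d16_1 D3444 (iv D3360) (iv F14452)
theorem F15004 : act 3 n3444 = n3444 := d21_1 D3444 (iv D3444) (iv D3324) F13637 D3324
theorem F15005 : act 6 n3444 = n3400 := d27_2 (iv F14454) D3444 F14821
theorem F15006 : act 8 n3444 = n3444 := d29_2 F14455 D3444 (iv D3444)
def n3445 : Q := act 7 n3325
theorem D3445 : act 7 n3325 = n3445 := rfl
theorem F15007 : act 0 n3445 = n3371 := d6_1 D3445 (iv D3371) (iv F14456)
theorem F15008 : act 1 n3445 = n3335 := d13_1 D3445 (iv D3335) (iv F14457)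
theorem F15009 : act 2 n3445 = n3390 := d19_1 D3445 (iv D3390) (iv F14458)
theorem F15010 : act 3 n3445 = n3421 := d24_1 D3445 (iv D3421) F14263 (iv F13654) (iv F14459)
theorem F15011 : act 4 n3445 = n3350 := d28_1 D3445 (iv D3350) (iv F14460)
theorem F15012 : act 5 n3445 = n3423 := d31_1 D3445 (iv D3423) (iv F14461)
theorem F15013 : act 6 n3445 = n3328 := d33_1 D3445 (iv D3328) (iv F14462)
theorem F15014 : act 8 n3445 = n3388 := d35_2 D3325 D3445 (iv D3388) (iv D3233) (iv F13646)
def n3446 : Q := act 7 n3326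
theorem D3446 : act 7 n3326 = n3446 := rfl
theorem F15015 : act 0 n3446 = n3372 := d6_1 D3446 (iv D3372) (iv F14463)
theorem F15016 : act 1 n3446 = n3373 := d13_1 D3446 (iv D3373) (iv F14464)
theorem F15017 : act 2 n3446 = n3328 := d19_1 D3446 (iv D3328) (iv F14465)
theorem F15018 : act 4 n3446 = n3370 := d28_1 D3446 (iv D3370) (iv F14467)
theorem F15019 : act 5 n3446 = n3365 := d31_1 D3446 (iv D3365) (iv F14468)
theorem F15020 : act 6 n3446 = n3390 := d33_1 D3446 (iv D3390) (iv F14469)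
theorem F15021 : act 8 n3446 = n3366 := d35_2 D3326 D3446 (iv D3366) (iv D3205) (iv F13660)
def n3447 : Q := act 7 n3327
theorem D3447 : act 7 n3327 = n3447 := rfl
theorem F15022 : act 0 n3447 = n3366 := d6_1 D3447 (iv D3366) (iv F14470)
theorem F15023 : act 1 n3447 = n3338 := d13_1 D3447 (iv D3338) (iv F14471)
theorem F15024 : act 2 n3447 = n3370 := d19_1 D3447 (iv D3370) (iv F14472)
theorem F15025 : act 4 n3447 = n3328 := d28_1 D3447 (iv D3328) (iv F14474)
theorem F15026 : act 5 n3447 = n3363 := d31_1 D3447 (iv D3363) (iv F14475)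
theorem F15027 : act 6 n3447 = n3350 := d33_1 D3447 (iv D3350) (iv F14476)
theorem F15028 : act 8 n3447 = n3372 := d35_2 D3327 D3447 (iv D3372) (iv D3212) (iv F13668)
def n3448 : Q := act 3 n3329
theorem D3448 : act 3 n3329 = n3448 := rfl
theorem F15029 : act 0 n3448 = n3368 := d2_1 D3448 (iv D3368) (iv F14482)
theorem F15030 : act 1 n3448 = n3340 := d9_1 D3448 (iv D3340) (iv F14483)
theorem F15031 : act 2 n3448 = n3405 := d15_1 D3448 (iv D3405) F14167 (iv F13894) (iv F14484)
theorem F15032 : act 4 n3448 = n3356 := d21_2 (iv F14485) D3448 (iv D3356) F13860 (iv F13681)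
theorem F15033 : act 5 n3448 = n3364 := d22_2 (iv F14486) D3448 (iv D3364)
theorem F15034 : act 6 n3448 = n3359 := d23_2 (iv F14487) D3448 (iv D3359)
theorem F15035 : act 8 n3448 = n3448 := d25_2 F14488 D3448 (iv D3448)
def n3449 : Q := act 7 n3330
theorem D3449 : act 7 n3330 = n3449 := rfl
theorem F15036 : act 0 n3449 = n3342 := d6_1 D3449 (iv D3342) (iv F14489)
theorem F15037 : act 1 n3449 = n3388 := d13_1 D3449 (iv D3388) (iv F14490)
theorem F15038 : act 2 n3449 = n3346 := d19_1 D3449 (iv D3346) (iv F14491)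
theorem F15039 : act 3 n3449 = n3423 := d24_1 D3449 (iv D3423) F14282 (iv F13702) (iv F14492)
theorem F15040 : act 4 n3449 = n3344 := d28_1 D3449 (iv D3344) (iv F14493)
theorem F15041 : act 5 n3449 = n3421 := d31_1 D3449 (iv D3421) (iv F14494)
theorem F15042 : act 6 n3449 = n3333 := d33_1 D3449 (iv D3333) (iv F14495)
theorem F15043 : act 8 n3449 = n3335 := d35_2 D3330 D3449 (iv D3335) (iv D3161) (iv F13693)
def n3450 : Q := act 7 n3331
theorem D3450 : act 7 n3331 = n3450 := rfl
theorem F15044 : act 0 n3450 = n3344 := d6_1 D3450 (iv D3344) (iv F14496)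
theorem F15045 : act 1 n3450 = n3376 := d13_1 D3450 (iv D3376) (iv F14497)
theorem F15046 : act 2 n3450 = n3333 := d19_1 D3450 (iv D3333) (iv F14498)
theorem F15047 : act 4 n3450 = n3342 := d28_1 D3450 (iv D3342) (iv F14500)
theorem F15048 : act 5 n3450 = n3406 := d31_1 D3450 (iv D3406) (iv F14501)
theorem F15049 : act 6 n3450 = n3346 := d33_1 D3450 (iv D3346) (iv F14502)
theorem F15050 : act 8 n3450 = n3336 := d35_2 D3331 D3450 (iv D3336) (iv D3162) (iv F13708)
def n3451 : Q := act 7 n3332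
theorem D3451 : act 7 n3332 = n3451 := rfl
theorem F15051 : act 0 n3451 = n3346 := d6_1 D3451 (iv D3346) (iv F14503)
theorem F15052 : act 1 n3451 = n3372 := d13_1 D3451 (iv D3372) (iv F14504)
theorem F15053 : act 2 n3451 = n3342 := d19_1 D3451 (iv D3342) (iv F14505)
theorem F15054 : act 4 n3451 = n3333 := d28_1 D3451 (iv D3333) (iv F14507)
theorem F15055 : act 5 n3451 = n3413 := d31_1 D3451 (iv D3413) (iv F14508)
theorem F15056 : act 6 n3451 = n3344 := d33_1 D3451 (iv D3344) (iv F14509)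
theorem F15057 : act 8 n3451 = n3338 := d35_2 D3332 D3451 (iv D3338) (iv D3164) (iv F13716)
def n3452 : Q := act 7 n3334
theorem D3452 : act 7 n3334 = n3452 := rfl
theorem F15058 : act 0 n3452 = n3348 := d6_1 D3452 (iv D3348) (iv F14515)
theorem F15059 : act 1 n3452 = n3423 := d13_1 D3452 (iv D3423) (iv F14516)
theorem F15060 : act 2 n3452 = n3353 := d19_1 D3452 (iv D3353) (iv F14517)
theorem F15061 : act 3 n3452 = n3388 := d24_1 D3452 (iv D3388) F14078 (iv F13734) (iv F14518)
theorem F15062 : act 4 n3452 = n3418 := d28_1 D3452 (iv D3418) (iv F14519)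
theorem F15063 : act 5 n3452 = n3335 := d31_1 D3452 (iv D3335) (iv F14520)
theorem F15064 : act 6 n3452 = n3407 := d33_1 D3452 (iv D3407) (iv F14521)
theorem F15065 : act 8 n3452 = n3421 := d35_2 D3334 D3452 (iv D3421) (iv D3280) (iv F13726)
def n3453 : Q := act 3 n3336
theorem D3453 : act 3 n3336 = n3453 := rfl
theorem F15066 : act 0 n3453 = n3351 := d2_1 D3453 (iv D3351) (iv F14527)
theorem F15067 : act 1 n3453 = n3387 := d9_1 D3453 (iv D3387) (iv F14528)
theorem F15068 : act 2 n3453 = n3429 := d15_1 D3453 (iv D3429) F14305 (iv F13760) (iv F14529)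
theorem F15069 : act 4 n3453 = n3428 := d21_2 (iv F14530) D3453 (iv D3428) F14304 (iv F13825)
theorem F15070 : act 5 n3453 = n3410 := d22_2 (iv F14531) D3453 (iv D3410)
theorem F15071 : act 6 n3453 = n3354 := d23_2 (iv F14532) D3453 (iv D3354)
theorem F15072 : act 7 n3453 = n3341 := d24_2 D3336 D3453 (iv D3341) (iv D3169) (iv F13743)
def n3454 : Q := act 7 n3337
theorem D3454 : act 7 n3337 = n3454 := rfl
theorem F15073 : act 0 n3454 = n3353 := d6_1 D3454 (iv D3353) (iv F14533)
theorem F15074 : act 1 n3454 = n3363 := d13_1 D3454 (iv D3363) (iv F14534)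
theorem F15075 : act 2 n3454 = n3348 := d19_1 D3454 (iv D3348) (iv F14535)
theorem F15076 : act 4 n3454 = n3362 := d28_1 D3454 (iv D3362) (iv F14537)
theorem F15077 : act 5 n3454 = n3338 := d31_1 D3454 (iv D3338) (iv F14538)
theorem F15078 : act 6 n3454 = n3403 := d33_1 D3454 (iv D3403) (iv F14539)
theorem F15079 : act 8 n3454 = n3413 := d35_2 D3337 D3454 (iv D3413) (iv D3271) (iv F13753)
def n3455 : Q := act 3 n3338
theorem D3455 : act 3 n3338 = n3455 := rfl
theorem F15080 : act 0 n3455 = n3354 := d2_1 D3455 (iv D3354) (iv F14540)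
theorem F15081 : act 2 n3455 = n3417 := d15_1 D3455 (iv D3417) F14254 (iv F13825) (iv F14541)
theorem F15082 : act 4 n3455 = n3395 := d21_2 (iv F14542) D3455 (iv D3395) F14110 (iv F13760)
theorem F15083 : act 6 n3455 = n3351 := d23_2 (iv F14543) D3455 (iv D3351)
theorem F15084 : act 7 n3455 = n3340 := d24_2 D3338 D3455 (iv D3340) (iv D3167) (iv F13756)
def n3456 : Q := act 3 n3339
theorem D3456 : act 3 n3339 = n3456 := rfl
theorem F15085 : act 0 n3456 = n3356 := d2_1 D3456 (iv D3356) (iv F14544)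
theorem F15086 : act 1 n3456 = n3364 := d9_1 D3456 (iv D3364) (iv F14545)
theorem F15087 : act 2 n3456 = n3359 := d15_1 D3456 (iv D3359) F13882 (iv F13871) (iv F14546)
theorem F15088 : act 4 n3456 = n3368 := d21_2 (iv F14547) D3456 (iv D3368) F13961 (iv F13775)
theorem F15089 : act 5 n3456 = n3340 := d22_2 (iv F14548) D3456 (iv D3340)
theorem F15090 : act 6 n3456 = n3405 := d23_2 (iv F14549) D3456 (iv D3405)
theorem F15091 : act 8 n3456 = n3456 := d25_2 F14550 D3456 (iv D3456)
def n3457 : Q := act 7 n3343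
theorem D3457 : act 7 n3343 = n3457 := rfl
theorem F15092 : act 0 n3457 = n3390 := d6_1 D3457 (iv D3390) (iv F14568)
theorem F15093 : act 1 n3457 = n3344 := d13_1 D3457 (iv D3344) (iv F14569)
theorem F15094 : act 2 n3457 = n3371 := d19_1 D3457 (iv D3371) (iv F14570)
theorem F15095 : act 4 n3457 = n3388 := d28_1 D3457 (iv D3388) (iv F14572)
theorem F15096 : act 5 n3457 = n3411 := d31_1 D3457 (iv D3411) (iv F14573)
theorem F15097 : act 6 n3457 = n3372 := d33_1 D3457 (iv D3372) (iv F14574)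
theorem F15098 : act 8 n3457 = n3350 := d35_2 D3343 D3457 (iv D3350) (iv D3180) (iv F13796)
def n3458 : Q := act 3 n3344
theorem D3458 : act 3 n3344 = n3458 := rfl
theorem F15099 : act 5 n3458 = n3412 := d22_2 (iv F14576) D3458 (iv D3412)
theorem F15100 : act 7 n3458 = n3458 := d24_2 D3344 D3458 (iv D3458) (iv D3344) F13798
theorem F15101 : act 8 n3458 = n3351 := d25_2 (iv F14577) D3458 (iv D3351)
def n3459 : Q := act 7 n3345
theorem D3459 : act 7 n3345 = n3459 := rfl
theorem F15102 : act 0 n3459 = n3413 := d6_1 D3459 (iv D3413) (iv F14578)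
theorem F15103 : act 1 n3459 = n3382 := d13_1 D3459 (iv D3382) (iv F14579)
theorem F15104 : act 2 n3459 = n3421 := d19_1 D3459 (iv D3421) (iv F14580)
theorem F15105 : act 4 n3459 = n3407 := d28_1 D3459 (iv D3407) (iv F14582)
theorem F15106 : act 5 n3459 = n3346 := d31_1 D3459 (iv D3346) (iv F14583)
theorem F15107 : act 6 n3459 = n3418 := d33_1 D3459 (iv D3418) (iv F14584)
theorem F15108 : act 8 n3459 = n3353 := d35_2 D3345 D3459 (iv D3353) (iv D3183) (iv F13806)
def n3460 : Q := act 3 n3346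
theorem D3460 : act 3 n3346 = n3460 := rfl
theorem F15109 : act 1 n3460 = n3383 := d9_1 D3460 (iv D3383) (iv F14585)
theorem F15110 : act 7 n3460 = n3460 := d24_2 D3346 D3460 (iv D3460) (iv D3346) F13808
theorem F15111 : act 8 n3460 = n3354 := d25_2 (iv F14587) D3460 (iv D3354)
def n3461 : Q := act 7 n3347
theorem D3461 : act 7 n3347 = n3461 := rfl
theorem F15112 : act 0 n3461 = n3418 := d6_1 D3461 (iv D3418) (iv F14588)
theorem F15113 : act 1 n3461 = n3384 := d13_1 D3461 (iv D3384) (iv F14589)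
theorem F15114 : act 2 n3461 = n3362 := d19_1 D3461 (iv D3362) (iv F14590)
theorem F15115 : act 4 n3461 = n3348 := d28_1 D3461 (iv D3348) (iv F14592)
theorem F15116 : act 5 n3461 = n3409 := d31_1 D3461 (iv D3409) (iv F14593)
theorem F15117 : act 6 n3461 = n3413 := d33_1 D3461 (iv D3413) (iv F14594)
theorem F15118 : act 8 n3461 = n3403 := d35_2 D3347 D3461 (iv D3403) (iv D3253) (iv F13819)
def n3462 : Q := act 7 n3349
theorem D3462 : act 7 n3349 = n3462 := rfl
theorem F15119 : act 0 n3462 = n3350 := d6_1 D3462 (iv D3350) (iv F14600)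
theorem F15120 : act 1 n3462 = n3375 := d13_1 D3462 (iv D3375) (iv F14601)
theorem F15121 : act 2 n3462 = n3388 := d19_1 D3462 (iv D3388) (iv F14602)
theorem F15122 : act 4 n3462 = n3371 := d28_1 D3462 (iv D3371) (iv F14604)
theorem F15123 : act 5 n3462 = n3415 := d31_1 D3462 (iv D3415) (iv F14605)
theorem F15124 : act 6 n3462 = n3366 := d33_1 D3462 (iv D3366) (iv F14606)
theorem F15125 : act 8 n3462 = n3390 := d35_2 D3349 D3462 (iv D3390) (iv D3235) (iv F13833)
def n3463 : Q := act 3 n3350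
theorem D3463 : act 3 n3350 = n3463 := rfl
theorem F15126 : act 1 n3463 = n3351 := d9_1 D3463 (iv D3351) (iv F14607)
theorem F15127 : act 5 n3463 = n3417 := d22_2 (iv F14609) D3463 (iv D3417)
theorem F15128 : act 7 n3463 = n3359 := d24_2 D3350 D3463 (iv D3359) (iv D3191) (iv F13836)
def n3464 : Q := act 4 n3351
theorem D3464 : act 4 n3351 = n3464 := rfl
theorem F15129 : act 0 n3464 = n3428 := d3_1 D3464 (iv F15069) F15066
theorem F15130 : act 3 n3464 = n3394 := d21_1 D3464 F14800 (iv F14524) F14525 D3351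
theorem F15131 : act 6 n3464 = n3395 := d27_2 F15083 D3464 (iv F15082)
theorem F15132 : act 7 n3464 = n3360 := d28_2 (iv F14611) D3464 (iv D3360)
def n3465 : Q := act 7 n3352
theorem D3465 : act 7 n3352 = n3465 := rfl
theorem F15133 : act 0 n3465 = n3403 := d6_1 D3465 (iv D3403) (iv F14612)
theorem F15134 : act 1 n3465 = n3394 := d13_1 D3465 (iv D3394) (iv F14613)
theorem F15135 : act 2 n3465 = n3407 := d19_1 D3465 (iv D3407) (iv F14614)
theorem F15136 : act 4 n3465 = n3421 := d28_1 D3465 (iv D3421) (iv F14616)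
theorem F15137 : act 5 n3465 = n3408 := d31_1 D3465 (iv D3408) (iv F14617)
theorem F15138 : act 6 n3465 = n3353 := d33_1 D3465 (iv D3353) (iv F14618)
theorem F15139 : act 8 n3465 = n3418 := d35_2 D3352 D3465 (iv D3418) (iv D3277) (iv F13846)
def n3466 : Q := act 3 n3353
theorem D3466 : act 3 n3353 = n3466 := rfl
theorem F15140 : act 1 n3466 = n3395 := d9_1 D3466 (iv D3395) (iv F14619)
theorem F15141 : act 5 n3466 = n3354 := d22_2 (iv F14621) D3466 (iv D3354)
theorem F15142 : act 7 n3466 = n3356 := d24_2 D3353 D3466 (iv D3356) (iv D3186) (iv F13848)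
def n3467 : Q := act 2 n3354
theorem D3467 : act 2 n3354 = n3467 := rfl
theorem F15143 : act 0 n3467 = n3417 := d1_1 D3467 (iv F15081) F15080
theorem F15144 : act 3 n3467 = n3415 := d15_2 D3354 D3467 F14876 (iv F14524) F14523
theorem F15145 : act 6 n3467 = n3429 := d18_2 F15071 D3467 (iv F15068)
theorem F15146 : act 7 n3467 = n3357 := d19_2 (iv F14623) D3467 (iv D3357)
def n3468 : Q := act 3 n3355
theorem D3468 : act 3 n3355 = n3468 := rfl
theorem F15147 : act 0 n3468 = n3405 := d2_1 D3468 (iv D3405) (iv F14624)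
theorem F15148 : act 1 n3468 = n3360 := d9_1 D3468 F14649 (iv F14625)
theorem F15149 : act 2 n3468 = n3368 := d15_1 D3468 (iv D3368) F13960 (iv F14176) (iv F14626)
theorem F15150 : act 4 n3468 = n3359 := d21_2 (iv F14627) D3468 (iv D3359) (iv F14373) F14372
theorem F15151 : act 5 n3468 = n3369 := d22_2 (iv F14628) D3468 F14688
theorem F15152 : act 6 n3468 = n3356 := d23_2 (iv F14629) D3468 (iv D3356)
theorem F15153 : act 8 n3468 = n3468 := d25_2 F14630 D3468 (iv D3468)
def n3469 : Q := act 2 n3356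
theorem D3469 : act 2 n3356 = n3469 := rfl
theorem F15154 : act 0 n3469 = n3359 := d1_1 D3469 (iv F15087) F15085
theorem F15155 : act 1 n3469 = n3379 := d8_1 D3469 (iv F14741) F14824 (iv D3400) (iv F14631)
theorem F15156 : act 3 n3469 = n3358 := d15_2 D3356 D3469 F14640 (iv F14347) F14346
theorem F15157 : act 4 n3469 = n3405 := d16_2 F15032 D3469 (iv F15031)
theorem F15158 : act 5 n3469 = n3357 := d17_2 (iv F14632) D3469 (iv D3357)
theorem F15159 : act 6 n3469 = n3368 := d18_2 F15152 D3469 (iv F15149)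
theorem F15160 : act 8 n3469 = n3469 := d20_2 F14633 D3469 (iv D3469)
def n3470 : Q := act 1 n3357
theorem D3470 : act 1 n3357 = n3470 := rfl
theorem F15161 : act 0 n3470 = n3398 := d0_1 D3470 F14812 F14229 (iv F14274) (iv F14634)
theorem F15162 : act 2 n3470 = n3401 := d8_2 D3357 D3470 (iv D3401) (iv D3248) (iv F13863)
theorem F15163 : act 3 n3470 = n3378 := d9_2 (iv F14635) D3470 F14731
theorem F15164 : act 5 n3470 = n3379 := d11_2 F15158 D3470 (iv F15155)
theorem F15165 : act 6 n3470 = n3430 := d12_2 (iv F14636) D3470 F14908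
theorem F15166 : act 8 n3470 = n3470 := d14_2 F14637 D3470 (iv D3470)
def n3471 : Q := act 5 n3360
theorem D3471 : act 5 n3360 = n3471 := rfl
theorem F15167 : act 0 n3471 = n3430 := d4_1 D3471 F14909 (iv F14648)
theorem F15168 : act 1 n3471 = n3369 := d11_1 D3471 (iv F15151) F15148
theorem F15169 : act 3 n3471 = n3397 := d22_1 D3471 F14809 (iv F14649)
theorem F15170 : act 4 n3471 = n3401 := d26_1 D3471 F14826 (iv D3285) (iv F13885) D3360
theorem F15171 : act 6 n3471 = n3398 := d30_2 (iv F14650) D3471 F14813 F14125 (iv F14132)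
theorem F15172 : act 8 n3471 = n3471 := d32_2 F14651 D3471 (iv D3471)
def n3472 : Q := act 3 n3363
theorem D3472 : act 3 n3363 = n3472 := rfl
theorem F15173 : act 0 n3472 = n3367 := d2_1 D3472 (iv D3367) (iv F14662)
theorem F15174 : act 2 n3472 = n3414 := d15_1 D3472 (iv D3414) F14243 (iv F14154) (iv F14663)
theorem F15175 : act 4 n3472 = n3377 := d21_2 (iv F14664) D3472 (iv D3377) F14028 (iv F13931)
theorem F15176 : act 6 n3472 = n3404 := d23_2 (iv F14665) D3472 (iv D3404)
theorem F15177 : act 7 n3472 = n3364 := d24_2 D3363 D3472 (iv D3364) (iv D3202) (iv F13926)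
theorem F15178 : act 8 n3472 = n3422 := d25_2 (iv F14666) D3472 (iv D3422)
def n3473 : Q := act 3 n3365
theorem D3473 : act 3 n3365 = n3473 := rfl
theorem F15179 : act 0 n3473 = n3422 := d2_1 D3473 (iv D3422) (iv F14672)
theorem F15180 : act 2 n3473 = n3419 := d15_1 D3473 (iv D3419) F14258 (iv F14181) (iv F14673)
theorem F15181 : act 4 n3473 = n3383 := d21_2 (iv F14674) D3473 (iv D3383) F14052 (iv F13947)
theorem F15182 : act 6 n3473 = n3426 := d23_2 (iv F14675) D3473 (iv D3426)
theorem F15183 : act 7 n3473 = n3473 := d24_2 D3365 D3473 (iv D3473) (iv D3365) F13942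
theorem F15184 : act 8 n3473 = n3367 := d25_2 (iv F14676) D3473 (iv D3367)
def n3474 : Q := act 3 n3366
theorem D3474 : act 3 n3366 = n3474 := rfl
theorem F15185 : act 1 n3474 = n3377 := d9_1 D3474 (iv D3377) (iv F14677)
theorem F15186 : act 5 n3474 = n3367 := d22_2 (iv F14680) D3474 (iv D3367)
theorem F15187 : act 7 n3474 = n3368 := d24_2 D3366 D3474 (iv D3368) (iv D3207) (iv F13953)
def n3475 : Q := act 2 n3367
theorem D3475 : act 2 n3367 = n3475 := rfl
theorem F15188 : act 0 n3475 = n3414 := d1_1 D3475 (iv F15174) F15173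
theorem F15189 : act 3 n3475 = n3408 := d15_2 D3367 D3475 F14853 F14207 (iv F13956)
theorem F15190 : act 4 n3475 = n3396 := d16_2 (iv F14681) D3475 (iv D3396)
theorem F15191 : act 6 n3475 = n3410 := d18_2 (iv F14682) D3475 F14863
theorem F15192 : act 7 n3475 = n3369 := d19_2 (iv F14683) D3475 (iv D3369)
theorem F15193 : act 8 n3475 = n3419 := d20_2 F15184 D3475 (iv F15180)
def n3476 : Q := act 3 n3372
theorem D3476 : act 3 n3372 = n3476 := rfl
theorem F15194 : act 5 n3476 = n3422 := d22_2 (iv F14705) D3476 (iv D3422)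
theorem F15195 : act 7 n3476 = n3476 := d24_2 D3372 D3476 (iv D3476) (iv D3372) F13982
def n3477 : Q := act 3 n3373
theorem D3477 : act 3 n3373 = n3477 := rfl
theorem F15196 : act 0 n3477 = n3383 := d2_1 D3477 (iv D3383) (iv F14706)
theorem F15197 : act 4 n3477 = n3422 := d21_2 (iv F14708) D3477 (iv D3422) F14279 (iv F13994)
theorem F15198 : act 6 n3477 = n3393 := d23_2 (iv F14709) D3477 (iv D3393)
theorem F15199 : act 7 n3477 = n3477 := d24_2 D3373 D3477 (iv D3477) (iv D3373) F13989
theorem F15200 : act 8 n3477 = n3377 := d25_2 (iv F14710) D3477 (iv D3377)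
def n3478 : Q := act 7 n3374
theorem D3478 : act 7 n3374 = n3478 := rfl
theorem F15201 : act 0 n3478 = n3386 := d6_1 D3478 (iv D3386) (iv F14711)
theorem F15202 : act 1 n3478 = n3415 := d13_1 D3478 (iv D3415) (iv F14712)
theorem F15203 : act 2 n3478 = n3382 := d19_1 D3478 (iv D3382) (iv F14713)
theorem F15204 : act 4 n3478 = n3425 := d28_1 D3478 (iv D3425) (iv F14715)
theorem F15205 : act 5 n3478 = n3375 := d31_1 D3478 (iv D3375) (iv F14716)
theorem F15206 : act 6 n3478 = n3427 := d33_1 D3478 (iv D3427) (iv F14717)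
theorem F15207 : act 8 n3478 = n3392 := d35_2 D3374 D3478 (iv D3392) (iv D3238) (iv F14004)
def n3479 : Q := act 3 n3375
theorem D3479 : act 3 n3375 = n3479 := rfl
theorem F15208 : act 0 n3479 = n3387 := d2_1 D3479 (iv D3387) (iv F14718)
theorem F15209 : act 4 n3479 = n3404 := d21_2 (iv F14720) D3479 (iv D3404) F14165 (iv F14012)
theorem F15210 : act 6 n3479 = n3377 := d23_2 (iv F14721) D3479 (iv D3377)
theorem F15211 : act 7 n3479 = n3379 := d24_2 D3375 D3479 (iv D3379) (iv D3223) (iv F14007)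
theorem F15212 : act 8 n3479 = n3393 := d25_2 (iv F14722) D3479 (iv D3393)
theorem F15213 : act 2 n3420 = n3479 := d19_3 F15211 (iv F14741) (iv F14886)
def n3480 : Q := act 3 n3376
theorem D3480 : act 3 n3376 = n3480 := rfl
theorem F15214 : act 0 n3480 = n3393 := d2_1 D3480 (iv D3393) (iv F14723)
theorem F15215 : act 4 n3480 = n3426 := d21_2 (iv F14725) D3480 (iv D3426) F14293 (iv F14023)
theorem F15216 : act 6 n3480 = n3383 := d23_2 (iv F14726) D3480 (iv D3383)
theorem F15217 : act 7 n3480 = n3480 := d24_2 D3376 D3480 (iv D3480) (iv D3376) F14018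
theorem F15218 : act 8 n3480 = n3387 := d25_2 (iv F14727) D3480 (iv D3387)
def n3481 : Q := act 2 n3377
theorem D3481 : act 2 n3377 = n3481 := rfl
theorem F15219 : act 0 n3481 = n3396 := d1_1 D3481 (iv D3396) (iv F14728)
theorem F15220 : act 4 n3481 = n3414 := d16_2 F15175 D3481 (iv F15174)
theorem F15221 : act 6 n3481 = n3420 := d18_2 F15210 D3481 F15213
theorem F15222 : act 7 n3481 = n3380 := d19_2 (iv F14729) D3481 (iv D3380)
def n3482 : Q := act 7 n3381
theorem D3482 : act 7 n3381 = n3482 := rfl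
theorem F15223 : act 0 n3482 = n3424 := d6_1 D3482 (iv D3424) (iv F14747)
theorem F15224 : act 1 n3482 = n3418 := d13_1 D3482 (iv D3418) (iv F14748)
theorem F15225 : act 2 n3482 = n3427 := d19_1 D3482 (iv D3427) (iv F14749)
theorem F15226 : act 4 n3482 = n3423 := d28_1 D3482 (iv D3423) (iv F14751)
theorem F15227 : act 5 n3482 = n3416 := d31_1 D3482 (iv D3416) (iv F14752)
theorem F15228 : act 6 n3482 = n3382 := d33_1 D3482 (iv D3382) (iv F14753)
theorem F15229 : act 8 n3482 = n3394 := d35_2 D3381 D3482 (iv D3394) (iv D3240) (iv F14048)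
def n3483 : Q := act 3 n3382
theorem D3483 : act 3 n3382 = n3483 := rfl
theorem F15230 : act 5 n3483 = n3383 := d22_2 (iv F14755) D3483 (iv D3383)
theorem F15231 : act 7 n3483 = n3483 := d24_2 D3382 D3483 (iv D3483) (iv D3382) F14049
theorem F15232 : act 8 n3483 = n3395 := d25_2 (iv F14756) D3483 (iv D3395)
def n3484 : Q := act 2 n3383
theorem D3484 : act 2 n3383 = n3484 := rfl
theorem F15233 : act 3 n3484 = n3420 := d15_2 D3383 D3484 F15213 (iv D3479) F14719
theorem F15234 : act 4 n3484 = n3419 := d16_2 F15181 D3484 (iv F15180)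
theorem F15235 : act 7 n3484 = n3484 := d19_2 F14757 D3484 (iv D3484)
theorem F15236 : act 8 n3484 = n3396 := d20_2 (iv F14758) D3484 (iv D3396)
def n3485 : Q := act 3 n3384
theorem D3485 : act 3 n3384 = n3485 := rfl
theorem F15237 : act 0 n3485 = n3426 := d2_1 D3485 (iv D3426) (iv F14759)
theorem F15238 : act 2 n3485 = n3412 := d15_1 D3485 (iv D3412) F14235 (iv F14148) (iv F14760)
theorem F15239 : act 4 n3485 = n3393 := d21_2 (iv F14761) D3485 (iv D3393) F14105 (iv F14061)
theorem F15240 : act 6 n3485 = n3422 := d23_2 (iv F14762) D3485 (iv D3422)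
theorem F15241 : act 7 n3485 = n3485 := d24_2 D3384 D3485 (iv D3485) (iv D3384) F14056
theorem F15242 : act 8 n3485 = n3404 := d25_2 (iv F14763) D3485 (iv D3404)
def n3486 : Q := act 7 n3385
theorem D3486 : act 7 n3385 = n3486 := rfl
theorem F15243 : act 0 n3486 = n3427 := d6_1 D3486 (iv D3427) (iv F14764)
theorem F15244 : act 1 n3486 = n3408 := d13_1 D3486 (iv D3408) (iv F14765)
theorem F15245 : act 2 n3486 = n3424 := d19_1 D3486 (iv D3424) (iv F14766)
theorem F15246 : act 4 n3486 = n3411 := d28_1 D3486 (iv D3411) (iv F14768)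
theorem F15247 : act 5 n3486 = n3394 := d31_1 D3486 (iv D3394) (iv F14769)
theorem F15248 : act 6 n3486 = n3386 := d33_1 D3486 (iv D3386) (iv F14770)
theorem F15249 : act 8 n3486 = n3416 := d35_2 D3385 D3486 (iv D3416) (iv D3275) (iv F14071)
def n3487 : Q := act 3 n3386
theorem D3487 : act 3 n3386 = n3487 := rfl
theorem F15250 : act 1 n3487 = n3410 := d9_1 D3487 (iv D3410) (iv F14771)
theorem F15251 : act 5 n3487 = n3387 := d22_2 (iv F14772) D3487 (iv D3387)
theorem F15252 : act 7 n3487 = n3398 := d24_2 D3386 D3487 (iv D3398) (iv D3244) (iv F14073)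
def n3488 : Q := act 2 n3387
theorem D3488 : act 2 n3387 = n3488 := rfl
theorem F15253 : act 0 n3488 = n3420 := d1_1 D3488 F15213 F15208
theorem F15254 : act 4 n3488 = n3410 := d16_2 (iv F14773) D3488 F14863
theorem F15255 : act 6 n3488 = n3396 := d18_2 (iv F14774) D3488 (iv D3396)
theorem F15256 : act 7 n3488 = n3399 := d19_2 (iv F14775) D3488 (iv D3399)
def n3489 : Q := act 7 n3389
theorem D3489 : act 7 n3389 = n3489 := rfl
theorem F15257 : act 0 n3489 = n3411 := d6_1 D3489 (iv D3411) (iv F14779)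
theorem F15258 : act 1 n3489 = n3392 := d13_1 D3489 (iv D3392) (iv F14780)
theorem F15259 : act 2 n3489 = n3423 := d19_1 D3489 (iv D3423) (iv F14781)
theorem F15260 : act 4 n3489 = n3427 := d28_1 D3489 (iv D3427) (iv F14783)
theorem F15261 : act 5 n3489 = n3390 := d31_1 D3489 (iv D3390) (iv F14784)
theorem F15262 : act 6 n3489 = n3425 := d33_1 D3489 (iv D3425) (iv F14785)
theorem F15263 : act 8 n3489 = n3415 := d35_2 D3389 D3489 (iv D3415) (iv D3274) (iv F14087)
def n3490 : Q := act 3 n3390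
theorem D3490 : act 3 n3390 = n3490 := rfl
theorem F15264 : act 1 n3490 = n3393 := d9_1 D3490 (iv D3393) (iv F14786)
theorem F15265 : act 7 n3490 = n3490 := d24_2 D3390 D3490 (iv D3490) (iv D3390) F14089
def n3491 : Q := act 7 n3391
theorem D3491 : act 7 n3391 = n3491 := rfl
theorem F15266 : act 0 n3491 = n3416 := d6_1 D3491 (iv D3416) (iv F14788)
theorem F15267 : act 1 n3491 = n3425 := d13_1 D3491 (iv D3425) (iv F14789)
theorem F15268 : act 2 n3491 = n3394 := d19_1 D3491 (iv D3394) (iv F14790)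
theorem F15269 : act 4 n3491 = n3415 := d28_1 D3491 (iv D3415) (iv F14792)
theorem F15270 : act 5 n3491 = n3424 := d31_1 D3491 (iv D3424) (iv F14793)
theorem F15271 : act 6 n3491 = n3392 := d33_1 D3491 (iv D3392) (iv F14794)
theorem F15272 : act 8 n3491 = n3427 := d35_2 D3391 D3491 (iv D3427) (iv D3296) (iv F14099)
def n3492 : Q := act 3 n3392
theorem D3492 : act 3 n3392 = n3492 := rfl
theorem F15273 : act 5 n3492 = n3393 := d22_2 (iv F14797) D3492 (iv D3393)
theorem F15274 : act 7 n3492 = n3492 := d24_2 D3392 D3492 (iv D3492) (iv D3392) F14101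
def n3493 : Q := act 2 n3393
theorem D3493 : act 2 n3393 = n3493 := rfl
theorem F15275 : act 3 n3493 = n3396 := d15_2 D3393 D3493 (iv D3396) (iv D3242) (iv F14104)
theorem F15276 : act 4 n3493 = n3412 := d16_2 F15239 D3493 (iv F15238)
theorem F15277 : act 7 n3493 = n3493 := d19_2 F14798 D3493 (iv D3493)
theorem F15278 : act 8 n3493 = n3420 := d20_2 F15212 D3493 F15213
def n3494 : Q := act 2 n3395
theorem D3494 : act 2 n3395 = n3494 := rfl
theorem F15279 : act 4 n3494 = n3417 := d16_2 F15082 D3494 (iv F15081)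
theorem F15280 : act 5 n3494 = n3396 := d17_2 (iv F14802) D3494 (iv D3396)
theorem F15281 : act 7 n3494 = n3400 := d19_2 (iv F14803) D3494 (iv D3400)
theorem F15282 : act 1 n3494 = n3420 := d38_6 D3103 F13425 (iv F13440) (iv F14110) D3395 D3494 F14886 (iv F14745) (iv F14998) F14997 F14635 F14270 F13375 (iv D3085) F12383 F11493 F10480 F9478 F8539 F7703 F6921 (iv F7714) (iv F8008) F8007 F8006 (iv F7928) (iv F8748) F8752 F7970 (iv F8825) (iv F9761) (iv F10807) (iv F11856) (iv F12903) D3191 (iv F14487) F14486 F13937 F12988 F12074 (iv F13026) (iv D2993) (iv F13025) F13024 (iv F13878) (iv F14603) F14602 (iv F14490) D3449 F15042 F14513 F14193 (iv F14154) (iv F14663) (iv F15074) (iv D3454) F14539 F14162 (iv F14188) F14187 F14186 F13262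
def n3495 : Q := act 1 n3396
theorem D3495 : act 1 n3396 = n3495 := rfl
theorem F15283 : act 5 n3495 = n3420 := d11_2 F15280 D3495 (iv F15282)
theorem F15284 : act 7 n3495 = n3401 := d13_2 (iv F14804) D3495 (iv D3401)
def n3496 : Q := act 2 n3398
theorem D3496 : act 2 n3398 = n3496 := rfl
theorem F15285 : act 0 n3496 = n3401 := d1_1 D3496 (iv F15162) F15161
theorem F15286 : act 1 n3496 = n3431 := d8_1 D3496 (iv D3431) F14313 (iv F14230) (iv F14812)
theorem F15287 : act 3 n3496 = n3496 := d15_2 D3398 D3496 (iv D3496) (iv D3398) F14120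
theorem F15288 : act 5 n3496 = n3399 := d17_2 (iv F14813) D3496 (iv D3399)
theorem F15289 : act 8 n3496 = n3496 := d20_2 F14814 D3496 (iv D3496)
theorem F15290 : act 4 n3430 = n3496 := d26_5 F15288 F14817 (iv F14560) F14559 (iv F14909)
def n3497 : Q := act 4 n3398
theorem D3497 : act 4 n3398 = n3497 := rfl
theorem F15291 : act 1 n3497 = n3399 := d10_1 D3497 F14817 (iv F14812)
theorem F15292 : act 2 n3497 = n3430 := d16_1 D3497 F15290 (iv D3496)
theorem F15293 : act 3 n3497 = n3497 := d21_1 D3497 (iv D3497) (iv D3398) F14121 D3398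
theorem F15294 : act 5 n3497 = n3431 := d26_2 (iv F14813) D3497 F14912 F14315 (iv F14124)
theorem F15295 : act 6 n3497 = n3401 := d27_2 F15171 D3497 (iv F15170)
theorem F15296 : act 8 n3497 = n3497 := d29_2 F14814 D3497 (iv D3497)
def n3498 : Q := act 3 n3403
theorem D3498 : act 3 n3403 = n3498 := rfl
theorem F15297 : act 1 n3498 = n3404 := d9_1 D3498 (iv D3404) (iv F14832)
theorem F15298 : act 5 n3498 = n3414 := d22_2 (iv F14835) D3498 (iv D3414)
theorem F15299 : act 7 n3498 = n3405 := d24_2 D3403 D3498 (iv D3405) (iv D3255) (iv F14160)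
def n3499 : Q := act 3 n3406
theorem D3499 : act 3 n3406 = n3499 := rfl
theorem F15300 : act 0 n3499 = n3412 := d2_1 D3499 (iv D3412) (iv F14842)
theorem F15301 : act 2 n3499 = n3426 := d15_1 D3499 (iv D3426) F14292 (iv F14192) (iv F14843)
theorem F15302 : act 6 n3499 = n3419 := d23_2 (iv F14845) D3499 (iv D3419)
theorem F15303 : act 7 n3499 = n3499 := d24_2 D3406 D3499 (iv D3499) (iv D3406) F14187
theorem F15304 : act 8 n3499 = n3410 := d25_2 (iv F14846) D3499 (iv D3410)
def n3500 : Q := act 3 n3409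
theorem D3500 : act 3 n3409 = n3500 := rfl
theorem F15305 : act 0 n3500 = n3419 := d2_1 D3500 (iv D3419) (iv F14857)
theorem F15306 : act 2 n3500 = n3422 := d15_1 D3500 (iv D3422) F14278 (iv F14220) (iv F14858)
theorem F15307 : act 6 n3500 = n3412 := d23_2 (iv F14860) D3500 (iv D3412)
theorem F15308 : act 7 n3500 = n3500 := d24_2 D3409 D3500 (iv D3500) (iv D3409) F14213
theorem F15309 : act 8 n3500 = n3414 := d25_2 (iv F14861) D3500 (iv D3414)
def n3501 : Q := act 3 n3411
theorem D3501 : act 3 n3411 = n3501 := rfl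
theorem F15310 : act 1 n3501 = n3412 := d9_1 D3501 (iv D3412) (iv F14865)
theorem F15311 : act 7 n3501 = n3501 := d24_2 D3411 D3501 (iv D3501) (iv D3411) F14234
theorem F15312 : act 8 n3501 = n3417 := d25_2 (iv F14867) D3501 (iv D3417)
def n3502 : Q := act 3 n3413
theorem D3502 : act 3 n3413 = n3502 := rfl
theorem F15313 : act 1 n3502 = n3422 := d9_1 D3502 (iv D3422) (iv F14870)
theorem F15314 : act 7 n3502 = n3502 := d24_2 D3413 D3502 (iv D3502) (iv D3413) F14239
def n3503 : Q := act 3 n3416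
theorem D3503 : act 3 n3416 = n3503 := rfl
theorem F15315 : act 1 n3503 = n3419 := d9_1 D3503 (iv D3419) (iv F14878)
theorem F15316 : act 7 n3503 = n3503 := d24_2 D3416 D3503 (iv D3503) (iv D3416) F14251
def n3504 : Q := act 3 n3418
theorem D3504 : act 3 n3418 = n3504 := rfl
theorem F15317 : act 5 n3504 = n3419 := d22_2 (iv F14884) D3504 (iv D3419)
theorem F15318 : act 7 n3504 = n3504 := d24_2 D3418 D3504 (iv D3504) (iv D3418) F14256
def n3505 : Q := act 3 n3424
theorem D3505 : act 3 n3424 = n3505 := rfl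
theorem F15319 : act 1 n3505 = n3426 := d9_1 D3505 (iv D3426) (iv F14894)
theorem F15320 : act 7 n3505 = n3505 := d24_2 D3424 D3505 (iv D3505) (iv D3424) F14285
theorem F15321 : act 8 n3505 = n3428 := d25_2 (iv F14896) D3505 (iv D3428)
def n3506 : Q := act 3 n3425
theorem D3506 : act 3 n3425 = n3506 := rfl
theorem F15322 : act 5 n3506 = n3426 := d22_2 (iv F14898) D3506 (iv D3426)
theorem F15323 : act 7 n3506 = n3506 := d24_2 D3425 D3506 (iv D3506) (iv D3425) F14290
theorem F15324 : act 8 n3506 = n3429 := d25_2 (iv F14899) D3506 (iv D3429)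
def n3507 : Q := act 3 n3427
theorem D3507 : act 3 n3427 = n3507 := rfl
theorem F15325 : act 1 n3507 = n3429 := d9_1 D3507 (iv D3429) (iv F14902)
theorem F15326 : act 5 n3507 = n3428 := d22_2 (iv F14903) D3507 (iv D3428)
theorem F15327 : act 7 n3507 = n3430 := d24_2 D3427 D3507 (iv D3430) (iv D3300) (iv F14301)
def n3508 : Q := act 2 n3428
theorem D3508 : act 2 n3428 = n3508 := rfl
theorem F15328 : act 4 n3508 = n3429 := d16_2 F15069 D3508 (iv F15068)
theorem F15329 : act 7 n3508 = n3431 := d19_2 (iv F14905) D3508 (iv D3431)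
def n3509 : Q := act 3 n3438
theorem D3509 : act 3 n3438 = n3509 := rfl
theorem F15330 : act 0 n3509 = n3506 := d2_1 D3509 (iv D3506) (iv F14962)
theorem F15331 : act 1 n3509 = n3500 := d9_1 D3509 (iv D3500) (iv F14963)
theorem F15332 : act 2 n3509 = n3458 := d15_1 D3509 (iv D3458) F14575 (iv F14423) (iv F14964)
theorem F15333 : act 5 n3509 = n3485 := d22_2 (iv F14966) D3509 (iv D3485)
theorem F15334 : act 6 n3509 = n3501 := d23_2 (iv F14967) D3509 (iv D3501)
theorem F15335 : act 7 n3509 = n3509 := d24_2 D3438 D3509 (iv D3509) (iv D3438) F14410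
theorem F15336 : act 8 n3509 = n3441 := d25_2 (iv F14968) D3509 (iv D3441)
def n3510 : Q := act 3 n3439
theorem D3510 : act 3 n3439 = n3510 := rfl
theorem F15337 : act 0 n3510 = n3483 := d2_1 D3510 (iv D3483) (iv F14969)
theorem F15338 : act 1 n3510 = n3473 := d9_1 D3510 (iv D3473) (iv F14970)
theorem F15339 : act 4 n3510 = n3460 := d21_2 (iv F14972) D3510 (iv D3460) F14586 (iv F14423)
theorem F15340 : act 5 n3510 = n3477 := d22_2 (iv F14973) D3510 (iv D3477)
theorem F15341 : act 6 n3510 = n3505 := d23_2 (iv F14974) D3510 (iv D3505)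
theorem F15342 : act 7 n3510 = n3510 := d24_2 D3439 D3510 (iv D3510) (iv D3439) F14417
theorem F15343 : act 8 n3510 = n3442 := d25_2 (iv F14975) D3510 (iv D3442)
def n3511 : Q := act 3 n3440
theorem D3511 : act 3 n3440 = n3511 := rfl
theorem F15344 : act 0 n3511 = n3492 := d2_1 D3511 (iv D3492) (iv F14976)
theorem F15345 : act 1 n3511 = n3499 := d9_1 D3511 (iv D3499) (iv F14977)
theorem F15346 : act 5 n3511 = n3480 := d22_2 (iv F14980) D3511 (iv D3480)
theorem F15347 : act 6 n3511 = n3503 := d23_2 (iv F14981) D3511 (iv D3503)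
theorem F15348 : act 7 n3511 = n3511 := d24_2 D3440 D3511 (iv D3511) (iv D3440) F14430
theorem F15349 : act 8 n3511 = n3487 := d25_2 (iv F14982) D3511 (iv D3487)
def n3512 : Q := act 4 n3441
theorem D3512 : act 4 n3441 = n3512 := rfl
theorem F15350 : act 0 n3512 = n3508 := d3_1 D3512 F15328 (iv F14983)
theorem F15351 : act 1 n3512 = n3481 := d10_1 D3512 F15220 (iv F14984)
theorem F15352 : act 2 n3512 = n3464 := d16_1 D3512 (iv D3464) (iv F14985)
theorem F15353 : act 6 n3512 = n3494 := d27_2 (iv F14987) D3512 F15279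
theorem F15354 : act 7 n3512 = n3444 := d28_2 (iv F14988) D3512 (iv D3444)
def n3513 : Q := act 2 n3442
theorem D3513 : act 2 n3442 = n3513 := rfl
theorem F15355 : act 0 n3513 = n3494 := d1_1 D3513 (iv D3494) (iv F14989)
theorem F15356 : act 4 n3513 = n3467 := d16_2 (iv F14991) D3513 (iv D3467)
theorem F15357 : act 5 n3513 = n3481 := d17_2 (iv F14992) D3513 (iv D3481)
theorem F15358 : act 6 n3513 = n3508 := d18_2 (iv F14993) D3513 (iv D3508)
theorem F15359 : act 7 n3513 = n3443 := d19_2 (iv F14994) D3513 (iv D3443)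
def n3514 : Q := act 1 n3443
theorem D3514 : act 1 n3443 = n3514 := rfl
theorem F15360 : act 0 n3514 = n3497 := d0_1 D3514 F15291 F14815 F14824 (iv F14995)
theorem F15361 : act 2 n3514 = n3471 := d8_2 D3443 D3514 F15168 (iv D3369) (iv F14445)
theorem F15362 : act 3 n3514 = n3514 := d9_2 F14996 D3514 (iv D3514)
theorem F15363 : act 4 n3514 = n3470 := d10_2 (iv F14997) D3514 (iv D3470)
theorem F15364 : act 5 n3514 = n3444 := d11_2 (iv F14998) D3514 F15002
theorem F15365 : act 6 n3514 = n3496 := d12_2 (iv F14999) D3514 F15286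
theorem F15366 : act 8 n3514 = n3514 := d14_2 F15000 D3514 (iv D3514)
def n3515 : Q := act 3 n3446
theorem D3515 : act 3 n3446 = n3515 := rfl
theorem F15367 : act 0 n3515 = n3476 := d2_1 D3515 (iv D3476) (iv F15015)
theorem F15368 : act 1 n3515 = n3477 := d9_1 D3515 (iv D3477) (iv F15016)
theorem F15369 : act 2 n3515 = n3504 := d15_1 D3515 (iv D3504) F14883 (iv F14479) (iv F15017)
theorem F15370 : act 4 n3515 = n3502 := d21_2 (iv F15018) D3515 (iv D3502) F14872 (iv F14694)
theorem F15371 : act 5 n3515 = n3473 := d22_2 (iv F15019) D3515 (iv D3473)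
theorem F15372 : act 6 n3515 = n3490 := d23_2 (iv F15020) D3515 (iv D3490)
theorem F15373 : act 7 n3515 = n3515 := d24_2 D3446 D3515 (iv D3515) (iv D3446) F14466
theorem F15374 : act 8 n3515 = n3474 := d25_2 (iv F15021) D3515 (iv D3474)
def n3516 : Q := act 3 n3447
theorem D3516 : act 3 n3447 = n3516 := rfl
theorem F15375 : act 0 n3516 = n3474 := d2_1 D3516 (iv D3474) (iv F15022)
theorem F15376 : act 1 n3516 = n3455 := d9_1 D3516 (iv D3455) (iv F15023)
theorem F15377 : act 2 n3516 = n3498 := d15_1 D3516 (iv D3498) F14833 (iv F14694) (iv F15024)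
theorem F15378 : act 4 n3516 = n3466 := d21_2 (iv F15025) D3516 (iv D3466) F14620 (iv F14479)
theorem F15379 : act 5 n3516 = n3472 := d22_2 (iv F15026) D3516 (iv D3472)
theorem F15380 : act 6 n3516 = n3463 := d23_2 (iv F15027) D3516 (iv D3463)
theorem F15381 : act 7 n3516 = n3448 := d24_2 D3447 D3516 (iv D3448) (iv D3329) (iv F14473)
theorem F15382 : act 8 n3516 = n3476 := d25_2 (iv F15028) D3516 (iv D3476)
def n3517 : Q := act 3 n3450
theorem D3517 : act 3 n3450 = n3517 := rfl
theorem F15383 : act 0 n3517 = n3458 := d2_1 D3517 (iv D3458) (iv F15044)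
theorem F15384 : act 1 n3517 = n3480 := d9_1 D3517 (iv D3480) (iv F15045)
theorem F15385 : act 2 n3517 = n3506 := d15_1 D3517 (iv D3506) F14897 (iv F14512) (iv F15046)
theorem F15386 : act 4 n3517 = n3505 := d21_2 (iv F15047) D3517 (iv D3505) F14895 (iv F14564)
theorem F15387 : act 5 n3517 = n3499 := d22_2 (iv F15048) D3517 (iv D3499)
theorem F15388 : act 6 n3517 = n3460 := d23_2 (iv F15049) D3517 (iv D3460)
theorem F15389 : act 7 n3517 = n3517 := d24_2 D3450 D3517 (iv D3517) (iv D3450) F14499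
theorem F15390 : act 8 n3517 = n3453 := d25_2 (iv F15050) D3517 (iv D3453)
def n3518 : Q := act 3 n3451
theorem D3518 : act 3 n3451 = n3518 := rfl
theorem F15391 : act 0 n3518 = n3460 := d2_1 D3518 (iv D3460) (iv F15051)
theorem F15392 : act 1 n3518 = n3476 := d9_1 D3518 (iv D3476) (iv F15052)
theorem F15393 : act 2 n3518 = n3501 := d15_1 D3518 (iv D3501) F14866 (iv F14564) (iv F15053)
theorem F15394 : act 4 n3518 = n3483 := d21_2 (iv F15054) D3518 (iv D3483) F14754 (iv F14512)
theorem F15395 : act 5 n3518 = n3502 := d22_2 (iv F15055) D3518 (iv D3502)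
theorem F15396 : act 6 n3518 = n3458 := d23_2 (iv F15056) D3518 (iv D3458)
theorem F15397 : act 7 n3518 = n3518 := d24_2 D3451 D3518 (iv D3518) (iv D3451) F14506
theorem F15398 : act 8 n3518 = n3455 := d25_2 (iv F15057) D3518 (iv D3455)
def n3519 : Q := act 3 n3454
theorem D3519 : act 3 n3454 = n3519 := rfl
theorem F15399 : act 0 n3519 = n3466 := d2_1 D3519 (iv D3466) (iv F15073)
theorem F15400 : act 1 n3519 = n3472 := d9_1 D3519 (iv D3472) (iv F15074)
theorem F15401 : act 2 n3519 = n3463 := d15_1 D3519 (iv D3463) F14608 (iv F14596) (iv F15075)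
theorem F15402 : act 4 n3519 = n3474 := d21_2 (iv F15076) D3519 (iv D3474) F14679 (iv F14658)
theorem F15403 : act 5 n3519 = n3455 := d22_2 (iv F15077) D3519 (iv D3455)
theorem F15404 : act 6 n3519 = n3498 := d23_2 (iv F15078) D3519 (iv D3498)
theorem F15405 : act 7 n3519 = n3456 := d24_2 D3454 D3519 (iv D3456) (iv D3339) (iv F14536)
theorem F15406 : act 8 n3519 = n3502 := d25_2 (iv F15079) D3519 (iv D3502)
def n3520 : Q := act 3 n3457
theorem D3520 : act 3 n3457 = n3520 := rfl
theorem F15407 : act 0 n3520 = n3490 := d2_1 D3520 (iv D3490) (iv F15092)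
theorem F15408 : act 1 n3520 = n3458 := d9_1 D3520 (iv D3458) (iv F15093)
theorem F15409 : act 2 n3520 = n3502 := d15_1 D3520 (iv D3502) F14871 (iv F14699) (iv F15094)
theorem F15410 : act 4 n3520 = n3504 := d21_2 (iv F15095) D3520 (iv D3504) (iv F15062) F15061
theorem F15411 : act 5 n3520 = n3501 := d22_2 (iv F15096) D3520 (iv D3501)
theorem F15412 : act 6 n3520 = n3476 := d23_2 (iv F15097) D3520 (iv D3476)
theorem F15413 : act 7 n3520 = n3520 := d24_2 D3457 D3520 (iv D3520) (iv D3457) F14571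
theorem F15414 : act 8 n3520 = n3463 := d25_2 (iv F15098) D3520 (iv D3463)
def n3521 : Q := act 4 n3458
theorem D3521 : act 4 n3458 = n3521 := rfl
theorem F15415 : act 0 n3521 = n3505 := d3_1 D3521 (iv F15386) F15383
theorem F15416 : act 1 n3521 = n3504 := d10_1 D3521 (iv F15410) F15408
theorem F15417 : act 3 n3521 = n3482 := d21_1 D3521 F15226 (iv F15039) F15040 D3458
theorem F15418 : act 6 n3521 = n3483 := d27_2 F15396 D3521 (iv F15394)
theorem F15419 : act 7 n3521 = n3521 := d28_2 F15100 D3521 (iv D3521)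
theorem F15420 : act 8 n3521 = n3464 := d29_2 (iv F15101) D3521 (iv D3464)
theorem F15421 : act 5 n3503 = n3521 := d36_3 D3275 D3416 D3503 (iv D3521) (iv D3458) (iv F15093) F15094 F14699 (iv F14599) (iv D3348) F13821 F12844 F11807 (iv F11818) F11817 F11041 F11042 (iv D2254) (iv D2008) F8087 F8088 (iv F8980) (iv F9958) (iv F10743) F10744 F10745 F9727 (iv F10415) (iv F11402) (iv F12103) D3021 F13140 F13139 F12104 F11035 D2515 D2781 D3034 (iv F14132) (iv F14553) (iv D3340) (iv F14483) F14484 F13894 F13250 (iv D3049) F12240 F11309 F10284 F9242 F9241 F8330 F7601 (iv D1509) (iv D1323) F5299 F4510 F4509 (iv F4540) (iv F5329) F5330 F5331 F4533 (iv F5213) (iv F6052) F6053 (iv F6005) F6004 F6003 F5186 F5187 (iv F5870) (iv D1262) F5063 (iv F5011) (iv F5740) (iv F6527) (iv F7289) (iv F8086) F8087 F8089 (iv F8569) (iv F9471) F9472 D2380 (iv F11404) (iv F12432) (iv F13337) F13338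
def n3522 : Q := act 3 n3459
theorem D3522 : act 3 n3459 = n3522 := rfl
theorem F15422 : act 0 n3522 = n3502 := d2_1 D3522 (iv D3502) (iv F15102)
theorem F15423 : act 1 n3522 = n3483 := d9_1 D3522 (iv D3483) (iv F15103)
theorem F15424 : act 2 n3522 = n3490 := d15_1 D3522 (iv D3490) (iv F15009) F15010 (iv F15104)
theorem F15425 : act 4 n3522 = n3476 := d21_2 (iv F15105) D3522 (iv D3476) F14704 (iv F14849)
theorem F15426 : act 5 n3522 = n3460 := d22_2 (iv F15106) D3522 (iv D3460)
theorem F15427 : act 6 n3522 = n3504 := d23_2 (iv F15107) D3522 (iv D3504)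
theorem F15428 : act 7 n3522 = n3522 := d24_2 D3459 D3522 (iv D3522) (iv D3459) F14581
theorem F15429 : act 8 n3522 = n3466 := d25_2 (iv F15108) D3522 (iv D3466)
def n3523 : Q := act 2 n3460
theorem D3523 : act 2 n3460 = n3523 := rfl
theorem F15430 : act 0 n3523 = n3501 := d1_1 D3523 (iv F15393) F15391
theorem F15431 : act 3 n3523 = n3489 := d15_2 D3460 D3523 F15259 (iv F15039) F15038
theorem F15432 : act 5 n3523 = n3490 := d17_2 F15426 D3523 (iv F15424)
theorem F15433 : act 6 n3523 = n3506 := d18_2 F15388 D3523 (iv F15385)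
theorem F15434 : act 7 n3523 = n3523 := d19_2 F15110 D3523 (iv D3523)
theorem F15435 : act 8 n3523 = n3467 := d20_2 (iv F15111) D3523 (iv D3467)
theorem F15436 : act 1 n3492 = n3523 := d36_6 F13463 (iv F14307) (iv D3299) (iv F14306) (iv F14796) D3492 (iv D3523) (iv D3460) F14587 (iv D3184) F12860 (iv F12877) F12876 F11835 F11304 F10411 F9498 (iv D2142) F8559 F7850 (iv D1553) (iv D1377) (iv D1196) F4766 F4767 F4057 (iv F4599) F4598 F4595 F4596 D1158 D1337 F6180 (iv F6215) F6216 (iv D1346) (iv D1162) (iv D983) D984 F4609 (iv F5395) (iv F6192) (iv F6998) (iv F7463) (iv F8217) D2036 F9111 F8421 (iv F8064) D1999 (iv F9876) (iv F10856) F10857 D2728 D2978 D3198 (iv F14653) (iv F14941) (iv D3435) F14353 F14354 (iv F14372) F14376 (iv D3311) F13545 F12708 (iv F13651) (iv F14459) F14457 F13736 F12860 (iv D2705) F10779 (iv F11813) D2955 F12858 F12343 F11292 F10402 (iv F10475) D2636 D2886 (iv F12815) F12816 F12319 F12318 F11494 (iv F12491) D3117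
def n3524 : Q := act 3 n3461
theorem D3524 : act 3 n3461 = n3524 := rfl
theorem F15437 : act 0 n3524 = n3504 := d2_1 D3524 (iv D3504) (iv F15112)
theorem F15438 : act 1 n3524 = n3485 := d9_1 D3524 (iv D3485) (iv F15113)
theorem F15439 : act 2 n3524 = n3476 := d15_1 D3524 (iv D3476) F14703 (iv F14658) (iv F15114)
theorem F15440 : act 4 n3524 = n3490 := d21_2 (iv F15115) D3524 (iv D3490) F14787 (iv F14596)
theorem F15441 : act 5 n3524 = n3500 := d22_2 (iv F15116) D3524 (iv D3500)
theorem F15442 : act 6 n3524 = n3502 := d23_2 (iv F15117) D3524 (iv D3502)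
theorem F15443 : act 7 n3524 = n3524 := d24_2 D3461 D3524 (iv D3524) (iv D3461) F14591
theorem F15444 : act 8 n3524 = n3498 := d25_2 (iv F15118) D3524 (iv D3498)
def n3525 : Q := act 3 n3462
theorem D3525 : act 3 n3462 = n3525 := rfl
theorem F15445 : act 0 n3525 = n3463 := d2_1 D3525 (iv D3463) (iv F15119)
theorem F15446 : act 1 n3525 = n3479 := d9_1 D3525 (iv D3479) (iv F15120)
theorem F15447 : act 2 n3525 = n3466 := d15_1 D3525 (iv D3466) (iv F15060) F15061 (iv F15121)
theorem F15448 : act 4 n3525 = n3498 := d21_2 (iv F15122) D3525 (iv D3498) F14834 (iv F14699)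
theorem F15449 : act 5 n3525 = n3467 := d22_2 (iv F15123) D3525 F15144
theorem F15450 : act 6 n3525 = n3474 := d23_2 (iv F15124) D3525 (iv D3474)
theorem F15451 : act 7 n3525 = n3469 := d24_2 D3462 D3525 F15156 (iv D3358) (iv F14603)
theorem F15452 : act 8 n3525 = n3490 := d25_2 (iv F15125) D3525 (iv D3490)
def n3526 : Q := act 4 n3463
theorem D3526 : act 4 n3463 = n3526 := rfl
theorem F15453 : act 0 n3526 = n3498 := d3_1 D3526 (iv F15448) F15445
theorem F15454 : act 1 n3526 = n3464 := d10_1 D3526 (iv D3464) (iv F15126)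
theorem F15455 : act 2 n3526 = n3474 := d16_1 D3526 (iv F15402) F15401
theorem F15456 : act 3 n3526 = n3465 := d21_1 D3526 F15136 (iv F15010) F15011 D3463
theorem F15457 : act 5 n3526 = n3475 := d26_2 (iv F15127) D3526 F15190 (iv F15280) F15279
theorem F15458 : act 6 n3526 = n3466 := d27_2 F15380 D3526 (iv F15378)
theorem F15459 : act 7 n3526 = n3468 := d28_2 (iv F15128) D3526 F15150
theorem F15460 : act 8 n3526 = n3504 := d29_2 F15414 D3526 (iv F15410)
def n3527 : Q := act 5 n3464
theorem D3527 : act 5 n3464 = n3527 := rfl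
theorem F15461 : act 0 n3527 = n3507 := d4_1 D3527 F15326 (iv F15129)
theorem F15462 : act 1 n3527 = n3475 := d11_1 D3527 (iv F15457) F15454
theorem F15463 : act 3 n3527 = n3486 := d22_1 D3527 F15247 (iv F15130)
theorem F15464 : act 4 n3527 = n3495 := d26_1 D3527 F15283 (iv D3420) (iv F14610) D3464
theorem F15465 : act 6 n3527 = n3487 := d30_2 (iv F15131) D3527 F15251 F14774 (iv F14802)
theorem F15466 : act 7 n3527 = n3471 := d31_2 (iv F15132) D3527 (iv D3471)
theorem F15467 : act 8 n3527 = n3503 := d32_2 F15420 D3527 F15421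
def n3528 : Q := act 1 n3467
theorem D3528 : act 1 n3467 = n3528 := rfl
theorem F15468 : act 0 n3528 = n3487 := d0_1 D3528 F15250 F14862 (iv F14881) (iv F15143)
theorem F15469 : act 2 n3528 = n3495 := d8_2 D3467 D3528 (iv D3495) (iv D3396) (iv F14622)
theorem F15470 : act 3 n3528 = n3478 := d9_2 (iv F15144) D3528 F15202
theorem F15471 : act 5 n3528 = n3479 := d11_2 F15449 D3528 (iv F15446)
theorem F15472 : act 6 n3528 = n3507 := d12_2 (iv F15145) D3528 F15325
theorem F15473 : act 7 n3528 = n3470 := d13_2 (iv F15146) D3528 (iv D3470)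
theorem F15474 : act 8 n3528 = n3492 := d14_2 F15435 D3528 F15436
def n3529 : Q := act 2 n3477
theorem D3529 : act 2 n3477 = n3529 := rfl
theorem F15475 : act 0 n3529 = n3484 := d1_1 D3529 (iv D3484) (iv F15196)
theorem F15476 : act 3 n3529 = n3488 := d15_2 D3477 D3529 (iv D3488) (iv D3387) (iv F14707)
theorem F15477 : act 4 n3529 = n3500 := d16_2 (iv F15197) D3529 F15306
theorem F15478 : act 6 n3529 = n3493 := d18_2 (iv F15198) D3529 (iv D3493)
theorem F15479 : act 7 n3529 = n3529 := d19_2 F15199 D3529 (iv D3529)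
theorem F15480 : act 8 n3529 = n3481 := d20_2 (iv F15200) D3529 (iv D3481)
def n3530 : Q := act 2 n3480
theorem D3530 : act 2 n3480 = n3530 := rfl
theorem F15481 : act 0 n3530 = n3493 := d1_1 D3530 (iv D3493) (iv F15214)
theorem F15482 : act 3 n3530 = n3481 := d15_2 D3480 D3530 (iv D3481) (iv D3377) (iv F14724)
theorem F15483 : act 4 n3530 = n3499 := d16_2 (iv F15215) D3530 F15301
theorem F15484 : act 6 n3530 = n3484 := d18_2 (iv F15216) D3530 (iv D3484)
theorem F15485 : act 7 n3530 = n3530 := d19_2 F15217 D3530 (iv D3530)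
theorem F15486 : act 8 n3530 = n3488 := d20_2 (iv F15218) D3530 (iv D3488)
def n3531 : Q := act 2 n3483
theorem D3531 : act 2 n3483 = n3531 := rfl
theorem F15487 : act 1 n3531 = n3493 := d8_1 D3531 (iv D3493) (iv F15264) (iv F15424) F15423
theorem F15488 : act 3 n3531 = n3495 := d15_2 D3483 D3531 (iv F15469) F15470 F15203
theorem F15489 : act 4 n3531 = n3501 := d16_2 F15394 D3531 (iv F15393)
theorem F15490 : act 5 n3531 = n3484 := d17_2 (iv F15230) D3531 (iv D3484)
theorem F15491 : act 7 n3531 = n3531 := d19_2 F15231 D3531 (iv D3531)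
theorem F15492 : act 8 n3531 = n3494 := d20_2 (iv F15232) D3531 (iv D3494)
def n3532 : Q := act 1 n3484
theorem D3532 : act 1 n3484 = n3532 := rfl
theorem F15493 : act 2 n3532 = n3492 := d8_2 D3484 D3532 F15436 (iv D3523) F15109
theorem F15494 : act 3 n3532 = n3494 := d9_2 (iv F15233) D3532 F15282
theorem F15495 : act 4 n3532 = n3503 := d10_2 (iv F15234) D3532 F15315
theorem F15496 : act 5 n3532 = n3493 := d11_2 F15490 D3532 (iv F15487)
theorem F15497 : act 7 n3532 = n3532 := d13_2 F15235 D3532 (iv D3532)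
theorem F15498 : act 8 n3532 = n3495 := d14_2 (iv F15236) D3532 (iv D3495)
def n3533 : Q := act 2 n3487
theorem D3533 : act 2 n3487 = n3533 := rfl
theorem F15499 : act 0 n3533 = n3495 := d1_1 D3533 (iv F15469) F15468
theorem F15500 : act 1 n3533 = n3508 := d8_1 D3533 (iv D3508) F14904 (iv F14863) (iv F15250)
theorem F15501 : act 5 n3533 = n3488 := d17_2 (iv F15251) D3533 (iv D3488)
theorem F15502 : act 7 n3533 = n3496 := d19_2 (iv F15252) D3533 (iv D3496)
theorem F15503 : act 4 n3507 = n3533 := d28_3 F15502 (iv F15290) (iv F15327)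
def n3534 : Q := act 4 n3487
theorem D3534 : act 4 n3487 = n3534 := rfl
theorem F15504 : act 1 n3534 = n3488 := d10_1 D3534 F15254 (iv F15250)
theorem F15505 : act 2 n3534 = n3507 := d16_1 D3534 F15503 (iv D3533)
theorem F15506 : act 5 n3534 = n3508 := d26_2 (iv F15251) D3534 F15328 F14906 (iv F14773)
theorem F15507 : act 6 n3534 = n3495 := d27_2 F15465 D3534 (iv F15464)
theorem F15508 : act 7 n3534 = n3497 := d28_2 (iv F15252) D3534 (iv D3497)
def n3535 : Q := act 3 n3491
theorem D3535 : act 3 n3491 = n3535 := rfl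
theorem F15509 : act 0 n3535 = n3503 := d2_1 D3535 (iv D3503) (iv F15266)
theorem F15510 : act 1 n3535 = n3506 := d9_1 D3535 (iv D3506) (iv F15267)
theorem F15511 : act 5 n3535 = n3505 := d22_2 (iv F15270) D3535 (iv D3505)
theorem F15512 : act 6 n3535 = n3492 := d23_2 (iv F15271) D3535 (iv D3492)
theorem F15513 : act 7 n3535 = n3535 := d24_2 D3491 D3535 (iv D3535) (iv D3491) F14791
theorem F15514 : act 8 n3535 = n3507 := d25_2 (iv F15272) D3535 (iv D3507)
def n3536 : Q := act 4 n3492
theorem D3536 : act 4 n3492 = n3536 := rfl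
theorem F15515 : act 2 n3536 = n3503 := d16_1 D3536 (iv F15495) F15493
theorem F15516 : act 3 n3536 = n3508 := d21_1 D3536 F15328 (iv D3429) (iv F14796) D3492
theorem F15517 : act 7 n3536 = n3536 := d28_2 F15274 D3536 (iv D3536)
def n3537 : Q := act 2 n3505
theorem D3537 : act 2 n3505 = n3537 := rfl
theorem F15518 : act 4 n3537 = n3506 := d16_2 F15386 D3537 (iv F15385)
theorem F15519 : act 7 n3537 = n3537 := d19_2 F15320 D3537 (iv D3537)
theorem F15520 : act 8 n3537 = n3508 := d20_2 (iv F15321) D3537 (iv D3508)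
def n3538 : Q := act 4 n3509
theorem D3538 : act 4 n3509 = n3538 := rfl
theorem F15521 : act 0 n3538 = n3537 := d3_1 D3538 F15518 (iv F15330)
theorem F15522 : act 1 n3538 = n3529 := d10_1 D3538 F15477 (iv F15331)
theorem F15523 : act 2 n3538 = n3521 := d16_1 D3538 (iv D3521) (iv F15332)
theorem F15524 : act 3 n3538 = n3534 := d21_1 D3538 (iv D3534) (iv D3487) (iv F14965) D3509
theorem F15525 : act 5 n3538 = n3536 := d26_2 (iv F15333) D3538 (iv D3536) F15273 (iv F15239)
theorem F15526 : act 6 n3538 = n3531 := d27_2 (iv F15334) D3538 F15489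
theorem F15527 : act 7 n3538 = n3538 := d28_2 F15335 D3538 (iv D3538)
theorem F15528 : act 8 n3538 = n3512 := d29_2 (iv F15336) D3538 (iv D3512)
def n3539 : Q := act 2 n3510
theorem D3539 : act 2 n3510 = n3539 := rfl
theorem F15529 : act 0 n3539 = n3531 := d1_1 D3539 (iv D3531) (iv F15337)
theorem F15530 : act 1 n3539 = n3536 := d8_1 D3539 F15515 F15315 (iv F15180) (iv F15338)
theorem F15531 : act 3 n3539 = n3533 := d15_2 D3510 D3539 (iv D3533) (iv D3487) (iv F14971)
theorem F15532 : act 4 n3539 = n3523 := d16_2 (iv F15339) D3539 (iv D3523)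
theorem F15533 : act 5 n3539 = n3529 := d17_2 (iv F15340) D3539 (iv D3529)
theorem F15534 : act 6 n3539 = n3537 := d18_2 (iv F15341) D3539 (iv D3537)
theorem F15535 : act 7 n3539 = n3539 := d19_2 F15342 D3539 (iv D3539)
theorem F15536 : act 8 n3539 = n3513 := d20_2 (iv F15343) D3539 (iv D3513)
def n3540 : Q := act 2 n3511
theorem D3540 : act 2 n3511 = n3540 := rfl
theorem F15537 : act 0 n3540 = n3532 := d1_1 D3540 F15493 (iv F15344)
theorem F15538 : act 1 n3540 = n3537 := d8_1 D3540 (iv D3537) F15319 (iv F15301) (iv F15345)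
theorem F15539 : act 3 n3540 = n3513 := d15_2 D3511 D3540 (iv D3513) (iv D3442) (iv F14978)
theorem F15540 : act 5 n3540 = n3530 := d17_2 (iv F15346) D3540 (iv D3530)
theorem F15541 : act 6 n3540 = n3536 := d18_2 (iv F15347) D3540 F15515
theorem F15542 : act 7 n3540 = n3540 := d19_2 F15348 D3540 (iv D3540)
theorem F15543 : act 8 n3540 = n3533 := d20_2 (iv F15349) D3540 (iv D3533)
theorem F15544 : act 4 n3535 = n3540 := d29_3 F15543 (iv F15503) (iv F15514)
def n3541 : Q := act 4 n3511
theorem D3541 : act 4 n3511 = n3541 := rfl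
theorem F15545 : act 0 n3541 = n3536 := d3_1 D3541 (iv D3536) (iv F15344)
theorem F15546 : act 1 n3541 = n3530 := d10_1 D3541 F15483 (iv F15345)
theorem F15547 : act 2 n3541 = n3535 := d16_1 D3541 F15544 (iv D3540)
theorem F15548 : act 3 n3541 = n3512 := d21_1 D3541 (iv D3512) (iv D3441) (iv F14979) D3511
theorem F15549 : act 5 n3541 = n3537 := d26_2 (iv F15346) D3541 F15518 F15322 (iv F15215)
theorem F15550 : act 6 n3541 = n3532 := d27_2 (iv F15347) D3541 F15495
theorem F15551 : act 7 n3541 = n3541 := d28_2 F15348 D3541 (iv D3541)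
theorem F15552 : act 8 n3541 = n3534 := d29_2 (iv F15349) D3541 (iv D3534)
def n3542 : Q := act 5 n3512
theorem D3542 : act 5 n3512 = n3542 := rfl
theorem F15553 : act 0 n3542 = n3534 := d4_1 D3542 F15506 (iv F15350)
theorem F15554 : act 1 n3542 = n3513 := d11_1 D3542 F15357 (iv F15351)
theorem F15555 : act 2 n3542 = n3527 := d17_1 D3542 (iv D3527) (iv F15352)
theorem F15556 : act 3 n3542 = n3537 := d22_1 D3542 (iv F15549) F15548
theorem F15557 : act 4 n3542 = n3528 := d26_1 D3542 F15471 F15209 (iv F14986) D3512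
theorem F15558 : act 6 n3542 = n3533 := d30_2 (iv F15353) D3542 F15501 F15255 (iv F15280)
theorem F15559 : act 7 n3542 = n3514 := d31_2 (iv F15354) D3542 F15364
theorem F15560 : act 8 n3542 = n3536 := d32_2 F15528 D3542 (iv F15525)

end Cfsg.Agent.Helper17.Fi22aTC
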