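import Cfsg.Agent.Helper17.Fi22aTC.Facts2

set_option autoImplicit false
set_option linter.all false
set_option maxRecDepth 100000

noncomputable section

namespace Cfsg.Agent.Helper17.Fi22aTC

def N : ℕ := 3510

def nl : ℕ := 9

def parT : ℕ := 2054082388771493495082528867307562622794707251412320373034222571332892395575789468144797512959103050285330167804612114725698867978230165032521025773788136175427122617180429998866159691094156025612333506899629625569507810320908244491449422226749105777291802612803638553062994198161719567239538565429816156565823775379869848871470198758492189184697894202199011945338721909245598552195672406479757650102852385283358646229742085617050828019288015826125581767207204555650532407388125743947572631522700557854953887828040454056063037506185409726372689847911772338884210635674701137199985343814344254068404852575234272341196841604489700593844781955457160577991420214029860958758398926441652517244795369116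5230990365088313431125141869071257308569813433575762689019004507955805085493740612254038664431530235248008614225254452703188477874346560851051460739128849827012640143554906511801361464435384861427847631408711423796886635064425558568631989254674689018819453896411924881995877142446734338414237709383133185169131509679472621298848653665915705163824303086335763769463311893724710234511983110723309748868743437890597791801738343698407868446884044600166249316542877776261358695546347560030698400331441708437938730960921025421549097069230121474386250259786829097025215829318635758525275818979053249995230374828213956451425114263678568402455099687804396583342478493381128390007121305470586423557792465824377344670716351321944488502473036442247924300942878361080813196101760537172307480334570061479416360831837069702763397554582945181228111960397805804834777661623856560554214181428456559674813020425336564200080465333271326268432970796782130499530746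0995082159519327449728699727655081503643819926346198071211410324071353980078485821840464664991275839564753106111275347336412636555315061880487481713900002882476309457598848676737983321606509248811847839148074034576155621703780628978743562090804982128371147924886173347694201019342700788339869155121932125524684290942625986061237659056586069044403958833189843284574848103535866117354230695780315376487584327483602721088146251486128992374834192057186729864345662126798997955957942333577964845371699048820615679324459022930888952876383987113961565175434650645843548120390566192462796303740287374552237685599305518277597556887983746550517538542252015447634425916500307729632371207282973482260682583182606275568356740029641958339443666172477644954058217409641255191224879766647110810532237148470225811597498700518540352524662990133069390716608811074602659349165310703624177141244385503321722383263920654098328564780424891103151948053083721514102116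0458866745484306726712148195615977707706737532270160368203493195673654700290977426258620475539860941217209383407518476627244732218038856192059123348170160448450458547564783083974218139460502761105921247801341422137929085185137185914746995633542919371865779754394078853692380741117758448188459305925750785690449385143547052364318123379525262553874008074393594936881127712611422682602117333373777340523511322243362836369279701795211529634704448012144978925773193476616815324043984848681469823087360939244027262542478458055943935083385377064575091459011718305818202431166683676791434971641228948715632544569849844599588026713575990588204512001496331494126070405229838207762100216992562915525512690264929386908697379716276178913380682169789396862730185112193162176350878947644918581306728604274927301004973195032805763751113194956943428191878500768034846350225254230276711889824712164953892987983335317508840879361247555439480668613676528950808714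4843969754011172941477862443784861093561882386714556026277588738896374664901685232548538435819163027869819472862007163545949052691281891448652057440635921074332951983103968465596386063259290413542708552190986035161989706916369880975392136192772762287740068481651087037959976462779581049320412968436239275615897835862801834329563342199288294077196887814509738315449486713866877022594243017379111377908993749629227366777038154303403169390884445509882648264998998526881747804373357677840557252426037706133023825967253537923714920785759546012706353463281338824850797260684819626412826084047236900079157626276625644568296724215753205362903812875030959405646342112069986814837220880837346282181137155083335060050216217002087762657594682038884340383951332540165896673283945870219631123136340359165555250231436661056961646897884321555822993408650367790662066008192950680042550408733362166283347377414596505922693605617357176152649566710683560381309074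5294404794128501368182169205800045066114456290793658275450022472142488434494860457592440437649757154762839349674588762759802360544548880627859922163372761523148605317539655538386245982008314593191284791763030086152300794446343677211429704235652138338037580193075253110117847862446644766325610241330013319049672910570523456590002884357470389706134756532667900120384261046658871851287139452076844407722939118807513784877207605264959190554215652414398701123947860617433472917290865943987130773847361449325529066951133247720927614321919484512387165978633601279098204795876205190695836861992404225912711449879808697418934546440936354498881898137455581482202468541288760970879539672399090941347798455569264900696229075794362344172455725642897200745503999088370189607982235467041850049384108142297871932885465636158113998023797875266334863239170635772634806157908939625122251360025965291927022459595482171645882081712939640742229623464633409633747253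6673133134127687894302306751614328350121490313216359269177972947488686085763448046850779476263434213279747390951624036651741829798549725865002640418852848230622694446804005445638939918706918039032792987107352767060178205039300119536044692722418671349634526182069880991027661647344705200044304018808507186788125047828535964834583383081580057045435853173501479723962602830724548833737371010884047991995495838263541351279876182184699240068559695981298753429376746067506362034428923130360593390763169883280377270835661733827720129133608306260116281063268304817164632870858373789285674739230043829182170482425080598180190807091971809569963049354859975781171135163499564686517190914822087681138465272081720403276336688983982010785106491230201158771731305351533635354283502149890266749257309865078173299613190147330124698910936043877381650805142115935039956125359030988152077881765939405226311957205033705947653793247659055055683189159380729309125871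6602927277661513310527813846276727229527639900432992126953795803918204016437036593655577535087927102640159601410643847802323604917115210836379856867946879012806323091233883235994908301012003335565772315367627225130761650347555379394371561384657814296655903722291406131887970627146179955723789774388193975026327691911706427020049197530493315281476751786142770759168664520035713516078175494945060180691488269096413255878480360852725135068949296367134808162919089910579453650875391850159734376830754771360232489255850562267440639593400643105315337641520825677477516471863334611350599115546094433963541711298524335733295373555578104704769086647992936848299238717960663234234907224441511000514921737679444432037503412778883784990520183548195312623438096719950758910673286622461816978329453182919547273316718347782433607201455975195773763540388510762600387196483153986966953004546952911334056869152359119203451308361575804920685821507592706452761741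3672341524887992687408310711928904236647184406495506655946008894289813221082464181059845987609332879824777247294820420094514890957250405682314806711085598189672473640685454847031905640547716856624627824295420279756550565406466697843779531604746187607828123560927721299156552166408917927105351621646374255201429080003896439773272119428574427144578425700270969073925596110891010911914777271983595699162733458098867188189341269189388095403818613062138284703301920374927941056685654119338413094584947309626102725969904864662013465296863138392053815447216404735114226800688932509572182033327327991729125891370166835471999227816413932756366588374360982711752012858308437519303402670739834615409149823627801775316980278892783433114153569070047441090478449620156885608505002768367717439153474145444435627562874223019492349699861937721569129424095736547448391774750991770518114059378228977199649417876362273145468246598161141836284216750870919311023937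2838593744108129694225798697756453205181187210150329467938216240347459386469597712512147197091699325150067210464865154500187705825238910723728370949131031245219993531286772221548466779719405524170110906512685947931861931710412503553943416388361189249925288545221469065706261517416427273204315247250317813174998754190492864988754340828291384829262367378464376287005756780817625685160022652028764172011204647034480529088271942537769826588991535969418496906537311059620166740957167445926836028994524228793543671060141185017069199599930698220921899476215107039445126754013383612431634126626926561962821039682406208853737957941513987789509349724301423304132037216889553107077288525133620723178555667786865349281869265476090930972262395576753101688459051713879715590333066723643495498747489363344964167150888877154858380539063051007545578669580283678322555127083333423092900928162081332725751014201402943121128530287099054880594650383002654252384265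5198406706417048052979377062869573949146352024688967903815781611853156219844607908722926920759940621976440310087439903221332630501889496285435849459599197651885010286635425058432657762221474265660490647584177981674584625569701161478142206830310392273100306283805895287722404548916935477823706803896194510908830648196241715858697492574698514486111999317328449315517666735732901569151048150477043357254384932585446538362582835433553701760743713323514398027051111142867060426542833999899225757834407488888966109967504991165134984179252036207555480611947411347088578898723291477833698280489341243494692658114023045099218299613745376250829590832544299327651673431498148386937142394310111773284547803853683343067731374962980161995121333044286102513302224743458359495429445654452478521561317470507197515152435331298761817027340855446929905036031388775007405981090297812907740233789960645228704302799937076872370144275450709139547058339487483260493211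6484413989134334472318528650498239965546472713596252905908521242441186028631937486144235373002325340400111009240074342734476958631079528443824472095626642946327757909112416733809333793155924071513583653559293862435387459755201450652780599535291954640953676123822241524303100770984228526650266873237149989976384584959855327700200156408271381842478088337542298493673840466760429446385330044610968087893080176491978656747175816914094065895499774828176376461390870755856907215286236856742551826195033853239581710954743697387550877259563322065542440675299651427654709526286522533844777173684343818987711213693036636820675699131640008019585186130852696194284400106793294072201912764762408514921915182534144664958186470947200513734508908961699807343717679453257585970597234490380919456834017976970156961399788932923468397892955796703666504372259167610689285438821879697340543168337090573396936037112203103550431650862523241153514807668102108471638154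9156333171706420154840449654360886884087810001553382091912931436745895825633229298914242371295796936952099904944960547551594862012633920970187612363372030110066251771131206905011549782929579866871923280424551514417040265826215463167226942755435937290095314245215314067735790592838683910225813340897474492446985695679148493793757076924610263979027552943763515558748625277956689775180233306036028415738090862688797862861622410132351987737439844129561771208119899617619072375738446028561251330157470346301380283135515367779442941926363398607494137057512097358682225499753785795372046849985942587019049615256271412737346451352252565878420109816316572440092968140247266117064957475449053143171381476633554051222322430466482129534377714195573900447635746502938849256895722629619035773788707496593161538233402580700019716748411202471417428296897825415118768674425016222672400708236709460124383668906682803166365028772197883984341376030982774396456053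0870713476461924116451332914344971113395978143541912168167353346231741700958036267353860260956065299178895363733524587100430300558185405009715485482268441100239360519531269331181303700916065689585625883673011284265479674661199775719559552807514485090519673882001394278508040790389001112127362674536019179041479742961183250048627399559174462773846405954189420794185361525959458242613990747432189903279833612453023575749184023988127980936185260957485064469537214457082701348290886219344819633287451867229958618812033510240144308584027024953071874916383800563500760658221257897258630608674449344311146443244300474321555930342895247612525718678885027273113211826778144768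

def pletT : ℕ := 950319812241109786160176561785775175301685866204285598374826715889923370136498535133822188851006054324000794207124391683315580299432129706594728191246139786480090359614385837881201078246661748106085469558584708776148835801010367631935510441411924229579480751304526795271766773016648626386121706467570965238632992410709979915497215218652039316658557907432953892375389208745325800717688483377992601757007428803239200293743221666932904509656041232846124425032893728945264166775767137422984249300616398765427663007816202319939396605214150850241551588339241805353654413182927658561659304682080698463246946240327753362307820229410308104391275465105798519088827580818317205816883846236778625914935388752294705724981789408293416839743406523197746145271590321312599198559480879810532856792190407289839498494558281713486400642216564902556697184757550487251928973886306406272234049152047008790732970456852466767477670570513539007091246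1288324969149621530116614842300887878654961159556947622255141877181958142920576609181228923714011551938705370800991003519016932914318351976127469033247656036696978871355355509904414561881337954391744743464209741290158468703078684333361646485690371352441970678976975544583596560081264715839301549602900868871379975306486000839841370831685429190763174042956933276068875078506099272656382455381099634409202745529762824705820353275744379182167498744814150208835426301439703990058414181763419918000020651815012557449121299645057571841744024505417444359388493449909183677762705868390993614775385567962165482321193645184368935574961831996703806269843456643667810493052472698584264936517281512822274905035437695694055727351441526080136972801383978464204290517278179603998606821911369870091573100832671474848340474485943862384988053120171722612464161383268307204494969467697156332901317155998356338905162631807361561291197902674680870588907266992722194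3019660363988526136326546494621693169676535670824704707613638587263361299587125137752837270476975182259746946696426861376883053155053056132173407316060437788567265665293067300623600619105505570298522874779260655360109665887842384252966450967319385418672780969165987752940982093004117214344165981985703905976899276155390099525869731205586034566086503783737517354135425096889866016795206454831935198263412916236570378634482083366613973486726637887652523567208138422812781701649855563393019245468861913186549709723739886225803002876298957978940591074855190068976863690874924949367902219206883752099281172976479212390494122104730671513213670428849995139855533534020235268375606169734531981131264537670353733650522898216568609598075591570503287683254003894845695930524192938808750127188923615882239100360701494265379293301895808544117855267684717514827465118302469439668833069694243472288763815507508885379845717699654820274932747486755129179724632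3315405214942482833862386746627020682307892149637520033499477166368733873230661962286126561205285592855783949486786761649233537030540742259089476078387147093879939356970051545517320523694688433965207210248752189982793490544522207008588654591269425816602020750799022326865852373827739214702364575897993479849385368439422247272630559364268851103930660624357924284735295323329641510689700113015206360052463171373308366030132570032960102671975691783644736875562552640982476853761038567253957992356724428948892755707155578583216785339136285225583048477531811629284564197384446010767158640086989817904579781170349399361925027983190789420397348590034844402441226588364559549681702452022238724499295880486472847215093424862059196096534183271578696988896424662140067643872203516140805928974115499117603706715977249743087292131612172614696725249013542711973445793514433061872061024702753156735184881158941950527344647376824756637100529594636304820903659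53485639174872150556753834136699713486156070449676852180582462923668722438080078172200603199261459824589046947838415693321395008039488218107688753665097241861028799312965440853895582474092801970399934676655710870799665163354116482035766485378649817140926819356910481731355062005574007537163116965404749792437591486409143301905991743880782058812841929598269308389082940689591732769183737657609413414402266760177916870685633724922759868026462691281494316115593158086672654352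

def par (i : ℕ) : ℕ := (parT >>> (12 * i)) &&& 4095

def plet (i : ℕ) : ℕ := (pletT >>> (4 * i)) &&& 15

def chk (i p l : ℕ) : Bool :=
  decide (0 < i) && decide (i < N) && decide (par i = p) && decide (p < i) && decide (plet i = l)

def nd (i : ℕ) : Q :=
  if h : 0 < i ∧ i < N ∧ par i < i then act (plet i) (nd (par i)) else n0
termination_by i
decreasing_by exact h.2.2

theorem nd_zero : nd 0 = n0 := by
  rw [nd, dif_neg]; omega

theorem nd_ge {i : ℕ} (h : N ≤ i) : nd i = n0 := by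
  rw [nd, dif_neg]; omega

theorem nd_step {i p l : ℕ} (h : chk i p l = true) : nd i = act l (nd p) := by
  simp only [chk, Bool.and_eq_true, decide_eq_true_eq] at h
  obtain ⟨⟨⟨⟨h1, h2⟩, h3⟩, h4⟩, h5⟩ := h
  rw [nd, dif_pos ⟨h1, h2, h3 ▸ h4⟩, h3, h5]

theorem ndS {i p l : ℕ} {y x : Q} (h : chk i p l = true) (e : nd p = y) (F : act l y = x) :
    nd i = x := by
  rw [nd_step h, e, F]

def P (i : ℕ) : Prop := ∀ l, l < nl → ∃ j, act l (nd i) = nd j

theorem tt {l j : ℕ} {x y : Q} (e : nd j = y) (F : act l x = y) : ∃ j, act l x = nd j :=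
  ⟨j, F.trans e.symm⟩

theorem allL {i : ℕ} {x : Q} (e : nd i = x) (h0 : ∃ j, act 0 x = nd j) (h1 : ∃ j, act 1 x = nd j) (h2 : ∃ j, act 2 x = nd j) (h3 : ∃ j, act 3 x = nd j) (h4 : ∃ j, act 4 x = nd j) (h5 : ∃ j, act 5 x = nd j) (h6 : ∃ j, act 6 x = nd j) (h7 : ∃ j, act 7 x = nd j) (h8 : ∃ j, act 8 x = nd j) : P i := by
  intro l hl; rw [e]; unfold nl at hl; interval_cases l <;> assumption

theorem stepQ (k : ℕ) (h : ∀ i, i < k → P i) (hk : P k) : ∀ i, i < k + 1 → P i := by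
  intro i hi
  rcases Nat.lt_succ_iff_lt_or_eq.mp hi with h1 | h1
  · exact h i h1
  · exact h1 ▸ hk

theorem Q0 : ∀ i, i < 0 → P i := fun i h => absurd h (Nat.not_lt_zero i)

theorem N0 : nd 0 = n0 := nd_zero

theorem N1 : nd 1 = n1 := ndS (p := 0) (l := 1) rfl N0 D1
theorem N2 : nd 2 = n2 := ndS (p := 1) (l := 0) rfl N1 D2
theorem N3 : nd 3 = n23 := ndS (p := 1) (l := 2) rfl N1 (iv F9)
theorem N4 : nd 4 = n6 := ndS (p := 2) (l := 2) rfl N2 F46
theorem N5 : nd 5 = n22 := ndS (p := 3) (l := 3) rfl N3 (iv D23)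
theorem N6 : nd 6 = n7 := ndS (p := 4) (l := 1) rfl N4 D7
theorem N7 : nd 7 = n24 := ndS (p := 4) (l := 3) rfl N4 D24
theorem N8 : nd 8 = n21 := ndS (p := 5) (l := 4) rfl N5 (iv D22)
theorem N9 : nd 9 = n48 := ndS (p := 5) (l := 7) rfl N5 (iv F225)
theorem N10 : nd 10 = n11 := ndS (p := 6) (l := 3) rfl N6 F68
theorem N11 : nd 11 = n45 := ndS (p := 7) (l := 4) rfl N7 F184
theorem N12 : nd 12 = n43 := ndS (p := 7) (l := 7) rfl N7 (iv F208)
theorem N13 : nd 13 = n51 := ndS (p := 8) (l := 5) rfl N8 D51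
theorem N14 : nd 14 = n20 := ndS (p := 8) (l := 7) rfl N8 (iv D21)
theorem N15 : nd 15 = n73 := ndS (p := 9) (l := 8) rfl N9 D73
theorem N16 : nd 16 = n12 := ndS (p := 10) (l := 2) rfl N10 D12
theorem N17 : nd 17 = n25 := ndS (p := 10) (l := 4) rfl N10 D25
theorem N18 : nd 18 = n26 := ndS (p := 10) (l := 7) rfl N10 D26
theorem N19 : nd 19 = n68 := ndS (p := 11) (l := 5) rfl N11 (iv F331)
theorem N20 : nd 20 = n19 := ndS (p := 11) (l := 7) rfl N11 (iv D45)
theorem N21 : nd 21 = n66 := ndS (p := 12) (l := 8) rfl N12 D66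
theorem N22 : nd 22 = n76 := ndS (p := 13) (l := 6) rfl N13 D76
theorem N23 : nd 23 = n49 := ndS (p := 13) (l := 7) rfl N13 F240
theorem N24 : nd 24 = n47 := ndS (p := 14) (l := 3) rfl N14 D47
theorem N25 : nd 25 = n50 := ndS (p := 14) (l := 8) rfl N14 D50
theorem N26 : nd 26 = n27 := ndS (p := 16) (l := 4) rfl N16 D27
theorem N27 : nd 27 = n15 := ndS (p := 16) (l := 7) rfl N16 F72
theorem N28 : nd 28 = n52 := ndS (p := 17) (l := 5) rfl N17 D52
theorem N29 : nd 29 = n18 := ndS (p := 17) (l := 7) rfl N17 F199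
theorem N30 : nd 30 = n53 := ndS (p := 18) (l := 8) rfl N18 D53
theorem N31 : nd 31 = n93 := ndS (p := 19) (l := 6) rfl N19 (iv F469)
theorem N32 : nd 32 = n44 := ndS (p := 19) (l := 7) rfl N19 (iv D68)
theorem N33 : nd 33 = n42 := ndS (p := 20) (l := 3) rfl N20 D42
theorem N34 : nd 34 = n46 := ndS (p := 20) (l := 8) rfl N20 D46
theorem N35 : nd 35 = n74 := ndS (p := 22) (l := 7) rfl N22 F376
theorem N36 : nd 36 = n71 := ndS (p := 23) (l := 3) rfl N23 (iv F345)
theorem N37 : nd 37 = n75 := ndS (p := 23) (l := 8) rfl N23 D75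
theorem N38 : nd 38 = n70 := ndS (p := 24) (l := 2) rfl N24 D70
theorem N39 : nd 39 = n72 := ndS (p := 24) (l := 8) rfl N24 D72
theorem N40 : nd 40 = n54 := ndS (p := 26) (l := 3) rfl N26 D54
theorem N41 : nd 41 = n55 := ndS (p := 26) (l := 5) rfl N26 D55
theorem N42 : nd 42 = n16 := ndS (p := 26) (l := 7) rfl N26 F121
theorem N43 : nd 43 = n28 := ndS (p := 27) (l := 3) rfl N27 D28
theorem N44 : nd 44 = n29 := ndS (p := 27) (l := 8) rfl N27 D29
theorem N45 : nd 45 = n77 := ndS (p := 28) (l := 6) rfl N28 D77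
theorem N46 : nd 46 = n39 := ndS (p := 28) (l := 7) rfl N28 F245
theorem N47 : nd 47 = n37 := ndS (p := 29) (l := 3) rfl N29 D37
theorem N48 : nd 48 = n41 := ndS (p := 29) (l := 8) rfl N29 D41
theorem N49 : nd 49 = n67 := ndS (p := 31) (l := 7) rfl N31 (iv D93)
theorem N50 : nd 50 = n64 := ndS (p := 32) (l := 3) rfl N32 (iv F309)
theorem N51 : nd 51 = n69 := ndS (p := 32) (l := 8) rfl N32 D69
theorem N52 : nd 52 = n63 := ndS (p := 33) (l := 2) rfl N33 D63
theorem N53 : nd 53 = n65 := ndS (p := 33) (l := 8) rfl N33 D65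
theorem N54 : nd 54 = n99 := ndS (p := 35) (l := 3) rfl N35 (iv F499)
theorem N55 : nd 55 = n102 := ndS (p := 35) (l := 8) rfl N35 D102
theorem N56 : nd 56 = n96 := ndS (p := 36) (l := 2) rfl N36 (iv F484)
theorem N57 : nd 57 = n98 := ndS (p := 36) (l := 4) rfl N36 D98
theorem N58 : nd 58 = n100 := ndS (p := 36) (l := 8) rfl N36 D100
theorem N59 : nd 59 = n95 := ndS (p := 38) (l := 1) rfl N38 D95
theorem N60 : nd 60 = n97 := ndS (p := 38) (l := 8) rfl N38 D97
theorem N61 : nd 61 = n101 := ndS (p := 39) (l := 7) rfl N39 D101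
theorem N62 : nd 62 = n78 := ndS (p := 40) (l := 5) rfl N40 D78
theorem N63 : nd 63 = n79 := ndS (p := 41) (l := 6) rfl N41 D79
theorem N64 : nd 64 = n31 := ndS (p := 41) (l := 7) rfl N41 F265
theorem N65 : nd 65 = n32 := ndS (p := 42) (l := 8) rfl N42 D32
theorem N66 : nd 66 = n56 := ndS (p := 43) (l := 8) rfl N43 D56
theorem N67 : nd 67 = n61 := ndS (p := 45) (l := 7) rfl N45 F382
theorem N68 : nd 68 = n59 := ndS (p := 46) (l := 3) rfl N46 (iv F287)
theorem N69 : nd 69 = n62 := ndS (p := 46) (l := 8) rfl N46 D62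
theorem N70 : nd 70 = n60 := ndS (p := 47) (l := 8) rfl N47 D60
theorem N71 : nd 71 = n90 := ndS (p := 49) (l := 3) rfl N49 (iv F452)
theorem N72 : nd 72 = n94 := ndS (p := 49) (l := 8) rfl N49 D94
theorem N73 : nd 73 = n87 := ndS (p := 50) (l := 2) rfl N50 (iv F439)
theorem N74 : nd 74 = n89 := ndS (p := 50) (l := 4) rfl N50 D89
theorem N75 : nd 75 = n91 := ndS (p := 50) (l := 8) rfl N50 D91
theorem N76 : nd 76 = n88 := ndS (p := 52) (l := 8) rfl N52 D88
theorem N77 : nd 77 = n92 := ndS (p := 53) (l := 7) rfl N53 D92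
theorem N78 : nd 78 = n120 := ndS (p := 54) (l := 2) rfl N54 (iv F603)
theorem N79 : nd 79 = n123 := ndS (p := 54) (l := 4) rfl N54 (iv F619)
theorem N80 : nd 80 = n125 := ndS (p := 54) (l := 8) rfl N54 D125
theorem N81 : nd 81 = n117 := ndS (p := 56) (l := 1) rfl N56 (iv F588)
theorem N82 : nd 82 = n119 := ndS (p := 56) (l := 4) rfl N56 D119
theorem N83 : nd 83 = n121 := ndS (p := 56) (l := 8) rfl N56 D121
theorem N84 : nd 84 = n124 := ndS (p := 57) (l := 8) rfl N57 D124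
theorem N85 : nd 85 = n126 := ndS (p := 58) (l := 7) rfl N58 D126
theorem N86 : nd 86 = n118 := ndS (p := 59) (l := 8) rfl N59 D118
theorem N87 : nd 87 = n122 := ndS (p := 60) (l := 7) rfl N60 D122
theorem N88 : nd 88 = n103 := ndS (p := 62) (l := 4) rfl N62 D103
theorem N89 : nd 89 = n104 := ndS (p := 62) (l := 6) rfl N62 D104
theorem N90 : nd 90 = n57 := ndS (p := 63) (l := 7) rfl N63 F395
theorem N91 : nd 91 = n58 := ndS (p := 64) (l := 8) rfl N64 D58
theorem N92 : nd 92 = n80 := ndS (p := 66) (l := 7) rfl N66 D80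
theorem N93 : nd 93 = n83 := ndS (p := 67) (l := 3) rfl N67 (iv F419)
theorem N94 : nd 94 = n86 := ndS (p := 67) (l := 8) rfl N67 D86
theorem N95 : nd 95 = n82 := ndS (p := 68) (l := 4) rfl N68 D82
theorem N96 : nd 96 = n84 := ndS (p := 68) (l := 8) rfl N68 D84
theorem N97 : nd 97 = n85 := ndS (p := 70) (l := 7) rfl N70 D85
theorem N98 : nd 98 = n110 := ndS (p := 71) (l := 2) rfl N71 (iv F558)
theorem N99 : nd 99 = n113 := ndS (p := 71) (l := 4) rfl N71 (iv F573)
theorem N100 : nd 100 = n115 := ndS (p := 71) (l := 8) rfl N71 D115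
theorem N101 : nd 101 = n109 := ndS (p := 73) (l := 4) rfl N73 D109
theorem N102 : nd 102 = n111 := ndS (p := 73) (l := 8) rfl N73 D111
theorem N103 : nd 103 = n114 := ndS (p := 74) (l := 8) rfl N74 D114
theorem N104 : nd 104 = n116 := ndS (p := 75) (l := 7) rfl N75 D116
theorem N105 : nd 105 = n112 := ndS (p := 76) (l := 7) rfl N76 D112
theorem N106 : nd 106 = n143 := ndS (p := 78) (l := 1) rfl N78 (iv F715)
theorem N107 : nd 107 = n147 := ndS (p := 78) (l := 4) rfl N78 (iv F737)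
theorem N108 : nd 108 = n149 := ndS (p := 78) (l := 8) rfl N78 D149
theorem N109 : nd 109 = n152 := ndS (p := 79) (l := 5) rfl N79 D152
theorem N110 : nd 110 = n153 := ndS (p := 79) (l := 8) rfl N79 D153
theorem N111 : nd 111 = n155 := ndS (p := 80) (l := 7) rfl N80 D155
theorem N112 : nd 112 = n142 := ndS (p := 81) (l := 4) rfl N81 D142
theorem N113 : nd 113 = n144 := ndS (p := 81) (l := 8) rfl N81 D144
theorem N114 : nd 114 = n146 := ndS (p := 82) (l := 3) rfl N82 D146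
theorem N115 : nd 115 = n148 := ndS (p := 82) (l := 8) rfl N82 D148
theorem N116 : nd 116 = n150 := ndS (p := 83) (l := 7) rfl N83 D150
theorem N117 : nd 117 = n154 := ndS (p := 84) (l := 7) rfl N84 D154
theorem N118 : nd 118 = n145 := ndS (p := 86) (l := 7) rfl N86 D145
theorem N119 : nd 119 = n151 := ndS (p := 87) (l := 3) rfl N87 D151
theorem N120 : nd 120 = n127 := ndS (p := 88) (l := 6) rfl N88 D127
theorem N121 : nd 121 = n81 := ndS (p := 90) (l := 8) rfl N90 D81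
theorem N122 : nd 122 = n105 := ndS (p := 93) (l := 4) rfl N93 (iv F536)
theorem N123 : nd 123 = n107 := ndS (p := 93) (l := 8) rfl N93 D107
theorem N124 : nd 124 = n106 := ndS (p := 95) (l := 8) rfl N95 D106
theorem N125 : nd 125 = n108 := ndS (p := 96) (l := 7) rfl N96 D108
theorem N126 : nd 126 = n133 := ndS (p := 98) (l := 4) rfl N98 (iv F671)
theorem N127 : nd 127 = n135 := ndS (p := 98) (l := 8) rfl N98 D135
theorem N128 : nd 128 = n138 := ndS (p := 99) (l := 5) rfl N99 D138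
theorem N129 : nd 129 = n139 := ndS (p := 99) (l := 8) rfl N99 D139
theorem N130 : nd 130 = n141 := ndS (p := 100) (l := 7) rfl N100 D141
theorem N131 : nd 131 = n132 := ndS (p := 101) (l := 3) rfl N101 D132
theorem N132 : nd 132 = n134 := ndS (p := 101) (l := 8) rfl N101 D134
theorem N133 : nd 133 = n136 := ndS (p := 102) (l := 7) rfl N102 D136
theorem N134 : nd 134 = n140 := ndS (p := 103) (l := 7) rfl N103 D140
theorem N135 : nd 135 = n137 := ndS (p := 105) (l := 3) rfl N105 D137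
theorem N136 : nd 136 = n173 := ndS (p := 106) (l := 4) rfl N106 (iv F868)
theorem N137 : nd 137 = n175 := ndS (p := 106) (l := 8) rfl N106 D175
theorem N138 : nd 138 = n178 := ndS (p := 107) (l := 3) rfl N107 (iv F893)
theorem N139 : nd 139 = n181 := ndS (p := 107) (l := 5) rfl N107 D181
theorem N140 : nd 140 = n182 := ndS (p := 107) (l := 8) rfl N107 D182
theorem N141 : nd 141 = n184 := ndS (p := 108) (l := 7) rfl N108 D184
theorem N142 : nd 142 = n187 := ndS (p := 109) (l := 8) rfl N109 D187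
theorem N143 : nd 143 = n188 := ndS (p := 110) (l := 7) rfl N110 D188
theorem N144 : nd 144 = n172 := ndS (p := 112) (l := 3) rfl N112 D172
theorem N145 : nd 145 = n174 := ndS (p := 112) (l := 8) rfl N112 D174
theorem N146 : nd 146 = n176 := ndS (p := 113) (l := 7) rfl N113 D176
theorem N147 : nd 147 = n179 := ndS (p := 114) (l := 7) rfl N114 D179
theorem N148 : nd 148 = n180 := ndS (p := 114) (l := 8) rfl N114 D180
theorem N149 : nd 149 = n183 := ndS (p := 115) (l := 7) rfl N115 D183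
theorem N150 : nd 150 = n185 := ndS (p := 116) (l := 3) rfl N116 D185
theorem N151 : nd 151 = n189 := ndS (p := 117) (l := 3) rfl N117 D189
theorem N152 : nd 152 = n177 := ndS (p := 118) (l := 3) rfl N118 D177
theorem N153 : nd 153 = n186 := ndS (p := 119) (l := 4) rfl N119 D186
theorem N154 : nd 154 = n156 := ndS (p := 120) (l := 5) rfl N120 D156
theorem N155 : nd 155 = n128 := ndS (p := 122) (l := 5) rfl N122 D128
theorem N156 : nd 156 = n129 := ndS (p := 122) (l := 8) rfl N122 D129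
theorem N157 : nd 157 = n131 := ndS (p := 123) (l := 7) rfl N123 D131
theorem N158 : nd 158 = n130 := ndS (p := 124) (l := 7) rfl N124 D130
theorem N159 : nd 159 = n160 := ndS (p := 126) (l := 3) rfl N126 (iv F805)
theorem N160 : nd 160 = n163 := ndS (p := 126) (l := 5) rfl N126 D163
theorem N161 : nd 161 = n164 := ndS (p := 126) (l := 8) rfl N126 D164
theorem N162 : nd 162 = n166 := ndS (p := 127) (l := 7) rfl N127 D166
theorem N163 : nd 163 = n169 := ndS (p := 128) (l := 8) rfl N128 D169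
theorem N164 : nd 164 = n170 := ndS (p := 129) (l := 7) rfl N129 D170
theorem N165 : nd 165 = n161 := ndS (p := 131) (l := 7) rfl N131 D161
theorem N166 : nd 166 = n162 := ndS (p := 131) (l := 8) rfl N131 D162
theorem N167 : nd 167 = n165 := ndS (p := 132) (l := 7) rfl N132 D165
theorem N168 : nd 168 = n167 := ndS (p := 133) (l := 3) rfl N133 D167
theorem N169 : nd 169 = n171 := ndS (p := 134) (l := 3) rfl N134 D171
theorem N170 : nd 170 = n168 := ndS (p := 135) (l := 4) rfl N135 D168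
theorem N171 : nd 171 = n208 := ndS (p := 136) (l := 3) rfl N136 (iv F1041)
theorem N172 : nd 172 = n211 := ndS (p := 136) (l := 5) rfl N136 D211
theorem N173 : nd 173 = n212 := ndS (p := 136) (l := 8) rfl N136 D212
theorem N174 : nd 174 = n214 := ndS (p := 137) (l := 7) rfl N137 D214
theorem N175 : nd 175 = n218 := ndS (p := 138) (l := 5) rfl N138 D218
theorem N176 : nd 176 = n219 := ndS (p := 138) (l := 7) rfl N138 D219
theorem N177 : nd 177 = n220 := ndS (p := 138) (l := 8) rfl N138 D220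
theorem N178 : nd 178 = n223 := ndS (p := 139) (l := 8) rfl N139 D223
theorem N179 : nd 179 = n224 := ndS (p := 140) (l := 7) rfl N140 D224
theorem N180 : nd 180 = n226 := ndS (p := 141) (l := 3) rfl N141 D226
theorem N181 : nd 181 = n229 := ndS (p := 142) (l := 7) rfl N142 D229
theorem N182 : nd 182 = n230 := ndS (p := 143) (l := 3) rfl N143 D230
theorem N183 : nd 183 = n207 := ndS (p := 144) (l := 2) rfl N144 D207
theorem N184 : nd 184 = n209 := ndS (p := 144) (l := 7) rfl N144 D209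
theorem N185 : nd 185 = n210 := ndS (p := 144) (l := 8) rfl N144 D210
theorem N186 : nd 186 = n213 := ndS (p := 145) (l := 7) rfl N145 D213
theorem N187 : nd 187 = n215 := ndS (p := 146) (l := 3) rfl N146 D215
theorem N188 : nd 188 = n221 := ndS (p := 147) (l := 8) rfl N147 D221
theorem N189 : nd 189 = n222 := ndS (p := 148) (l := 7) rfl N148 D222
theorem N190 : nd 190 = n225 := ndS (p := 149) (l := 3) rfl N149 D225
theorem N191 : nd 191 = n227 := ndS (p := 150) (l := 4) rfl N150 D227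
theorem N192 : nd 192 = n231 := ndS (p := 151) (l := 2) rfl N151 D231
theorem N193 : nd 193 = n216 := ndS (p := 152) (l := 2) rfl N152 D216
theorem N194 : nd 194 = n217 := ndS (p := 152) (l := 4) rfl N152 D217
theorem N195 : nd 195 = n228 := ndS (p := 153) (l := 5) rfl N153 D228
theorem N196 : nd 196 = n157 := ndS (p := 155) (l := 8) rfl N155 D157
theorem N197 : nd 197 = n158 := ndS (p := 156) (l := 7) rfl N156 D158
theorem N198 : nd 198 = n159 := ndS (p := 158) (l := 3) rfl N158 D159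
theorem N199 : nd 199 = n193 := ndS (p := 159) (l := 5) rfl N159 D193
theorem N200 : nd 200 = n194 := ndS (p := 159) (l := 7) rfl N159 D194
theorem N201 : nd 201 = n195 := ndS (p := 159) (l := 8) rfl N159 D195
theorem N202 : nd 202 = n198 := ndS (p := 160) (l := 8) rfl N160 D198
theorem N203 : nd 203 = n199 := ndS (p := 161) (l := 7) rfl N161 D199
theorem N204 : nd 204 = n201 := ndS (p := 162) (l := 3) rfl N162 D201
theorem N205 : nd 205 = n204 := ndS (p := 163) (l := 7) rfl N163 D204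
theorem N206 : nd 206 = n205 := ndS (p := 164) (l := 3) rfl N164 D205
theorem N207 : nd 207 = n196 := ndS (p := 165) (l := 8) rfl N165 D196
theorem N208 : nd 208 = n197 := ndS (p := 166) (l := 7) rfl N166 D197
theorem N209 : nd 209 = n200 := ndS (p := 167) (l := 3) rfl N167 D200
theorem N210 : nd 210 = n202 := ndS (p := 168) (l := 4) rfl N168 D202
theorem N211 : nd 211 = n206 := ndS (p := 169) (l := 2) rfl N169 D206
theorem N212 : nd 212 = n203 := ndS (p := 170) (l := 5) rfl N170 D203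
theorem N213 : nd 213 = n252 := ndS (p := 171) (l := 2) rfl N171 (iv F1256)
theorem N214 : nd 214 = n255 := ndS (p := 171) (l := 5) rfl N171 D255
theorem N215 : nd 215 = n256 := ndS (p := 171) (l := 7) rfl N171 D256
theorem N216 : nd 216 = n257 := ndS (p := 171) (l := 8) rfl N171 D257
theorem N217 : nd 217 = n260 := ndS (p := 172) (l := 8) rfl N172 D260
theorem N218 : nd 218 = n261 := ndS (p := 173) (l := 7) rfl N173 D261
theorem N219 : nd 219 = n263 := ndS (p := 174) (l := 3) rfl N174 D263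
theorem N220 : nd 220 = n268 := ndS (p := 175) (l := 4) rfl N175 D268
theorem N221 : nd 221 = n269 := ndS (p := 175) (l := 7) rfl N175 D269
theorem N222 : nd 222 = n270 := ndS (p := 175) (l := 8) rfl N175 D270
theorem N223 : nd 223 = n271 := ndS (p := 176) (l := 8) rfl N176 D271
theorem N224 : nd 224 = n272 := ndS (p := 177) (l := 7) rfl N177 D272
theorem N225 : nd 225 = n275 := ndS (p := 178) (l := 7) rfl N178 D275
theorem N226 : nd 226 = n276 := ndS (p := 179) (l := 3) rfl N179 D276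
theorem N227 : nd 227 = n279 := ndS (p := 180) (l := 4) rfl N180 D279
theorem N228 : nd 228 = n282 := ndS (p := 181) (l := 3) rfl N181 D282
theorem N229 : nd 229 = n283 := ndS (p := 182) (l := 2) rfl N182 D283
theorem N230 : nd 230 = n253 := ndS (p := 183) (l := 7) rfl N183 D253
theorem N231 : nd 231 = n254 := ndS (p := 183) (l := 8) rfl N183 D254
theorem N232 : nd 232 = n258 := ndS (p := 184) (l := 8) rfl N184 D258
theorem N233 : nd 233 = n259 := ndS (p := 185) (l := 7) rfl N185 D259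
theorem N234 : nd 234 = n262 := ndS (p := 186) (l := 3) rfl N186 D262
theorem N235 : nd 235 = n264 := ndS (p := 187) (l := 2) rfl N187 D264
theorem N236 : nd 236 = n265 := ndS (p := 187) (l := 4) rfl N187 D265
theorem N237 : nd 237 = n273 := ndS (p := 188) (l := 7) rfl N188 D273
theorem N238 : nd 238 = n274 := ndS (p := 189) (l := 3) rfl N189 D274
theorem N239 : nd 239 = n277 := ndS (p := 190) (l := 2) rfl N190 D277
theorem N240 : nd 240 = n278 := ndS (p := 190) (l := 4) rfl N190 D278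
theorem N241 : nd 241 = n280 := ndS (p := 191) (l := 5) rfl N191 D280
theorem N242 : nd 242 = n284 := ndS (p := 192) (l := 1) rfl N192 D284
theorem N243 : nd 243 = n266 := ndS (p := 193) (l := 4) rfl N193 D266
theorem N244 : nd 244 = n267 := ndS (p := 194) (l := 5) rfl N194 D267
theorem N245 : nd 245 = n281 := ndS (p := 195) (l := 6) rfl N195 D281
theorem N246 : nd 246 = n190 := ndS (p := 196) (l := 7) rfl N196 D190
theorem N247 : nd 247 = n191 := ndS (p := 197) (l := 3) rfl N197 D191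
theorem N248 : nd 248 = n192 := ndS (p := 198) (l := 2) rfl N198 D192
theorem N249 : nd 249 = n235 := ndS (p := 199) (l := 4) rfl N199 D235
theorem N250 : nd 250 = n236 := ndS (p := 199) (l := 7) rfl N199 D236
theorem N251 : nd 251 = n237 := ndS (p := 199) (l := 8) rfl N199 D237
theorem N252 : nd 252 = n238 := ndS (p := 200) (l := 8) rfl N200 D238
theorem N253 : nd 253 = n239 := ndS (p := 201) (l := 7) rfl N201 D239
theorem N254 : nd 254 = n242 := ndS (p := 202) (l := 7) rfl N202 D242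
theorem N255 : nd 255 = n243 := ndS (p := 203) (l := 3) rfl N203 D243
theorem N256 : nd 256 = n246 := ndS (p := 204) (l := 4) rfl N204 D246
theorem N257 : nd 257 = n249 := ndS (p := 205) (l := 3) rfl N205 D249
theorem N258 : nd 258 = n250 := ndS (p := 206) (l := 2) rfl N206 D250
theorem N259 : nd 259 = n240 := ndS (p := 207) (l := 7) rfl N207 D240
theorem N260 : nd 260 = n241 := ndS (p := 208) (l := 3) rfl N208 D241
theorem N261 : nd 261 = n244 := ndS (p := 209) (l := 2) rfl N209 D244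
theorem N262 : nd 262 = n245 := ndS (p := 209) (l := 4) rfl N209 D245
theorem N263 : nd 263 = n247 := ndS (p := 210) (l := 5) rfl N210 D247
theorem N264 : nd 264 = n251 := ndS (p := 211) (l := 1) rfl N211 D251
theorem N265 : nd 265 = n248 := ndS (p := 212) (l := 6) rfl N212 D248
theorem N266 : nd 266 = n310 := ndS (p := 213) (l := 5) rfl N213 D310
theorem N267 : nd 267 = n311 := ndS (p := 213) (l := 7) rfl N213 D311
theorem N268 : nd 268 = n312 := ndS (p := 213) (l := 8) rfl N213 D312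
theorem N269 : nd 269 = n316 := ndS (p := 214) (l := 4) rfl N214 D316
theorem N270 : nd 270 = n317 := ndS (p := 214) (l := 7) rfl N214 D317
theorem N271 : nd 271 = n318 := ndS (p := 214) (l := 8) rfl N214 D318
theorem N272 : nd 272 = n319 := ndS (p := 215) (l := 8) rfl N215 D319
theorem N273 : nd 273 = n320 := ndS (p := 216) (l := 7) rfl N216 D320
theorem N274 : nd 274 = n323 := ndS (p := 217) (l := 7) rfl N217 D323
theorem N275 : nd 275 = n324 := ndS (p := 218) (l := 3) rfl N218 D324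
theorem N276 : nd 276 = n327 := ndS (p := 219) (l := 2) rfl N219 D327
theorem N277 : nd 277 = n328 := ndS (p := 219) (l := 4) rfl N219 D328
theorem N278 : nd 278 = n334 := ndS (p := 220) (l := 7) rfl N220 D334
theorem N279 : nd 279 = n335 := ndS (p := 220) (l := 8) rfl N220 D335
theorem N280 : nd 280 = n336 := ndS (p := 221) (l := 8) rfl N221 D336
theorem N281 : nd 281 = n337 := ndS (p := 222) (l := 7) rfl N222 D337
theorem N282 : nd 282 = n338 := ndS (p := 223) (l := 7) rfl N223 D338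
theorem N283 : nd 283 = n339 := ndS (p := 224) (l := 3) rfl N224 D339
theorem N284 : nd 284 = n343 := ndS (p := 225) (l := 3) rfl N225 D343
theorem N285 : nd 285 = n344 := ndS (p := 226) (l := 2) rfl N226 D344
theorem N286 : nd 286 = n345 := ndS (p := 226) (l := 4) rfl N226 D345
theorem N287 : nd 287 = n349 := ndS (p := 227) (l := 5) rfl N227 D349
theorem N288 : nd 288 = n351 := ndS (p := 228) (l := 2) rfl N228 D351
theorem N289 : nd 289 = n352 := ndS (p := 228) (l := 4) rfl N228 D352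
theorem N290 : nd 290 = n353 := ndS (p := 229) (l := 1) rfl N229 D353
theorem N291 : nd 291 = n313 := ndS (p := 230) (l := 3) rfl N230 D313
theorem N292 : nd 292 = n314 := ndS (p := 230) (l := 8) rfl N230 D314
theorem N293 : nd 293 = n315 := ndS (p := 231) (l := 7) rfl N231 D315
theorem N294 : nd 294 = n321 := ndS (p := 232) (l := 7) rfl N232 D321
theorem N295 : nd 295 = n322 := ndS (p := 233) (l := 3) rfl N233 D322
theorem N296 : nd 296 = n325 := ndS (p := 234) (l := 2) rfl N234 D325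
theorem N297 : nd 297 = n326 := ndS (p := 234) (l := 4) rfl N234 D326
theorem N298 : nd 298 = n329 := ndS (p := 235) (l := 4) rfl N235 D329
theorem N299 : nd 299 = n330 := ndS (p := 236) (l := 5) rfl N236 D330
theorem N300 : nd 300 = n340 := ndS (p := 237) (l := 3) rfl N237 D340
theorem N301 : nd 301 = n341 := ndS (p := 238) (l := 2) rfl N238 D341
theorem N302 : nd 302 = n342 := ndS (p := 238) (l := 4) rfl N238 D342
theorem N303 : nd 303 = n346 := ndS (p := 239) (l := 1) rfl N239 D346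
theorem N304 : nd 304 = n347 := ndS (p := 239) (l := 4) rfl N239 D347
theorem N305 : nd 305 = n348 := ndS (p := 240) (l := 5) rfl N240 D348
theorem N306 : nd 306 = n350 := ndS (p := 241) (l := 6) rfl N241 D350
theorem N307 : nd 307 = n354 := ndS (p := 242) (l := 0) rfl N242 D354
theorem N308 : nd 308 = n331 := ndS (p := 243) (l := 3) rfl N243 D331
theorem N309 : nd 309 = n332 := ndS (p := 243) (l := 5) rfl N243 D332
theorem N310 : nd 310 = n333 := ndS (p := 244) (l := 6) rfl N244 D333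
theorem N311 : nd 311 = n232 := ndS (p := 246) (l := 3) rfl N246 D232
theorem N312 : nd 312 = n233 := ndS (p := 247) (l := 2) rfl N247 D233
theorem N313 : nd 313 = n234 := ndS (p := 248) (l := 1) rfl N248 D234
theorem N314 : nd 314 = n289 := ndS (p := 249) (l := 7) rfl N249 D289
theorem N315 : nd 315 = n290 := ndS (p := 249) (l := 8) rfl N249 D290
theorem N316 : nd 316 = n291 := ndS (p := 250) (l := 8) rfl N250 D291
theorem N317 : nd 317 = n292 := ndS (p := 251) (l := 7) rfl N251 D292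
theorem N318 : nd 318 = n293 := ndS (p := 252) (l := 7) rfl N252 D293
theorem N319 : nd 319 = n294 := ndS (p := 253) (l := 3) rfl N253 D294
theorem N320 : nd 320 = n298 := ndS (p := 254) (l := 3) rfl N254 D298
theorem N321 : nd 321 = n299 := ndS (p := 255) (l := 2) rfl N255 D299
theorem N322 : nd 322 = n300 := ndS (p := 255) (l := 4) rfl N255 D300
theorem N323 : nd 323 = n304 := ndS (p := 256) (l := 5) rfl N256 D304
theorem N324 : nd 324 = n306 := ndS (p := 257) (l := 2) rfl N257 D306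
theorem N325 : nd 325 = n307 := ndS (p := 257) (l := 4) rfl N257 D307
theorem N326 : nd 326 = n308 := ndS (p := 258) (l := 1) rfl N258 D308
theorem N327 : nd 327 = n295 := ndS (p := 259) (l := 3) rfl N259 D295
theorem N328 : nd 328 = n296 := ndS (p := 260) (l := 2) rfl N260 D296
theorem N329 : nd 329 = n297 := ndS (p := 260) (l := 4) rfl N260 D297
theorem N330 : nd 330 = n301 := ndS (p := 261) (l := 1) rfl N261 D301
theorem N331 : nd 331 = n302 := ndS (p := 261) (l := 4) rfl N261 D302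
theorem N332 : nd 332 = n303 := ndS (p := 262) (l := 5) rfl N262 D303
theorem N333 : nd 333 = n305 := ndS (p := 263) (l := 6) rfl N263 D305
theorem N334 : nd 334 = n309 := ndS (p := 264) (l := 0) rfl N264 D309
theorem N335 : nd 335 = n384 := ndS (p := 266) (l := 4) rfl N266 D384
theorem N336 : nd 336 = n385 := ndS (p := 266) (l := 7) rfl N266 D385
theorem N337 : nd 337 = n386 := ndS (p := 266) (l := 8) rfl N266 D386
theorem N338 : nd 338 = n387 := ndS (p := 267) (l := 3) rfl N267 D387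
theorem N339 : nd 339 = n388 := ndS (p := 267) (l := 8) rfl N267 D388
theorem N340 : nd 340 = n389 := ndS (p := 268) (l := 7) rfl N268 D389
theorem N341 : nd 341 = n394 := ndS (p := 269) (l := 7) rfl N269 D394
theorem N342 : nd 342 = n395 := ndS (p := 269) (l := 8) rfl N269 D395
theorem N343 : nd 343 = n396 := ndS (p := 270) (l := 8) rfl N270 D396
theorem N344 : nd 344 = n397 := ndS (p := 271) (l := 7) rfl N271 D397
theorem N345 : nd 345 = n398 := ndS (p := 272) (l := 7) rfl N272 D398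
theorem N346 : nd 346 = n399 := ndS (p := 273) (l := 3) rfl N273 D399
theorem N347 : nd 347 = n403 := ndS (p := 274) (l := 3) rfl N274 D403
theorem N348 : nd 348 = n404 := ndS (p := 275) (l := 2) rfl N275 D404
theorem N349 : nd 349 = n405 := ndS (p := 275) (l := 4) rfl N275 D405
theorem N350 : nd 350 = n409 := ndS (p := 276) (l := 4) rfl N276 D409
theorem N351 : nd 351 = n410 := ndS (p := 277) (l := 5) rfl N277 D410
theorem N352 : nd 352 = n417 := ndS (p := 278) (l := 3) rfl N278 D417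
theorem N353 : nd 353 = n418 := ndS (p := 278) (l := 8) rfl N278 D418
theorem N354 : nd 354 = n419 := ndS (p := 279) (l := 7) rfl N279 D419
theorem N355 : nd 355 = n420 := ndS (p := 280) (l := 7) rfl N280 D420
theorem N356 : nd 356 = n421 := ndS (p := 281) (l := 3) rfl N281 D421
theorem N357 : nd 357 = n422 := ndS (p := 282) (l := 3) rfl N282 D422
theorem N358 : nd 358 = n423 := ndS (p := 283) (l := 2) rfl N283 D423
theorem N359 : nd 359 = n424 := ndS (p := 283) (l := 4) rfl N283 D424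
theorem N360 : nd 360 = n430 := ndS (p := 284) (l := 2) rfl N284 D430
theorem N361 : nd 361 = n431 := ndS (p := 284) (l := 4) rfl N284 D431
theorem N362 : nd 362 = n432 := ndS (p := 285) (l := 1) rfl N285 D432
theorem N363 : nd 363 = n433 := ndS (p := 285) (l := 4) rfl N285 D433
theorem N364 : nd 364 = n434 := ndS (p := 286) (l := 5) rfl N286 D434
theorem N365 : nd 365 = n439 := ndS (p := 287) (l := 6) rfl N287 D439
theorem N366 : nd 366 = n440 := ndS (p := 288) (l := 1) rfl N288 D440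
theorem N367 : nd 367 = n441 := ndS (p := 288) (l := 4) rfl N288 D441
theorem N368 : nd 368 = n442 := ndS (p := 290) (l := 0) rfl N290 D442
theorem N369 : nd 369 = n390 := ndS (p := 291) (l := 4) rfl N291 D390
theorem N370 : nd 370 = n391 := ndS (p := 291) (l := 8) rfl N291 D391
theorem N371 : nd 371 = n392 := ndS (p := 292) (l := 7) rfl N292 D392
theorem N372 : nd 372 = n393 := ndS (p := 293) (l := 3) rfl N293 D393
theorem N373 : nd 373 = n400 := ndS (p := 294) (l := 3) rfl N294 D400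
theorem N374 : nd 374 = n401 := ndS (p := 295) (l := 2) rfl N295 D401
theorem N375 : nd 375 = n402 := ndS (p := 295) (l := 4) rfl N295 D402
theorem N376 : nd 376 = n406 := ndS (p := 296) (l := 1) rfl N296 D406
theorem N377 : nd 377 = n407 := ndS (p := 296) (l := 4) rfl N296 D407
theorem N378 : nd 378 = n408 := ndS (p := 297) (l := 5) rfl N297 D408
theorem N379 : nd 379 = n411 := ndS (p := 298) (l := 3) rfl N298 D411
theorem N380 : nd 380 = n412 := ndS (p := 298) (l := 5) rfl N298 D412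
theorem N381 : nd 381 = n413 := ndS (p := 299) (l := 6) rfl N299 D413
theorem N382 : nd 382 = n425 := ndS (p := 300) (l := 2) rfl N300 D425
theorem N383 : nd 383 = n426 := ndS (p := 300) (l := 4) rfl N300 D426
theorem N384 : nd 384 = n427 := ndS (p := 301) (l := 1) rfl N301 D427
theorem N385 : nd 385 = n428 := ndS (p := 301) (l := 4) rfl N301 D428
theorem N386 : nd 386 = n429 := ndS (p := 302) (l := 5) rfl N302 D429
theorem N387 : nd 387 = n435 := ndS (p := 303) (l := 0) rfl N303 D435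
theorem N388 : nd 388 = n436 := ndS (p := 303) (l := 4) rfl N303 D436
theorem N389 : nd 389 = n437 := ndS (p := 304) (l := 5) rfl N304 D437
theorem N390 : nd 390 = n438 := ndS (p := 305) (l := 6) rfl N305 D438
theorem N391 : nd 391 = n414 := ndS (p := 308) (l := 5) rfl N308 D414
theorem N392 : nd 392 = n415 := ndS (p := 308) (l := 7) rfl N308 D415
theorem N393 : nd 393 = n416 := ndS (p := 309) (l := 6) rfl N309 D416
theorem N394 : nd 394 = n285 := ndS (p := 311) (l := 2) rfl N311 D285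
theorem N395 : nd 395 = n286 := ndS (p := 311) (l := 4) rfl N311 D286
theorem N396 : nd 396 = n287 := ndS (p := 312) (l := 1) rfl N312 D287
theorem N397 : nd 397 = n288 := ndS (p := 313) (l := 0) rfl N313 D288
theorem N398 : nd 398 = n358 := ndS (p := 314) (l := 3) rfl N314 D358
theorem N399 : nd 399 = n359 := ndS (p := 314) (l := 8) rfl N314 D359
theorem N400 : nd 400 = n360 := ndS (p := 315) (l := 7) rfl N315 D360
theorem N401 : nd 401 = n361 := ndS (p := 316) (l := 7) rfl N316 D361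
theorem N402 : nd 402 = n362 := ndS (p := 317) (l := 3) rfl N317 D362
theorem N403 : nd 403 = n363 := ndS (p := 318) (l := 3) rfl N318 D363
theorem N404 : nd 404 = n364 := ndS (p := 319) (l := 2) rfl N319 D364
theorem N405 : nd 405 = n365 := ndS (p := 319) (l := 4) rfl N319 D365
theorem N406 : nd 406 = n371 := ndS (p := 320) (l := 2) rfl N320 D371
theorem N407 : nd 407 = n372 := ndS (p := 320) (l := 4) rfl N320 D372
theorem N408 : nd 408 = n373 := ndS (p := 321) (l := 1) rfl N321 D373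
theorem N409 : nd 409 = n374 := ndS (p := 321) (l := 4) rfl N321 D374
theorem N410 : nd 410 = n375 := ndS (p := 322) (l := 5) rfl N322 D375
theorem N411 : nd 411 = n380 := ndS (p := 323) (l := 6) rfl N323 D380
theorem N412 : nd 412 = n381 := ndS (p := 324) (l := 1) rfl N324 D381
theorem N413 : nd 413 = n382 := ndS (p := 324) (l := 4) rfl N324 D382
theorem N414 : nd 414 = n383 := ndS (p := 326) (l := 0) rfl N326 D383
theorem N415 : nd 415 = n366 := ndS (p := 327) (l := 2) rfl N327 D366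
theorem N416 : nd 416 = n367 := ndS (p := 327) (l := 4) rfl N327 D367
theorem N417 : nd 417 = n368 := ndS (p := 328) (l := 1) rfl N328 D368
theorem N418 : nd 418 = n369 := ndS (p := 328) (l := 4) rfl N328 D369
theorem N419 : nd 419 = n370 := ndS (p := 329) (l := 5) rfl N329 D370
theorem N420 : nd 420 = n376 := ndS (p := 330) (l := 0) rfl N330 D376
theorem N421 : nd 421 = n377 := ndS (p := 330) (l := 4) rfl N330 D377
theorem N422 : nd 422 = n378 := ndS (p := 331) (l := 5) rfl N331 D378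
theorem N423 : nd 423 = n379 := ndS (p := 332) (l := 6) rfl N332 D379
theorem N424 : nd 424 = n479 := ndS (p := 335) (l := 3) rfl N335 D479
theorem N425 : nd 425 = n480 := ndS (p := 335) (l := 7) rfl N335 D480
theorem N426 : nd 426 = n481 := ndS (p := 335) (l := 8) rfl N335 D481
theorem N427 : nd 427 = n482 := ndS (p := 336) (l := 3) rfl N336 D482
theorem N428 : nd 428 = n483 := ndS (p := 336) (l := 8) rfl N336 D483
theorem N429 : nd 429 = n484 := ndS (p := 337) (l := 7) rfl N337 D484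
theorem N430 : nd 430 = n485 := ndS (p := 338) (l := 4) rfl N338 D485
theorem N431 : nd 431 = n486 := ndS (p := 338) (l := 8) rfl N338 D486
theorem N432 : nd 432 = n487 := ndS (p := 339) (l := 7) rfl N339 D487
theorem N433 : nd 433 = n488 := ndS (p := 340) (l := 3) rfl N340 D488
theorem N434 : nd 434 = n495 := ndS (p := 341) (l := 3) rfl N341 D495
theorem N435 : nd 435 = n496 := ndS (p := 341) (l := 8) rfl N341 D496
theorem N436 : nd 436 = n497 := ndS (p := 342) (l := 7) rfl N342 D497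
theorem N437 : nd 437 = n498 := ndS (p := 343) (l := 7) rfl N343 D498
theorem N438 : nd 438 = n499 := ndS (p := 344) (l := 3) rfl N344 D499
theorem N439 : nd 439 = n500 := ndS (p := 345) (l := 3) rfl N345 D500
theorem N440 : nd 440 = n501 := ndS (p := 346) (l := 2) rfl N346 D501
theorem N441 : nd 441 = n502 := ndS (p := 346) (l := 4) rfl N346 D502
theorem N442 : nd 442 = n508 := ndS (p := 347) (l := 2) rfl N347 D508
theorem N443 : nd 443 = n509 := ndS (p := 347) (l := 4) rfl N347 D509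
theorem N444 : nd 444 = n510 := ndS (p := 348) (l := 1) rfl N348 D510
theorem N445 : nd 445 = n511 := ndS (p := 348) (l := 4) rfl N348 D511
theorem N446 : nd 446 = n512 := ndS (p := 349) (l := 5) rfl N349 D512
theorem N447 : nd 447 = n518 := ndS (p := 350) (l := 3) rfl N350 D518
theorem N448 : nd 448 = n519 := ndS (p := 350) (l := 5) rfl N350 D519
theorem N449 : nd 449 = n520 := ndS (p := 351) (l := 6) rfl N351 D520
theorem N450 : nd 450 = n528 := ndS (p := 352) (l := 2) rfl N352 D528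
theorem N451 : nd 451 = n529 := ndS (p := 352) (l := 8) rfl N352 D529
theorem N452 : nd 452 = n530 := ndS (p := 353) (l := 7) rfl N353 D530
theorem N453 : nd 453 = n531 := ndS (p := 354) (l := 3) rfl N354 D531
theorem N454 : nd 454 = n532 := ndS (p := 355) (l := 3) rfl N355 D532
theorem N455 : nd 455 = n533 := ndS (p := 356) (l := 2) rfl N356 D533
theorem N456 : nd 456 = n534 := ndS (p := 356) (l := 4) rfl N356 D534
theorem N457 : nd 457 = n535 := ndS (p := 357) (l := 2) rfl N357 D535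
theorem N458 : nd 458 = n536 := ndS (p := 357) (l := 4) rfl N357 D536
theorem N459 : nd 459 = n537 := ndS (p := 358) (l := 1) rfl N358 D537
theorem N460 : nd 460 = n538 := ndS (p := 358) (l := 4) rfl N358 D538
theorem N461 : nd 461 = n539 := ndS (p := 359) (l := 5) rfl N359 D539
theorem N462 : nd 462 = n548 := ndS (p := 360) (l := 1) rfl N360 D548
theorem N463 : nd 463 = n549 := ndS (p := 360) (l := 4) rfl N360 D549
theorem N464 : nd 464 = n550 := ndS (p := 361) (l := 5) rfl N361 D550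
theorem N465 : nd 465 = n551 := ndS (p := 362) (l := 0) rfl N362 D551
theorem N466 : nd 466 = n552 := ndS (p := 362) (l := 4) rfl N362 D552
theorem N467 : nd 467 = n553 := ndS (p := 363) (l := 5) rfl N363 D553
theorem N468 : nd 468 = n554 := ndS (p := 364) (l := 6) rfl N364 D554
theorem N469 : nd 469 = n558 := ndS (p := 366) (l := 0) rfl N366 D558
theorem N470 : nd 470 = n559 := ndS (p := 366) (l := 4) rfl N366 D559
theorem N471 : nd 471 = n560 := ndS (p := 367) (l := 3) rfl N367 D560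
theorem N472 : nd 472 = n489 := ndS (p := 369) (l := 5) rfl N369 D489
theorem N473 : nd 473 = n490 := ndS (p := 369) (l := 8) rfl N369 D490
theorem N474 : nd 474 = n491 := ndS (p := 370) (l := 7) rfl N370 D491
theorem N475 : nd 475 = n492 := ndS (p := 371) (l := 3) rfl N371 D492
theorem N476 : nd 476 = n493 := ndS (p := 372) (l := 2) rfl N372 D493
theorem N477 : nd 477 = n494 := ndS (p := 372) (l := 4) rfl N372 D494
theorem N478 : nd 478 = n503 := ndS (p := 373) (l := 2) rfl N373 D503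
theorem N479 : nd 479 = n504 := ndS (p := 373) (l := 4) rfl N373 D504
theorem N480 : nd 480 = n505 := ndS (p := 374) (l := 1) rfl N374 D505
theorem N481 : nd 481 = n506 := ndS (p := 374) (l := 4) rfl N374 D506
theorem N482 : nd 482 = n507 := ndS (p := 375) (l := 5) rfl N375 D507
theorem N483 : nd 483 = n513 := ndS (p := 376) (l := 0) rfl N376 D513
theorem N484 : nd 484 = n514 := ndS (p := 376) (l := 4) rfl N376 D514
theorem N485 : nd 485 = n515 := ndS (p := 377) (l := 3) rfl N377 D515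
theorem N486 : nd 486 = n516 := ndS (p := 377) (l := 5) rfl N377 D516
theorem N487 : nd 487 = n517 := ndS (p := 378) (l := 6) rfl N378 D517
theorem N488 : nd 488 = n521 := ndS (p := 379) (l := 5) rfl N379 D521
theorem N489 : nd 489 = n522 := ndS (p := 379) (l := 7) rfl N379 D522
theorem N490 : nd 490 = n523 := ndS (p := 380) (l := 6) rfl N380 D523
theorem N491 : nd 491 = n540 := ndS (p := 382) (l := 1) rfl N382 D540
theorem N492 : nd 492 = n541 := ndS (p := 382) (l := 4) rfl N382 D541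
theorem N493 : nd 493 = n542 := ndS (p := 383) (l := 5) rfl N383 D542
theorem N494 : nd 494 = n543 := ndS (p := 384) (l := 0) rfl N384 D543
theorem N495 : nd 495 = n544 := ndS (p := 384) (l := 4) rfl N384 D544
theorem N496 : nd 496 = n545 := ndS (p := 385) (l := 3) rfl N385 D545
theorem N497 : nd 497 = n546 := ndS (p := 385) (l := 5) rfl N385 D546
theorem N498 : nd 498 = n547 := ndS (p := 386) (l := 6) rfl N386 D547
theorem N499 : nd 499 = n555 := ndS (p := 387) (l := 4) rfl N387 D555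
theorem N500 : nd 500 = n556 := ndS (p := 388) (l := 5) rfl N388 D556
theorem N501 : nd 501 = n557 := ndS (p := 389) (l := 6) rfl N389 D557
theorem N502 : nd 502 = n525 := ndS (p := 391) (l := 6) rfl N391 D525
theorem N503 : nd 503 = n355 := ndS (p := 394) (l := 1) rfl N394 D355
theorem N504 : nd 504 = n356 := ndS (p := 394) (l := 4) rfl N394 D356
theorem N505 : nd 505 = n357 := ndS (p := 396) (l := 0) rfl N396 D357
theorem N506 : nd 506 = n446 := ndS (p := 398) (l := 2) rfl N398 D446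
theorem N507 : nd 507 = n447 := ndS (p := 398) (l := 8) rfl N398 D447
theorem N508 : nd 508 = n448 := ndS (p := 399) (l := 7) rfl N399 D448
theorem N509 : nd 509 = n449 := ndS (p := 400) (l := 3) rfl N400 D449
theorem N510 : nd 510 = n450 := ndS (p := 401) (l := 3) rfl N401 D450
theorem N511 : nd 511 = n451 := ndS (p := 402) (l := 2) rfl N402 D451
theorem N512 : nd 512 = n452 := ndS (p := 402) (l := 4) rfl N402 D452
theorem N513 : nd 513 = n453 := ndS (p := 403) (l := 2) rfl N403 D453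
theorem N514 : nd 514 = n454 := ndS (p := 403) (l := 4) rfl N403 D454
theorem N515 : nd 515 = n455 := ndS (p := 404) (l := 1) rfl N404 D455
theorem N516 : nd 516 = n456 := ndS (p := 404) (l := 4) rfl N404 D456
theorem N517 : nd 517 = n457 := ndS (p := 405) (l := 5) rfl N405 D457
theorem N518 : nd 518 = n466 := ndS (p := 406) (l := 1) rfl N406 D466
theorem N519 : nd 519 = n467 := ndS (p := 406) (l := 4) rfl N406 D467
theorem N520 : nd 520 = n468 := ndS (p := 407) (l := 5) rfl N407 D468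
theorem N521 : nd 521 = n469 := ndS (p := 408) (l := 0) rfl N408 D469
theorem N522 : nd 522 = n470 := ndS (p := 408) (l := 4) rfl N408 D470
theorem N523 : nd 523 = n471 := ndS (p := 409) (l := 5) rfl N409 D471
theorem N524 : nd 524 = n472 := ndS (p := 410) (l := 6) rfl N410 D472
theorem N525 : nd 525 = n476 := ndS (p := 412) (l := 0) rfl N412 D476
theorem N526 : nd 526 = n477 := ndS (p := 412) (l := 4) rfl N412 D477
theorem N527 : nd 527 = n478 := ndS (p := 413) (l := 3) rfl N413 D478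
theorem N528 : nd 528 = n458 := ndS (p := 415) (l := 1) rfl N415 D458
theorem N529 : nd 529 = n459 := ndS (p := 415) (l := 4) rfl N415 D459
theorem N530 : nd 530 = n460 := ndS (p := 416) (l := 5) rfl N416 D460
theorem N531 : nd 531 = n461 := ndS (p := 417) (l := 0) rfl N417 D461
theorem N532 : nd 532 = n462 := ndS (p := 417) (l := 4) rfl N417 D462
theorem N533 : nd 533 = n463 := ndS (p := 418) (l := 3) rfl N418 D463
theorem N534 : nd 534 = n464 := ndS (p := 418) (l := 5) rfl N418 D464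
theorem N535 : nd 535 = n465 := ndS (p := 419) (l := 6) rfl N419 D465
theorem N536 : nd 536 = n473 := ndS (p := 420) (l := 4) rfl N420 D473
theorem N537 : nd 537 = n474 := ndS (p := 421) (l := 5) rfl N421 D474
theorem N538 : nd 538 = n475 := ndS (p := 422) (l := 6) rfl N422 D475
theorem N539 : nd 539 = n603 := ndS (p := 424) (l := 8) rfl N424 D603
theorem N540 : nd 540 = n604 := ndS (p := 425) (l := 8) rfl N425 D604
theorem N541 : nd 541 = n605 := ndS (p := 426) (l := 7) rfl N426 D605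
theorem N542 : nd 542 = n606 := ndS (p := 427) (l := 8) rfl N427 D606
theorem N543 : nd 543 = n607 := ndS (p := 428) (l := 7) rfl N428 D607
theorem N544 : nd 544 = n608 := ndS (p := 429) (l := 3) rfl N429 D608
theorem N545 : nd 545 = n609 := ndS (p := 430) (l := 8) rfl N430 D609
theorem N546 : nd 546 = n610 := ndS (p := 431) (l := 7) rfl N431 D610
theorem N547 : nd 547 = n611 := ndS (p := 432) (l := 3) rfl N432 D611
theorem N548 : nd 548 = n612 := ndS (p := 433) (l := 2) rfl N433 D612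
theorem N549 : nd 549 = n613 := ndS (p := 433) (l := 4) rfl N433 D613
theorem N550 : nd 550 = n622 := ndS (p := 434) (l := 8) rfl N434 D622
theorem N551 : nd 551 = n623 := ndS (p := 435) (l := 7) rfl N435 D623
theorem N552 : nd 552 = n624 := ndS (p := 436) (l := 3) rfl N436 D624
theorem N553 : nd 553 = n625 := ndS (p := 437) (l := 3) rfl N437 D625
theorem N554 : nd 554 = n626 := ndS (p := 438) (l := 2) rfl N438 D626
theorem N555 : nd 555 = n627 := ndS (p := 438) (l := 4) rfl N438 D627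
theorem N556 : nd 556 = n628 := ndS (p := 439) (l := 2) rfl N439 D628
theorem N557 : nd 557 = n629 := ndS (p := 439) (l := 4) rfl N439 D629
theorem N558 : nd 558 = n630 := ndS (p := 440) (l := 1) rfl N440 D630
theorem N559 : nd 559 = n631 := ndS (p := 440) (l := 4) rfl N440 D631
theorem N560 : nd 560 = n632 := ndS (p := 441) (l := 5) rfl N441 D632
theorem N561 : nd 561 = n641 := ndS (p := 442) (l := 1) rfl N442 D641
theorem N562 : nd 562 = n642 := ndS (p := 442) (l := 4) rfl N442 D642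
theorem N563 : nd 563 = n643 := ndS (p := 443) (l := 5) rfl N443 D643
theorem N564 : nd 564 = n644 := ndS (p := 444) (l := 0) rfl N444 D644
theorem N565 : nd 565 = n645 := ndS (p := 444) (l := 4) rfl N444 D645
theorem N566 : nd 566 = n646 := ndS (p := 445) (l := 3) rfl N445 D646
theorem N567 : nd 567 = n647 := ndS (p := 445) (l := 5) rfl N445 D647
theorem N568 : nd 568 = n648 := ndS (p := 446) (l := 6) rfl N446 D648
theorem N569 : nd 569 = n655 := ndS (p := 447) (l := 5) rfl N447 D655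
theorem N570 : nd 570 = n656 := ndS (p := 447) (l := 7) rfl N447 D656
theorem N571 : nd 571 = n657 := ndS (p := 448) (l := 6) rfl N448 D657
theorem N572 : nd 572 = n666 := ndS (p := 450) (l := 8) rfl N450 D666
theorem N573 : nd 573 = n667 := ndS (p := 451) (l := 7) rfl N451 D667
theorem N574 : nd 574 = n668 := ndS (p := 452) (l := 3) rfl N452 D668
theorem N575 : nd 575 = n669 := ndS (p := 453) (l := 2) rfl N453 D669
theorem N576 : nd 576 = n670 := ndS (p := 453) (l := 4) rfl N453 D670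
theorem N577 : nd 577 = n671 := ndS (p := 454) (l := 2) rfl N454 D671
theorem N578 : nd 578 = n672 := ndS (p := 454) (l := 4) rfl N454 D672
theorem N579 : nd 579 = n673 := ndS (p := 455) (l := 1) rfl N455 D673
theorem N580 : nd 580 = n674 := ndS (p := 455) (l := 4) rfl N455 D674
theorem N581 : nd 581 = n675 := ndS (p := 456) (l := 5) rfl N456 D675
theorem N582 : nd 582 = n676 := ndS (p := 457) (l := 1) rfl N457 D676
theorem N583 : nd 583 = n677 := ndS (p := 457) (l := 4) rfl N457 D677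
theorem N584 : nd 584 = n678 := ndS (p := 458) (l := 5) rfl N458 D678
theorem N585 : nd 585 = n679 := ndS (p := 459) (l := 0) rfl N459 D679
theorem N586 : nd 586 = n680 := ndS (p := 459) (l := 4) rfl N459 D680
theorem N587 : nd 587 = n681 := ndS (p := 460) (l := 3) rfl N460 D681
theorem N588 : nd 588 = n682 := ndS (p := 460) (l := 5) rfl N460 D682
theorem N589 : nd 589 = n683 := ndS (p := 461) (l := 6) rfl N461 D683
theorem N590 : nd 590 = n694 := ndS (p := 462) (l := 0) rfl N462 D694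
theorem N591 : nd 591 = n695 := ndS (p := 462) (l := 4) rfl N462 D695
theorem N592 : nd 592 = n696 := ndS (p := 463) (l := 3) rfl N463 D696
theorem N593 : nd 593 = n697 := ndS (p := 463) (l := 5) rfl N463 D697
theorem N594 : nd 594 = n698 := ndS (p := 464) (l := 6) rfl N464 D698
theorem N595 : nd 595 = n699 := ndS (p := 465) (l := 4) rfl N465 D699
theorem N596 : nd 596 = n700 := ndS (p := 466) (l := 5) rfl N466 D700
theorem N597 : nd 597 = n701 := ndS (p := 467) (l := 6) rfl N467 D701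
theorem N598 : nd 598 = n704 := ndS (p := 469) (l := 4) rfl N469 D704
theorem N599 : nd 599 = n705 := ndS (p := 470) (l := 3) rfl N470 D705
theorem N600 : nd 600 = n706 := ndS (p := 471) (l := 7) rfl N471 D706
theorem N601 : nd 601 = n616 := ndS (p := 474) (l := 3) rfl N474 D616
theorem N602 : nd 602 = n617 := ndS (p := 475) (l := 2) rfl N475 D617
theorem N603 : nd 603 = n618 := ndS (p := 475) (l := 4) rfl N475 D618
theorem N604 : nd 604 = n619 := ndS (p := 476) (l := 1) rfl N476 D619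
theorem N605 : nd 605 = n620 := ndS (p := 476) (l := 4) rfl N476 D620
theorem N606 : nd 606 = n621 := ndS (p := 477) (l := 5) rfl N477 D621
theorem N607 : nd 607 = n633 := ndS (p := 478) (l := 1) rfl N478 D633
theorem N608 : nd 608 = n634 := ndS (p := 478) (l := 4) rfl N478 D634
theorem N609 : nd 609 = n635 := ndS (p := 479) (l := 5) rfl N479 D635
theorem N610 : nd 610 = n636 := ndS (p := 480) (l := 0) rfl N480 D636
theorem N611 : nd 611 = n637 := ndS (p := 480) (l := 4) rfl N480 D637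
theorem N612 : nd 612 = n638 := ndS (p := 481) (l := 3) rfl N481 D638
theorem N613 : nd 613 = n639 := ndS (p := 481) (l := 5) rfl N481 D639
theorem N614 : nd 614 = n640 := ndS (p := 482) (l := 6) rfl N482 D640
theorem N615 : nd 615 = n649 := ndS (p := 483) (l := 4) rfl N483 D649
theorem N616 : nd 616 = n650 := ndS (p := 484) (l := 3) rfl N484 D650
theorem N617 : nd 617 = n651 := ndS (p := 484) (l := 5) rfl N484 D651
theorem N618 : nd 618 = n652 := ndS (p := 485) (l := 5) rfl N485 D652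
theorem N619 : nd 619 = n653 := ndS (p := 485) (l := 7) rfl N485 D653
theorem N620 : nd 620 = n654 := ndS (p := 486) (l := 6) rfl N486 D654
theorem N621 : nd 621 = n659 := ndS (p := 488) (l := 6) rfl N488 D659
theorem N622 : nd 622 = n684 := ndS (p := 491) (l := 0) rfl N491 D684
theorem N623 : nd 623 = n685 := ndS (p := 491) (l := 4) rfl N491 D685
theorem N624 : nd 624 = n686 := ndS (p := 492) (l := 3) rfl N492 D686
theorem N625 : nd 625 = n687 := ndS (p := 492) (l := 5) rfl N492 D687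
theorem N626 : nd 626 = n688 := ndS (p := 493) (l := 6) rfl N493 D688
theorem N627 : nd 627 = n689 := ndS (p := 494) (l := 4) rfl N494 D689
theorem N628 : nd 628 = n690 := ndS (p := 495) (l := 3) rfl N495 D690
theorem N629 : nd 629 = n691 := ndS (p := 495) (l := 5) rfl N495 D691
theorem N630 : nd 630 = n692 := ndS (p := 496) (l := 5) rfl N496 D692
theorem N631 : nd 631 = n693 := ndS (p := 497) (l := 6) rfl N497 D693
theorem N632 : nd 632 = n702 := ndS (p := 499) (l := 5) rfl N499 D702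
theorem N633 : nd 633 = n703 := ndS (p := 500) (l := 6) rfl N500 D703
theorem N634 : nd 634 = n443 := ndS (p := 503) (l := 0) rfl N503 D443
theorem N635 : nd 635 = n444 := ndS (p := 503) (l := 4) rfl N503 D444
theorem N636 : nd 636 = n445 := ndS (p := 504) (l := 3) rfl N504 D445
theorem N637 : nd 637 = n564 := ndS (p := 506) (l := 1) rfl N506 D564
theorem N638 : nd 638 = n565 := ndS (p := 506) (l := 8) rfl N506 D565
theorem N639 : nd 639 = n566 := ndS (p := 507) (l := 7) rfl N507 D566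
theorem N640 : nd 640 = n567 := ndS (p := 508) (l := 3) rfl N508 D567
theorem N641 : nd 641 = n568 := ndS (p := 509) (l := 2) rfl N509 D568
theorem N642 : nd 642 = n569 := ndS (p := 509) (l := 4) rfl N509 D569
theorem N643 : nd 643 = n570 := ndS (p := 510) (l := 2) rfl N510 D570
theorem N644 : nd 644 = n571 := ndS (p := 510) (l := 4) rfl N510 D571
theorem N645 : nd 645 = n572 := ndS (p := 511) (l := 1) rfl N511 D572
theorem N646 : nd 646 = n573 := ndS (p := 511) (l := 4) rfl N511 D573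
theorem N647 : nd 647 = n574 := ndS (p := 512) (l := 5) rfl N512 D574
theorem N648 : nd 648 = n575 := ndS (p := 513) (l := 1) rfl N513 D575
theorem N649 : nd 649 = n576 := ndS (p := 513) (l := 4) rfl N513 D576
theorem N650 : nd 650 = n577 := ndS (p := 514) (l := 5) rfl N514 D577
theorem N651 : nd 651 = n578 := ndS (p := 515) (l := 0) rfl N515 D578
theorem N652 : nd 652 = n579 := ndS (p := 515) (l := 4) rfl N515 D579
theorem N653 : nd 653 = n580 := ndS (p := 516) (l := 3) rfl N516 D580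
theorem N654 : nd 654 = n581 := ndS (p := 516) (l := 5) rfl N516 D581
theorem N655 : nd 655 = n582 := ndS (p := 517) (l := 6) rfl N517 D582
theorem N656 : nd 656 = n590 := ndS (p := 518) (l := 0) rfl N518 D590
theorem N657 : nd 657 = n591 := ndS (p := 518) (l := 4) rfl N518 D591
theorem N658 : nd 658 = n592 := ndS (p := 519) (l := 3) rfl N519 D592
theorem N659 : nd 659 = n593 := ndS (p := 519) (l := 5) rfl N519 D593
theorem N660 : nd 660 = n594 := ndS (p := 520) (l := 6) rfl N520 D594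
theorem N661 : nd 661 = n595 := ndS (p := 521) (l := 4) rfl N521 D595
theorem N662 : nd 662 = n596 := ndS (p := 522) (l := 5) rfl N522 D596
theorem N663 : nd 663 = n597 := ndS (p := 523) (l := 6) rfl N523 D597
theorem N664 : nd 664 = n600 := ndS (p := 525) (l := 4) rfl N525 D600
theorem N665 : nd 665 = n601 := ndS (p := 526) (l := 3) rfl N526 D601
theorem N666 : nd 666 = n602 := ndS (p := 527) (l := 7) rfl N527 D602
theorem N667 : nd 667 = n583 := ndS (p := 528) (l := 0) rfl N528 D583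
theorem N668 : nd 668 = n584 := ndS (p := 528) (l := 4) rfl N528 D584
theorem N669 : nd 669 = n585 := ndS (p := 529) (l := 3) rfl N529 D585
theorem N670 : nd 670 = n586 := ndS (p := 529) (l := 5) rfl N529 D586
theorem N671 : nd 671 = n587 := ndS (p := 530) (l := 6) rfl N530 D587
theorem N672 : nd 672 = n588 := ndS (p := 531) (l := 4) rfl N531 D588
theorem N673 : nd 673 = n589 := ndS (p := 534) (l := 6) rfl N534 D589
theorem N674 : nd 674 = n598 := ndS (p := 536) (l := 5) rfl N536 D598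
theorem N675 : nd 675 = n599 := ndS (p := 537) (l := 6) rfl N537 D599
theorem N676 : nd 676 = n747 := ndS (p := 539) (l := 7) rfl N539 D747
theorem N677 : nd 677 = n748 := ndS (p := 540) (l := 7) rfl N540 D748
theorem N678 : nd 678 = n749 := ndS (p := 541) (l := 3) rfl N541 D749
theorem N679 : nd 679 = n750 := ndS (p := 542) (l := 7) rfl N542 D750
theorem N680 : nd 680 = n751 := ndS (p := 543) (l := 3) rfl N543 D751
theorem N681 : nd 681 = n752 := ndS (p := 544) (l := 2) rfl N544 D752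
theorem N682 : nd 682 = n753 := ndS (p := 544) (l := 4) rfl N544 D753
theorem N683 : nd 683 = n754 := ndS (p := 546) (l := 3) rfl N546 D754
theorem N684 : nd 684 = n755 := ndS (p := 547) (l := 2) rfl N547 D755
theorem N685 : nd 685 = n756 := ndS (p := 547) (l := 4) rfl N547 D756
theorem N686 : nd 686 = n757 := ndS (p := 548) (l := 1) rfl N548 D757
theorem N687 : nd 687 = n758 := ndS (p := 548) (l := 4) rfl N548 D758
theorem N688 : nd 688 = n759 := ndS (p := 549) (l := 5) rfl N549 D759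
theorem N689 : nd 689 = n768 := ndS (p := 550) (l := 7) rfl N550 D768
theorem N690 : nd 690 = n769 := ndS (p := 551) (l := 3) rfl N551 D769
theorem N691 : nd 691 = n770 := ndS (p := 552) (l := 2) rfl N552 D770
theorem N692 : nd 692 = n771 := ndS (p := 552) (l := 4) rfl N552 D771
theorem N693 : nd 693 = n772 := ndS (p := 553) (l := 2) rfl N553 D772
theorem N694 : nd 694 = n773 := ndS (p := 553) (l := 4) rfl N553 D773
theorem N695 : nd 695 = n774 := ndS (p := 554) (l := 1) rfl N554 D774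
theorem N696 : nd 696 = n775 := ndS (p := 554) (l := 4) rfl N554 D775
theorem N697 : nd 697 = n776 := ndS (p := 555) (l := 5) rfl N555 D776
theorem N698 : nd 698 = n777 := ndS (p := 556) (l := 1) rfl N556 D777
theorem N699 : nd 699 = n778 := ndS (p := 556) (l := 4) rfl N556 D778
theorem N700 : nd 700 = n779 := ndS (p := 557) (l := 5) rfl N557 D779
theorem N701 : nd 701 = n780 := ndS (p := 558) (l := 0) rfl N558 D780
theorem N702 : nd 702 = n781 := ndS (p := 558) (l := 4) rfl N558 D781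
theorem N703 : nd 703 = n782 := ndS (p := 559) (l := 3) rfl N559 D782
theorem N704 : nd 704 = n783 := ndS (p := 559) (l := 5) rfl N559 D783
theorem N705 : nd 705 = n784 := ndS (p := 560) (l := 6) rfl N560 D784
theorem N706 : nd 706 = n796 := ndS (p := 561) (l := 0) rfl N561 D796
theorem N707 : nd 707 = n797 := ndS (p := 561) (l := 4) rfl N561 D797
theorem N708 : nd 708 = n798 := ndS (p := 562) (l := 3) rfl N562 D798
theorem N709 : nd 709 = n799 := ndS (p := 562) (l := 5) rfl N562 D799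
theorem N710 : nd 710 = n800 := ndS (p := 563) (l := 6) rfl N563 D800
theorem N711 : nd 711 = n801 := ndS (p := 564) (l := 4) rfl N564 D801
theorem N712 : nd 712 = n802 := ndS (p := 565) (l := 3) rfl N565 D802
theorem N713 : nd 713 = n803 := ndS (p := 565) (l := 5) rfl N565 D803
theorem N714 : nd 714 = n804 := ndS (p := 566) (l := 5) rfl N566 D804
theorem N715 : nd 715 = n805 := ndS (p := 566) (l := 7) rfl N566 D805
theorem N716 : nd 716 = n806 := ndS (p := 567) (l := 6) rfl N567 D806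
theorem N717 : nd 717 = n813 := ndS (p := 569) (l := 4) rfl N569 D813
theorem N718 : nd 718 = n814 := ndS (p := 569) (l := 6) rfl N569 D814
theorem N719 : nd 719 = n815 := ndS (p := 569) (l := 7) rfl N569 D815
theorem N720 : nd 720 = n767 := ndS (p := 570) (l := 8) rfl N570 (iv F3661)
theorem N721 : nd 721 = n707 := ndS (p := 572) (l := 7) rfl N572 (iv F3478)
theorem N722 : nd 722 = n816 := ndS (p := 573) (l := 3) rfl N573 D816
theorem N723 : nd 723 = n817 := ndS (p := 574) (l := 2) rfl N574 D817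
theorem N724 : nd 724 = n818 := ndS (p := 574) (l := 4) rfl N574 D818
theorem N725 : nd 725 = n819 := ndS (p := 575) (l := 1) rfl N575 D819
theorem N726 : nd 726 = n820 := ndS (p := 575) (l := 4) rfl N575 D820
theorem N727 : nd 727 = n821 := ndS (p := 576) (l := 5) rfl N576 D821
theorem N728 : nd 728 = n822 := ndS (p := 577) (l := 1) rfl N577 D822
theorem N729 : nd 729 = n823 := ndS (p := 577) (l := 4) rfl N577 D823
theorem N730 : nd 730 = n824 := ndS (p := 578) (l := 5) rfl N578 D824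
theorem N731 : nd 731 = n825 := ndS (p := 579) (l := 0) rfl N579 D825
theorem N732 : nd 732 = n826 := ndS (p := 579) (l := 4) rfl N579 D826
theorem N733 : nd 733 = n827 := ndS (p := 580) (l := 3) rfl N580 D827
theorem N734 : nd 734 = n828 := ndS (p := 580) (l := 5) rfl N580 D828
theorem N735 : nd 735 = n829 := ndS (p := 581) (l := 6) rfl N581 D829
theorem N736 : nd 736 = n830 := ndS (p := 582) (l := 0) rfl N582 D830
theorem N737 : nd 737 = n831 := ndS (p := 582) (l := 4) rfl N582 D831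
theorem N738 : nd 738 = n832 := ndS (p := 583) (l := 3) rfl N583 D832
theorem N739 : nd 739 = n833 := ndS (p := 583) (l := 5) rfl N583 D833
theorem N740 : nd 740 = n834 := ndS (p := 584) (l := 6) rfl N584 D834
theorem N741 : nd 741 = n835 := ndS (p := 585) (l := 4) rfl N585 D835
theorem N742 : nd 742 = n836 := ndS (p := 586) (l := 3) rfl N586 D836
theorem N743 : nd 743 = n837 := ndS (p := 586) (l := 5) rfl N586 D837
theorem N744 : nd 744 = n838 := ndS (p := 587) (l := 5) rfl N587 D838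
theorem N745 : nd 745 = n839 := ndS (p := 588) (l := 6) rfl N588 D839
theorem N746 : nd 746 = n847 := ndS (p := 590) (l := 4) rfl N590 D847
theorem N747 : nd 747 = n848 := ndS (p := 591) (l := 3) rfl N591 D848
theorem N748 : nd 748 = n849 := ndS (p := 591) (l := 5) rfl N591 D849
theorem N749 : nd 749 = n850 := ndS (p := 592) (l := 5) rfl N592 D850
theorem N750 : nd 750 = n851 := ndS (p := 592) (l := 7) rfl N592 D851
theorem N751 : nd 751 = n852 := ndS (p := 593) (l := 6) rfl N593 D852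
theorem N752 : nd 752 = n853 := ndS (p := 595) (l := 5) rfl N595 D853
theorem N753 : nd 753 = n854 := ndS (p := 596) (l := 6) rfl N596 D854
theorem N754 : nd 754 = n856 := ndS (p := 598) (l := 3) rfl N598 D856
theorem N755 : nd 755 = n857 := ndS (p := 599) (l := 2) rfl N599 D857
theorem N756 : nd 756 = n858 := ndS (p := 599) (l := 7) rfl N599 D858
theorem N757 : nd 757 = n859 := ndS (p := 600) (l := 8) rfl N600 D859
theorem N758 : nd 758 = n760 := ndS (p := 601) (l := 2) rfl N601 D760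
theorem N759 : nd 759 = n761 := ndS (p := 602) (l := 1) rfl N602 D761
theorem N760 : nd 760 = n762 := ndS (p := 602) (l := 4) rfl N602 D762
theorem N761 : nd 761 = n763 := ndS (p := 604) (l := 0) rfl N604 D763
theorem N762 : nd 762 = n764 := ndS (p := 604) (l := 4) rfl N604 D764
theorem N763 : nd 763 = n765 := ndS (p := 605) (l := 3) rfl N605 D765
theorem N764 : nd 764 = n766 := ndS (p := 605) (l := 5) rfl N605 D766
theorem N765 : nd 765 = n785 := ndS (p := 607) (l := 0) rfl N607 D785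
theorem N766 : nd 766 = n786 := ndS (p := 607) (l := 4) rfl N607 D786
theorem N767 : nd 767 = n787 := ndS (p := 608) (l := 3) rfl N608 D787
theorem N768 : nd 768 = n788 := ndS (p := 608) (l := 5) rfl N608 D788
theorem N769 : nd 769 = n789 := ndS (p := 609) (l := 6) rfl N609 D789
theorem N770 : nd 770 = n790 := ndS (p := 610) (l := 4) rfl N610 D790
theorem N771 : nd 771 = n791 := ndS (p := 611) (l := 3) rfl N611 D791
theorem N772 : nd 772 = n792 := ndS (p := 611) (l := 5) rfl N611 D792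
theorem N773 : nd 773 = n793 := ndS (p := 612) (l := 5) rfl N612 D793
theorem N774 : nd 774 = n794 := ndS (p := 612) (l := 7) rfl N612 D794
theorem N775 : nd 775 = n795 := ndS (p := 613) (l := 6) rfl N613 D795
theorem N776 : nd 776 = n807 := ndS (p := 615) (l := 3) rfl N615 D807
theorem N777 : nd 777 = n808 := ndS (p := 615) (l := 5) rfl N615 D808
theorem N778 : nd 778 = n809 := ndS (p := 616) (l := 5) rfl N616 D809
theorem N779 : nd 779 = n810 := ndS (p := 616) (l := 7) rfl N616 D810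
theorem N780 : nd 780 = n811 := ndS (p := 617) (l := 6) rfl N617 D811
theorem N781 : nd 781 = n812 := ndS (p := 618) (l := 6) rfl N618 D812
theorem N782 : nd 782 = n840 := ndS (p := 622) (l := 4) rfl N622 D840
theorem N783 : nd 783 = n841 := ndS (p := 623) (l := 3) rfl N623 D841
theorem N784 : nd 784 = n842 := ndS (p := 623) (l := 5) rfl N623 D842
theorem N785 : nd 785 = n843 := ndS (p := 625) (l := 6) rfl N625 D843
theorem N786 : nd 786 = n844 := ndS (p := 628) (l := 2) rfl N628 D844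
theorem N787 : nd 787 = n845 := ndS (p := 629) (l := 6) rfl N629 D845
theorem N788 : nd 788 = n846 := ndS (p := 630) (l := 6) rfl N630 D846
theorem N789 : nd 789 = n855 := ndS (p := 632) (l := 6) rfl N632 D855
theorem N790 : nd 790 = n561 := ndS (p := 634) (l := 4) rfl N634 D561
theorem N791 : nd 791 = n562 := ndS (p := 635) (l := 3) rfl N635 D562
theorem N792 : nd 792 = n563 := ndS (p := 636) (l := 7) rfl N636 D563
theorem N793 : nd 793 = n713 := ndS (p := 639) (l := 3) rfl N639 D713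
theorem N794 : nd 794 = n714 := ndS (p := 640) (l := 2) rfl N640 D714
theorem N795 : nd 795 = n715 := ndS (p := 640) (l := 4) rfl N640 D715
theorem N796 : nd 796 = n716 := ndS (p := 641) (l := 1) rfl N641 D716
theorem N797 : nd 797 = n717 := ndS (p := 641) (l := 4) rfl N641 D717
theorem N798 : nd 798 = n718 := ndS (p := 642) (l := 5) rfl N642 D718
theorem N799 : nd 799 = n719 := ndS (p := 643) (l := 1) rfl N643 D719
theorem N800 : nd 800 = n720 := ndS (p := 643) (l := 4) rfl N643 D720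
theorem N801 : nd 801 = n721 := ndS (p := 644) (l := 5) rfl N644 D721
theorem N802 : nd 802 = n722 := ndS (p := 645) (l := 0) rfl N645 D722
theorem N803 : nd 803 = n723 := ndS (p := 645) (l := 4) rfl N645 D723
theorem N804 : nd 804 = n724 := ndS (p := 646) (l := 3) rfl N646 D724
theorem N805 : nd 805 = n725 := ndS (p := 646) (l := 5) rfl N646 D725
theorem N806 : nd 806 = n726 := ndS (p := 647) (l := 6) rfl N647 D726
theorem N807 : nd 807 = n727 := ndS (p := 648) (l := 0) rfl N648 D727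
theorem N808 : nd 808 = n728 := ndS (p := 648) (l := 4) rfl N648 D728
theorem N809 : nd 809 = n729 := ndS (p := 649) (l := 3) rfl N649 D729
theorem N810 : nd 810 = n730 := ndS (p := 649) (l := 5) rfl N649 D730
theorem N811 : nd 811 = n731 := ndS (p := 650) (l := 6) rfl N650 D731
theorem N812 : nd 812 = n732 := ndS (p := 651) (l := 4) rfl N651 D732
theorem N813 : nd 813 = n733 := ndS (p := 652) (l := 3) rfl N652 D733
theorem N814 : nd 814 = n734 := ndS (p := 652) (l := 5) rfl N652 D734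
theorem N815 : nd 815 = n735 := ndS (p := 653) (l := 5) rfl N653 D735
theorem N816 : nd 816 = n736 := ndS (p := 654) (l := 6) rfl N654 D736
theorem N817 : nd 817 = n737 := ndS (p := 656) (l := 4) rfl N656 D737
theorem N818 : nd 818 = n738 := ndS (p := 657) (l := 3) rfl N657 D738
theorem N819 : nd 819 = n739 := ndS (p := 657) (l := 5) rfl N657 D739
theorem N820 : nd 820 = n740 := ndS (p := 658) (l := 5) rfl N658 D740
theorem N821 : nd 821 = n741 := ndS (p := 658) (l := 7) rfl N658 D741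
theorem N822 : nd 822 = n742 := ndS (p := 659) (l := 6) rfl N659 D742
theorem N823 : nd 823 = n743 := ndS (p := 661) (l := 5) rfl N661 D743
theorem N824 : nd 824 = n744 := ndS (p := 662) (l := 6) rfl N662 D744
theorem N825 : nd 825 = n746 := ndS (p := 664) (l := 3) rfl N664 D746
theorem N826 : nd 826 = n745 := ndS (p := 674) (l := 6) rfl N674 D745
theorem N827 : nd 827 = n890 := ndS (p := 676) (l := 3) rfl N676 D890
theorem N828 : nd 828 = n891 := ndS (p := 677) (l := 3) rfl N677 D891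
theorem N829 : nd 829 = n892 := ndS (p := 678) (l := 2) rfl N678 D892
theorem N830 : nd 830 = n893 := ndS (p := 678) (l := 4) rfl N678 D893
theorem N831 : nd 831 = n894 := ndS (p := 679) (l := 3) rfl N679 D894
theorem N832 : nd 832 = n895 := ndS (p := 680) (l := 2) rfl N680 D895
theorem N833 : nd 833 = n896 := ndS (p := 680) (l := 4) rfl N680 D896
theorem N834 : nd 834 = n897 := ndS (p := 681) (l := 1) rfl N681 D897
theorem N835 : nd 835 = n898 := ndS (p := 681) (l := 4) rfl N681 D898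
theorem N836 : nd 836 = n899 := ndS (p := 682) (l := 5) rfl N682 D899
theorem N837 : nd 837 = n900 := ndS (p := 683) (l := 2) rfl N683 D900
theorem N838 : nd 838 = n901 := ndS (p := 684) (l := 1) rfl N684 D901
theorem N839 : nd 839 = n902 := ndS (p := 684) (l := 4) rfl N684 D902
theorem N840 : nd 840 = n903 := ndS (p := 685) (l := 5) rfl N685 D903
theorem N841 : nd 841 = n904 := ndS (p := 686) (l := 0) rfl N686 D904
theorem N842 : nd 842 = n905 := ndS (p := 686) (l := 4) rfl N686 D905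
theorem N843 : nd 843 = n906 := ndS (p := 687) (l := 3) rfl N687 D906
theorem N844 : nd 844 = n907 := ndS (p := 687) (l := 5) rfl N687 D907
theorem N845 : nd 845 = n908 := ndS (p := 688) (l := 6) rfl N688 D908
theorem N846 : nd 846 = n919 := ndS (p := 689) (l := 3) rfl N689 D919
theorem N847 : nd 847 = n920 := ndS (p := 690) (l := 2) rfl N690 D920
theorem N848 : nd 848 = n921 := ndS (p := 690) (l := 4) rfl N690 D921
theorem N849 : nd 849 = n922 := ndS (p := 691) (l := 1) rfl N691 D922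
theorem N850 : nd 850 = n923 := ndS (p := 691) (l := 4) rfl N691 D923
theorem N851 : nd 851 = n924 := ndS (p := 692) (l := 5) rfl N692 D924
theorem N852 : nd 852 = n925 := ndS (p := 693) (l := 1) rfl N693 D925
theorem N853 : nd 853 = n926 := ndS (p := 693) (l := 4) rfl N693 D926
theorem N854 : nd 854 = n927 := ndS (p := 694) (l := 5) rfl N694 D927
theorem N855 : nd 855 = n928 := ndS (p := 695) (l := 0) rfl N695 D928
theorem N856 : nd 856 = n929 := ndS (p := 695) (l := 4) rfl N695 D929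
theorem N857 : nd 857 = n930 := ndS (p := 696) (l := 3) rfl N696 D930
theorem N858 : nd 858 = n931 := ndS (p := 696) (l := 5) rfl N696 D931
theorem N859 : nd 859 = n932 := ndS (p := 697) (l := 6) rfl N697 D932
theorem N860 : nd 860 = n933 := ndS (p := 698) (l := 0) rfl N698 D933
theorem N861 : nd 861 = n934 := ndS (p := 698) (l := 4) rfl N698 D934
theorem N862 : nd 862 = n935 := ndS (p := 699) (l := 3) rfl N699 D935
theorem N863 : nd 863 = n936 := ndS (p := 699) (l := 5) rfl N699 D936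
theorem N864 : nd 864 = n937 := ndS (p := 700) (l := 6) rfl N700 D937
theorem N865 : nd 865 = n938 := ndS (p := 701) (l := 4) rfl N701 D938
theorem N866 : nd 866 = n939 := ndS (p := 702) (l := 3) rfl N702 D939
theorem N867 : nd 867 = n940 := ndS (p := 702) (l := 5) rfl N702 D940
theorem N868 : nd 868 = n941 := ndS (p := 703) (l := 5) rfl N703 D941
theorem N869 : nd 869 = n942 := ndS (p := 703) (l := 7) rfl N703 D942
theorem N870 : nd 870 = n943 := ndS (p := 704) (l := 6) rfl N704 D943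
theorem N871 : nd 871 = n957 := ndS (p := 706) (l := 4) rfl N706 D957
theorem N872 : nd 872 = n958 := ndS (p := 707) (l := 3) rfl N707 D958
theorem N873 : nd 873 = n959 := ndS (p := 707) (l := 5) rfl N707 D959
theorem N874 : nd 874 = n960 := ndS (p := 708) (l := 5) rfl N708 D960
theorem N875 : nd 875 = n961 := ndS (p := 708) (l := 7) rfl N708 D961
theorem N876 : nd 876 = n962 := ndS (p := 709) (l := 6) rfl N709 D962
theorem N877 : nd 877 = n963 := ndS (p := 711) (l := 3) rfl N711 D963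
theorem N878 : nd 878 = n964 := ndS (p := 711) (l := 5) rfl N711 D964
theorem N879 : nd 879 = n965 := ndS (p := 712) (l := 5) rfl N712 D965
theorem N880 : nd 880 = n966 := ndS (p := 712) (l := 7) rfl N712 D966
theorem N881 : nd 881 = n967 := ndS (p := 713) (l := 6) rfl N713 D967
theorem N882 : nd 882 = n968 := ndS (p := 714) (l := 4) rfl N714 D968
theorem N883 : nd 883 = n969 := ndS (p := 714) (l := 6) rfl N714 D969
theorem N884 : nd 884 = n970 := ndS (p := 714) (l := 7) rfl N714 D970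
theorem N885 : nd 885 = n918 := ndS (p := 715) (l := 8) rfl N715 (iv F4329)
theorem N886 : nd 886 = n975 := ndS (p := 717) (l := 6) rfl N717 D975
theorem N887 : nd 887 = n976 := ndS (p := 717) (l := 7) rfl N717 D976
theorem N888 : nd 888 = n977 := ndS (p := 722) (l := 4) rfl N722 D977
theorem N889 : nd 889 = n978 := ndS (p := 723) (l := 1) rfl N723 D978
theorem N890 : nd 890 = n979 := ndS (p := 723) (l := 4) rfl N723 D979
theorem N891 : nd 891 = n980 := ndS (p := 724) (l := 5) rfl N724 D980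
theorem N892 : nd 892 = n981 := ndS (p := 725) (l := 0) rfl N725 D981
theorem N893 : nd 893 = n982 := ndS (p := 725) (l := 4) rfl N725 D982
theorem N894 : nd 894 = n983 := ndS (p := 726) (l := 3) rfl N726 D983
theorem N895 : nd 895 = n984 := ndS (p := 726) (l := 5) rfl N726 D984
theorem N896 : nd 896 = n985 := ndS (p := 727) (l := 6) rfl N727 D985
theorem N897 : nd 897 = n986 := ndS (p := 728) (l := 0) rfl N728 D986
theorem N898 : nd 898 = n987 := ndS (p := 728) (l := 4) rfl N728 D987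
theorem N899 : nd 899 = n988 := ndS (p := 729) (l := 3) rfl N729 D988
theorem N900 : nd 900 = n989 := ndS (p := 729) (l := 5) rfl N729 D989
theorem N901 : nd 901 = n990 := ndS (p := 730) (l := 6) rfl N730 D990
theorem N902 : nd 902 = n991 := ndS (p := 731) (l := 4) rfl N731 D991
theorem N903 : nd 903 = n992 := ndS (p := 732) (l := 3) rfl N732 D992
theorem N904 : nd 904 = n993 := ndS (p := 732) (l := 5) rfl N732 D993
theorem N905 : nd 905 = n994 := ndS (p := 733) (l := 5) rfl N733 D994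
theorem N906 : nd 906 = n995 := ndS (p := 733) (l := 7) rfl N733 D995
theorem N907 : nd 907 = n996 := ndS (p := 734) (l := 6) rfl N734 D996
theorem N908 : nd 908 = n997 := ndS (p := 736) (l := 4) rfl N736 D997
theorem N909 : nd 909 = n998 := ndS (p := 737) (l := 3) rfl N737 D998
theorem N910 : nd 910 = n999 := ndS (p := 737) (l := 5) rfl N737 D999
theorem N911 : nd 911 = n1000 := ndS (p := 738) (l := 5) rfl N738 D1000
theorem N912 : nd 912 = n1001 := ndS (p := 739) (l := 6) rfl N739 D1001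
theorem N913 : nd 913 = n1002 := ndS (p := 741) (l := 3) rfl N741 D1002
theorem N914 : nd 914 = n1003 := ndS (p := 741) (l := 5) rfl N741 D1003
theorem N915 : nd 915 = n1004 := ndS (p := 742) (l := 2) rfl N742 D1004
theorem N916 : nd 916 = n1005 := ndS (p := 742) (l := 5) rfl N742 D1005
theorem N917 : nd 917 = n1006 := ndS (p := 743) (l := 6) rfl N743 D1006
theorem N918 : nd 918 = n1007 := ndS (p := 744) (l := 4) rfl N744 D1007
theorem N919 : nd 919 = n1008 := ndS (p := 744) (l := 6) rfl N744 D1008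
theorem N920 : nd 920 = n1009 := ndS (p := 746) (l := 3) rfl N746 D1009
theorem N921 : nd 921 = n1010 := ndS (p := 746) (l := 5) rfl N746 D1010
theorem N922 : nd 922 = n1011 := ndS (p := 747) (l := 2) rfl N747 D1011
theorem N923 : nd 923 = n1012 := ndS (p := 747) (l := 5) rfl N747 D1012
theorem N924 : nd 924 = n1013 := ndS (p := 747) (l := 7) rfl N747 D1013
theorem N925 : nd 925 = n1014 := ndS (p := 748) (l := 6) rfl N748 D1014
theorem N926 : nd 926 = n1015 := ndS (p := 749) (l := 6) rfl N749 D1015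
theorem N927 : nd 927 = n1016 := ndS (p := 749) (l := 7) rfl N749 D1016
theorem N928 : nd 928 = n1017 := ndS (p := 750) (l := 8) rfl N750 D1017
theorem N929 : nd 929 = n1018 := ndS (p := 752) (l := 6) rfl N752 D1018
theorem N930 : nd 930 = n1019 := ndS (p := 754) (l := 2) rfl N754 D1019
theorem N931 : nd 931 = n1020 := ndS (p := 755) (l := 7) rfl N755 D1020
theorem N932 : nd 932 = n909 := ndS (p := 758) (l := 1) rfl N758 D909
theorem N933 : nd 933 = n910 := ndS (p := 759) (l := 0) rfl N759 D910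
theorem N934 : nd 934 = n911 := ndS (p := 759) (l := 4) rfl N759 D911
theorem N935 : nd 935 = n912 := ndS (p := 760) (l := 3) rfl N760 D912
theorem N936 : nd 936 = n913 := ndS (p := 761) (l := 4) rfl N761 D913
theorem N937 : nd 937 = n914 := ndS (p := 762) (l := 3) rfl N762 D914
theorem N938 : nd 938 = n915 := ndS (p := 762) (l := 5) rfl N762 D915
theorem N939 : nd 939 = n916 := ndS (p := 763) (l := 5) rfl N763 D916
theorem N940 : nd 940 = n917 := ndS (p := 763) (l := 7) rfl N763 D917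
theorem N941 : nd 941 = n944 := ndS (p := 765) (l := 4) rfl N765 D944
theorem N942 : nd 942 = n945 := ndS (p := 766) (l := 3) rfl N766 D945
theorem N943 : nd 943 = n946 := ndS (p := 766) (l := 5) rfl N766 D946
theorem N944 : nd 944 = n947 := ndS (p := 767) (l := 5) rfl N767 D947
theorem N945 : nd 945 = n948 := ndS (p := 767) (l := 7) rfl N767 D948
theorem N946 : nd 946 = n949 := ndS (p := 768) (l := 6) rfl N768 D949
theorem N947 : nd 947 = n950 := ndS (p := 770) (l := 3) rfl N770 D950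
theorem N948 : nd 948 = n951 := ndS (p := 770) (l := 5) rfl N770 D951
theorem N949 : nd 949 = n952 := ndS (p := 771) (l := 2) rfl N771 D952
theorem N950 : nd 950 = n953 := ndS (p := 771) (l := 5) rfl N771 D953
theorem N951 : nd 951 = n954 := ndS (p := 771) (l := 7) rfl N771 D954
theorem N952 : nd 952 = n955 := ndS (p := 772) (l := 6) rfl N772 D955
theorem N953 : nd 953 = n956 := ndS (p := 773) (l := 6) rfl N773 D956
theorem N954 : nd 954 = n971 := ndS (p := 776) (l := 5) rfl N776 D971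
theorem N955 : nd 955 = n972 := ndS (p := 776) (l := 7) rfl N776 D972
theorem N956 : nd 956 = n973 := ndS (p := 777) (l := 6) rfl N777 D973
theorem N957 : nd 957 = n974 := ndS (p := 778) (l := 6) rfl N778 D974
theorem N958 : nd 958 = n860 := ndS (p := 793) (l := 4) rfl N793 D860
theorem N959 : nd 959 = n861 := ndS (p := 794) (l := 4) rfl N794 D861
theorem N960 : nd 960 = n862 := ndS (p := 795) (l := 5) rfl N795 D862
theorem N961 : nd 961 = n863 := ndS (p := 796) (l := 4) rfl N796 D863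
theorem N962 : nd 962 = n864 := ndS (p := 797) (l := 3) rfl N797 D864
theorem N963 : nd 963 = n865 := ndS (p := 797) (l := 5) rfl N797 D865
theorem N964 : nd 964 = n866 := ndS (p := 798) (l := 6) rfl N798 D866
theorem N965 : nd 965 = n867 := ndS (p := 799) (l := 0) rfl N799 D867
theorem N966 : nd 966 = n868 := ndS (p := 799) (l := 4) rfl N799 D868
theorem N967 : nd 967 = n869 := ndS (p := 800) (l := 3) rfl N800 D869
theorem N968 : nd 968 = n870 := ndS (p := 800) (l := 5) rfl N800 D870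
theorem N969 : nd 969 = n871 := ndS (p := 801) (l := 6) rfl N801 D871
theorem N970 : nd 970 = n872 := ndS (p := 802) (l := 4) rfl N802 D872
theorem N971 : nd 971 = n873 := ndS (p := 803) (l := 3) rfl N803 D873
theorem N972 : nd 972 = n874 := ndS (p := 803) (l := 5) rfl N803 D874
theorem N973 : nd 973 = n875 := ndS (p := 804) (l := 5) rfl N804 D875
theorem N974 : nd 974 = n876 := ndS (p := 804) (l := 7) rfl N804 D876
theorem N975 : nd 975 = n877 := ndS (p := 805) (l := 6) rfl N805 D877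
theorem N976 : nd 976 = n878 := ndS (p := 808) (l := 5) rfl N808 D878
theorem N977 : nd 977 = n879 := ndS (p := 809) (l := 5) rfl N809 D879
theorem N978 : nd 978 = n880 := ndS (p := 810) (l := 6) rfl N810 D880
theorem N979 : nd 979 = n881 := ndS (p := 812) (l := 5) rfl N812 D881
theorem N980 : nd 980 = n882 := ndS (p := 815) (l := 4) rfl N815 D882
theorem N981 : nd 981 = n883 := ndS (p := 817) (l := 3) rfl N817 D883
theorem N982 : nd 982 = n884 := ndS (p := 817) (l := 5) rfl N817 D884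
theorem N983 : nd 983 = n885 := ndS (p := 818) (l := 5) rfl N818 D885
theorem N984 : nd 984 = n886 := ndS (p := 819) (l := 6) rfl N819 D886
theorem N985 : nd 985 = n887 := ndS (p := 820) (l := 6) rfl N820 D887
theorem N986 : nd 986 = n888 := ndS (p := 820) (l := 7) rfl N820 D888
theorem N987 : nd 987 = n889 := ndS (p := 823) (l := 6) rfl N823 D889
theorem N988 : nd 988 = n1047 := ndS (p := 827) (l := 2) rfl N827 D1047
theorem N989 : nd 989 = n1048 := ndS (p := 827) (l := 4) rfl N827 D1048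
theorem N990 : nd 990 = n1049 := ndS (p := 828) (l := 2) rfl N828 D1049
theorem N991 : nd 991 = n1050 := ndS (p := 828) (l := 4) rfl N828 D1050
theorem N992 : nd 992 = n1051 := ndS (p := 829) (l := 1) rfl N829 D1051
theorem N993 : nd 993 = n1052 := ndS (p := 829) (l := 4) rfl N829 D1052
theorem N994 : nd 994 = n1053 := ndS (p := 830) (l := 5) rfl N830 D1053
theorem N995 : nd 995 = n1054 := ndS (p := 831) (l := 2) rfl N831 D1054
theorem N996 : nd 996 = n1055 := ndS (p := 831) (l := 4) rfl N831 D1055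
theorem N997 : nd 997 = n1056 := ndS (p := 832) (l := 1) rfl N832 D1056
theorem N998 : nd 998 = n1057 := ndS (p := 832) (l := 4) rfl N832 D1057
theorem N999 : nd 999 = n1058 := ndS (p := 833) (l := 5) rfl N833 D1058
theorem N1000 : nd 1000 = n1059 := ndS (p := 834) (l := 0) rfl N834 D1059
theorem N1001 : nd 1001 = n1060 := ndS (p := 834) (l := 4) rfl N834 D1060
theorem N1002 : nd 1002 = n1061 := ndS (p := 835) (l := 3) rfl N835 D1061
theorem N1003 : nd 1003 = n1062 := ndS (p := 835) (l := 5) rfl N835 D1062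
theorem N1004 : nd 1004 = n1063 := ndS (p := 836) (l := 6) rfl N836 D1063
theorem N1005 : nd 1005 = n1064 := ndS (p := 837) (l := 1) rfl N837 D1064
theorem N1006 : nd 1006 = n1065 := ndS (p := 838) (l := 0) rfl N838 D1065
theorem N1007 : nd 1007 = n1066 := ndS (p := 838) (l := 4) rfl N838 D1066
theorem N1008 : nd 1008 = n1067 := ndS (p := 839) (l := 3) rfl N839 D1067
theorem N1009 : nd 1009 = n1068 := ndS (p := 839) (l := 5) rfl N839 D1068
theorem N1010 : nd 1010 = n1069 := ndS (p := 841) (l := 4) rfl N841 D1069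
theorem N1011 : nd 1011 = n1070 := ndS (p := 842) (l := 3) rfl N842 D1070
theorem N1012 : nd 1012 = n1071 := ndS (p := 842) (l := 5) rfl N842 D1071
theorem N1013 : nd 1013 = n1072 := ndS (p := 843) (l := 5) rfl N843 D1072
theorem N1014 : nd 1014 = n1073 := ndS (p := 843) (l := 7) rfl N843 D1073
theorem N1015 : nd 1015 = n1074 := ndS (p := 844) (l := 6) rfl N844 D1074
theorem N1016 : nd 1016 = n1087 := ndS (p := 846) (l := 2) rfl N846 D1087
theorem N1017 : nd 1017 = n1088 := ndS (p := 846) (l := 4) rfl N846 D1088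
theorem N1018 : nd 1018 = n1089 := ndS (p := 847) (l := 1) rfl N847 D1089
theorem N1019 : nd 1019 = n1090 := ndS (p := 847) (l := 4) rfl N847 D1090
theorem N1020 : nd 1020 = n1091 := ndS (p := 848) (l := 5) rfl N848 D1091
theorem N1021 : nd 1021 = n1092 := ndS (p := 849) (l := 0) rfl N849 D1092
theorem N1022 : nd 1022 = n1093 := ndS (p := 849) (l := 4) rfl N849 D1093
theorem N1023 : nd 1023 = n1094 := ndS (p := 850) (l := 3) rfl N850 D1094
theorem N1024 : nd 1024 = n1095 := ndS (p := 850) (l := 5) rfl N850 D1095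
theorem N1025 : nd 1025 = n1096 := ndS (p := 851) (l := 6) rfl N851 D1096
theorem N1026 : nd 1026 = n1097 := ndS (p := 852) (l := 0) rfl N852 D1097
theorem N1027 : nd 1027 = n1098 := ndS (p := 852) (l := 4) rfl N852 D1098
theorem N1028 : nd 1028 = n1099 := ndS (p := 853) (l := 3) rfl N853 D1099
theorem N1029 : nd 1029 = n1100 := ndS (p := 853) (l := 5) rfl N853 D1100
theorem N1030 : nd 1030 = n1101 := ndS (p := 854) (l := 6) rfl N854 D1101
theorem N1031 : nd 1031 = n1102 := ndS (p := 855) (l := 4) rfl N855 D1102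
theorem N1032 : nd 1032 = n1103 := ndS (p := 856) (l := 3) rfl N856 D1103
theorem N1033 : nd 1033 = n1104 := ndS (p := 856) (l := 5) rfl N856 D1104
theorem N1034 : nd 1034 = n1105 := ndS (p := 857) (l := 5) rfl N857 D1105
theorem N1035 : nd 1035 = n1106 := ndS (p := 857) (l := 7) rfl N857 D1106
theorem N1036 : nd 1036 = n1107 := ndS (p := 858) (l := 6) rfl N858 D1107
theorem N1037 : nd 1037 = n1108 := ndS (p := 860) (l := 4) rfl N860 D1108
theorem N1038 : nd 1038 = n1109 := ndS (p := 861) (l := 3) rfl N861 D1109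
theorem N1039 : nd 1039 = n1110 := ndS (p := 861) (l := 5) rfl N861 D1110
theorem N1040 : nd 1040 = n1111 := ndS (p := 862) (l := 5) rfl N862 D1111
theorem N1041 : nd 1041 = n1112 := ndS (p := 862) (l := 7) rfl N862 D1112
theorem N1042 : nd 1042 = n1113 := ndS (p := 863) (l := 6) rfl N863 D1113
theorem N1043 : nd 1043 = n1114 := ndS (p := 865) (l := 3) rfl N865 D1114
theorem N1044 : nd 1044 = n1115 := ndS (p := 865) (l := 5) rfl N865 D1115
theorem N1045 : nd 1045 = n1116 := ndS (p := 866) (l := 2) rfl N866 D1116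
theorem N1046 : nd 1046 = n1117 := ndS (p := 866) (l := 5) rfl N866 D1117
theorem N1047 : nd 1047 = n1118 := ndS (p := 866) (l := 7) rfl N866 D1118
theorem N1048 : nd 1048 = n1119 := ndS (p := 867) (l := 6) rfl N867 D1119
theorem N1049 : nd 1049 = n1120 := ndS (p := 868) (l := 4) rfl N868 D1120
theorem N1050 : nd 1050 = n1121 := ndS (p := 868) (l := 6) rfl N868 D1121
theorem N1051 : nd 1051 = n1122 := ndS (p := 868) (l := 7) rfl N868 D1122
theorem N1052 : nd 1052 = n1085 := ndS (p := 869) (l := 8) rfl N869 (iv F5064)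
theorem N1053 : nd 1053 = n1133 := ndS (p := 871) (l := 3) rfl N871 D1133
theorem N1054 : nd 1054 = n1134 := ndS (p := 871) (l := 5) rfl N871 D1134
theorem N1055 : nd 1055 = n1135 := ndS (p := 872) (l := 2) rfl N872 D1135
theorem N1056 : nd 1056 = n1136 := ndS (p := 872) (l := 5) rfl N872 D1136
theorem N1057 : nd 1057 = n1137 := ndS (p := 872) (l := 7) rfl N872 D1137
theorem N1058 : nd 1058 = n1138 := ndS (p := 873) (l := 6) rfl N873 D1138
theorem N1059 : nd 1059 = n1139 := ndS (p := 874) (l := 4) rfl N874 D1139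
theorem N1060 : nd 1060 = n1140 := ndS (p := 874) (l := 6) rfl N874 D1140
theorem N1061 : nd 1061 = n1141 := ndS (p := 874) (l := 7) rfl N874 D1141
theorem N1062 : nd 1062 = n1142 := ndS (p := 875) (l := 8) rfl N875 D1142
theorem N1063 : nd 1063 = n1143 := ndS (p := 877) (l := 5) rfl N877 D1143
theorem N1064 : nd 1064 = n1144 := ndS (p := 877) (l := 7) rfl N877 D1144
theorem N1065 : nd 1065 = n1145 := ndS (p := 878) (l := 6) rfl N878 D1145
theorem N1066 : nd 1066 = n1146 := ndS (p := 879) (l := 4) rfl N879 D1146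
theorem N1067 : nd 1067 = n1147 := ndS (p := 879) (l := 6) rfl N879 D1147
theorem N1068 : nd 1068 = n1148 := ndS (p := 879) (l := 7) rfl N879 D1148
theorem N1069 : nd 1069 = n1083 := ndS (p := 880) (l := 8) rfl N880 (iv F5054)
theorem N1070 : nd 1070 = n1149 := ndS (p := 882) (l := 6) rfl N882 D1149
theorem N1071 : nd 1071 = n1150 := ndS (p := 882) (l := 7) rfl N882 D1150
theorem N1072 : nd 1072 = n1152 := ndS (p := 887) (l := 3) rfl N887 D1152
theorem N1073 : nd 1073 = n1153 := ndS (p := 888) (l := 5) rfl N888 D1153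
theorem N1074 : nd 1074 = n1154 := ndS (p := 889) (l := 4) rfl N889 D1154
theorem N1075 : nd 1075 = n1155 := ndS (p := 890) (l := 3) rfl N890 D1155
theorem N1076 : nd 1076 = n1156 := ndS (p := 890) (l := 5) rfl N890 D1156
theorem N1077 : nd 1077 = n1157 := ndS (p := 891) (l := 6) rfl N891 D1157
theorem N1078 : nd 1078 = n1158 := ndS (p := 892) (l := 4) rfl N892 D1158
theorem N1079 : nd 1079 = n1159 := ndS (p := 893) (l := 3) rfl N893 D1159
theorem N1080 : nd 1080 = n1160 := ndS (p := 893) (l := 5) rfl N893 D1160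
theorem N1081 : nd 1081 = n1161 := ndS (p := 894) (l := 5) rfl N894 D1161
theorem N1082 : nd 1082 = n1162 := ndS (p := 894) (l := 7) rfl N894 D1162
theorem N1083 : nd 1083 = n1163 := ndS (p := 895) (l := 6) rfl N895 D1163
theorem N1084 : nd 1084 = n1164 := ndS (p := 897) (l := 4) rfl N897 D1164
theorem N1085 : nd 1085 = n1165 := ndS (p := 898) (l := 3) rfl N898 D1165
theorem N1086 : nd 1086 = n1166 := ndS (p := 898) (l := 5) rfl N898 D1166
theorem N1087 : nd 1087 = n1167 := ndS (p := 899) (l := 5) rfl N899 D1167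
theorem N1088 : nd 1088 = n1168 := ndS (p := 899) (l := 7) rfl N899 D1168
theorem N1089 : nd 1089 = n1169 := ndS (p := 900) (l := 6) rfl N900 D1169
theorem N1090 : nd 1090 = n1170 := ndS (p := 902) (l := 3) rfl N902 D1170
theorem N1091 : nd 1091 = n1171 := ndS (p := 902) (l := 5) rfl N902 D1171
theorem N1092 : nd 1092 = n1172 := ndS (p := 903) (l := 2) rfl N903 D1172
theorem N1093 : nd 1093 = n1173 := ndS (p := 903) (l := 5) rfl N903 D1173
theorem N1094 : nd 1094 = n1174 := ndS (p := 903) (l := 7) rfl N903 D1174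
theorem N1095 : nd 1095 = n1175 := ndS (p := 904) (l := 6) rfl N904 D1175
theorem N1096 : nd 1096 = n1176 := ndS (p := 905) (l := 4) rfl N905 D1176
theorem N1097 : nd 1097 = n1177 := ndS (p := 905) (l := 6) rfl N905 D1177
theorem N1098 : nd 1098 = n1178 := ndS (p := 905) (l := 7) rfl N905 D1178
theorem N1099 : nd 1099 = n1179 := ndS (p := 906) (l := 8) rfl N906 D1179
theorem N1100 : nd 1100 = n1180 := ndS (p := 908) (l := 5) rfl N908 D1180
theorem N1101 : nd 1101 = n1130 := ndS (p := 909) (l := 2) rfl N909 (iv F5257)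
theorem N1102 : nd 1102 = n1181 := ndS (p := 909) (l := 5) rfl N909 D1181
theorem N1103 : nd 1103 = n1182 := ndS (p := 910) (l := 6) rfl N910 D1182
theorem N1104 : nd 1104 = n1183 := ndS (p := 911) (l := 4) rfl N911 D1183
theorem N1105 : nd 1105 = n1127 := ndS (p := 913) (l := 2) rfl N913 (iv F5244)
theorem N1106 : nd 1106 = n1184 := ndS (p := 915) (l := 5) rfl N915 D1184
theorem N1107 : nd 1107 = n1185 := ndS (p := 916) (l := 4) rfl N916 D1185
theorem N1108 : nd 1108 = n1186 := ndS (p := 918) (l := 6) rfl N918 D1186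
theorem N1109 : nd 1109 = n1187 := ndS (p := 920) (l := 2) rfl N920 D1187
theorem N1110 : nd 1110 = n1188 := ndS (p := 920) (l := 5) rfl N920 D1188
theorem N1111 : nd 1111 = n1189 := ndS (p := 921) (l := 6) rfl N921 D1189
theorem N1112 : nd 1112 = n1190 := ndS (p := 922) (l := 5) rfl N922 D1190
theorem N1113 : nd 1113 = n1191 := ndS (p := 922) (l := 7) rfl N922 D1191
theorem N1114 : nd 1114 = n1192 := ndS (p := 923) (l := 6) rfl N923 D1192
theorem N1115 : nd 1115 = n1193 := ndS (p := 923) (l := 7) rfl N923 D1193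
theorem N1116 : nd 1116 = n1194 := ndS (p := 926) (l := 7) rfl N926 D1194
theorem N1117 : nd 1117 = n1195 := ndS (p := 927) (l := 8) rfl N927 D1195
theorem N1118 : nd 1118 = n1196 := ndS (p := 931) (l := 3) rfl N931 D1196
theorem N1119 : nd 1119 = n1075 := ndS (p := 932) (l := 0) rfl N932 D1075
theorem N1120 : nd 1120 = n1076 := ndS (p := 933) (l := 4) rfl N933 D1076
theorem N1121 : nd 1121 = n1077 := ndS (p := 934) (l := 3) rfl N934 D1077
theorem N1122 : nd 1122 = n1078 := ndS (p := 936) (l := 3) rfl N936 D1078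
theorem N1123 : nd 1123 = n1079 := ndS (p := 936) (l := 5) rfl N936 D1079
theorem N1124 : nd 1124 = n1080 := ndS (p := 937) (l := 2) rfl N937 D1080
theorem N1125 : nd 1125 = n1081 := ndS (p := 937) (l := 5) rfl N937 D1081
theorem N1126 : nd 1126 = n1082 := ndS (p := 937) (l := 7) rfl N937 D1082
theorem N1127 : nd 1127 = n1084 := ndS (p := 939) (l := 4) rfl N939 D1084
theorem N1128 : nd 1128 = n1086 := ndS (p := 939) (l := 7) rfl N939 D1086
theorem N1129 : nd 1129 = n1123 := ndS (p := 941) (l := 3) rfl N941 D1123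
theorem N1130 : nd 1130 = n1124 := ndS (p := 942) (l := 2) rfl N942 D1124
theorem N1131 : nd 1131 = n1125 := ndS (p := 942) (l := 5) rfl N942 D1125
theorem N1132 : nd 1132 = n1126 := ndS (p := 942) (l := 7) rfl N942 D1126
theorem N1133 : nd 1133 = n1128 := ndS (p := 944) (l := 6) rfl N944 D1128
theorem N1134 : nd 1134 = n1129 := ndS (p := 947) (l := 7) rfl N947 D1129
theorem N1135 : nd 1135 = n1131 := ndS (p := 949) (l := 7) rfl N949 D1131
theorem N1136 : nd 1136 = n1132 := ndS (p := 950) (l := 6) rfl N950 D1132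
theorem N1137 : nd 1137 = n1151 := ndS (p := 954) (l := 6) rfl N954 D1151
theorem N1138 : nd 1138 = n1021 := ndS (p := 958) (l := 5) rfl N958 D1021
theorem N1139 : nd 1139 = n1022 := ndS (p := 959) (l := 3) rfl N959 D1022
theorem N1140 : nd 1140 = n1023 := ndS (p := 959) (l := 5) rfl N959 D1023
theorem N1141 : nd 1141 = n1024 := ndS (p := 960) (l := 6) rfl N960 D1024
theorem N1142 : nd 1142 = n1025 := ndS (p := 961) (l := 3) rfl N961 D1025
theorem N1143 : nd 1143 = n1026 := ndS (p := 961) (l := 5) rfl N961 D1026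
theorem N1144 : nd 1144 = n1027 := ndS (p := 962) (l := 5) rfl N962 D1027
theorem N1145 : nd 1145 = n1028 := ndS (p := 962) (l := 7) rfl N962 D1028
theorem N1146 : nd 1146 = n1029 := ndS (p := 963) (l := 6) rfl N963 D1029
theorem N1147 : nd 1147 = n1030 := ndS (p := 965) (l := 4) rfl N965 D1030
theorem N1148 : nd 1148 = n1031 := ndS (p := 966) (l := 3) rfl N966 D1031
theorem N1149 : nd 1149 = n1032 := ndS (p := 966) (l := 5) rfl N966 D1032
theorem N1150 : nd 1150 = n1033 := ndS (p := 967) (l := 5) rfl N967 D1033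
theorem N1151 : nd 1151 = n1034 := ndS (p := 967) (l := 7) rfl N967 D1034
theorem N1152 : nd 1152 = n1035 := ndS (p := 968) (l := 6) rfl N968 D1035
theorem N1153 : nd 1153 = n1036 := ndS (p := 970) (l := 3) rfl N970 D1036
theorem N1154 : nd 1154 = n1037 := ndS (p := 970) (l := 5) rfl N970 D1037
theorem N1155 : nd 1155 = n1038 := ndS (p := 971) (l := 5) rfl N971 D1038
theorem N1156 : nd 1156 = n1039 := ndS (p := 972) (l := 6) rfl N972 D1039
theorem N1157 : nd 1157 = n1040 := ndS (p := 973) (l := 4) rfl N973 D1040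
theorem N1158 : nd 1158 = n1041 := ndS (p := 973) (l := 6) rfl N973 D1041
theorem N1159 : nd 1159 = n1042 := ndS (p := 973) (l := 7) rfl N973 D1042
theorem N1160 : nd 1160 = n1043 := ndS (p := 981) (l := 5) rfl N981 D1043
theorem N1161 : nd 1161 = n1044 := ndS (p := 982) (l := 6) rfl N982 D1044
theorem N1162 : nd 1162 = n1045 := ndS (p := 983) (l := 6) rfl N983 D1045
theorem N1163 : nd 1163 = n1046 := ndS (p := 985) (l := 7) rfl N985 D1046
theorem N1164 : nd 1164 = n1216 := ndS (p := 988) (l := 1) rfl N988 D1216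
theorem N1165 : nd 1165 = n1217 := ndS (p := 988) (l := 4) rfl N988 D1217
theorem N1166 : nd 1166 = n1218 := ndS (p := 989) (l := 5) rfl N989 D1218
theorem N1167 : nd 1167 = n1219 := ndS (p := 990) (l := 1) rfl N990 D1219
theorem N1168 : nd 1168 = n1220 := ndS (p := 990) (l := 4) rfl N990 D1220
theorem N1169 : nd 1169 = n1221 := ndS (p := 991) (l := 5) rfl N991 D1221
theorem N1170 : nd 1170 = n1222 := ndS (p := 992) (l := 0) rfl N992 D1222
theorem N1171 : nd 1171 = n1223 := ndS (p := 992) (l := 4) rfl N992 D1223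
theorem N1172 : nd 1172 = n1224 := ndS (p := 993) (l := 3) rfl N993 D1224
theorem N1173 : nd 1173 = n1225 := ndS (p := 993) (l := 5) rfl N993 D1225
theorem N1174 : nd 1174 = n1226 := ndS (p := 994) (l := 6) rfl N994 D1226
theorem N1175 : nd 1175 = n1227 := ndS (p := 995) (l := 1) rfl N995 D1227
theorem N1176 : nd 1176 = n1228 := ndS (p := 995) (l := 4) rfl N995 D1228
theorem N1177 : nd 1177 = n1229 := ndS (p := 997) (l := 0) rfl N997 D1229
theorem N1178 : nd 1178 = n1230 := ndS (p := 997) (l := 4) rfl N997 D1230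
theorem N1179 : nd 1179 = n1231 := ndS (p := 998) (l := 3) rfl N998 D1231
theorem N1180 : nd 1180 = n1232 := ndS (p := 998) (l := 5) rfl N998 D1232
theorem N1181 : nd 1181 = n1233 := ndS (p := 1000) (l := 4) rfl N1000 D1233
theorem N1182 : nd 1182 = n1234 := ndS (p := 1001) (l := 3) rfl N1001 D1234
theorem N1183 : nd 1183 = n1235 := ndS (p := 1001) (l := 5) rfl N1001 D1235
theorem N1184 : nd 1184 = n1236 := ndS (p := 1002) (l := 5) rfl N1002 D1236
theorem N1185 : nd 1185 = n1237 := ndS (p := 1002) (l := 7) rfl N1002 D1237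
theorem N1186 : nd 1186 = n1238 := ndS (p := 1003) (l := 6) rfl N1003 D1238
theorem N1187 : nd 1187 = n1239 := ndS (p := 1005) (l := 0) rfl N1005 D1239
theorem N1188 : nd 1188 = n1240 := ndS (p := 1006) (l := 4) rfl N1006 D1240
theorem N1189 : nd 1189 = n1241 := ndS (p := 1007) (l := 3) rfl N1007 D1241
theorem N1190 : nd 1190 = n1242 := ndS (p := 1007) (l := 5) rfl N1007 D1242
theorem N1191 : nd 1191 = n1243 := ndS (p := 1008) (l := 5) rfl N1008 D1243
theorem N1192 : nd 1192 = n1244 := ndS (p := 1010) (l := 3) rfl N1010 D1244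
theorem N1193 : nd 1193 = n1245 := ndS (p := 1010) (l := 5) rfl N1010 D1245
theorem N1194 : nd 1194 = n1246 := ndS (p := 1011) (l := 2) rfl N1011 D1246
theorem N1195 : nd 1195 = n1247 := ndS (p := 1011) (l := 5) rfl N1011 D1247
theorem N1196 : nd 1196 = n1248 := ndS (p := 1011) (l := 7) rfl N1011 D1248
theorem N1197 : nd 1197 = n1249 := ndS (p := 1012) (l := 6) rfl N1012 D1249
theorem N1198 : nd 1198 = n1250 := ndS (p := 1013) (l := 4) rfl N1013 D1250
theorem N1199 : nd 1199 = n1251 := ndS (p := 1013) (l := 6) rfl N1013 D1251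
theorem N1200 : nd 1200 = n1252 := ndS (p := 1013) (l := 7) rfl N1013 D1252
theorem N1201 : nd 1201 = n1253 := ndS (p := 1014) (l := 8) rfl N1014 D1253
theorem N1202 : nd 1202 = n1263 := ndS (p := 1016) (l := 4) rfl N1016 D1263
theorem N1203 : nd 1203 = n1264 := ndS (p := 1017) (l := 5) rfl N1017 D1264
theorem N1204 : nd 1204 = n1265 := ndS (p := 1018) (l := 4) rfl N1018 D1265
theorem N1205 : nd 1205 = n1266 := ndS (p := 1019) (l := 3) rfl N1019 D1266
theorem N1206 : nd 1206 = n1267 := ndS (p := 1019) (l := 5) rfl N1019 D1267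
theorem N1207 : nd 1207 = n1268 := ndS (p := 1020) (l := 6) rfl N1020 D1268
theorem N1208 : nd 1208 = n1269 := ndS (p := 1021) (l := 4) rfl N1021 D1269
theorem N1209 : nd 1209 = n1270 := ndS (p := 1022) (l := 3) rfl N1022 D1270
theorem N1210 : nd 1210 = n1271 := ndS (p := 1022) (l := 5) rfl N1022 D1271
theorem N1211 : nd 1211 = n1272 := ndS (p := 1023) (l := 5) rfl N1023 D1272
theorem N1212 : nd 1212 = n1273 := ndS (p := 1023) (l := 7) rfl N1023 D1273
theorem N1213 : nd 1213 = n1274 := ndS (p := 1024) (l := 6) rfl N1024 D1274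
theorem N1214 : nd 1214 = n1275 := ndS (p := 1026) (l := 4) rfl N1026 D1275
theorem N1215 : nd 1215 = n1276 := ndS (p := 1027) (l := 3) rfl N1027 D1276
theorem N1216 : nd 1216 = n1277 := ndS (p := 1027) (l := 5) rfl N1027 D1277
theorem N1217 : nd 1217 = n1278 := ndS (p := 1028) (l := 5) rfl N1028 D1278
theorem N1218 : nd 1218 = n1279 := ndS (p := 1028) (l := 7) rfl N1028 D1279
theorem N1219 : nd 1219 = n1280 := ndS (p := 1029) (l := 6) rfl N1029 D1280
theorem N1220 : nd 1220 = n1281 := ndS (p := 1031) (l := 3) rfl N1031 D1281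
theorem N1221 : nd 1221 = n1282 := ndS (p := 1031) (l := 5) rfl N1031 D1282
theorem N1222 : nd 1222 = n1283 := ndS (p := 1032) (l := 2) rfl N1032 D1283
theorem N1223 : nd 1223 = n1284 := ndS (p := 1032) (l := 5) rfl N1032 D1284
theorem N1224 : nd 1224 = n1285 := ndS (p := 1032) (l := 7) rfl N1032 D1285
theorem N1225 : nd 1225 = n1286 := ndS (p := 1033) (l := 6) rfl N1033 D1286
theorem N1226 : nd 1226 = n1287 := ndS (p := 1034) (l := 4) rfl N1034 D1287
theorem N1227 : nd 1227 = n1288 := ndS (p := 1034) (l := 6) rfl N1034 D1288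
theorem N1228 : nd 1228 = n1289 := ndS (p := 1034) (l := 7) rfl N1034 D1289
theorem N1229 : nd 1229 = n1290 := ndS (p := 1035) (l := 8) rfl N1035 D1290
theorem N1230 : nd 1230 = n1291 := ndS (p := 1037) (l := 3) rfl N1037 D1291
theorem N1231 : nd 1231 = n1292 := ndS (p := 1037) (l := 5) rfl N1037 D1292
theorem N1232 : nd 1232 = n1293 := ndS (p := 1038) (l := 2) rfl N1038 D1293
theorem N1233 : nd 1233 = n1294 := ndS (p := 1038) (l := 5) rfl N1038 D1294
theorem N1234 : nd 1234 = n1295 := ndS (p := 1038) (l := 7) rfl N1038 D1295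
theorem N1235 : nd 1235 = n1296 := ndS (p := 1039) (l := 6) rfl N1039 D1296
theorem N1236 : nd 1236 = n1297 := ndS (p := 1040) (l := 4) rfl N1040 D1297
theorem N1237 : nd 1237 = n1298 := ndS (p := 1040) (l := 6) rfl N1040 D1298
theorem N1238 : nd 1238 = n1299 := ndS (p := 1040) (l := 7) rfl N1040 D1299
theorem N1239 : nd 1239 = n1262 := ndS (p := 1041) (l := 8) rfl N1041 (iv F5870)
theorem N1240 : nd 1240 = n1300 := ndS (p := 1043) (l := 2) rfl N1043 D1300
theorem N1241 : nd 1241 = n1301 := ndS (p := 1043) (l := 5) rfl N1043 D1301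
theorem N1242 : nd 1242 = n1302 := ndS (p := 1043) (l := 7) rfl N1043 D1302
theorem N1243 : nd 1243 = n1303 := ndS (p := 1044) (l := 6) rfl N1044 D1303
theorem N1244 : nd 1244 = n1304 := ndS (p := 1045) (l := 5) rfl N1045 D1304
theorem N1245 : nd 1245 = n1305 := ndS (p := 1045) (l := 7) rfl N1045 D1305
theorem N1246 : nd 1246 = n1306 := ndS (p := 1046) (l := 4) rfl N1046 D1306
theorem N1247 : nd 1247 = n1307 := ndS (p := 1046) (l := 6) rfl N1046 D1307
theorem N1248 : nd 1248 = n1308 := ndS (p := 1046) (l := 7) rfl N1046 D1308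
theorem N1249 : nd 1249 = n1261 := ndS (p := 1047) (l := 8) rfl N1047 (iv F5864)
theorem N1250 : nd 1250 = n1309 := ndS (p := 1049) (l := 6) rfl N1049 D1309
theorem N1251 : nd 1251 = n1310 := ndS (p := 1049) (l := 7) rfl N1049 D1310
theorem N1252 : nd 1252 = n1311 := ndS (p := 1053) (l := 2) rfl N1053 D1311
theorem N1253 : nd 1253 = n1312 := ndS (p := 1053) (l := 5) rfl N1053 D1312
theorem N1254 : nd 1254 = n1313 := ndS (p := 1053) (l := 7) rfl N1053 D1313
theorem N1255 : nd 1255 = n1314 := ndS (p := 1054) (l := 6) rfl N1054 D1314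
theorem N1256 : nd 1256 = n1315 := ndS (p := 1055) (l := 5) rfl N1055 D1315
theorem N1257 : nd 1257 = n1316 := ndS (p := 1055) (l := 7) rfl N1055 D1316
theorem N1258 : nd 1258 = n1317 := ndS (p := 1056) (l := 4) rfl N1056 D1317
theorem N1259 : nd 1259 = n1318 := ndS (p := 1056) (l := 6) rfl N1056 D1318
theorem N1260 : nd 1260 = n1319 := ndS (p := 1056) (l := 7) rfl N1056 D1319
theorem N1261 : nd 1261 = n1320 := ndS (p := 1057) (l := 8) rfl N1057 D1320
theorem N1262 : nd 1262 = n1321 := ndS (p := 1059) (l := 6) rfl N1059 D1321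
theorem N1263 : nd 1263 = n1322 := ndS (p := 1059) (l := 7) rfl N1059 D1322
theorem N1264 : nd 1264 = n1323 := ndS (p := 1060) (l := 7) rfl N1060 D1323
theorem N1265 : nd 1265 = n1324 := ndS (p := 1061) (l := 8) rfl N1061 D1324
theorem N1266 : nd 1266 = n1325 := ndS (p := 1063) (l := 4) rfl N1063 D1325
theorem N1267 : nd 1267 = n1326 := ndS (p := 1063) (l := 6) rfl N1063 D1326
theorem N1268 : nd 1268 = n1327 := ndS (p := 1063) (l := 7) rfl N1063 D1327
theorem N1269 : nd 1269 = n1259 := ndS (p := 1064) (l := 8) rfl N1064 (iv F5854)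
theorem N1270 : nd 1270 = n1328 := ndS (p := 1066) (l := 6) rfl N1066 D1328
theorem N1271 : nd 1271 = n1329 := ndS (p := 1066) (l := 7) rfl N1066 D1329
theorem N1272 : nd 1272 = n1330 := ndS (p := 1071) (l := 3) rfl N1071 D1330
theorem N1273 : nd 1273 = n1331 := ndS (p := 1072) (l := 2) rfl N1072 D1331
theorem N1274 : nd 1274 = n1332 := ndS (p := 1073) (l := 6) rfl N1073 D1332
theorem N1275 : nd 1275 = n1333 := ndS (p := 1074) (l := 3) rfl N1074 D1333
theorem N1276 : nd 1276 = n1334 := ndS (p := 1074) (l := 5) rfl N1074 D1334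
theorem N1277 : nd 1277 = n1335 := ndS (p := 1075) (l := 5) rfl N1075 D1335
theorem N1278 : nd 1278 = n1336 := ndS (p := 1076) (l := 6) rfl N1076 D1336
theorem N1279 : nd 1279 = n1337 := ndS (p := 1078) (l := 3) rfl N1078 D1337
theorem N1280 : nd 1280 = n1338 := ndS (p := 1078) (l := 5) rfl N1078 D1338
theorem N1281 : nd 1281 = n1339 := ndS (p := 1079) (l := 2) rfl N1079 D1339
theorem N1282 : nd 1282 = n1340 := ndS (p := 1079) (l := 5) rfl N1079 D1340
theorem N1283 : nd 1283 = n1341 := ndS (p := 1079) (l := 7) rfl N1079 D1341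
theorem N1284 : nd 1284 = n1342 := ndS (p := 1080) (l := 6) rfl N1080 D1342
theorem N1285 : nd 1285 = n1343 := ndS (p := 1081) (l := 4) rfl N1081 D1343
theorem N1286 : nd 1286 = n1344 := ndS (p := 1081) (l := 6) rfl N1081 D1344
theorem N1287 : nd 1287 = n1345 := ndS (p := 1081) (l := 7) rfl N1081 D1345
theorem N1288 : nd 1288 = n1346 := ndS (p := 1082) (l := 8) rfl N1082 D1346
theorem N1289 : nd 1289 = n1347 := ndS (p := 1084) (l := 3) rfl N1084 D1347
theorem N1290 : nd 1290 = n1348 := ndS (p := 1084) (l := 5) rfl N1084 D1348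
theorem N1291 : nd 1291 = n1349 := ndS (p := 1085) (l := 2) rfl N1085 D1349
theorem N1292 : nd 1292 = n1350 := ndS (p := 1085) (l := 5) rfl N1085 D1350
theorem N1293 : nd 1293 = n1351 := ndS (p := 1085) (l := 7) rfl N1085 D1351
theorem N1294 : nd 1294 = n1352 := ndS (p := 1086) (l := 6) rfl N1086 D1352
theorem N1295 : nd 1295 = n1353 := ndS (p := 1087) (l := 4) rfl N1087 D1353
theorem N1296 : nd 1296 = n1354 := ndS (p := 1087) (l := 6) rfl N1087 D1354
theorem N1297 : nd 1297 = n1355 := ndS (p := 1087) (l := 7) rfl N1087 D1355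
theorem N1298 : nd 1298 = n1356 := ndS (p := 1088) (l := 8) rfl N1088 D1356
theorem N1299 : nd 1299 = n1357 := ndS (p := 1090) (l := 2) rfl N1090 D1357
theorem N1300 : nd 1300 = n1358 := ndS (p := 1090) (l := 5) rfl N1090 D1358
theorem N1301 : nd 1301 = n1359 := ndS (p := 1091) (l := 6) rfl N1091 D1359
theorem N1302 : nd 1302 = n1360 := ndS (p := 1092) (l := 5) rfl N1092 D1360
theorem N1303 : nd 1303 = n1361 := ndS (p := 1092) (l := 7) rfl N1092 D1361
theorem N1304 : nd 1304 = n1362 := ndS (p := 1093) (l := 4) rfl N1093 D1362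
theorem N1305 : nd 1305 = n1363 := ndS (p := 1093) (l := 6) rfl N1093 D1363
theorem N1306 : nd 1306 = n1364 := ndS (p := 1093) (l := 7) rfl N1093 D1364
theorem N1307 : nd 1307 = n1365 := ndS (p := 1096) (l := 6) rfl N1096 D1365
theorem N1308 : nd 1308 = n1366 := ndS (p := 1096) (l := 7) rfl N1096 D1366
theorem N1309 : nd 1309 = n1367 := ndS (p := 1097) (l := 7) rfl N1097 D1367
theorem N1310 : nd 1310 = n1368 := ndS (p := 1098) (l := 8) rfl N1098 D1368
theorem N1311 : nd 1311 = n1369 := ndS (p := 1106) (l := 4) rfl N1106 D1369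
theorem N1312 : nd 1312 = n1370 := ndS (p := 1109) (l := 5) rfl N1109 D1370
theorem N1313 : nd 1313 = n1371 := ndS (p := 1110) (l := 6) rfl N1110 D1371
theorem N1314 : nd 1314 = n1372 := ndS (p := 1112) (l := 6) rfl N1112 D1372
theorem N1315 : nd 1315 = n1373 := ndS (p := 1112) (l := 7) rfl N1112 D1373
theorem N1316 : nd 1316 = n1374 := ndS (p := 1113) (l := 3) rfl N1113 D1374
theorem N1317 : nd 1317 = n1375 := ndS (p := 1114) (l := 7) rfl N1114 D1375
theorem N1318 : nd 1318 = n1376 := ndS (p := 1116) (l := 8) rfl N1116 D1376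
theorem N1319 : nd 1319 = n1377 := ndS (p := 1118) (l := 4) rfl N1118 D1377
theorem N1320 : nd 1320 = n1254 := ndS (p := 1120) (l := 3) rfl N1120 D1254
theorem N1321 : nd 1321 = n1255 := ndS (p := 1121) (l := 2) rfl N1121 D1255
theorem N1322 : nd 1322 = n1256 := ndS (p := 1122) (l := 2) rfl N1122 D1256
theorem N1323 : nd 1323 = n1257 := ndS (p := 1122) (l := 5) rfl N1122 D1257
theorem N1324 : nd 1324 = n1258 := ndS (p := 1122) (l := 7) rfl N1122 D1258
theorem N1325 : nd 1325 = n1260 := ndS (p := 1125) (l := 4) rfl N1125 D1260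
theorem N1326 : nd 1326 = n1197 := ndS (p := 1138) (l := 6) rfl N1138 D1197
theorem N1327 : nd 1327 = n1198 := ndS (p := 1139) (l := 5) rfl N1139 D1198
theorem N1328 : nd 1328 = n1199 := ndS (p := 1140) (l := 6) rfl N1140 D1199
theorem N1329 : nd 1329 = n1200 := ndS (p := 1142) (l := 2) rfl N1142 D1200
theorem N1330 : nd 1330 = n1201 := ndS (p := 1142) (l := 5) rfl N1142 D1201
theorem N1331 : nd 1331 = n1202 := ndS (p := 1142) (l := 7) rfl N1142 D1202
theorem N1332 : nd 1332 = n1203 := ndS (p := 1143) (l := 6) rfl N1143 D1203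
theorem N1333 : nd 1333 = n1204 := ndS (p := 1144) (l := 4) rfl N1144 D1204
theorem N1334 : nd 1334 = n1205 := ndS (p := 1144) (l := 6) rfl N1144 D1205
theorem N1335 : nd 1335 = n1206 := ndS (p := 1144) (l := 7) rfl N1144 D1206
theorem N1336 : nd 1336 = n1207 := ndS (p := 1147) (l := 3) rfl N1147 D1207
theorem N1337 : nd 1337 = n1208 := ndS (p := 1148) (l := 5) rfl N1148 D1208
theorem N1338 : nd 1338 = n1209 := ndS (p := 1150) (l := 4) rfl N1150 D1209
theorem N1339 : nd 1339 = n1210 := ndS (p := 1150) (l := 6) rfl N1150 D1210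
theorem N1340 : nd 1340 = n1211 := ndS (p := 1150) (l := 7) rfl N1150 D1211
theorem N1341 : nd 1341 = n1212 := ndS (p := 1153) (l := 5) rfl N1153 D1212
theorem N1342 : nd 1342 = n1213 := ndS (p := 1157) (l := 7) rfl N1157 D1213
theorem N1343 : nd 1343 = n1214 := ndS (p := 1158) (l := 7) rfl N1158 D1214
theorem N1344 : nd 1344 = n1215 := ndS (p := 1160) (l := 6) rfl N1160 D1215
theorem N1345 : nd 1345 = n1384 := ndS (p := 1164) (l := 0) rfl N1164 D1384
theorem N1346 : nd 1346 = n1385 := ndS (p := 1164) (l := 4) rfl N1164 D1385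
theorem N1347 : nd 1347 = n1386 := ndS (p := 1165) (l := 3) rfl N1165 D1386
theorem N1348 : nd 1348 = n1387 := ndS (p := 1165) (l := 5) rfl N1165 D1387
theorem N1349 : nd 1349 = n1388 := ndS (p := 1166) (l := 6) rfl N1166 D1388
theorem N1350 : nd 1350 = n1389 := ndS (p := 1167) (l := 4) rfl N1167 D1389
theorem N1351 : nd 1351 = n1390 := ndS (p := 1168) (l := 3) rfl N1168 D1390
theorem N1352 : nd 1352 = n1391 := ndS (p := 1168) (l := 5) rfl N1168 D1391
theorem N1353 : nd 1353 = n1392 := ndS (p := 1170) (l := 4) rfl N1170 D1392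
theorem N1354 : nd 1354 = n1393 := ndS (p := 1171) (l := 3) rfl N1171 D1393
theorem N1355 : nd 1355 = n1394 := ndS (p := 1171) (l := 5) rfl N1171 D1394
theorem N1356 : nd 1356 = n1395 := ndS (p := 1172) (l := 5) rfl N1172 D1395
theorem N1357 : nd 1357 = n1396 := ndS (p := 1172) (l := 7) rfl N1172 D1396
theorem N1358 : nd 1358 = n1397 := ndS (p := 1173) (l := 6) rfl N1173 D1397
theorem N1359 : nd 1359 = n1398 := ndS (p := 1175) (l := 0) rfl N1175 D1398
theorem N1360 : nd 1360 = n1399 := ndS (p := 1175) (l := 4) rfl N1175 D1399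
theorem N1361 : nd 1361 = n1400 := ndS (p := 1176) (l := 3) rfl N1176 D1400
theorem N1362 : nd 1362 = n1401 := ndS (p := 1177) (l := 4) rfl N1177 D1401
theorem N1363 : nd 1363 = n1402 := ndS (p := 1178) (l := 3) rfl N1178 D1402
theorem N1364 : nd 1364 = n1403 := ndS (p := 1178) (l := 5) rfl N1178 D1403
theorem N1365 : nd 1365 = n1404 := ndS (p := 1179) (l := 5) rfl N1179 D1404
theorem N1366 : nd 1366 = n1405 := ndS (p := 1179) (l := 7) rfl N1179 D1405
theorem N1367 : nd 1367 = n1406 := ndS (p := 1181) (l := 3) rfl N1181 D1406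
theorem N1368 : nd 1368 = n1407 := ndS (p := 1181) (l := 5) rfl N1181 D1407
theorem N1369 : nd 1369 = n1408 := ndS (p := 1182) (l := 2) rfl N1182 D1408
theorem N1370 : nd 1370 = n1409 := ndS (p := 1182) (l := 5) rfl N1182 D1409
theorem N1371 : nd 1371 = n1410 := ndS (p := 1182) (l := 7) rfl N1182 D1410
theorem N1372 : nd 1372 = n1411 := ndS (p := 1183) (l := 6) rfl N1183 D1411
theorem N1373 : nd 1373 = n1412 := ndS (p := 1184) (l := 4) rfl N1184 D1412
theorem N1374 : nd 1374 = n1413 := ndS (p := 1184) (l := 6) rfl N1184 D1413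
theorem N1375 : nd 1375 = n1414 := ndS (p := 1184) (l := 7) rfl N1184 D1414
theorem N1376 : nd 1376 = n1415 := ndS (p := 1185) (l := 8) rfl N1185 D1415
theorem N1377 : nd 1377 = n1416 := ndS (p := 1188) (l := 3) rfl N1188 D1416
theorem N1378 : nd 1378 = n1417 := ndS (p := 1188) (l := 5) rfl N1188 D1417
theorem N1379 : nd 1379 = n1418 := ndS (p := 1189) (l := 2) rfl N1189 D1418
theorem N1380 : nd 1380 = n1419 := ndS (p := 1189) (l := 5) rfl N1189 D1419
theorem N1381 : nd 1381 = n1420 := ndS (p := 1191) (l := 4) rfl N1191 D1420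
theorem N1382 : nd 1382 = n1421 := ndS (p := 1192) (l := 2) rfl N1192 D1421
theorem N1383 : nd 1383 = n1422 := ndS (p := 1192) (l := 5) rfl N1192 D1422
theorem N1384 : nd 1384 = n1423 := ndS (p := 1192) (l := 7) rfl N1192 D1423
theorem N1385 : nd 1385 = n1424 := ndS (p := 1193) (l := 6) rfl N1193 D1424
theorem N1386 : nd 1386 = n1425 := ndS (p := 1194) (l := 5) rfl N1194 D1425
theorem N1387 : nd 1387 = n1426 := ndS (p := 1194) (l := 7) rfl N1194 D1426
theorem N1388 : nd 1388 = n1427 := ndS (p := 1195) (l := 4) rfl N1195 D1427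
theorem N1389 : nd 1389 = n1428 := ndS (p := 1195) (l := 6) rfl N1195 D1428
theorem N1390 : nd 1390 = n1429 := ndS (p := 1195) (l := 7) rfl N1195 D1429
theorem N1391 : nd 1391 = n1430 := ndS (p := 1196) (l := 8) rfl N1196 D1430
theorem N1392 : nd 1392 = n1431 := ndS (p := 1198) (l := 6) rfl N1198 D1431
theorem N1393 : nd 1393 = n1432 := ndS (p := 1198) (l := 7) rfl N1198 D1432
theorem N1394 : nd 1394 = n1433 := ndS (p := 1199) (l := 7) rfl N1199 D1433
theorem N1395 : nd 1395 = n1434 := ndS (p := 1200) (l := 8) rfl N1200 D1434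
theorem N1396 : nd 1396 = n1435 := ndS (p := 1202) (l := 3) rfl N1202 D1435
theorem N1397 : nd 1397 = n1436 := ndS (p := 1202) (l := 5) rfl N1202 D1436
theorem N1398 : nd 1398 = n1437 := ndS (p := 1203) (l := 6) rfl N1203 D1437
theorem N1399 : nd 1399 = n1438 := ndS (p := 1204) (l := 3) rfl N1204 D1438
theorem N1400 : nd 1400 = n1439 := ndS (p := 1204) (l := 5) rfl N1204 D1439
theorem N1401 : nd 1401 = n1440 := ndS (p := 1205) (l := 5) rfl N1205 D1440
theorem N1402 : nd 1402 = n1441 := ndS (p := 1205) (l := 7) rfl N1205 D1441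
theorem N1403 : nd 1403 = n1442 := ndS (p := 1206) (l := 6) rfl N1206 D1442
theorem N1404 : nd 1404 = n1443 := ndS (p := 1208) (l := 3) rfl N1208 D1443
theorem N1405 : nd 1405 = n1444 := ndS (p := 1208) (l := 5) rfl N1208 D1444
theorem N1406 : nd 1406 = n1445 := ndS (p := 1209) (l := 2) rfl N1209 D1445
theorem N1407 : nd 1407 = n1446 := ndS (p := 1209) (l := 5) rfl N1209 D1446
theorem N1408 : nd 1408 = n1447 := ndS (p := 1209) (l := 7) rfl N1209 D1447
theorem N1409 : nd 1409 = n1448 := ndS (p := 1210) (l := 6) rfl N1210 D1448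
theorem N1410 : nd 1410 = n1449 := ndS (p := 1211) (l := 4) rfl N1211 D1449
theorem N1411 : nd 1411 = n1450 := ndS (p := 1211) (l := 6) rfl N1211 D1450
theorem N1412 : nd 1412 = n1451 := ndS (p := 1211) (l := 7) rfl N1211 D1451
theorem N1413 : nd 1413 = n1452 := ndS (p := 1212) (l := 8) rfl N1212 D1452
theorem N1414 : nd 1414 = n1453 := ndS (p := 1214) (l := 3) rfl N1214 D1453
theorem N1415 : nd 1415 = n1454 := ndS (p := 1214) (l := 5) rfl N1214 D1454
theorem N1416 : nd 1416 = n1455 := ndS (p := 1215) (l := 2) rfl N1215 D1455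
theorem N1417 : nd 1417 = n1456 := ndS (p := 1215) (l := 5) rfl N1215 D1456
theorem N1418 : nd 1418 = n1457 := ndS (p := 1215) (l := 7) rfl N1215 D1457
theorem N1419 : nd 1419 = n1458 := ndS (p := 1216) (l := 6) rfl N1216 D1458
theorem N1420 : nd 1420 = n1459 := ndS (p := 1217) (l := 4) rfl N1217 D1459
theorem N1421 : nd 1421 = n1460 := ndS (p := 1217) (l := 6) rfl N1217 D1460
theorem N1422 : nd 1422 = n1461 := ndS (p := 1217) (l := 7) rfl N1217 D1461
theorem N1423 : nd 1423 = n1462 := ndS (p := 1218) (l := 8) rfl N1218 D1462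
theorem N1424 : nd 1424 = n1463 := ndS (p := 1220) (l := 2) rfl N1220 D1463
theorem N1425 : nd 1425 = n1464 := ndS (p := 1220) (l := 5) rfl N1220 D1464
theorem N1426 : nd 1426 = n1465 := ndS (p := 1220) (l := 7) rfl N1220 D1465
theorem N1427 : nd 1427 = n1466 := ndS (p := 1221) (l := 6) rfl N1221 D1466
theorem N1428 : nd 1428 = n1467 := ndS (p := 1222) (l := 5) rfl N1222 D1467
theorem N1429 : nd 1429 = n1468 := ndS (p := 1222) (l := 7) rfl N1222 D1468
theorem N1430 : nd 1430 = n1469 := ndS (p := 1223) (l := 4) rfl N1223 D1469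
theorem N1431 : nd 1431 = n1470 := ndS (p := 1223) (l := 6) rfl N1223 D1470
theorem N1432 : nd 1432 = n1471 := ndS (p := 1223) (l := 7) rfl N1223 D1471
theorem N1433 : nd 1433 = n1472 := ndS (p := 1224) (l := 8) rfl N1224 D1472
theorem N1434 : nd 1434 = n1473 := ndS (p := 1226) (l := 6) rfl N1226 D1473
theorem N1435 : nd 1435 = n1474 := ndS (p := 1226) (l := 7) rfl N1226 D1474
theorem N1436 : nd 1436 = n1475 := ndS (p := 1227) (l := 7) rfl N1227 D1475
theorem N1437 : nd 1437 = n1476 := ndS (p := 1228) (l := 8) rfl N1228 D1476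
theorem N1438 : nd 1438 = n1477 := ndS (p := 1230) (l := 5) rfl N1230 D1477
theorem N1439 : nd 1439 = n1478 := ndS (p := 1232) (l := 5) rfl N1232 D1478
theorem N1440 : nd 1440 = n1479 := ndS (p := 1233) (l := 4) rfl N1233 D1479
theorem N1441 : nd 1441 = n1480 := ndS (p := 1233) (l := 6) rfl N1233 D1480
theorem N1442 : nd 1442 = n1481 := ndS (p := 1233) (l := 7) rfl N1233 D1481
theorem N1443 : nd 1443 = n1482 := ndS (p := 1236) (l := 6) rfl N1236 D1482
theorem N1444 : nd 1444 = n1483 := ndS (p := 1236) (l := 7) rfl N1236 D1483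
theorem N1445 : nd 1445 = n1484 := ndS (p := 1241) (l := 4) rfl N1241 D1484
theorem N1446 : nd 1446 = n1485 := ndS (p := 1241) (l := 7) rfl N1241 D1485
theorem N1447 : nd 1447 = n1486 := ndS (p := 1244) (l := 4) rfl N1244 D1486
theorem N1448 : nd 1448 = n1487 := ndS (p := 1244) (l := 7) rfl N1244 D1487
theorem N1449 : nd 1449 = n1488 := ndS (p := 1246) (l := 6) rfl N1246 D1488
theorem N1450 : nd 1450 = n1489 := ndS (p := 1246) (l := 7) rfl N1246 D1489
theorem N1451 : nd 1451 = n1490 := ndS (p := 1251) (l := 3) rfl N1251 D1490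
theorem N1452 : nd 1452 = n1491 := ndS (p := 1252) (l := 5) rfl N1252 D1491
theorem N1453 : nd 1453 = n1492 := ndS (p := 1252) (l := 7) rfl N1252 D1492
theorem N1454 : nd 1454 = n1493 := ndS (p := 1253) (l := 4) rfl N1253 D1493
theorem N1455 : nd 1455 = n1494 := ndS (p := 1253) (l := 6) rfl N1253 D1494
theorem N1456 : nd 1456 = n1495 := ndS (p := 1253) (l := 7) rfl N1253 D1495
theorem N1457 : nd 1457 = n1496 := ndS (p := 1254) (l := 8) rfl N1254 D1496
theorem N1458 : nd 1458 = n1497 := ndS (p := 1256) (l := 4) rfl N1256 D1497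
theorem N1459 : nd 1459 = n1498 := ndS (p := 1256) (l := 6) rfl N1256 D1498
theorem N1460 : nd 1460 = n1499 := ndS (p := 1256) (l := 7) rfl N1256 D1499
theorem N1461 : nd 1461 = n1500 := ndS (p := 1257) (l := 3) rfl N1257 D1500
theorem N1462 : nd 1462 = n1501 := ndS (p := 1257) (l := 8) rfl N1257 D1501
theorem N1463 : nd 1463 = n1502 := ndS (p := 1258) (l := 6) rfl N1258 D1502
theorem N1464 : nd 1464 = n1503 := ndS (p := 1258) (l := 7) rfl N1258 D1503
theorem N1465 : nd 1465 = n1504 := ndS (p := 1259) (l := 7) rfl N1259 D1504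
theorem N1466 : nd 1466 = n1505 := ndS (p := 1260) (l := 8) rfl N1260 D1505
theorem N1467 : nd 1467 = n1506 := ndS (p := 1262) (l := 7) rfl N1262 D1506
theorem N1468 : nd 1468 = n1507 := ndS (p := 1263) (l := 3) rfl N1263 D1507
theorem N1469 : nd 1469 = n1508 := ndS (p := 1263) (l := 8) rfl N1263 D1508
theorem N1470 : nd 1470 = n1509 := ndS (p := 1264) (l := 8) rfl N1264 D1509
theorem N1471 : nd 1471 = n1510 := ndS (p := 1266) (l := 6) rfl N1266 D1510
theorem N1472 : nd 1472 = n1511 := ndS (p := 1266) (l := 7) rfl N1266 D1511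
theorem N1473 : nd 1473 = n1512 := ndS (p := 1271) (l := 3) rfl N1271 D1512
theorem N1474 : nd 1474 = n1513 := ndS (p := 1272) (l := 2) rfl N1272 D1513
theorem N1475 : nd 1475 = n1514 := ndS (p := 1273) (l := 1) rfl N1273 D1514
theorem N1476 : nd 1476 = n1515 := ndS (p := 1275) (l := 2) rfl N1275 D1515
theorem N1477 : nd 1477 = n1516 := ndS (p := 1275) (l := 5) rfl N1275 D1516
theorem N1478 : nd 1478 = n1517 := ndS (p := 1276) (l := 6) rfl N1276 D1517
theorem N1479 : nd 1479 = n1518 := ndS (p := 1277) (l := 4) rfl N1277 D1518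
theorem N1480 : nd 1480 = n1519 := ndS (p := 1277) (l := 6) rfl N1277 D1519
theorem N1481 : nd 1481 = n1520 := ndS (p := 1279) (l := 2) rfl N1279 D1520
theorem N1482 : nd 1482 = n1521 := ndS (p := 1279) (l := 5) rfl N1279 D1521
theorem N1483 : nd 1483 = n1522 := ndS (p := 1279) (l := 7) rfl N1279 D1522
theorem N1484 : nd 1484 = n1523 := ndS (p := 1280) (l := 6) rfl N1280 D1523
theorem N1485 : nd 1485 = n1524 := ndS (p := 1281) (l := 5) rfl N1281 D1524
theorem N1486 : nd 1486 = n1525 := ndS (p := 1281) (l := 7) rfl N1281 D1525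
theorem N1487 : nd 1487 = n1526 := ndS (p := 1282) (l := 4) rfl N1282 D1526
theorem N1488 : nd 1488 = n1527 := ndS (p := 1282) (l := 6) rfl N1282 D1527
theorem N1489 : nd 1489 = n1528 := ndS (p := 1282) (l := 7) rfl N1282 D1528
theorem N1490 : nd 1490 = n1529 := ndS (p := 1283) (l := 8) rfl N1283 D1529
theorem N1491 : nd 1491 = n1530 := ndS (p := 1285) (l := 6) rfl N1285 D1530
theorem N1492 : nd 1492 = n1531 := ndS (p := 1285) (l := 7) rfl N1285 D1531
theorem N1493 : nd 1493 = n1532 := ndS (p := 1286) (l := 7) rfl N1286 D1532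
theorem N1494 : nd 1494 = n1533 := ndS (p := 1287) (l := 8) rfl N1287 D1533
theorem N1495 : nd 1495 = n1534 := ndS (p := 1289) (l := 2) rfl N1289 D1534
theorem N1496 : nd 1496 = n1535 := ndS (p := 1289) (l := 5) rfl N1289 D1535
theorem N1497 : nd 1497 = n1536 := ndS (p := 1291) (l := 5) rfl N1291 D1536
theorem N1498 : nd 1498 = n1537 := ndS (p := 1291) (l := 7) rfl N1291 D1537
theorem N1499 : nd 1499 = n1538 := ndS (p := 1292) (l := 4) rfl N1292 D1538
theorem N1500 : nd 1500 = n1539 := ndS (p := 1292) (l := 6) rfl N1292 D1539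
theorem N1501 : nd 1501 = n1540 := ndS (p := 1292) (l := 7) rfl N1292 D1540
theorem N1502 : nd 1502 = n1541 := ndS (p := 1299) (l := 5) rfl N1299 D1541
theorem N1503 : nd 1503 = n1542 := ndS (p := 1302) (l := 4) rfl N1302 D1542
theorem N1504 : nd 1504 = n1543 := ndS (p := 1302) (l := 6) rfl N1302 D1543
theorem N1505 : nd 1505 = n1544 := ndS (p := 1302) (l := 7) rfl N1302 D1544
theorem N1506 : nd 1506 = n1545 := ndS (p := 1303) (l := 3) rfl N1303 D1545
theorem N1507 : nd 1507 = n1546 := ndS (p := 1304) (l := 7) rfl N1304 D1546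
theorem N1508 : nd 1508 = n1547 := ndS (p := 1305) (l := 7) rfl N1305 D1547
theorem N1509 : nd 1509 = n1548 := ndS (p := 1311) (l := 3) rfl N1311 D1548
theorem N1510 : nd 1510 = n1549 := ndS (p := 1312) (l := 6) rfl N1312 D1549
theorem N1511 : nd 1511 = n1550 := ndS (p := 1314) (l := 7) rfl N1314 D1550
theorem N1512 : nd 1512 = n1551 := ndS (p := 1315) (l := 3) rfl N1315 D1551
theorem N1513 : nd 1513 = n1552 := ndS (p := 1316) (l := 4) rfl N1316 D1552
theorem N1514 : nd 1514 = n1553 := ndS (p := 1319) (l := 5) rfl N1319 D1553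
theorem N1515 : nd 1515 = n1378 := ndS (p := 1327) (l := 4) rfl N1327 D1378
theorem N1516 : nd 1516 = n1379 := ndS (p := 1327) (l := 6) rfl N1327 D1379
theorem N1517 : nd 1517 = n1380 := ndS (p := 1329) (l := 5) rfl N1329 D1380
theorem N1518 : nd 1518 = n1381 := ndS (p := 1330) (l := 4) rfl N1330 D1381
theorem N1519 : nd 1519 = n1382 := ndS (p := 1330) (l := 6) rfl N1330 D1382
theorem N1520 : nd 1520 = n1383 := ndS (p := 1330) (l := 7) rfl N1330 D1383
theorem N1521 : nd 1521 = n1554 := ndS (p := 1345) (l := 4) rfl N1345 D1554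
theorem N1522 : nd 1522 = n1555 := ndS (p := 1346) (l := 3) rfl N1346 D1555
theorem N1523 : nd 1523 = n1556 := ndS (p := 1346) (l := 5) rfl N1346 D1556
theorem N1524 : nd 1524 = n1557 := ndS (p := 1347) (l := 5) rfl N1347 D1557
theorem N1525 : nd 1525 = n1558 := ndS (p := 1347) (l := 7) rfl N1347 D1558
theorem N1526 : nd 1526 = n1559 := ndS (p := 1348) (l := 6) rfl N1348 D1559
theorem N1527 : nd 1527 = n1560 := ndS (p := 1350) (l := 3) rfl N1350 D1560
theorem N1528 : nd 1528 = n1561 := ndS (p := 1350) (l := 5) rfl N1350 D1561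
theorem N1529 : nd 1529 = n1562 := ndS (p := 1351) (l := 5) rfl N1351 D1562
theorem N1530 : nd 1530 = n1563 := ndS (p := 1351) (l := 7) rfl N1351 D1563
theorem N1531 : nd 1531 = n1564 := ndS (p := 1353) (l := 3) rfl N1353 D1564
theorem N1532 : nd 1532 = n1565 := ndS (p := 1353) (l := 5) rfl N1353 D1565
theorem N1533 : nd 1533 = n1566 := ndS (p := 1354) (l := 2) rfl N1354 D1566
theorem N1534 : nd 1534 = n1567 := ndS (p := 1354) (l := 5) rfl N1354 D1567
theorem N1535 : nd 1535 = n1568 := ndS (p := 1354) (l := 7) rfl N1354 D1568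
theorem N1536 : nd 1536 = n1569 := ndS (p := 1355) (l := 6) rfl N1355 D1569
theorem N1537 : nd 1537 = n1570 := ndS (p := 1356) (l := 4) rfl N1356 D1570
theorem N1538 : nd 1538 = n1571 := ndS (p := 1356) (l := 6) rfl N1356 D1571
theorem N1539 : nd 1539 = n1572 := ndS (p := 1356) (l := 7) rfl N1356 D1572
theorem N1540 : nd 1540 = n1573 := ndS (p := 1357) (l := 8) rfl N1357 D1573
theorem N1541 : nd 1541 = n1574 := ndS (p := 1359) (l := 4) rfl N1359 D1574
theorem N1542 : nd 1542 = n1575 := ndS (p := 1360) (l := 3) rfl N1360 D1575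
theorem N1543 : nd 1543 = n1576 := ndS (p := 1361) (l := 7) rfl N1361 D1576
theorem N1544 : nd 1544 = n1577 := ndS (p := 1362) (l := 3) rfl N1362 D1577
theorem N1545 : nd 1545 = n1578 := ndS (p := 1362) (l := 5) rfl N1362 D1578
theorem N1546 : nd 1546 = n1579 := ndS (p := 1363) (l := 2) rfl N1363 D1579
theorem N1547 : nd 1547 = n1580 := ndS (p := 1363) (l := 5) rfl N1363 D1580
theorem N1548 : nd 1548 = n1581 := ndS (p := 1363) (l := 7) rfl N1363 D1581
theorem N1549 : nd 1549 = n1582 := ndS (p := 1365) (l := 4) rfl N1365 D1582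
theorem N1550 : nd 1550 = n1583 := ndS (p := 1365) (l := 7) rfl N1365 D1583
theorem N1551 : nd 1551 = n1584 := ndS (p := 1366) (l := 8) rfl N1366 D1584
theorem N1552 : nd 1552 = n1585 := ndS (p := 1367) (l := 2) rfl N1367 D1585
theorem N1553 : nd 1553 = n1586 := ndS (p := 1367) (l := 5) rfl N1367 D1586
theorem N1554 : nd 1554 = n1587 := ndS (p := 1367) (l := 7) rfl N1367 D1587
theorem N1555 : nd 1555 = n1588 := ndS (p := 1368) (l := 6) rfl N1368 D1588
theorem N1556 : nd 1556 = n1589 := ndS (p := 1369) (l := 5) rfl N1369 D1589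
theorem N1557 : nd 1557 = n1590 := ndS (p := 1369) (l := 7) rfl N1369 D1590
theorem N1558 : nd 1558 = n1591 := ndS (p := 1370) (l := 4) rfl N1370 D1591
theorem N1559 : nd 1559 = n1592 := ndS (p := 1370) (l := 6) rfl N1370 D1592
theorem N1560 : nd 1560 = n1593 := ndS (p := 1370) (l := 7) rfl N1370 D1593
theorem N1561 : nd 1561 = n1594 := ndS (p := 1371) (l := 8) rfl N1371 D1594
theorem N1562 : nd 1562 = n1595 := ndS (p := 1373) (l := 6) rfl N1373 D1595
theorem N1563 : nd 1563 = n1596 := ndS (p := 1373) (l := 7) rfl N1373 D1596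
theorem N1564 : nd 1564 = n1597 := ndS (p := 1374) (l := 7) rfl N1374 D1597
theorem N1565 : nd 1565 = n1598 := ndS (p := 1375) (l := 8) rfl N1375 D1598
theorem N1566 : nd 1566 = n1599 := ndS (p := 1377) (l := 5) rfl N1377 D1599
theorem N1567 : nd 1567 = n1600 := ndS (p := 1379) (l := 5) rfl N1379 D1600
theorem N1568 : nd 1568 = n1601 := ndS (p := 1380) (l := 4) rfl N1380 D1601
theorem N1569 : nd 1569 = n1602 := ndS (p := 1382) (l := 5) rfl N1382 D1602
theorem N1570 : nd 1570 = n1603 := ndS (p := 1383) (l := 4) rfl N1383 D1603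
theorem N1571 : nd 1571 = n1604 := ndS (p := 1383) (l := 6) rfl N1383 D1604
theorem N1572 : nd 1572 = n1605 := ndS (p := 1383) (l := 7) rfl N1383 D1605
theorem N1573 : nd 1573 = n1606 := ndS (p := 1386) (l := 4) rfl N1386 D1606
theorem N1574 : nd 1574 = n1607 := ndS (p := 1388) (l := 6) rfl N1388 D1607
theorem N1575 : nd 1575 = n1608 := ndS (p := 1388) (l := 7) rfl N1388 D1608
theorem N1576 : nd 1576 = n1609 := ndS (p := 1390) (l := 8) rfl N1390 D1609
theorem N1577 : nd 1577 = n1610 := ndS (p := 1392) (l := 5) rfl N1392 D1610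
theorem N1578 : nd 1578 = n1611 := ndS (p := 1392) (l := 7) rfl N1392 D1611
theorem N1579 : nd 1579 = n1612 := ndS (p := 1393) (l := 3) rfl N1393 D1612
theorem N1580 : nd 1580 = n1613 := ndS (p := 1396) (l := 5) rfl N1396 D1613
theorem N1581 : nd 1581 = n1614 := ndS (p := 1396) (l := 7) rfl N1396 D1614
theorem N1582 : nd 1582 = n1615 := ndS (p := 1397) (l := 6) rfl N1397 D1615
theorem N1583 : nd 1583 = n1616 := ndS (p := 1399) (l := 2) rfl N1399 D1616
theorem N1584 : nd 1584 = n1617 := ndS (p := 1399) (l := 5) rfl N1399 D1617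
theorem N1585 : nd 1585 = n1618 := ndS (p := 1399) (l := 7) rfl N1399 D1618
theorem N1586 : nd 1586 = n1619 := ndS (p := 1400) (l := 6) rfl N1400 D1619
theorem N1587 : nd 1587 = n1620 := ndS (p := 1401) (l := 4) rfl N1401 D1620
theorem N1588 : nd 1588 = n1621 := ndS (p := 1401) (l := 6) rfl N1401 D1621
theorem N1589 : nd 1589 = n1622 := ndS (p := 1401) (l := 7) rfl N1401 D1622
theorem N1590 : nd 1590 = n1623 := ndS (p := 1402) (l := 8) rfl N1402 D1623
theorem N1591 : nd 1591 = n1624 := ndS (p := 1404) (l := 2) rfl N1404 D1624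
theorem N1592 : nd 1592 = n1625 := ndS (p := 1404) (l := 5) rfl N1404 D1625
theorem N1593 : nd 1593 = n1626 := ndS (p := 1404) (l := 7) rfl N1404 D1626
theorem N1594 : nd 1594 = n1627 := ndS (p := 1405) (l := 6) rfl N1405 D1627
theorem N1595 : nd 1595 = n1628 := ndS (p := 1406) (l := 5) rfl N1406 D1628
theorem N1596 : nd 1596 = n1629 := ndS (p := 1406) (l := 7) rfl N1406 D1629
theorem N1597 : nd 1597 = n1630 := ndS (p := 1407) (l := 4) rfl N1407 D1630
theorem N1598 : nd 1598 = n1631 := ndS (p := 1407) (l := 6) rfl N1407 D1631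
theorem N1599 : nd 1599 = n1632 := ndS (p := 1407) (l := 7) rfl N1407 D1632
theorem N1600 : nd 1600 = n1633 := ndS (p := 1408) (l := 8) rfl N1408 D1633
theorem N1601 : nd 1601 = n1634 := ndS (p := 1410) (l := 6) rfl N1410 D1634
theorem N1602 : nd 1602 = n1635 := ndS (p := 1410) (l := 7) rfl N1410 D1635
theorem N1603 : nd 1603 = n1636 := ndS (p := 1411) (l := 7) rfl N1411 D1636
theorem N1604 : nd 1604 = n1637 := ndS (p := 1412) (l := 8) rfl N1412 D1637
theorem N1605 : nd 1605 = n1638 := ndS (p := 1414) (l := 2) rfl N1414 D1638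
theorem N1606 : nd 1606 = n1639 := ndS (p := 1414) (l := 5) rfl N1414 D1639
theorem N1607 : nd 1607 = n1640 := ndS (p := 1414) (l := 7) rfl N1414 D1640
theorem N1608 : nd 1608 = n1641 := ndS (p := 1416) (l := 5) rfl N1416 D1641
theorem N1609 : nd 1609 = n1642 := ndS (p := 1416) (l := 7) rfl N1416 D1642
theorem N1610 : nd 1610 = n1643 := ndS (p := 1417) (l := 4) rfl N1417 D1643
theorem N1611 : nd 1611 = n1644 := ndS (p := 1417) (l := 6) rfl N1417 D1644
theorem N1612 : nd 1612 = n1645 := ndS (p := 1417) (l := 7) rfl N1417 D1645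
theorem N1613 : nd 1613 = n1646 := ndS (p := 1418) (l := 8) rfl N1418 D1646
theorem N1614 : nd 1614 = n1647 := ndS (p := 1420) (l := 6) rfl N1420 D1647
theorem N1615 : nd 1615 = n1648 := ndS (p := 1420) (l := 7) rfl N1420 D1648
theorem N1616 : nd 1616 = n1649 := ndS (p := 1421) (l := 7) rfl N1421 D1649
theorem N1617 : nd 1617 = n1650 := ndS (p := 1422) (l := 8) rfl N1422 D1650
theorem N1618 : nd 1618 = n1651 := ndS (p := 1424) (l := 1) rfl N1424 D1651
theorem N1619 : nd 1619 = n1652 := ndS (p := 1424) (l := 5) rfl N1424 D1652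
theorem N1620 : nd 1620 = n1653 := ndS (p := 1424) (l := 7) rfl N1424 D1653
theorem N1621 : nd 1621 = n1654 := ndS (p := 1425) (l := 4) rfl N1425 D1654
theorem N1622 : nd 1622 = n1655 := ndS (p := 1425) (l := 6) rfl N1425 D1655
theorem N1623 : nd 1623 = n1656 := ndS (p := 1425) (l := 7) rfl N1425 D1656
theorem N1624 : nd 1624 = n1657 := ndS (p := 1426) (l := 8) rfl N1426 D1657
theorem N1625 : nd 1625 = n1658 := ndS (p := 1428) (l := 4) rfl N1428 D1658
theorem N1626 : nd 1626 = n1659 := ndS (p := 1428) (l := 6) rfl N1428 D1659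
theorem N1627 : nd 1627 = n1660 := ndS (p := 1428) (l := 7) rfl N1428 D1660
theorem N1628 : nd 1628 = n1661 := ndS (p := 1429) (l := 3) rfl N1429 D1661
theorem N1629 : nd 1629 = n1662 := ndS (p := 1429) (l := 8) rfl N1429 D1662
theorem N1630 : nd 1630 = n1663 := ndS (p := 1430) (l := 6) rfl N1430 D1663
theorem N1631 : nd 1631 = n1664 := ndS (p := 1430) (l := 7) rfl N1430 D1664
theorem N1632 : nd 1632 = n1665 := ndS (p := 1431) (l := 7) rfl N1431 D1665
theorem N1633 : nd 1633 = n1666 := ndS (p := 1432) (l := 8) rfl N1432 D1666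
theorem N1634 : nd 1634 = n1667 := ndS (p := 1434) (l := 5) rfl N1434 D1667
theorem N1635 : nd 1635 = n1668 := ndS (p := 1434) (l := 7) rfl N1434 D1668
theorem N1636 : nd 1636 = n1669 := ndS (p := 1435) (l := 3) rfl N1435 D1669
theorem N1637 : nd 1637 = n1670 := ndS (p := 1435) (l := 8) rfl N1435 D1670
theorem N1638 : nd 1638 = n1671 := ndS (p := 1436) (l := 8) rfl N1436 D1671
theorem N1639 : nd 1639 = n1672 := ndS (p := 1438) (l := 4) rfl N1438 D1672
theorem N1640 : nd 1640 = n1673 := ndS (p := 1439) (l := 4) rfl N1439 D1673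
theorem N1641 : nd 1641 = n1674 := ndS (p := 1440) (l := 6) rfl N1440 D1674
theorem N1642 : nd 1642 = n1675 := ndS (p := 1440) (l := 7) rfl N1440 D1675
theorem N1643 : nd 1643 = n1676 := ndS (p := 1445) (l := 7) rfl N1445 D1676
theorem N1644 : nd 1644 = n1677 := ndS (p := 1447) (l := 3) rfl N1447 D1677
theorem N1645 : nd 1645 = n1678 := ndS (p := 1447) (l := 7) rfl N1447 D1678
theorem N1646 : nd 1646 = n1679 := ndS (p := 1450) (l := 3) rfl N1450 D1679
theorem N1647 : nd 1647 = n1680 := ndS (p := 1451) (l := 2) rfl N1451 D1680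
theorem N1648 : nd 1648 = n1681 := ndS (p := 1452) (l := 4) rfl N1452 D1681
theorem N1649 : nd 1649 = n1682 := ndS (p := 1452) (l := 6) rfl N1452 D1682
theorem N1650 : nd 1650 = n1683 := ndS (p := 1452) (l := 7) rfl N1452 D1683
theorem N1651 : nd 1651 = n1684 := ndS (p := 1453) (l := 8) rfl N1453 D1684
theorem N1652 : nd 1652 = n1685 := ndS (p := 1454) (l := 6) rfl N1454 D1685
theorem N1653 : nd 1653 = n1686 := ndS (p := 1454) (l := 7) rfl N1454 D1686
theorem N1654 : nd 1654 = n1687 := ndS (p := 1455) (l := 7) rfl N1455 D1687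
theorem N1655 : nd 1655 = n1688 := ndS (p := 1456) (l := 8) rfl N1456 D1688
theorem N1656 : nd 1656 = n1689 := ndS (p := 1458) (l := 6) rfl N1458 D1689
theorem N1657 : nd 1657 = n1690 := ndS (p := 1458) (l := 7) rfl N1458 D1690
theorem N1658 : nd 1658 = n1691 := ndS (p := 1459) (l := 7) rfl N1459 D1691
theorem N1659 : nd 1659 = n1692 := ndS (p := 1460) (l := 3) rfl N1460 D1692
theorem N1660 : nd 1660 = n1693 := ndS (p := 1460) (l := 8) rfl N1460 D1693
theorem N1661 : nd 1661 = n1694 := ndS (p := 1461) (l := 4) rfl N1461 D1694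
theorem N1662 : nd 1662 = n1695 := ndS (p := 1461) (l := 8) rfl N1461 D1695
theorem N1663 : nd 1663 = n1696 := ndS (p := 1463) (l := 7) rfl N1463 D1696
theorem N1664 : nd 1664 = n1697 := ndS (p := 1464) (l := 3) rfl N1464 D1697
theorem N1665 : nd 1665 = n1698 := ndS (p := 1464) (l := 8) rfl N1464 D1698
theorem N1666 : nd 1666 = n1699 := ndS (p := 1465) (l := 8) rfl N1465 D1699
theorem N1667 : nd 1667 = n1700 := ndS (p := 1467) (l := 8) rfl N1467 D1700
theorem N1668 : nd 1668 = n1701 := ndS (p := 1468) (l := 2) rfl N1468 D1701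
theorem N1669 : nd 1669 = n1702 := ndS (p := 1468) (l := 8) rfl N1468 D1702
theorem N1670 : nd 1670 = n1703 := ndS (p := 1472) (l := 3) rfl N1472 D1703
theorem N1671 : nd 1671 = n1704 := ndS (p := 1473) (l := 2) rfl N1473 D1704
theorem N1672 : nd 1672 = n1705 := ndS (p := 1474) (l := 1) rfl N1474 D1705
theorem N1673 : nd 1673 = n1706 := ndS (p := 1475) (l := 0) rfl N1475 D1706
theorem N1674 : nd 1674 = n1707 := ndS (p := 1476) (l := 5) rfl N1476 D1707
theorem N1675 : nd 1675 = n1708 := ndS (p := 1477) (l := 4) rfl N1477 D1708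
theorem N1676 : nd 1676 = n1709 := ndS (p := 1477) (l := 6) rfl N1477 D1709
theorem N1677 : nd 1677 = n1710 := ndS (p := 1481) (l := 1) rfl N1481 D1710
theorem N1678 : nd 1678 = n1711 := ndS (p := 1481) (l := 5) rfl N1481 D1711
theorem N1679 : nd 1679 = n1712 := ndS (p := 1481) (l := 7) rfl N1481 D1712
theorem N1680 : nd 1680 = n1713 := ndS (p := 1482) (l := 4) rfl N1482 D1713
theorem N1681 : nd 1681 = n1714 := ndS (p := 1482) (l := 6) rfl N1482 D1714
theorem N1682 : nd 1682 = n1715 := ndS (p := 1482) (l := 7) rfl N1482 D1715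
theorem N1683 : nd 1683 = n1716 := ndS (p := 1485) (l := 4) rfl N1485 D1716
theorem N1684 : nd 1684 = n1717 := ndS (p := 1485) (l := 6) rfl N1485 D1717
theorem N1685 : nd 1685 = n1718 := ndS (p := 1485) (l := 7) rfl N1485 D1718
theorem N1686 : nd 1686 = n1719 := ndS (p := 1486) (l := 3) rfl N1486 D1719
theorem N1687 : nd 1687 = n1720 := ndS (p := 1489) (l := 8) rfl N1489 D1720
theorem N1688 : nd 1688 = n1721 := ndS (p := 1495) (l := 5) rfl N1495 D1721
theorem N1689 : nd 1689 = n1722 := ndS (p := 1497) (l := 4) rfl N1497 D1722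
theorem N1690 : nd 1690 = n1723 := ndS (p := 1497) (l := 6) rfl N1497 D1723
theorem N1691 : nd 1691 = n1724 := ndS (p := 1497) (l := 7) rfl N1497 D1724
theorem N1692 : nd 1692 = n1725 := ndS (p := 1503) (l := 3) rfl N1503 D1725
theorem N1693 : nd 1693 = n1726 := ndS (p := 1503) (l := 7) rfl N1503 D1726
theorem N1694 : nd 1694 = n1727 := ndS (p := 1504) (l := 7) rfl N1504 D1727
theorem N1695 : nd 1695 = n1728 := ndS (p := 1505) (l := 3) rfl N1505 D1728
theorem N1696 : nd 1696 = n1729 := ndS (p := 1506) (l := 4) rfl N1506 D1729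
theorem N1697 : nd 1697 = n1730 := ndS (p := 1509) (l := 7) rfl N1509 D1730
theorem N1698 : nd 1698 = n1731 := ndS (p := 1511) (l := 3) rfl N1511 D1731
theorem N1699 : nd 1699 = n1732 := ndS (p := 1512) (l := 4) rfl N1512 D1732
theorem N1700 : nd 1700 = n1733 := ndS (p := 1513) (l := 5) rfl N1513 D1733
theorem N1701 : nd 1701 = n1734 := ndS (p := 1521) (l := 3) rfl N1521 D1734
theorem N1702 : nd 1702 = n1735 := ndS (p := 1521) (l := 5) rfl N1521 D1735
theorem N1703 : nd 1703 = n1736 := ndS (p := 1522) (l := 2) rfl N1522 D1736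
theorem N1704 : nd 1704 = n1737 := ndS (p := 1522) (l := 5) rfl N1522 D1737
theorem N1705 : nd 1705 = n1738 := ndS (p := 1522) (l := 7) rfl N1522 D1738
theorem N1706 : nd 1706 = n1739 := ndS (p := 1523) (l := 6) rfl N1523 D1739
theorem N1707 : nd 1707 = n1740 := ndS (p := 1524) (l := 4) rfl N1524 D1740
theorem N1708 : nd 1708 = n1741 := ndS (p := 1524) (l := 6) rfl N1524 D1741
theorem N1709 : nd 1709 = n1742 := ndS (p := 1524) (l := 7) rfl N1524 D1742
theorem N1710 : nd 1710 = n1743 := ndS (p := 1525) (l := 8) rfl N1525 D1743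
theorem N1711 : nd 1711 = n1744 := ndS (p := 1527) (l := 2) rfl N1527 D1744
theorem N1712 : nd 1712 = n1745 := ndS (p := 1527) (l := 5) rfl N1527 D1745
theorem N1713 : nd 1713 = n1746 := ndS (p := 1527) (l := 7) rfl N1527 D1746
theorem N1714 : nd 1714 = n1747 := ndS (p := 1529) (l := 4) rfl N1529 D1747
theorem N1715 : nd 1715 = n1748 := ndS (p := 1529) (l := 7) rfl N1529 D1748
theorem N1716 : nd 1716 = n1749 := ndS (p := 1530) (l := 8) rfl N1530 D1749
theorem N1717 : nd 1717 = n1750 := ndS (p := 1531) (l := 2) rfl N1531 D1750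
theorem N1718 : nd 1718 = n1751 := ndS (p := 1531) (l := 5) rfl N1531 D1751
theorem N1719 : nd 1719 = n1752 := ndS (p := 1531) (l := 7) rfl N1531 D1752
theorem N1720 : nd 1720 = n1753 := ndS (p := 1532) (l := 6) rfl N1532 D1753
theorem N1721 : nd 1721 = n1754 := ndS (p := 1533) (l := 5) rfl N1533 D1754
theorem N1722 : nd 1722 = n1755 := ndS (p := 1533) (l := 7) rfl N1533 D1755
theorem N1723 : nd 1723 = n1756 := ndS (p := 1534) (l := 4) rfl N1534 D1756
theorem N1724 : nd 1724 = n1757 := ndS (p := 1534) (l := 6) rfl N1534 D1757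
theorem N1725 : nd 1725 = n1758 := ndS (p := 1534) (l := 7) rfl N1534 D1758
theorem N1726 : nd 1726 = n1759 := ndS (p := 1535) (l := 8) rfl N1535 D1759
theorem N1727 : nd 1727 = n1760 := ndS (p := 1537) (l := 6) rfl N1537 D1760
theorem N1728 : nd 1728 = n1761 := ndS (p := 1537) (l := 7) rfl N1537 D1761
theorem N1729 : nd 1729 = n1762 := ndS (p := 1538) (l := 7) rfl N1538 D1762
theorem N1730 : nd 1730 = n1763 := ndS (p := 1539) (l := 8) rfl N1539 D1763
theorem N1731 : nd 1731 = n1764 := ndS (p := 1541) (l := 3) rfl N1541 D1764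
theorem N1732 : nd 1732 = n1765 := ndS (p := 1542) (l := 2) rfl N1542 D1765
theorem N1733 : nd 1733 = n1766 := ndS (p := 1542) (l := 7) rfl N1542 D1766
theorem N1734 : nd 1734 = n1767 := ndS (p := 1543) (l := 8) rfl N1543 D1767
theorem N1735 : nd 1735 = n1768 := ndS (p := 1544) (l := 2) rfl N1544 D1768
theorem N1736 : nd 1736 = n1769 := ndS (p := 1544) (l := 5) rfl N1544 D1769
theorem N1737 : nd 1737 = n1770 := ndS (p := 1544) (l := 7) rfl N1544 D1770
theorem N1738 : nd 1738 = n1771 := ndS (p := 1546) (l := 5) rfl N1546 D1771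
theorem N1739 : nd 1739 = n1772 := ndS (p := 1546) (l := 7) rfl N1546 D1772
theorem N1740 : nd 1740 = n1773 := ndS (p := 1547) (l := 4) rfl N1547 D1773
theorem N1741 : nd 1741 = n1774 := ndS (p := 1547) (l := 7) rfl N1547 D1774
theorem N1742 : nd 1742 = n1775 := ndS (p := 1548) (l := 8) rfl N1548 D1775
theorem N1743 : nd 1743 = n1776 := ndS (p := 1549) (l := 7) rfl N1549 D1776
theorem N1744 : nd 1744 = n1777 := ndS (p := 1550) (l := 8) rfl N1550 D1777
theorem N1745 : nd 1745 = n1778 := ndS (p := 1552) (l := 1) rfl N1552 D1778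
theorem N1746 : nd 1746 = n1779 := ndS (p := 1552) (l := 5) rfl N1552 D1779
theorem N1747 : nd 1747 = n1780 := ndS (p := 1552) (l := 7) rfl N1552 D1780
theorem N1748 : nd 1748 = n1781 := ndS (p := 1553) (l := 4) rfl N1553 D1781
theorem N1749 : nd 1749 = n1782 := ndS (p := 1553) (l := 6) rfl N1553 D1782
theorem N1750 : nd 1750 = n1783 := ndS (p := 1553) (l := 7) rfl N1553 D1783
theorem N1751 : nd 1751 = n1784 := ndS (p := 1554) (l := 8) rfl N1554 D1784
theorem N1752 : nd 1752 = n1785 := ndS (p := 1556) (l := 4) rfl N1556 D1785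
theorem N1753 : nd 1753 = n1786 := ndS (p := 1556) (l := 6) rfl N1556 D1786
theorem N1754 : nd 1754 = n1787 := ndS (p := 1556) (l := 7) rfl N1556 D1787
theorem N1755 : nd 1755 = n1788 := ndS (p := 1557) (l := 3) rfl N1557 D1788
theorem N1756 : nd 1756 = n1789 := ndS (p := 1557) (l := 8) rfl N1557 D1789
theorem N1757 : nd 1757 = n1790 := ndS (p := 1558) (l := 6) rfl N1558 D1790
theorem N1758 : nd 1758 = n1791 := ndS (p := 1558) (l := 7) rfl N1558 D1791
theorem N1759 : nd 1759 = n1792 := ndS (p := 1559) (l := 7) rfl N1559 D1792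
theorem N1760 : nd 1760 = n1793 := ndS (p := 1560) (l := 8) rfl N1560 D1793
theorem N1761 : nd 1761 = n1794 := ndS (p := 1562) (l := 5) rfl N1562 D1794
theorem N1762 : nd 1762 = n1795 := ndS (p := 1562) (l := 7) rfl N1562 D1795
theorem N1763 : nd 1763 = n1796 := ndS (p := 1563) (l := 3) rfl N1563 D1796
theorem N1764 : nd 1764 = n1797 := ndS (p := 1563) (l := 8) rfl N1563 D1797
theorem N1765 : nd 1765 = n1798 := ndS (p := 1564) (l := 8) rfl N1564 D1798
theorem N1766 : nd 1766 = n1799 := ndS (p := 1566) (l := 4) rfl N1566 D1799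
theorem N1767 : nd 1767 = n1800 := ndS (p := 1567) (l := 4) rfl N1567 D1800
theorem N1768 : nd 1768 = n1801 := ndS (p := 1569) (l := 4) rfl N1569 D1801
theorem N1769 : nd 1769 = n1802 := ndS (p := 1570) (l := 6) rfl N1570 D1802
theorem N1770 : nd 1770 = n1803 := ndS (p := 1570) (l := 7) rfl N1570 D1803
theorem N1771 : nd 1771 = n1804 := ndS (p := 1573) (l := 3) rfl N1573 D1804
theorem N1772 : nd 1772 = n1805 := ndS (p := 1574) (l := 5) rfl N1574 D1805
theorem N1773 : nd 1773 = n1806 := ndS (p := 1575) (l := 3) rfl N1575 D1806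
theorem N1774 : nd 1774 = n1807 := ndS (p := 1578) (l := 3) rfl N1578 D1807
theorem N1775 : nd 1775 = n1808 := ndS (p := 1579) (l := 2) rfl N1579 D1808
theorem N1776 : nd 1776 = n1809 := ndS (p := 1580) (l := 4) rfl N1580 D1809
theorem N1777 : nd 1777 = n1810 := ndS (p := 1580) (l := 6) rfl N1580 D1810
theorem N1778 : nd 1778 = n1811 := ndS (p := 1580) (l := 7) rfl N1580 D1811
theorem N1779 : nd 1779 = n1812 := ndS (p := 1581) (l := 8) rfl N1581 D1812
theorem N1780 : nd 1780 = n1813 := ndS (p := 1583) (l := 5) rfl N1583 D1813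
theorem N1781 : nd 1781 = n1814 := ndS (p := 1583) (l := 7) rfl N1583 D1814
theorem N1782 : nd 1782 = n1815 := ndS (p := 1584) (l := 4) rfl N1584 D1815
theorem N1783 : nd 1783 = n1816 := ndS (p := 1584) (l := 6) rfl N1584 D1816
theorem N1784 : nd 1784 = n1817 := ndS (p := 1584) (l := 7) rfl N1584 D1817
theorem N1785 : nd 1785 = n1818 := ndS (p := 1585) (l := 8) rfl N1585 D1818
theorem N1786 : nd 1786 = n1819 := ndS (p := 1587) (l := 6) rfl N1587 D1819
theorem N1787 : nd 1787 = n1820 := ndS (p := 1587) (l := 7) rfl N1587 D1820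
theorem N1788 : nd 1788 = n1821 := ndS (p := 1588) (l := 7) rfl N1588 D1821
theorem N1789 : nd 1789 = n1822 := ndS (p := 1589) (l := 8) rfl N1589 D1822
theorem N1790 : nd 1790 = n1823 := ndS (p := 1591) (l := 1) rfl N1591 D1823
theorem N1791 : nd 1791 = n1824 := ndS (p := 1591) (l := 5) rfl N1591 D1824
theorem N1792 : nd 1792 = n1825 := ndS (p := 1591) (l := 7) rfl N1591 D1825
theorem N1793 : nd 1793 = n1826 := ndS (p := 1592) (l := 4) rfl N1592 D1826
theorem N1794 : nd 1794 = n1827 := ndS (p := 1592) (l := 6) rfl N1592 D1827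
theorem N1795 : nd 1795 = n1828 := ndS (p := 1592) (l := 7) rfl N1592 D1828
theorem N1796 : nd 1796 = n1829 := ndS (p := 1593) (l := 8) rfl N1593 D1829
theorem N1797 : nd 1797 = n1830 := ndS (p := 1595) (l := 4) rfl N1595 D1830
theorem N1798 : nd 1798 = n1831 := ndS (p := 1595) (l := 6) rfl N1595 D1831
theorem N1799 : nd 1799 = n1832 := ndS (p := 1595) (l := 7) rfl N1595 D1832
theorem N1800 : nd 1800 = n1833 := ndS (p := 1596) (l := 3) rfl N1596 D1833
theorem N1801 : nd 1801 = n1834 := ndS (p := 1596) (l := 8) rfl N1596 D1834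
theorem N1802 : nd 1802 = n1835 := ndS (p := 1597) (l := 6) rfl N1597 D1835
theorem N1803 : nd 1803 = n1836 := ndS (p := 1597) (l := 7) rfl N1597 D1836
theorem N1804 : nd 1804 = n1837 := ndS (p := 1598) (l := 7) rfl N1598 D1837
theorem N1805 : nd 1805 = n1838 := ndS (p := 1599) (l := 8) rfl N1599 D1838
theorem N1806 : nd 1806 = n1839 := ndS (p := 1601) (l := 5) rfl N1601 D1839
theorem N1807 : nd 1807 = n1840 := ndS (p := 1601) (l := 7) rfl N1601 D1840
theorem N1808 : nd 1808 = n1841 := ndS (p := 1602) (l := 3) rfl N1602 D1841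
theorem N1809 : nd 1809 = n1842 := ndS (p := 1602) (l := 8) rfl N1602 D1842
theorem N1810 : nd 1810 = n1843 := ndS (p := 1603) (l := 8) rfl N1603 D1843
theorem N1811 : nd 1811 = n1844 := ndS (p := 1605) (l := 1) rfl N1605 D1844
theorem N1812 : nd 1812 = n1845 := ndS (p := 1605) (l := 5) rfl N1605 D1845
theorem N1813 : nd 1813 = n1846 := ndS (p := 1605) (l := 7) rfl N1605 D1846
theorem N1814 : nd 1814 = n1847 := ndS (p := 1606) (l := 4) rfl N1606 D1847
theorem N1815 : nd 1815 = n1848 := ndS (p := 1606) (l := 7) rfl N1606 D1848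
theorem N1816 : nd 1816 = n1849 := ndS (p := 1607) (l := 8) rfl N1607 D1849
theorem N1817 : nd 1817 = n1850 := ndS (p := 1608) (l := 4) rfl N1608 D1850
theorem N1818 : nd 1818 = n1851 := ndS (p := 1608) (l := 6) rfl N1608 D1851
theorem N1819 : nd 1819 = n1852 := ndS (p := 1608) (l := 7) rfl N1608 D1852
theorem N1820 : nd 1820 = n1853 := ndS (p := 1609) (l := 3) rfl N1609 D1853
theorem N1821 : nd 1821 = n1854 := ndS (p := 1609) (l := 8) rfl N1609 D1854
theorem N1822 : nd 1822 = n1855 := ndS (p := 1610) (l := 6) rfl N1610 D1855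
theorem N1823 : nd 1823 = n1856 := ndS (p := 1610) (l := 7) rfl N1610 D1856
theorem N1824 : nd 1824 = n1857 := ndS (p := 1611) (l := 7) rfl N1611 D1857
theorem N1825 : nd 1825 = n1858 := ndS (p := 1612) (l := 8) rfl N1612 D1858
theorem N1826 : nd 1826 = n1859 := ndS (p := 1614) (l := 7) rfl N1614 D1859
theorem N1827 : nd 1827 = n1860 := ndS (p := 1615) (l := 3) rfl N1615 D1860
theorem N1828 : nd 1828 = n1861 := ndS (p := 1615) (l := 8) rfl N1615 D1861
theorem N1829 : nd 1829 = n1862 := ndS (p := 1616) (l := 8) rfl N1616 D1862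
theorem N1830 : nd 1830 = n1863 := ndS (p := 1618) (l := 5) rfl N1618 D1863
theorem N1831 : nd 1831 = n1864 := ndS (p := 1619) (l := 4) rfl N1619 D1864
theorem N1832 : nd 1832 = n1865 := ndS (p := 1619) (l := 6) rfl N1619 D1865
theorem N1833 : nd 1833 = n1866 := ndS (p := 1619) (l := 7) rfl N1619 D1866
theorem N1834 : nd 1834 = n1867 := ndS (p := 1620) (l := 8) rfl N1620 D1867
theorem N1835 : nd 1835 = n1868 := ndS (p := 1621) (l := 6) rfl N1621 D1868
theorem N1836 : nd 1836 = n1869 := ndS (p := 1621) (l := 7) rfl N1621 D1869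
theorem N1837 : nd 1837 = n1870 := ndS (p := 1622) (l := 7) rfl N1622 D1870
theorem N1838 : nd 1838 = n1871 := ndS (p := 1623) (l := 8) rfl N1623 D1871
theorem N1839 : nd 1839 = n1872 := ndS (p := 1625) (l := 3) rfl N1625 D1872
theorem N1840 : nd 1840 = n1873 := ndS (p := 1625) (l := 6) rfl N1625 D1873
theorem N1841 : nd 1841 = n1874 := ndS (p := 1625) (l := 7) rfl N1625 D1874
theorem N1842 : nd 1842 = n1875 := ndS (p := 1626) (l := 7) rfl N1626 D1875
theorem N1843 : nd 1843 = n1876 := ndS (p := 1627) (l := 3) rfl N1627 D1876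
theorem N1844 : nd 1844 = n1877 := ndS (p := 1627) (l := 8) rfl N1627 D1877
theorem N1845 : nd 1845 = n1878 := ndS (p := 1628) (l := 4) rfl N1628 D1878
theorem N1846 : nd 1846 = n1879 := ndS (p := 1628) (l := 8) rfl N1628 D1879
theorem N1847 : nd 1847 = n1880 := ndS (p := 1630) (l := 5) rfl N1630 D1880
theorem N1848 : nd 1848 = n1881 := ndS (p := 1630) (l := 7) rfl N1630 D1881
theorem N1849 : nd 1849 = n1882 := ndS (p := 1631) (l := 3) rfl N1631 D1882
theorem N1850 : nd 1850 = n1883 := ndS (p := 1631) (l := 8) rfl N1631 D1883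
theorem N1851 : nd 1851 = n1884 := ndS (p := 1632) (l := 8) rfl N1632 D1884
theorem N1852 : nd 1852 = n1885 := ndS (p := 1635) (l := 8) rfl N1635 D1885
theorem N1853 : nd 1853 = n1886 := ndS (p := 1636) (l := 2) rfl N1636 D1886
theorem N1854 : nd 1854 = n1887 := ndS (p := 1636) (l := 8) rfl N1636 D1887
theorem N1855 : nd 1855 = n1888 := ndS (p := 1643) (l := 3) rfl N1643 D1888
theorem N1856 : nd 1856 = n1889 := ndS (p := 1644) (l := 7) rfl N1644 D1889
theorem N1857 : nd 1857 = n1890 := ndS (p := 1645) (l := 3) rfl N1645 D1890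
theorem N1858 : nd 1858 = n1891 := ndS (p := 1646) (l := 2) rfl N1646 D1891
theorem N1859 : nd 1859 = n1892 := ndS (p := 1647) (l := 1) rfl N1647 D1892
theorem N1860 : nd 1860 = n1893 := ndS (p := 1648) (l := 6) rfl N1648 D1893
theorem N1861 : nd 1861 = n1894 := ndS (p := 1648) (l := 7) rfl N1648 D1894
theorem N1862 : nd 1862 = n1895 := ndS (p := 1649) (l := 7) rfl N1649 D1895
theorem N1863 : nd 1863 = n1896 := ndS (p := 1650) (l := 8) rfl N1650 D1896
theorem N1864 : nd 1864 = n1897 := ndS (p := 1652) (l := 7) rfl N1652 D1897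
theorem N1865 : nd 1865 = n1898 := ndS (p := 1653) (l := 3) rfl N1653 D1898
theorem N1866 : nd 1866 = n1899 := ndS (p := 1653) (l := 8) rfl N1653 D1899
theorem N1867 : nd 1867 = n1900 := ndS (p := 1654) (l := 8) rfl N1654 D1900
theorem N1868 : nd 1868 = n1901 := ndS (p := 1656) (l := 7) rfl N1656 D1901
theorem N1869 : nd 1869 = n1902 := ndS (p := 1657) (l := 3) rfl N1657 D1902
theorem N1870 : nd 1870 = n1903 := ndS (p := 1657) (l := 8) rfl N1657 D1903
theorem N1871 : nd 1871 = n1904 := ndS (p := 1658) (l := 3) rfl N1658 D1904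
theorem N1872 : nd 1872 = n1905 := ndS (p := 1658) (l := 8) rfl N1658 D1905
theorem N1873 : nd 1873 = n1906 := ndS (p := 1659) (l := 4) rfl N1659 D1906
theorem N1874 : nd 1874 = n1907 := ndS (p := 1659) (l := 8) rfl N1659 D1907
theorem N1875 : nd 1875 = n1908 := ndS (p := 1661) (l := 5) rfl N1661 D1908
theorem N1876 : nd 1876 = n1909 := ndS (p := 1661) (l := 8) rfl N1661 D1909
theorem N1877 : nd 1877 = n1910 := ndS (p := 1663) (l := 8) rfl N1663 D1910
theorem N1878 : nd 1878 = n1911 := ndS (p := 1664) (l := 2) rfl N1664 D1911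
theorem N1879 : nd 1879 = n1912 := ndS (p := 1664) (l := 8) rfl N1664 D1912
theorem N1880 : nd 1880 = n1913 := ndS (p := 1668) (l := 1) rfl N1668 D1913
theorem N1881 : nd 1881 = n1914 := ndS (p := 1668) (l := 8) rfl N1668 D1914
theorem N1882 : nd 1882 = n1915 := ndS (p := 1670) (l := 2) rfl N1670 D1915
theorem N1883 : nd 1883 = n1916 := ndS (p := 1671) (l := 1) rfl N1671 D1916
theorem N1884 : nd 1884 = n1917 := ndS (p := 1672) (l := 0) rfl N1672 D1917
theorem N1885 : nd 1885 = n1918 := ndS (p := 1674) (l := 4) rfl N1674 D1918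
theorem N1886 : nd 1886 = n1919 := ndS (p := 1674) (l := 6) rfl N1674 D1919
theorem N1887 : nd 1887 = n1920 := ndS (p := 1677) (l := 5) rfl N1677 D1920
theorem N1888 : nd 1888 = n1921 := ndS (p := 1678) (l := 4) rfl N1678 D1921
theorem N1889 : nd 1889 = n1922 := ndS (p := 1678) (l := 6) rfl N1678 D1922
theorem N1890 : nd 1890 = n1923 := ndS (p := 1678) (l := 7) rfl N1678 D1923
theorem N1891 : nd 1891 = n1924 := ndS (p := 1683) (l := 3) rfl N1683 D1924
theorem N1892 : nd 1892 = n1925 := ndS (p := 1685) (l := 3) rfl N1685 D1925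
theorem N1893 : nd 1893 = n1926 := ndS (p := 1686) (l := 4) rfl N1686 D1926
theorem N1894 : nd 1894 = n1927 := ndS (p := 1692) (l := 7) rfl N1692 D1927
theorem N1895 : nd 1895 = n1928 := ndS (p := 1693) (l := 3) rfl N1693 D1928
theorem N1896 : nd 1896 = n1929 := ndS (p := 1694) (l := 3) rfl N1694 D1929
theorem N1897 : nd 1897 = n1930 := ndS (p := 1695) (l := 4) rfl N1695 D1930
theorem N1898 : nd 1898 = n1931 := ndS (p := 1696) (l := 5) rfl N1696 D1931
theorem N1899 : nd 1899 = n1932 := ndS (p := 1697) (l := 8) rfl N1697 D1932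
theorem N1900 : nd 1900 = n1933 := ndS (p := 1698) (l := 4) rfl N1698 D1933
theorem N1901 : nd 1901 = n1934 := ndS (p := 1699) (l := 5) rfl N1699 D1934
theorem N1902 : nd 1902 = n1935 := ndS (p := 1701) (l := 2) rfl N1701 D1935
theorem N1903 : nd 1903 = n1936 := ndS (p := 1701) (l := 5) rfl N1701 D1936
theorem N1904 : nd 1904 = n1937 := ndS (p := 1701) (l := 7) rfl N1701 D1937
theorem N1905 : nd 1905 = n1938 := ndS (p := 1702) (l := 6) rfl N1702 D1938
theorem N1906 : nd 1906 = n1939 := ndS (p := 1703) (l := 5) rfl N1703 D1939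
theorem N1907 : nd 1907 = n1940 := ndS (p := 1703) (l := 7) rfl N1703 D1940
theorem N1908 : nd 1908 = n1941 := ndS (p := 1704) (l := 4) rfl N1704 D1941
theorem N1909 : nd 1909 = n1942 := ndS (p := 1704) (l := 6) rfl N1704 D1942
theorem N1910 : nd 1910 = n1943 := ndS (p := 1704) (l := 7) rfl N1704 D1943
theorem N1911 : nd 1911 = n1944 := ndS (p := 1705) (l := 8) rfl N1705 D1944
theorem N1912 : nd 1912 = n1945 := ndS (p := 1707) (l := 6) rfl N1707 D1945
theorem N1913 : nd 1913 = n1946 := ndS (p := 1707) (l := 7) rfl N1707 D1946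
theorem N1914 : nd 1914 = n1947 := ndS (p := 1708) (l := 7) rfl N1708 D1947
theorem N1915 : nd 1915 = n1948 := ndS (p := 1709) (l := 8) rfl N1709 D1948
theorem N1916 : nd 1916 = n1949 := ndS (p := 1711) (l := 5) rfl N1711 D1949
theorem N1917 : nd 1917 = n1950 := ndS (p := 1711) (l := 7) rfl N1711 D1950
theorem N1918 : nd 1918 = n1951 := ndS (p := 1712) (l := 4) rfl N1712 D1951
theorem N1919 : nd 1919 = n1952 := ndS (p := 1712) (l := 7) rfl N1712 D1952
theorem N1920 : nd 1920 = n1953 := ndS (p := 1713) (l := 8) rfl N1713 D1953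
theorem N1921 : nd 1921 = n1954 := ndS (p := 1714) (l := 7) rfl N1714 D1954
theorem N1922 : nd 1922 = n1955 := ndS (p := 1715) (l := 8) rfl N1715 D1955
theorem N1923 : nd 1923 = n1956 := ndS (p := 1717) (l := 1) rfl N1717 D1956
theorem N1924 : nd 1924 = n1957 := ndS (p := 1717) (l := 5) rfl N1717 D1957
theorem N1925 : nd 1925 = n1958 := ndS (p := 1717) (l := 7) rfl N1717 D1958
theorem N1926 : nd 1926 = n1959 := ndS (p := 1718) (l := 4) rfl N1718 D1959
theorem N1927 : nd 1927 = n1960 := ndS (p := 1718) (l := 6) rfl N1718 D1960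
theorem N1928 : nd 1928 = n1961 := ndS (p := 1718) (l := 7) rfl N1718 D1961
theorem N1929 : nd 1929 = n1962 := ndS (p := 1719) (l := 8) rfl N1719 D1962
theorem N1930 : nd 1930 = n1963 := ndS (p := 1721) (l := 4) rfl N1721 D1963
theorem N1931 : nd 1931 = n1964 := ndS (p := 1721) (l := 6) rfl N1721 D1964
theorem N1932 : nd 1932 = n1965 := ndS (p := 1721) (l := 7) rfl N1721 D1965
theorem N1933 : nd 1933 = n1966 := ndS (p := 1722) (l := 3) rfl N1722 D1966
theorem N1934 : nd 1934 = n1967 := ndS (p := 1722) (l := 8) rfl N1722 D1967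
theorem N1935 : nd 1935 = n1968 := ndS (p := 1723) (l := 6) rfl N1723 D1968
theorem N1936 : nd 1936 = n1969 := ndS (p := 1723) (l := 7) rfl N1723 D1969
theorem N1937 : nd 1937 = n1970 := ndS (p := 1724) (l := 7) rfl N1724 D1970
theorem N1938 : nd 1938 = n1971 := ndS (p := 1725) (l := 8) rfl N1725 D1971
theorem N1939 : nd 1939 = n1972 := ndS (p := 1727) (l := 5) rfl N1727 D1972
theorem N1940 : nd 1940 = n1973 := ndS (p := 1727) (l := 7) rfl N1727 D1973
theorem N1941 : nd 1941 = n1974 := ndS (p := 1728) (l := 3) rfl N1728 D1974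
theorem N1942 : nd 1942 = n1975 := ndS (p := 1728) (l := 8) rfl N1728 D1975
theorem N1943 : nd 1943 = n1976 := ndS (p := 1729) (l := 8) rfl N1729 D1976
theorem N1944 : nd 1944 = n1977 := ndS (p := 1731) (l := 2) rfl N1731 D1977
theorem N1945 : nd 1945 = n1978 := ndS (p := 1731) (l := 7) rfl N1731 D1978
theorem N1946 : nd 1946 = n1979 := ndS (p := 1732) (l := 7) rfl N1732 D1979
theorem N1947 : nd 1947 = n1980 := ndS (p := 1733) (l := 8) rfl N1733 D1980
theorem N1948 : nd 1948 = n1981 := ndS (p := 1735) (l := 1) rfl N1735 D1981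
theorem N1949 : nd 1949 = n1982 := ndS (p := 1735) (l := 5) rfl N1735 D1982
theorem N1950 : nd 1950 = n1983 := ndS (p := 1735) (l := 7) rfl N1735 D1983
theorem N1951 : nd 1951 = n1984 := ndS (p := 1736) (l := 4) rfl N1736 D1984
theorem N1952 : nd 1952 = n1985 := ndS (p := 1736) (l := 7) rfl N1736 D1985
theorem N1953 : nd 1953 = n1986 := ndS (p := 1737) (l := 8) rfl N1737 D1986
theorem N1954 : nd 1954 = n1987 := ndS (p := 1738) (l := 4) rfl N1738 D1987
theorem N1955 : nd 1955 = n1988 := ndS (p := 1738) (l := 7) rfl N1738 D1988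
theorem N1956 : nd 1956 = n1989 := ndS (p := 1739) (l := 3) rfl N1739 D1989
theorem N1957 : nd 1957 = n1990 := ndS (p := 1739) (l := 8) rfl N1739 D1990
theorem N1958 : nd 1958 = n1991 := ndS (p := 1740) (l := 7) rfl N1740 D1991
theorem N1959 : nd 1959 = n1992 := ndS (p := 1741) (l := 8) rfl N1741 D1992
theorem N1960 : nd 1960 = n1993 := ndS (p := 1743) (l := 8) rfl N1743 D1993
theorem N1961 : nd 1961 = n1994 := ndS (p := 1745) (l := 5) rfl N1745 D1994
theorem N1962 : nd 1962 = n1995 := ndS (p := 1745) (l := 7) rfl N1745 D1995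
theorem N1963 : nd 1963 = n1996 := ndS (p := 1746) (l := 4) rfl N1746 D1996
theorem N1964 : nd 1964 = n1997 := ndS (p := 1746) (l := 6) rfl N1746 D1997
theorem N1965 : nd 1965 = n1998 := ndS (p := 1746) (l := 7) rfl N1746 D1998
theorem N1966 : nd 1966 = n1999 := ndS (p := 1747) (l := 3) rfl N1747 D1999
theorem N1967 : nd 1967 = n2000 := ndS (p := 1747) (l := 8) rfl N1747 D2000
theorem N1968 : nd 1968 = n2001 := ndS (p := 1748) (l := 6) rfl N1748 D2001
theorem N1969 : nd 1969 = n2002 := ndS (p := 1748) (l := 7) rfl N1748 D2002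
theorem N1970 : nd 1970 = n2003 := ndS (p := 1749) (l := 7) rfl N1749 D2003
theorem N1971 : nd 1971 = n2004 := ndS (p := 1750) (l := 8) rfl N1750 D2004
theorem N1972 : nd 1972 = n2005 := ndS (p := 1752) (l := 3) rfl N1752 D2005
theorem N1973 : nd 1973 = n2006 := ndS (p := 1752) (l := 6) rfl N1752 D2006
theorem N1974 : nd 1974 = n2007 := ndS (p := 1752) (l := 7) rfl N1752 D2007
theorem N1975 : nd 1975 = n2008 := ndS (p := 1753) (l := 7) rfl N1753 D2008
theorem N1976 : nd 1976 = n2009 := ndS (p := 1754) (l := 3) rfl N1754 D2009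
theorem N1977 : nd 1977 = n2010 := ndS (p := 1754) (l := 8) rfl N1754 D2010
theorem N1978 : nd 1978 = n2011 := ndS (p := 1755) (l := 4) rfl N1755 D2011
theorem N1979 : nd 1979 = n2012 := ndS (p := 1755) (l := 8) rfl N1755 D2012
theorem N1980 : nd 1980 = n2013 := ndS (p := 1757) (l := 5) rfl N1757 D2013
theorem N1981 : nd 1981 = n2014 := ndS (p := 1757) (l := 7) rfl N1757 D2014
theorem N1982 : nd 1982 = n2015 := ndS (p := 1758) (l := 3) rfl N1758 D2015
theorem N1983 : nd 1983 = n2016 := ndS (p := 1758) (l := 8) rfl N1758 D2016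
theorem N1984 : nd 1984 = n2017 := ndS (p := 1759) (l := 8) rfl N1759 D2017
theorem N1985 : nd 1985 = n2018 := ndS (p := 1761) (l := 7) rfl N1761 D2018
theorem N1986 : nd 1986 = n2019 := ndS (p := 1762) (l := 3) rfl N1762 D2019
theorem N1987 : nd 1987 = n2020 := ndS (p := 1762) (l := 8) rfl N1762 D2020
theorem N1988 : nd 1988 = n2021 := ndS (p := 1763) (l := 2) rfl N1763 D2021
theorem N1989 : nd 1989 = n2022 := ndS (p := 1763) (l := 8) rfl N1763 D2022
theorem N1990 : nd 1990 = n2023 := ndS (p := 1767) (l := 3) rfl N1767 D2023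
theorem N1991 : nd 1991 = n2024 := ndS (p := 1768) (l := 3) rfl N1768 D2024
theorem N1992 : nd 1992 = n2025 := ndS (p := 1770) (l := 3) rfl N1770 D2025
theorem N1993 : nd 1993 = n2026 := ndS (p := 1771) (l := 7) rfl N1771 D2026
theorem N1994 : nd 1994 = n2027 := ndS (p := 1773) (l := 2) rfl N1773 D2027
theorem N1995 : nd 1995 = n2028 := ndS (p := 1774) (l := 2) rfl N1774 D2028
theorem N1996 : nd 1996 = n2029 := ndS (p := 1775) (l := 1) rfl N1775 D2029
theorem N1997 : nd 1997 = n2030 := ndS (p := 1776) (l := 6) rfl N1776 D2030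
theorem N1998 : nd 1998 = n2031 := ndS (p := 1776) (l := 7) rfl N1776 D2031
theorem N1999 : nd 1999 = n2032 := ndS (p := 1777) (l := 7) rfl N1777 D2032
theorem N2000 : nd 2000 = n2033 := ndS (p := 1778) (l := 8) rfl N1778 D2033
theorem N2001 : nd 2001 = n2034 := ndS (p := 1780) (l := 4) rfl N1780 D2034
theorem N2002 : nd 2002 = n2035 := ndS (p := 1780) (l := 6) rfl N1780 D2035
theorem N2003 : nd 2003 = n2036 := ndS (p := 1780) (l := 7) rfl N1780 D2036
theorem N2004 : nd 2004 = n2037 := ndS (p := 1781) (l := 8) rfl N1781 D2037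
theorem N2005 : nd 2005 = n2038 := ndS (p := 1782) (l := 6) rfl N1782 D2038
theorem N2006 : nd 2006 = n2039 := ndS (p := 1782) (l := 7) rfl N1782 D2039
theorem N2007 : nd 2007 = n2040 := ndS (p := 1783) (l := 7) rfl N1783 D2040
theorem N2008 : nd 2008 = n2041 := ndS (p := 1784) (l := 8) rfl N1784 D2041
theorem N2009 : nd 2009 = n2042 := ndS (p := 1786) (l := 7) rfl N1786 D2042
theorem N2010 : nd 2010 = n2043 := ndS (p := 1787) (l := 3) rfl N1787 D2043
theorem N2011 : nd 2011 = n2044 := ndS (p := 1787) (l := 8) rfl N1787 D2044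
theorem N2012 : nd 2012 = n2045 := ndS (p := 1788) (l := 8) rfl N1788 D2045
theorem N2013 : nd 2013 = n2046 := ndS (p := 1790) (l := 5) rfl N1790 D2046
theorem N2014 : nd 2014 = n2047 := ndS (p := 1790) (l := 7) rfl N1790 D2047
theorem N2015 : nd 2015 = n2048 := ndS (p := 1791) (l := 4) rfl N1791 D2048
theorem N2016 : nd 2016 = n2049 := ndS (p := 1791) (l := 6) rfl N1791 D2049
theorem N2017 : nd 2017 = n2050 := ndS (p := 1791) (l := 7) rfl N1791 D2050
theorem N2018 : nd 2018 = n2051 := ndS (p := 1792) (l := 3) rfl N1792 D2051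
theorem N2019 : nd 2019 = n2052 := ndS (p := 1792) (l := 8) rfl N1792 D2052
theorem N2020 : nd 2020 = n2053 := ndS (p := 1793) (l := 6) rfl N1793 D2053
theorem N2021 : nd 2021 = n2054 := ndS (p := 1793) (l := 7) rfl N1793 D2054
theorem N2022 : nd 2022 = n2055 := ndS (p := 1794) (l := 7) rfl N1794 D2055
theorem N2023 : nd 2023 = n2056 := ndS (p := 1795) (l := 8) rfl N1795 D2056
theorem N2024 : nd 2024 = n2057 := ndS (p := 1797) (l := 3) rfl N1797 D2057
theorem N2025 : nd 2025 = n2058 := ndS (p := 1797) (l := 6) rfl N1797 D2058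
theorem N2026 : nd 2026 = n2059 := ndS (p := 1797) (l := 7) rfl N1797 D2059
theorem N2027 : nd 2027 = n2060 := ndS (p := 1798) (l := 7) rfl N1798 D2060
theorem N2028 : nd 2028 = n2061 := ndS (p := 1799) (l := 3) rfl N1799 D2061
theorem N2029 : nd 2029 = n2062 := ndS (p := 1799) (l := 8) rfl N1799 D2062
theorem N2030 : nd 2030 = n2063 := ndS (p := 1800) (l := 4) rfl N1800 D2063
theorem N2031 : nd 2031 = n2064 := ndS (p := 1800) (l := 8) rfl N1800 D2064
theorem N2032 : nd 2032 = n2065 := ndS (p := 1802) (l := 5) rfl N1802 D2065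
theorem N2033 : nd 2033 = n2066 := ndS (p := 1802) (l := 7) rfl N1802 D2066
theorem N2034 : nd 2034 = n2067 := ndS (p := 1803) (l := 3) rfl N1803 D2067
theorem N2035 : nd 2035 = n2068 := ndS (p := 1803) (l := 8) rfl N1803 D2068
theorem N2036 : nd 2036 = n2069 := ndS (p := 1804) (l := 8) rfl N1804 D2069
theorem N2037 : nd 2037 = n2070 := ndS (p := 1806) (l := 7) rfl N1806 D2070
theorem N2038 : nd 2038 = n2071 := ndS (p := 1807) (l := 3) rfl N1807 D2071
theorem N2039 : nd 2039 = n2072 := ndS (p := 1807) (l := 8) rfl N1807 D2072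
theorem N2040 : nd 2040 = n2073 := ndS (p := 1808) (l := 2) rfl N1808 D2073
theorem N2041 : nd 2041 = n2074 := ndS (p := 1808) (l := 8) rfl N1808 D2074
theorem N2042 : nd 2042 = n2075 := ndS (p := 1811) (l := 5) rfl N1811 D2075
theorem N2043 : nd 2043 = n2076 := ndS (p := 1812) (l := 4) rfl N1812 D2076
theorem N2044 : nd 2044 = n2077 := ndS (p := 1812) (l := 7) rfl N1812 D2077
theorem N2045 : nd 2045 = n2078 := ndS (p := 1813) (l := 8) rfl N1813 D2078
theorem N2046 : nd 2046 = n2079 := ndS (p := 1814) (l := 7) rfl N1814 D2079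
theorem N2047 : nd 2047 = n2080 := ndS (p := 1815) (l := 8) rfl N1815 D2080
theorem N2048 : nd 2048 = n2081 := ndS (p := 1817) (l := 3) rfl N1817 D2081
theorem N2049 : nd 2049 = n2082 := ndS (p := 1817) (l := 6) rfl N1817 D2082
theorem N2050 : nd 2050 = n2083 := ndS (p := 1817) (l := 7) rfl N1817 D2083
theorem N2051 : nd 2051 = n2084 := ndS (p := 1818) (l := 7) rfl N1818 D2084
theorem N2052 : nd 2052 = n2085 := ndS (p := 1819) (l := 3) rfl N1819 D2085
theorem N2053 : nd 2053 = n2086 := ndS (p := 1819) (l := 8) rfl N1819 D2086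
theorem N2054 : nd 2054 = n2087 := ndS (p := 1820) (l := 8) rfl N1820 D2087
theorem N2055 : nd 2055 = n2088 := ndS (p := 1822) (l := 7) rfl N1822 D2088
theorem N2056 : nd 2056 = n2089 := ndS (p := 1823) (l := 3) rfl N1823 D2089
theorem N2057 : nd 2057 = n2090 := ndS (p := 1823) (l := 8) rfl N1823 D2090
theorem N2058 : nd 2058 = n2091 := ndS (p := 1824) (l := 8) rfl N1824 D2091
theorem N2059 : nd 2059 = n2092 := ndS (p := 1826) (l := 8) rfl N1826 D2092
theorem N2060 : nd 2060 = n2093 := ndS (p := 1827) (l := 8) rfl N1827 D2093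
theorem N2061 : nd 2061 = n2094 := ndS (p := 1830) (l := 4) rfl N1830 D2094
theorem N2062 : nd 2062 = n2095 := ndS (p := 1830) (l := 6) rfl N1830 D2095
theorem N2063 : nd 2063 = n2096 := ndS (p := 1831) (l := 7) rfl N1831 D2096
theorem N2064 : nd 2064 = n2097 := ndS (p := 1832) (l := 7) rfl N1832 D2097
theorem N2065 : nd 2065 = n2098 := ndS (p := 1833) (l := 8) rfl N1833 D2098
theorem N2066 : nd 2066 = n2099 := ndS (p := 1835) (l := 7) rfl N1835 D2099
theorem N2067 : nd 2067 = n2100 := ndS (p := 1836) (l := 3) rfl N1836 D2100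
theorem N2068 : nd 2068 = n2101 := ndS (p := 1836) (l := 8) rfl N1836 D2101
theorem N2069 : nd 2069 = n2102 := ndS (p := 1837) (l := 8) rfl N1837 D2102
theorem N2070 : nd 2070 = n2103 := ndS (p := 1839) (l := 7) rfl N1839 D2103
theorem N2071 : nd 2071 = n2104 := ndS (p := 1840) (l := 5) rfl N1840 D2104
theorem N2072 : nd 2072 = n2105 := ndS (p := 1840) (l := 7) rfl N1840 D2105
theorem N2073 : nd 2073 = n2106 := ndS (p := 1841) (l := 3) rfl N1841 D2106
theorem N2074 : nd 2074 = n2107 := ndS (p := 1841) (l := 8) rfl N1841 D2107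
theorem N2075 : nd 2075 = n2108 := ndS (p := 1842) (l := 3) rfl N1842 D2108
theorem N2076 : nd 2076 = n2109 := ndS (p := 1842) (l := 8) rfl N1842 D2109
theorem N2077 : nd 2077 = n2110 := ndS (p := 1843) (l := 4) rfl N1843 D2110
theorem N2078 : nd 2078 = n2111 := ndS (p := 1843) (l := 8) rfl N1843 D2111
theorem N2079 : nd 2079 = n2112 := ndS (p := 1845) (l := 5) rfl N1845 D2112
theorem N2080 : nd 2080 = n2113 := ndS (p := 1845) (l := 8) rfl N1845 D2113
theorem N2081 : nd 2081 = n2114 := ndS (p := 1848) (l := 8) rfl N1848 D2114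
theorem N2082 : nd 2082 = n2115 := ndS (p := 1849) (l := 2) rfl N1849 D2115
theorem N2083 : nd 2083 = n2116 := ndS (p := 1849) (l := 8) rfl N1849 D2116
theorem N2084 : nd 2084 = n2117 := ndS (p := 1853) (l := 1) rfl N1853 D2117
theorem N2085 : nd 2085 = n2118 := ndS (p := 1853) (l := 8) rfl N1853 D2118
theorem N2086 : nd 2086 = n2119 := ndS (p := 1855) (l := 2) rfl N1855 D2119
theorem N2087 : nd 2087 = n2120 := ndS (p := 1856) (l := 3) rfl N1856 D2120
theorem N2088 : nd 2088 = n2121 := ndS (p := 1856) (l := 8) rfl N1856 D2121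
theorem N2089 : nd 2089 = n2122 := ndS (p := 1857) (l := 2) rfl N1857 D2122
theorem N2090 : nd 2090 = n2123 := ndS (p := 1858) (l := 1) rfl N1858 D2123
theorem N2091 : nd 2091 = n2124 := ndS (p := 1859) (l := 0) rfl N1859 D2124
theorem N2092 : nd 2092 = n2125 := ndS (p := 1860) (l := 7) rfl N1860 D2125
theorem N2093 : nd 2093 = n2126 := ndS (p := 1861) (l := 3) rfl N1861 D2126
theorem N2094 : nd 2094 = n2127 := ndS (p := 1861) (l := 8) rfl N1861 D2127
theorem N2095 : nd 2095 = n2128 := ndS (p := 1862) (l := 8) rfl N1862 D2128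
theorem N2096 : nd 2096 = n2129 := ndS (p := 1864) (l := 8) rfl N1864 D2129
theorem N2097 : nd 2097 = n2130 := ndS (p := 1865) (l := 2) rfl N1865 D2130
theorem N2098 : nd 2098 = n2131 := ndS (p := 1865) (l := 8) rfl N1865 D2131
theorem N2099 : nd 2099 = n2132 := ndS (p := 1868) (l := 3) rfl N1868 D2132
theorem N2100 : nd 2100 = n2133 := ndS (p := 1868) (l := 8) rfl N1868 D2133
theorem N2101 : nd 2101 = n2134 := ndS (p := 1869) (l := 2) rfl N1869 D2134
theorem N2102 : nd 2102 = n2135 := ndS (p := 1869) (l := 4) rfl N1869 D2135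
theorem N2103 : nd 2103 = n2136 := ndS (p := 1869) (l := 8) rfl N1869 D2136
theorem N2104 : nd 2104 = n2137 := ndS (p := 1871) (l := 4) rfl N1871 D2137
theorem N2105 : nd 2105 = n2138 := ndS (p := 1871) (l := 8) rfl N1871 D2138
theorem N2106 : nd 2106 = n2139 := ndS (p := 1873) (l := 5) rfl N1873 D2139
theorem N2107 : nd 2107 = n2140 := ndS (p := 1873) (l := 8) rfl N1873 D2140
theorem N2108 : nd 2108 = n2141 := ndS (p := 1875) (l := 6) rfl N1875 D2141
theorem N2109 : nd 2109 = n2142 := ndS (p := 1875) (l := 8) rfl N1875 D2142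
theorem N2110 : nd 2110 = n2143 := ndS (p := 1878) (l := 1) rfl N1878 D2143
theorem N2111 : nd 2111 = n2144 := ndS (p := 1878) (l := 8) rfl N1878 D2144
theorem N2112 : nd 2112 = n2145 := ndS (p := 1880) (l := 8) rfl N1880 D2145
theorem N2113 : nd 2113 = n2146 := ndS (p := 1882) (l := 1) rfl N1882 D2146
theorem N2114 : nd 2114 = n2147 := ndS (p := 1883) (l := 0) rfl N1883 D2147
theorem N2115 : nd 2115 = n2148 := ndS (p := 1888) (l := 3) rfl N1888 D2148
theorem N2116 : nd 2116 = n2149 := ndS (p := 1891) (l := 7) rfl N1891 D2149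
theorem N2117 : nd 2117 = n2150 := ndS (p := 1892) (l := 4) rfl N1892 D2150
theorem N2118 : nd 2118 = n2151 := ndS (p := 1893) (l := 5) rfl N1893 D2151
theorem N2119 : nd 2119 = n2152 := ndS (p := 1894) (l := 3) rfl N1894 D2152
theorem N2120 : nd 2120 = n2153 := ndS (p := 1894) (l := 8) rfl N1894 D2153
theorem N2121 : nd 2121 = n2154 := ndS (p := 1895) (l := 4) rfl N1895 D2154
theorem N2122 : nd 2122 = n2155 := ndS (p := 1896) (l := 4) rfl N1896 D2155
theorem N2123 : nd 2123 = n2156 := ndS (p := 1897) (l := 5) rfl N1897 D2156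
theorem N2124 : nd 2124 = n2157 := ndS (p := 1900) (l := 5) rfl N1900 D2157
theorem N2125 : nd 2125 = n2158 := ndS (p := 1902) (l := 1) rfl N1902 D2158
theorem N2126 : nd 2126 = n2159 := ndS (p := 1902) (l := 5) rfl N1902 D2159
theorem N2127 : nd 2127 = n2160 := ndS (p := 1902) (l := 7) rfl N1902 D2160
theorem N2128 : nd 2128 = n2161 := ndS (p := 1903) (l := 4) rfl N1903 D2161
theorem N2129 : nd 2129 = n2162 := ndS (p := 1903) (l := 6) rfl N1903 D2162
theorem N2130 : nd 2130 = n2163 := ndS (p := 1903) (l := 7) rfl N1903 D2163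
theorem N2131 : nd 2131 = n2164 := ndS (p := 1904) (l := 8) rfl N1904 D2164
theorem N2132 : nd 2132 = n2165 := ndS (p := 1906) (l := 7) rfl N1906 D2165
theorem N2133 : nd 2133 = n2166 := ndS (p := 1907) (l := 3) rfl N1907 D2166
theorem N2134 : nd 2134 = n2167 := ndS (p := 1907) (l := 8) rfl N1907 D2167
theorem N2135 : nd 2135 = n2168 := ndS (p := 1908) (l := 7) rfl N1908 D2168
theorem N2136 : nd 2136 = n2169 := ndS (p := 1909) (l := 7) rfl N1909 D2169
theorem N2137 : nd 2137 = n2170 := ndS (p := 1910) (l := 8) rfl N1910 D2170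
theorem N2138 : nd 2138 = n2171 := ndS (p := 1912) (l := 7) rfl N1912 D2171
theorem N2139 : nd 2139 = n2172 := ndS (p := 1913) (l := 3) rfl N1913 D2172
theorem N2140 : nd 2140 = n2173 := ndS (p := 1913) (l := 8) rfl N1913 D2173
theorem N2141 : nd 2141 = n2174 := ndS (p := 1914) (l := 8) rfl N1914 D2174
theorem N2142 : nd 2142 = n2175 := ndS (p := 1916) (l := 4) rfl N1916 D2175
theorem N2143 : nd 2143 = n2176 := ndS (p := 1916) (l := 7) rfl N1916 D2176
theorem N2144 : nd 2144 = n2177 := ndS (p := 1917) (l := 3) rfl N1917 D2177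
theorem N2145 : nd 2145 = n2178 := ndS (p := 1917) (l := 8) rfl N1917 D2178
theorem N2146 : nd 2146 = n2179 := ndS (p := 1918) (l := 7) rfl N1918 D2179
theorem N2147 : nd 2147 = n2180 := ndS (p := 1919) (l := 8) rfl N1919 D2180
theorem N2148 : nd 2148 = n2181 := ndS (p := 1921) (l := 3) rfl N1921 D2181
theorem N2149 : nd 2149 = n2182 := ndS (p := 1921) (l := 8) rfl N1921 D2182
theorem N2150 : nd 2150 = n2183 := ndS (p := 1923) (l := 5) rfl N1923 D2183
theorem N2151 : nd 2151 = n2184 := ndS (p := 1923) (l := 7) rfl N1923 D2184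
theorem N2152 : nd 2152 = n2185 := ndS (p := 1924) (l := 4) rfl N1924 D2185
theorem N2153 : nd 2153 = n2186 := ndS (p := 1924) (l := 6) rfl N1924 D2186
theorem N2154 : nd 2154 = n2187 := ndS (p := 1924) (l := 7) rfl N1924 D2187
theorem N2155 : nd 2155 = n2188 := ndS (p := 1925) (l := 3) rfl N1925 D2188
theorem N2156 : nd 2156 = n2189 := ndS (p := 1925) (l := 8) rfl N1925 D2189
theorem N2157 : nd 2157 = n2190 := ndS (p := 1926) (l := 6) rfl N1926 D2190
theorem N2158 : nd 2158 = n2191 := ndS (p := 1926) (l := 7) rfl N1926 D2191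
theorem N2159 : nd 2159 = n2192 := ndS (p := 1927) (l := 7) rfl N1927 D2192
theorem N2160 : nd 2160 = n2193 := ndS (p := 1928) (l := 8) rfl N1928 D2193
theorem N2161 : nd 2161 = n2194 := ndS (p := 1930) (l := 3) rfl N1930 D2194
theorem N2162 : nd 2162 = n2195 := ndS (p := 1930) (l := 6) rfl N1930 D2195
theorem N2163 : nd 2163 = n2196 := ndS (p := 1930) (l := 7) rfl N1930 D2196
theorem N2164 : nd 2164 = n2197 := ndS (p := 1931) (l := 7) rfl N1931 D2197
theorem N2165 : nd 2165 = n2198 := ndS (p := 1932) (l := 3) rfl N1932 D2198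
theorem N2166 : nd 2166 = n2199 := ndS (p := 1932) (l := 8) rfl N1932 D2199
theorem N2167 : nd 2167 = n2200 := ndS (p := 1933) (l := 4) rfl N1933 D2200
theorem N2168 : nd 2168 = n2201 := ndS (p := 1933) (l := 8) rfl N1933 D2201
theorem N2169 : nd 2169 = n2202 := ndS (p := 1935) (l := 5) rfl N1935 D2202
theorem N2170 : nd 2170 = n2203 := ndS (p := 1935) (l := 7) rfl N1935 D2203
theorem N2171 : nd 2171 = n2204 := ndS (p := 1936) (l := 3) rfl N1936 D2204
theorem N2172 : nd 2172 = n2205 := ndS (p := 1936) (l := 8) rfl N1936 D2205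
theorem N2173 : nd 2173 = n2206 := ndS (p := 1937) (l := 8) rfl N1937 D2206
theorem N2174 : nd 2174 = n2207 := ndS (p := 1939) (l := 7) rfl N1939 D2207
theorem N2175 : nd 2175 = n2208 := ndS (p := 1940) (l := 3) rfl N1940 D2208
theorem N2176 : nd 2176 = n2209 := ndS (p := 1940) (l := 8) rfl N1940 D2209
theorem N2177 : nd 2177 = n2210 := ndS (p := 1941) (l := 2) rfl N1941 D2210
theorem N2178 : nd 2178 = n2211 := ndS (p := 1941) (l := 8) rfl N1941 D2211
theorem N2179 : nd 2179 = n2212 := ndS (p := 1944) (l := 1) rfl N1944 D2212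
theorem N2180 : nd 2180 = n2213 := ndS (p := 1944) (l := 7) rfl N1944 D2213
theorem N2181 : nd 2181 = n2214 := ndS (p := 1945) (l := 8) rfl N1945 D2214
theorem N2182 : nd 2182 = n2215 := ndS (p := 1946) (l := 3) rfl N1946 D2215
theorem N2183 : nd 2183 = n2216 := ndS (p := 1946) (l := 8) rfl N1946 D2216
theorem N2184 : nd 2184 = n2217 := ndS (p := 1948) (l := 5) rfl N1948 D2217
theorem N2185 : nd 2185 = n2218 := ndS (p := 1948) (l := 7) rfl N1948 D2218
theorem N2186 : nd 2186 = n2219 := ndS (p := 1949) (l := 4) rfl N1949 D2219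
theorem N2187 : nd 2187 = n2220 := ndS (p := 1949) (l := 7) rfl N1949 D2220
theorem N2188 : nd 2188 = n2221 := ndS (p := 1950) (l := 3) rfl N1950 D2221
theorem N2189 : nd 2189 = n2222 := ndS (p := 1950) (l := 8) rfl N1950 D2222
theorem N2190 : nd 2190 = n2223 := ndS (p := 1951) (l := 7) rfl N1951 D2223
theorem N2191 : nd 2191 = n2224 := ndS (p := 1952) (l := 8) rfl N1952 D2224
theorem N2192 : nd 2192 = n2225 := ndS (p := 1954) (l := 3) rfl N1954 D2225
theorem N2193 : nd 2193 = n2226 := ndS (p := 1954) (l := 7) rfl N1954 D2226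
theorem N2194 : nd 2194 = n2227 := ndS (p := 1955) (l := 3) rfl N1955 D2227
theorem N2195 : nd 2195 = n2228 := ndS (p := 1955) (l := 8) rfl N1955 D2228
theorem N2196 : nd 2196 = n2229 := ndS (p := 1956) (l := 4) rfl N1956 D2229
theorem N2197 : nd 2197 = n2230 := ndS (p := 1956) (l := 8) rfl N1956 D2230
theorem N2198 : nd 2198 = n2231 := ndS (p := 1958) (l := 8) rfl N1958 D2231
theorem N2199 : nd 2199 = n2232 := ndS (p := 1961) (l := 4) rfl N1961 D2232
theorem N2200 : nd 2200 = n2233 := ndS (p := 1961) (l := 6) rfl N1961 D2233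
theorem N2201 : nd 2201 = n2234 := ndS (p := 1961) (l := 7) rfl N1961 D2234
theorem N2202 : nd 2202 = n2235 := ndS (p := 1962) (l := 8) rfl N1962 D2235
theorem N2203 : nd 2203 = n2236 := ndS (p := 1963) (l := 3) rfl N1963 D2236
theorem N2204 : nd 2204 = n2237 := ndS (p := 1963) (l := 6) rfl N1963 D2237
theorem N2205 : nd 2205 = n2238 := ndS (p := 1963) (l := 7) rfl N1963 D2238
theorem N2206 : nd 2206 = n2239 := ndS (p := 1964) (l := 7) rfl N1964 D2239
theorem N2207 : nd 2207 = n2240 := ndS (p := 1965) (l := 3) rfl N1965 D2240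
theorem N2208 : nd 2208 = n2241 := ndS (p := 1965) (l := 8) rfl N1965 D2241
theorem N2209 : nd 2209 = n2242 := ndS (p := 1966) (l := 8) rfl N1966 D2242
theorem N2210 : nd 2210 = n2243 := ndS (p := 1968) (l := 7) rfl N1968 D2243
theorem N2211 : nd 2211 = n2244 := ndS (p := 1969) (l := 3) rfl N1969 D2244
theorem N2212 : nd 2212 = n2245 := ndS (p := 1969) (l := 8) rfl N1969 D2245
theorem N2213 : nd 2213 = n2246 := ndS (p := 1970) (l := 8) rfl N1970 D2246
theorem N2214 : nd 2214 = n2247 := ndS (p := 1972) (l := 6) rfl N1972 D2247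
theorem N2215 : nd 2215 = n2248 := ndS (p := 1972) (l := 7) rfl N1972 D2248
theorem N2216 : nd 2216 = n2249 := ndS (p := 1973) (l := 5) rfl N1973 D2249
theorem N2217 : nd 2217 = n2250 := ndS (p := 1973) (l := 7) rfl N1973 D2250
theorem N2218 : nd 2218 = n2251 := ndS (p := 1974) (l := 3) rfl N1974 D2251
theorem N2219 : nd 2219 = n2252 := ndS (p := 1974) (l := 8) rfl N1974 D2252
theorem N2220 : nd 2220 = n2253 := ndS (p := 1975) (l := 3) rfl N1975 D2253
theorem N2221 : nd 2221 = n2254 := ndS (p := 1975) (l := 8) rfl N1975 D2254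
theorem N2222 : nd 2222 = n2255 := ndS (p := 1976) (l := 4) rfl N1976 D2255
theorem N2223 : nd 2223 = n2256 := ndS (p := 1976) (l := 8) rfl N1976 D2256
theorem N2224 : nd 2224 = n2257 := ndS (p := 1978) (l := 5) rfl N1978 D2257
theorem N2225 : nd 2225 = n2258 := ndS (p := 1978) (l := 8) rfl N1978 D2258
theorem N2226 : nd 2226 = n2259 := ndS (p := 1979) (l := 7) rfl N1979 D2259
theorem N2227 : nd 2227 = n2260 := ndS (p := 1980) (l := 7) rfl N1980 D2260
theorem N2228 : nd 2228 = n2261 := ndS (p := 1981) (l := 3) rfl N1981 D2261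
theorem N2229 : nd 2229 = n2262 := ndS (p := 1981) (l := 8) rfl N1981 D2262
theorem N2230 : nd 2230 = n2263 := ndS (p := 1982) (l := 2) rfl N1982 D2263
theorem N2231 : nd 2231 = n2264 := ndS (p := 1982) (l := 8) rfl N1982 D2264
theorem N2232 : nd 2232 = n2265 := ndS (p := 1985) (l := 8) rfl N1985 D2265
theorem N2233 : nd 2233 = n2266 := ndS (p := 1986) (l := 2) rfl N1986 D2266
theorem N2234 : nd 2234 = n2267 := ndS (p := 1986) (l := 8) rfl N1986 D2267
theorem N2235 : nd 2235 = n2268 := ndS (p := 1988) (l := 1) rfl N1988 D2268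
theorem N2236 : nd 2236 = n2269 := ndS (p := 1988) (l := 8) rfl N1988 D2269
theorem N2237 : nd 2237 = n2270 := ndS (p := 1990) (l := 7) rfl N1990 D2270
theorem N2238 : nd 2238 = n2271 := ndS (p := 1993) (l := 8) rfl N1993 D2271
theorem N2239 : nd 2239 = n2272 := ndS (p := 1994) (l := 1) rfl N1994 D2272
theorem N2240 : nd 2240 = n2273 := ndS (p := 1995) (l := 1) rfl N1995 D2273
theorem N2241 : nd 2241 = n2274 := ndS (p := 1996) (l := 0) rfl N1996 D2274
theorem N2242 : nd 2242 = n2275 := ndS (p := 1997) (l := 7) rfl N1997 D2275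
theorem N2243 : nd 2243 = n2276 := ndS (p := 1998) (l := 3) rfl N1998 D2276
theorem N2244 : nd 2244 = n2277 := ndS (p := 1998) (l := 8) rfl N1998 D2277
theorem N2245 : nd 2245 = n2278 := ndS (p := 1999) (l := 8) rfl N1999 D2278
theorem N2246 : nd 2246 = n2279 := ndS (p := 2001) (l := 3) rfl N2001 D2279
theorem N2247 : nd 2247 = n2280 := ndS (p := 2001) (l := 6) rfl N2001 D2280
theorem N2248 : nd 2248 = n2281 := ndS (p := 2001) (l := 7) rfl N2001 D2281
theorem N2249 : nd 2249 = n2282 := ndS (p := 2002) (l := 7) rfl N2002 D2282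
theorem N2250 : nd 2250 = n2283 := ndS (p := 2003) (l := 8) rfl N2003 D2283
theorem N2251 : nd 2251 = n2284 := ndS (p := 2005) (l := 7) rfl N2005 D2284
theorem N2252 : nd 2252 = n2285 := ndS (p := 2006) (l := 3) rfl N2006 D2285
theorem N2253 : nd 2253 = n2286 := ndS (p := 2006) (l := 8) rfl N2006 D2286
theorem N2254 : nd 2254 = n2287 := ndS (p := 2007) (l := 8) rfl N2007 D2287
theorem N2255 : nd 2255 = n2288 := ndS (p := 2009) (l := 3) rfl N2009 D2288
theorem N2256 : nd 2256 = n2289 := ndS (p := 2009) (l := 8) rfl N2009 D2289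
theorem N2257 : nd 2257 = n2290 := ndS (p := 2010) (l := 2) rfl N2010 D2290
theorem N2258 : nd 2258 = n2291 := ndS (p := 2010) (l := 8) rfl N2010 D2291
theorem N2259 : nd 2259 = n2292 := ndS (p := 2013) (l := 4) rfl N2013 D2292
theorem N2260 : nd 2260 = n2293 := ndS (p := 2013) (l := 7) rfl N2013 D2293
theorem N2261 : nd 2261 = n2294 := ndS (p := 2014) (l := 8) rfl N2014 D2294
theorem N2262 : nd 2262 = n2295 := ndS (p := 2015) (l := 3) rfl N2015 D2295
theorem N2263 : nd 2263 = n2296 := ndS (p := 2015) (l := 6) rfl N2015 D2296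
theorem N2264 : nd 2264 = n2297 := ndS (p := 2015) (l := 7) rfl N2015 D2297
theorem N2265 : nd 2265 = n2298 := ndS (p := 2016) (l := 7) rfl N2016 D2298
theorem N2266 : nd 2266 = n2299 := ndS (p := 2017) (l := 3) rfl N2017 D2299
theorem N2267 : nd 2267 = n2300 := ndS (p := 2017) (l := 8) rfl N2017 D2300
theorem N2268 : nd 2268 = n2301 := ndS (p := 2018) (l := 8) rfl N2018 D2301
theorem N2269 : nd 2269 = n2302 := ndS (p := 2020) (l := 5) rfl N2020 D2302
theorem N2270 : nd 2270 = n2303 := ndS (p := 2020) (l := 7) rfl N2020 D2303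
theorem N2271 : nd 2271 = n2304 := ndS (p := 2021) (l := 3) rfl N2021 D2304
theorem N2272 : nd 2272 = n2305 := ndS (p := 2021) (l := 8) rfl N2021 D2305
theorem N2273 : nd 2273 = n2306 := ndS (p := 2022) (l := 8) rfl N2022 D2306
theorem N2274 : nd 2274 = n2307 := ndS (p := 2024) (l := 6) rfl N2024 D2307
theorem N2275 : nd 2275 = n2308 := ndS (p := 2024) (l := 7) rfl N2024 D2308
theorem N2276 : nd 2276 = n2309 := ndS (p := 2025) (l := 5) rfl N2025 D2309
theorem N2277 : nd 2277 = n2310 := ndS (p := 2025) (l := 7) rfl N2025 D2310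
theorem N2278 : nd 2278 = n2311 := ndS (p := 2026) (l := 3) rfl N2026 D2311
theorem N2279 : nd 2279 = n2312 := ndS (p := 2026) (l := 8) rfl N2026 D2312
theorem N2280 : nd 2280 = n2313 := ndS (p := 2027) (l := 3) rfl N2027 D2313
theorem N2281 : nd 2281 = n2314 := ndS (p := 2027) (l := 8) rfl N2027 D2314
theorem N2282 : nd 2282 = n2315 := ndS (p := 2028) (l := 4) rfl N2028 D2315
theorem N2283 : nd 2283 = n2316 := ndS (p := 2028) (l := 8) rfl N2028 D2316
theorem N2284 : nd 2284 = n2317 := ndS (p := 2030) (l := 5) rfl N2030 D2317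
theorem N2285 : nd 2285 = n2318 := ndS (p := 2030) (l := 8) rfl N2030 D2318
theorem N2286 : nd 2286 = n2319 := ndS (p := 2032) (l := 7) rfl N2032 D2319
theorem N2287 : nd 2287 = n2320 := ndS (p := 2033) (l := 3) rfl N2033 D2320
theorem N2288 : nd 2288 = n2321 := ndS (p := 2033) (l := 8) rfl N2033 D2321
theorem N2289 : nd 2289 = n2322 := ndS (p := 2034) (l := 2) rfl N2034 D2322
theorem N2290 : nd 2290 = n2323 := ndS (p := 2034) (l := 8) rfl N2034 D2323
theorem N2291 : nd 2291 = n2324 := ndS (p := 2037) (l := 8) rfl N2037 D2324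
theorem N2292 : nd 2292 = n2325 := ndS (p := 2038) (l := 8) rfl N2038 D2325
theorem N2293 : nd 2293 = n2326 := ndS (p := 2040) (l := 1) rfl N2040 D2326
theorem N2294 : nd 2294 = n2327 := ndS (p := 2040) (l := 8) rfl N2040 D2327
theorem N2295 : nd 2295 = n2328 := ndS (p := 2041) (l := 7) rfl N2041 D2328
theorem N2296 : nd 2296 = n2329 := ndS (p := 2043) (l := 7) rfl N2043 D2329
theorem N2297 : nd 2297 = n2330 := ndS (p := 2044) (l := 8) rfl N2044 D2330
theorem N2298 : nd 2298 = n2331 := ndS (p := 2046) (l := 8) rfl N2046 D2331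
theorem N2299 : nd 2299 = n2332 := ndS (p := 2048) (l := 7) rfl N2048 D2332
theorem N2300 : nd 2300 = n2333 := ndS (p := 2049) (l := 7) rfl N2049 D2333
theorem N2301 : nd 2301 = n2334 := ndS (p := 2050) (l := 3) rfl N2050 D2334
theorem N2302 : nd 2302 = n2335 := ndS (p := 2050) (l := 8) rfl N2050 D2335
theorem N2303 : nd 2303 = n2336 := ndS (p := 2051) (l := 3) rfl N2051 D2336
theorem N2304 : nd 2304 = n2337 := ndS (p := 2051) (l := 8) rfl N2051 D2337
theorem N2305 : nd 2305 = n2338 := ndS (p := 2052) (l := 4) rfl N2052 D2338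
theorem N2306 : nd 2306 = n2339 := ndS (p := 2052) (l := 8) rfl N2052 D2339
theorem N2307 : nd 2307 = n2340 := ndS (p := 2055) (l := 8) rfl N2055 D2340
theorem N2308 : nd 2308 = n2341 := ndS (p := 2056) (l := 2) rfl N2056 D2341
theorem N2309 : nd 2309 = n2342 := ndS (p := 2056) (l := 8) rfl N2056 D2342
theorem N2310 : nd 2310 = n2343 := ndS (p := 2063) (l := 3) rfl N2063 D2343
theorem N2311 : nd 2311 = n2344 := ndS (p := 2063) (l := 8) rfl N2063 D2344
theorem N2312 : nd 2312 = n2345 := ndS (p := 2064) (l := 8) rfl N2064 D2345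
theorem N2313 : nd 2313 = n2346 := ndS (p := 2066) (l := 8) rfl N2066 D2346
theorem N2314 : nd 2314 = n2347 := ndS (p := 2067) (l := 2) rfl N2067 D2347
theorem N2315 : nd 2315 = n2348 := ndS (p := 2067) (l := 8) rfl N2067 D2348
theorem N2316 : nd 2316 = n2349 := ndS (p := 2070) (l := 3) rfl N2070 D2349
theorem N2317 : nd 2317 = n2350 := ndS (p := 2070) (l := 8) rfl N2070 D2350
theorem N2318 : nd 2318 = n2351 := ndS (p := 2072) (l := 3) rfl N2072 D2351
theorem N2319 : nd 2319 = n2352 := ndS (p := 2072) (l := 8) rfl N2072 D2352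
theorem N2320 : nd 2320 = n2353 := ndS (p := 2073) (l := 2) rfl N2073 D2353
theorem N2321 : nd 2321 = n2354 := ndS (p := 2073) (l := 4) rfl N2073 D2354
theorem N2322 : nd 2322 = n2355 := ndS (p := 2073) (l := 8) rfl N2073 D2355
theorem N2323 : nd 2323 = n2356 := ndS (p := 2075) (l := 4) rfl N2075 D2356
theorem N2324 : nd 2324 = n2357 := ndS (p := 2075) (l := 8) rfl N2075 D2357
theorem N2325 : nd 2325 = n2358 := ndS (p := 2077) (l := 5) rfl N2077 D2358
theorem N2326 : nd 2326 = n2359 := ndS (p := 2077) (l := 8) rfl N2077 D2359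
theorem N2327 : nd 2327 = n2360 := ndS (p := 2079) (l := 6) rfl N2079 D2360
theorem N2328 : nd 2328 = n2361 := ndS (p := 2079) (l := 8) rfl N2079 D2361
theorem N2329 : nd 2329 = n2362 := ndS (p := 2082) (l := 1) rfl N2082 D2362
theorem N2330 : nd 2330 = n2363 := ndS (p := 2082) (l := 8) rfl N2082 D2363
theorem N2331 : nd 2331 = n2364 := ndS (p := 2084) (l := 0) rfl N2084 D2364
theorem N2332 : nd 2332 = n2365 := ndS (p := 2084) (l := 8) rfl N2084 D2365
theorem N2333 : nd 2333 = n2366 := ndS (p := 2086) (l := 1) rfl N2086 D2366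
theorem N2334 : nd 2334 = n2367 := ndS (p := 2087) (l := 2) rfl N2087 D2367
theorem N2335 : nd 2335 = n2368 := ndS (p := 2087) (l := 8) rfl N2087 D2368
theorem N2336 : nd 2336 = n2369 := ndS (p := 2089) (l := 1) rfl N2089 D2369
theorem N2337 : nd 2337 = n2370 := ndS (p := 2090) (l := 0) rfl N2090 D2370
theorem N2338 : nd 2338 = n2371 := ndS (p := 2092) (l := 3) rfl N2092 D2371
theorem N2339 : nd 2339 = n2372 := ndS (p := 2092) (l := 8) rfl N2092 D2372
theorem N2340 : nd 2340 = n2373 := ndS (p := 2093) (l := 2) rfl N2093 D2373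
theorem N2341 : nd 2341 = n2374 := ndS (p := 2093) (l := 8) rfl N2093 D2374
theorem N2342 : nd 2342 = n2375 := ndS (p := 2097) (l := 1) rfl N2097 D2375
theorem N2343 : nd 2343 = n2376 := ndS (p := 2097) (l := 8) rfl N2097 D2376
theorem N2344 : nd 2344 = n2377 := ndS (p := 2099) (l := 4) rfl N2099 D2377
theorem N2345 : nd 2345 = n2378 := ndS (p := 2099) (l := 8) rfl N2099 D2378
theorem N2346 : nd 2346 = n2379 := ndS (p := 2101) (l := 1) rfl N2101 D2379
theorem N2347 : nd 2347 = n2380 := ndS (p := 2101) (l := 4) rfl N2101 D2380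
theorem N2348 : nd 2348 = n2381 := ndS (p := 2101) (l := 8) rfl N2101 D2381
theorem N2349 : nd 2349 = n2382 := ndS (p := 2102) (l := 5) rfl N2102 D2382
theorem N2350 : nd 2350 = n2383 := ndS (p := 2102) (l := 8) rfl N2102 D2383
theorem N2351 : nd 2351 = n2384 := ndS (p := 2103) (l := 7) rfl N2103 D2384
theorem N2352 : nd 2352 = n2385 := ndS (p := 2104) (l := 5) rfl N2104 D2385
theorem N2353 : nd 2353 = n2386 := ndS (p := 2104) (l := 8) rfl N2104 D2386
theorem N2354 : nd 2354 = n2387 := ndS (p := 2106) (l := 8) rfl N2106 D2387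
theorem N2355 : nd 2355 = n2388 := ndS (p := 2108) (l := 8) rfl N2108 D2388
theorem N2356 : nd 2356 = n2389 := ndS (p := 2110) (l := 8) rfl N2110 D2389
theorem N2357 : nd 2357 = n2390 := ndS (p := 2113) (l := 0) rfl N2113 D2390
theorem N2358 : nd 2358 = n2391 := ndS (p := 2116) (l := 8) rfl N2116 D2391
theorem N2359 : nd 2359 = n2392 := ndS (p := 2117) (l := 5) rfl N2117 D2392
theorem N2360 : nd 2360 = n2393 := ndS (p := 2119) (l := 4) rfl N2119 D2393
theorem N2361 : nd 2361 = n2394 := ndS (p := 2119) (l := 8) rfl N2119 D2394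
theorem N2362 : nd 2362 = n2395 := ndS (p := 2121) (l := 5) rfl N2121 D2395
theorem N2363 : nd 2363 = n2396 := ndS (p := 2122) (l := 5) rfl N2122 D2396
theorem N2364 : nd 2364 = n2397 := ndS (p := 2125) (l := 7) rfl N2125 D2397
theorem N2365 : nd 2365 = n2398 := ndS (p := 2126) (l := 7) rfl N2126 D2398
theorem N2366 : nd 2366 = n2399 := ndS (p := 2127) (l := 3) rfl N2127 D2399
theorem N2367 : nd 2367 = n2400 := ndS (p := 2127) (l := 8) rfl N2127 D2400
theorem N2368 : nd 2368 = n2401 := ndS (p := 2128) (l := 7) rfl N2128 D2401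
theorem N2369 : nd 2369 = n2402 := ndS (p := 2129) (l := 7) rfl N2129 D2402
theorem N2370 : nd 2370 = n2403 := ndS (p := 2130) (l := 8) rfl N2130 D2403
theorem N2371 : nd 2371 = n2404 := ndS (p := 2132) (l := 3) rfl N2132 D2404
theorem N2372 : nd 2372 = n2405 := ndS (p := 2132) (l := 8) rfl N2132 D2405
theorem N2373 : nd 2373 = n2406 := ndS (p := 2133) (l := 4) rfl N2133 D2406
theorem N2374 : nd 2374 = n2407 := ndS (p := 2133) (l := 8) rfl N2133 D2407
theorem N2375 : nd 2375 = n2408 := ndS (p := 2135) (l := 3) rfl N2135 D2408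
theorem N2376 : nd 2376 = n2409 := ndS (p := 2135) (l := 8) rfl N2135 D2409
theorem N2377 : nd 2377 = n2410 := ndS (p := 2136) (l := 8) rfl N2136 D2410
theorem N2378 : nd 2378 = n2411 := ndS (p := 2138) (l := 3) rfl N2138 D2411
theorem N2379 : nd 2379 = n2412 := ndS (p := 2138) (l := 8) rfl N2138 D2412
theorem N2380 : nd 2380 = n2413 := ndS (p := 2139) (l := 2) rfl N2139 D2413
theorem N2381 : nd 2381 = n2414 := ndS (p := 2139) (l := 8) rfl N2139 D2414
theorem N2382 : nd 2382 = n2415 := ndS (p := 2142) (l := 3) rfl N2142 D2415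
theorem N2383 : nd 2383 = n2416 := ndS (p := 2142) (l := 7) rfl N2142 D2416
theorem N2384 : nd 2384 = n2417 := ndS (p := 2143) (l := 3) rfl N2143 D2417
theorem N2385 : nd 2385 = n2418 := ndS (p := 2143) (l := 8) rfl N2143 D2418
theorem N2386 : nd 2386 = n2419 := ndS (p := 2144) (l := 8) rfl N2144 D2419
theorem N2387 : nd 2387 = n2420 := ndS (p := 2146) (l := 3) rfl N2146 D2420
theorem N2388 : nd 2388 = n2421 := ndS (p := 2146) (l := 8) rfl N2146 D2421
theorem N2389 : nd 2389 = n2422 := ndS (p := 2148) (l := 8) rfl N2148 D2422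
theorem N2390 : nd 2390 = n2423 := ndS (p := 2150) (l := 4) rfl N2150 D2423
theorem N2391 : nd 2391 = n2424 := ndS (p := 2150) (l := 6) rfl N2150 D2424
theorem N2392 : nd 2392 = n2425 := ndS (p := 2150) (l := 7) rfl N2150 D2425
theorem N2393 : nd 2393 = n2426 := ndS (p := 2151) (l := 3) rfl N2151 D2426
theorem N2394 : nd 2394 = n2427 := ndS (p := 2151) (l := 8) rfl N2151 D2427
theorem N2395 : nd 2395 = n2428 := ndS (p := 2152) (l := 3) rfl N2152 D2428
theorem N2396 : nd 2396 = n2429 := ndS (p := 2152) (l := 6) rfl N2152 D2429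
theorem N2397 : nd 2397 = n2430 := ndS (p := 2152) (l := 7) rfl N2152 D2430
theorem N2398 : nd 2398 = n2431 := ndS (p := 2153) (l := 7) rfl N2153 D2431
theorem N2399 : nd 2399 = n2432 := ndS (p := 2154) (l := 3) rfl N2154 D2432
theorem N2400 : nd 2400 = n2433 := ndS (p := 2154) (l := 8) rfl N2154 D2433
theorem N2401 : nd 2401 = n2434 := ndS (p := 2155) (l := 4) rfl N2155 D2434
theorem N2402 : nd 2402 = n2435 := ndS (p := 2155) (l := 8) rfl N2155 D2435
theorem N2403 : nd 2403 = n2436 := ndS (p := 2157) (l := 5) rfl N2157 D2436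
theorem N2404 : nd 2404 = n2437 := ndS (p := 2157) (l := 7) rfl N2157 D2437
theorem N2405 : nd 2405 = n2438 := ndS (p := 2158) (l := 3) rfl N2158 D2438
theorem N2406 : nd 2406 = n2439 := ndS (p := 2158) (l := 8) rfl N2158 D2439
theorem N2407 : nd 2407 = n2440 := ndS (p := 2159) (l := 8) rfl N2159 D2440
theorem N2408 : nd 2408 = n2441 := ndS (p := 2161) (l := 6) rfl N2161 D2441
theorem N2409 : nd 2409 = n2442 := ndS (p := 2161) (l := 7) rfl N2161 D2442
theorem N2410 : nd 2410 = n2443 := ndS (p := 2162) (l := 5) rfl N2162 D2443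
theorem N2411 : nd 2411 = n2444 := ndS (p := 2162) (l := 7) rfl N2162 D2444
theorem N2412 : nd 2412 = n2445 := ndS (p := 2163) (l := 3) rfl N2163 D2445
theorem N2413 : nd 2413 = n2446 := ndS (p := 2163) (l := 8) rfl N2163 D2446
theorem N2414 : nd 2414 = n2447 := ndS (p := 2164) (l := 3) rfl N2164 D2447
theorem N2415 : nd 2415 = n2448 := ndS (p := 2164) (l := 8) rfl N2164 D2448
theorem N2416 : nd 2416 = n2449 := ndS (p := 2165) (l := 4) rfl N2165 D2449
theorem N2417 : nd 2417 = n2450 := ndS (p := 2165) (l := 8) rfl N2165 D2450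
theorem N2418 : nd 2418 = n2451 := ndS (p := 2167) (l := 5) rfl N2167 D2451
theorem N2419 : nd 2419 = n2452 := ndS (p := 2167) (l := 8) rfl N2167 D2452
theorem N2420 : nd 2420 = n2453 := ndS (p := 2168) (l := 7) rfl N2168 D2453
theorem N2421 : nd 2421 = n2454 := ndS (p := 2169) (l := 7) rfl N2169 D2454
theorem N2422 : nd 2422 = n2455 := ndS (p := 2170) (l := 3) rfl N2170 D2455
theorem N2423 : nd 2423 = n2456 := ndS (p := 2170) (l := 8) rfl N2170 D2456
theorem N2424 : nd 2424 = n2457 := ndS (p := 2171) (l := 2) rfl N2171 D2457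
theorem N2425 : nd 2425 = n2458 := ndS (p := 2171) (l := 8) rfl N2171 D2458
theorem N2426 : nd 2426 = n2459 := ndS (p := 2174) (l := 3) rfl N2174 D2459
theorem N2427 : nd 2427 = n2460 := ndS (p := 2174) (l := 8) rfl N2174 D2460
theorem N2428 : nd 2428 = n2461 := ndS (p := 2175) (l := 2) rfl N2175 D2461
theorem N2429 : nd 2429 = n2462 := ndS (p := 2175) (l := 8) rfl N2175 D2462
theorem N2430 : nd 2430 = n2463 := ndS (p := 2177) (l := 1) rfl N2177 D2463
theorem N2431 : nd 2431 = n2464 := ndS (p := 2177) (l := 8) rfl N2177 D2464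
theorem N2432 : nd 2432 = n2465 := ndS (p := 2178) (l := 7) rfl N2178 D2465
theorem N2433 : nd 2433 = n2466 := ndS (p := 2179) (l := 7) rfl N2179 D2466
theorem N2434 : nd 2434 = n2467 := ndS (p := 2180) (l := 3) rfl N2180 D2467
theorem N2435 : nd 2435 = n2468 := ndS (p := 2180) (l := 8) rfl N2180 D2468
theorem N2436 : nd 2436 = n2469 := ndS (p := 2182) (l := 4) rfl N2182 D2469
theorem N2437 : nd 2437 = n2470 := ndS (p := 2182) (l := 8) rfl N2182 D2470
theorem N2438 : nd 2438 = n2471 := ndS (p := 2184) (l := 4) rfl N2184 D2471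
theorem N2439 : nd 2439 = n2472 := ndS (p := 2184) (l := 7) rfl N2184 D2472
theorem N2440 : nd 2440 = n2473 := ndS (p := 2185) (l := 8) rfl N2185 D2473
theorem N2441 : nd 2441 = n2474 := ndS (p := 2186) (l := 7) rfl N2186 D2474
theorem N2442 : nd 2442 = n2475 := ndS (p := 2187) (l := 3) rfl N2187 D2475
theorem N2443 : nd 2443 = n2476 := ndS (p := 2187) (l := 8) rfl N2187 D2476
theorem N2444 : nd 2444 = n2477 := ndS (p := 2188) (l := 8) rfl N2188 D2477
theorem N2445 : nd 2445 = n2478 := ndS (p := 2190) (l := 8) rfl N2190 D2478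
theorem N2446 : nd 2446 = n2479 := ndS (p := 2192) (l := 7) rfl N2192 D2479
theorem N2447 : nd 2447 = n2480 := ndS (p := 2193) (l := 3) rfl N2193 D2480
theorem N2448 : nd 2448 = n2481 := ndS (p := 2193) (l := 8) rfl N2193 D2481
theorem N2449 : nd 2449 = n2482 := ndS (p := 2194) (l := 4) rfl N2194 D2482
theorem N2450 : nd 2450 = n2483 := ndS (p := 2194) (l := 8) rfl N2194 D2483
theorem N2451 : nd 2451 = n2484 := ndS (p := 2196) (l := 5) rfl N2196 D2484
theorem N2452 : nd 2452 = n2485 := ndS (p := 2196) (l := 8) rfl N2196 D2485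
theorem N2453 : nd 2453 = n2486 := ndS (p := 2197) (l := 7) rfl N2197 D2486
theorem N2454 : nd 2454 = n2487 := ndS (p := 2199) (l := 3) rfl N2199 D2487
theorem N2455 : nd 2455 = n2488 := ndS (p := 2199) (l := 6) rfl N2199 D2488
theorem N2456 : nd 2456 = n2489 := ndS (p := 2199) (l := 7) rfl N2199 D2489
theorem N2457 : nd 2457 = n2490 := ndS (p := 2200) (l := 7) rfl N2200 D2490
theorem N2458 : nd 2458 = n2491 := ndS (p := 2201) (l := 8) rfl N2201 D2491
theorem N2459 : nd 2459 = n2492 := ndS (p := 2203) (l := 7) rfl N2203 D2492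
theorem N2460 : nd 2460 = n2493 := ndS (p := 2204) (l := 7) rfl N2204 D2493
theorem N2461 : nd 2461 = n2494 := ndS (p := 2205) (l := 3) rfl N2205 D2494
theorem N2462 : nd 2462 = n2495 := ndS (p := 2205) (l := 8) rfl N2205 D2495
theorem N2463 : nd 2463 = n2496 := ndS (p := 2206) (l := 3) rfl N2206 D2496
theorem N2464 : nd 2464 = n2497 := ndS (p := 2206) (l := 8) rfl N2206 D2497
theorem N2465 : nd 2465 = n2498 := ndS (p := 2207) (l := 4) rfl N2207 D2498
theorem N2466 : nd 2466 = n2499 := ndS (p := 2207) (l := 8) rfl N2207 D2499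
theorem N2467 : nd 2467 = n2500 := ndS (p := 2209) (l := 7) rfl N2209 D2500
theorem N2468 : nd 2468 = n2501 := ndS (p := 2210) (l := 8) rfl N2210 D2501
theorem N2469 : nd 2469 = n2502 := ndS (p := 2211) (l := 2) rfl N2211 D2502
theorem N2470 : nd 2470 = n2503 := ndS (p := 2211) (l := 8) rfl N2211 D2503
theorem N2471 : nd 2471 = n2504 := ndS (p := 2215) (l := 3) rfl N2215 D2504
theorem N2472 : nd 2472 = n2505 := ndS (p := 2215) (l := 8) rfl N2215 D2505
theorem N2473 : nd 2473 = n2506 := ndS (p := 2216) (l := 7) rfl N2216 D2506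
theorem N2474 : nd 2474 = n2507 := ndS (p := 2217) (l := 3) rfl N2217 D2507
theorem N2475 : nd 2475 = n2508 := ndS (p := 2217) (l := 8) rfl N2217 D2508
theorem N2476 : nd 2476 = n2509 := ndS (p := 2218) (l := 2) rfl N2218 D2509
theorem N2477 : nd 2477 = n2510 := ndS (p := 2218) (l := 4) rfl N2218 D2510
theorem N2478 : nd 2478 = n2511 := ndS (p := 2218) (l := 8) rfl N2218 D2511
theorem N2479 : nd 2479 = n2512 := ndS (p := 2220) (l := 4) rfl N2220 D2512
theorem N2480 : nd 2480 = n2513 := ndS (p := 2220) (l := 8) rfl N2220 D2513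
theorem N2481 : nd 2481 = n2514 := ndS (p := 2222) (l := 5) rfl N2222 D2514
theorem N2482 : nd 2482 = n2515 := ndS (p := 2222) (l := 8) rfl N2222 D2515
theorem N2483 : nd 2483 = n2516 := ndS (p := 2223) (l := 7) rfl N2223 D2516
theorem N2484 : nd 2484 = n2517 := ndS (p := 2224) (l := 6) rfl N2224 D2517
theorem N2485 : nd 2485 = n2518 := ndS (p := 2224) (l := 8) rfl N2224 D2518
theorem N2486 : nd 2486 = n2519 := ndS (p := 2225) (l := 7) rfl N2225 D2519
theorem N2487 : nd 2487 = n2520 := ndS (p := 2227) (l := 8) rfl N2227 D2520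
theorem N2488 : nd 2488 = n2521 := ndS (p := 2228) (l := 8) rfl N2228 D2521
theorem N2489 : nd 2489 = n2522 := ndS (p := 2230) (l := 1) rfl N2230 D2522
theorem N2490 : nd 2490 = n2523 := ndS (p := 2230) (l := 8) rfl N2230 D2523
theorem N2491 : nd 2491 = n2524 := ndS (p := 2233) (l := 1) rfl N2233 D2524
theorem N2492 : nd 2492 = n2525 := ndS (p := 2233) (l := 8) rfl N2233 D2525
theorem N2493 : nd 2493 = n2526 := ndS (p := 2235) (l := 0) rfl N2235 D2526
theorem N2494 : nd 2494 = n2527 := ndS (p := 2235) (l := 8) rfl N2235 D2527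
theorem N2495 : nd 2495 = n2528 := ndS (p := 2237) (l := 8) rfl N2237 D2528
theorem N2496 : nd 2496 = n2529 := ndS (p := 2239) (l := 0) rfl N2239 D2529
theorem N2497 : nd 2497 = n2530 := ndS (p := 2242) (l := 3) rfl N2242 D2530
theorem N2498 : nd 2498 = n2531 := ndS (p := 2242) (l := 8) rfl N2242 D2531
theorem N2499 : nd 2499 = n2532 := ndS (p := 2243) (l := 2) rfl N2243 D2532
theorem N2500 : nd 2500 = n2533 := ndS (p := 2243) (l := 8) rfl N2243 D2533
theorem N2501 : nd 2501 = n2534 := ndS (p := 2246) (l := 7) rfl N2246 D2534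
theorem N2502 : nd 2502 = n2535 := ndS (p := 2247) (l := 7) rfl N2247 D2535
theorem N2503 : nd 2503 = n2536 := ndS (p := 2248) (l := 3) rfl N2248 D2536
theorem N2504 : nd 2504 = n2537 := ndS (p := 2248) (l := 8) rfl N2248 D2537
theorem N2505 : nd 2505 = n2538 := ndS (p := 2249) (l := 8) rfl N2249 D2538
theorem N2506 : nd 2506 = n2539 := ndS (p := 2251) (l := 3) rfl N2251 D2539
theorem N2507 : nd 2507 = n2540 := ndS (p := 2251) (l := 8) rfl N2251 D2540
theorem N2508 : nd 2508 = n2541 := ndS (p := 2252) (l := 2) rfl N2252 D2541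
theorem N2509 : nd 2509 = n2542 := ndS (p := 2252) (l := 8) rfl N2252 D2542
theorem N2510 : nd 2510 = n2543 := ndS (p := 2255) (l := 8) rfl N2255 D2543
theorem N2511 : nd 2511 = n2544 := ndS (p := 2257) (l := 1) rfl N2257 D2544
theorem N2512 : nd 2512 = n2545 := ndS (p := 2257) (l := 8) rfl N2257 D2545
theorem N2513 : nd 2513 = n2546 := ndS (p := 2258) (l := 7) rfl N2258 D2546
theorem N2514 : nd 2514 = n2547 := ndS (p := 2259) (l := 7) rfl N2259 D2547
theorem N2515 : nd 2515 = n2548 := ndS (p := 2260) (l := 8) rfl N2260 D2548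
theorem N2516 : nd 2516 = n2549 := ndS (p := 2262) (l := 7) rfl N2262 D2549
theorem N2517 : nd 2517 = n2550 := ndS (p := 2263) (l := 5) rfl N2263 D2550
theorem N2518 : nd 2518 = n2551 := ndS (p := 2263) (l := 7) rfl N2263 D2551
theorem N2519 : nd 2519 = n2552 := ndS (p := 2264) (l := 3) rfl N2264 D2552
theorem N2520 : nd 2520 = n2553 := ndS (p := 2264) (l := 8) rfl N2264 D2553
theorem N2521 : nd 2521 = n2554 := ndS (p := 2265) (l := 8) rfl N2265 D2554
theorem N2522 : nd 2522 = n2555 := ndS (p := 2266) (l := 4) rfl N2266 D2555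
theorem N2523 : nd 2523 = n2556 := ndS (p := 2266) (l := 8) rfl N2266 D2556
theorem N2524 : nd 2524 = n2557 := ndS (p := 2269) (l := 7) rfl N2269 D2557
theorem N2525 : nd 2525 = n2558 := ndS (p := 2270) (l := 3) rfl N2270 D2558
theorem N2526 : nd 2526 = n2559 := ndS (p := 2270) (l := 8) rfl N2270 D2559
theorem N2527 : nd 2527 = n2560 := ndS (p := 2271) (l := 2) rfl N2271 D2560
theorem N2528 : nd 2528 = n2561 := ndS (p := 2271) (l := 8) rfl N2271 D2561
theorem N2529 : nd 2529 = n2562 := ndS (p := 2275) (l := 3) rfl N2275 D2562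
theorem N2530 : nd 2530 = n2563 := ndS (p := 2275) (l := 8) rfl N2275 D2563
theorem N2531 : nd 2531 = n2564 := ndS (p := 2276) (l := 7) rfl N2276 D2564
theorem N2532 : nd 2532 = n2565 := ndS (p := 2277) (l := 3) rfl N2277 D2565
theorem N2533 : nd 2533 = n2566 := ndS (p := 2277) (l := 8) rfl N2277 D2566
theorem N2534 : nd 2534 = n2567 := ndS (p := 2278) (l := 2) rfl N2278 D2567
theorem N2535 : nd 2535 = n2568 := ndS (p := 2278) (l := 4) rfl N2278 D2568
theorem N2536 : nd 2536 = n2569 := ndS (p := 2278) (l := 8) rfl N2278 D2569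
theorem N2537 : nd 2537 = n2570 := ndS (p := 2280) (l := 8) rfl N2280 D2570
theorem N2538 : nd 2538 = n2571 := ndS (p := 2282) (l := 5) rfl N2282 D2571
theorem N2539 : nd 2539 = n2572 := ndS (p := 2282) (l := 8) rfl N2282 D2572
theorem N2540 : nd 2540 = n2573 := ndS (p := 2284) (l := 6) rfl N2284 D2573
theorem N2541 : nd 2541 = n2574 := ndS (p := 2284) (l := 8) rfl N2284 D2574
theorem N2542 : nd 2542 = n2575 := ndS (p := 2286) (l := 8) rfl N2286 D2575
theorem N2543 : nd 2543 = n2576 := ndS (p := 2287) (l := 2) rfl N2287 D2576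
theorem N2544 : nd 2544 = n2577 := ndS (p := 2287) (l := 8) rfl N2287 D2577
theorem N2545 : nd 2545 = n2578 := ndS (p := 2289) (l := 1) rfl N2289 D2578
theorem N2546 : nd 2546 = n2579 := ndS (p := 2289) (l := 8) rfl N2289 D2579
theorem N2547 : nd 2547 = n2580 := ndS (p := 2290) (l := 7) rfl N2290 D2580
theorem N2548 : nd 2548 = n2581 := ndS (p := 2292) (l := 7) rfl N2292 D2581
theorem N2549 : nd 2549 = n2582 := ndS (p := 2293) (l := 0) rfl N2293 D2582
theorem N2550 : nd 2550 = n2583 := ndS (p := 2293) (l := 8) rfl N2293 D2583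
theorem N2551 : nd 2551 = n2584 := ndS (p := 2294) (l := 7) rfl N2294 D2584
theorem N2552 : nd 2552 = n2585 := ndS (p := 2296) (l := 3) rfl N2296 D2585
theorem N2553 : nd 2553 = n2586 := ndS (p := 2296) (l := 8) rfl N2296 D2586
theorem N2554 : nd 2554 = n2587 := ndS (p := 2299) (l := 3) rfl N2299 D2587
theorem N2555 : nd 2555 = n2588 := ndS (p := 2299) (l := 8) rfl N2299 D2588
theorem N2556 : nd 2556 = n2589 := ndS (p := 2300) (l := 3) rfl N2300 D2589
theorem N2557 : nd 2557 = n2590 := ndS (p := 2300) (l := 8) rfl N2300 D2590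
theorem N2558 : nd 2558 = n2591 := ndS (p := 2301) (l := 2) rfl N2301 D2591
theorem N2559 : nd 2559 = n2592 := ndS (p := 2301) (l := 4) rfl N2301 D2592
theorem N2560 : nd 2560 = n2593 := ndS (p := 2301) (l := 8) rfl N2301 D2593
theorem N2561 : nd 2561 = n2594 := ndS (p := 2303) (l := 8) rfl N2303 D2594
theorem N2562 : nd 2562 = n2595 := ndS (p := 2305) (l := 8) rfl N2305 D2595
theorem N2563 : nd 2563 = n2596 := ndS (p := 2308) (l := 8) rfl N2308 D2596
theorem N2564 : nd 2564 = n2597 := ndS (p := 2310) (l := 2) rfl N2310 D2597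
theorem N2565 : nd 2565 = n2598 := ndS (p := 2310) (l := 8) rfl N2310 D2598
theorem N2566 : nd 2566 = n2599 := ndS (p := 2314) (l := 1) rfl N2314 D2599
theorem N2567 : nd 2567 = n2600 := ndS (p := 2314) (l := 8) rfl N2314 D2600
theorem N2568 : nd 2568 = n2601 := ndS (p := 2316) (l := 2) rfl N2316 D2601
theorem N2569 : nd 2569 = n2602 := ndS (p := 2316) (l := 4) rfl N2316 D2602
theorem N2570 : nd 2570 = n2603 := ndS (p := 2316) (l := 8) rfl N2316 D2603
theorem N2571 : nd 2571 = n2604 := ndS (p := 2318) (l := 4) rfl N2318 D2604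
theorem N2572 : nd 2572 = n2605 := ndS (p := 2318) (l := 8) rfl N2318 D2605
theorem N2573 : nd 2573 = n2606 := ndS (p := 2320) (l := 1) rfl N2320 D2606
theorem N2574 : nd 2574 = n2607 := ndS (p := 2320) (l := 4) rfl N2320 D2607
theorem N2575 : nd 2575 = n2608 := ndS (p := 2320) (l := 8) rfl N2320 D2608
theorem N2576 : nd 2576 = n2609 := ndS (p := 2321) (l := 5) rfl N2321 D2609
theorem N2577 : nd 2577 = n2610 := ndS (p := 2321) (l := 8) rfl N2321 D2610
theorem N2578 : nd 2578 = n2611 := ndS (p := 2322) (l := 7) rfl N2322 D2611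
theorem N2579 : nd 2579 = n2612 := ndS (p := 2323) (l := 5) rfl N2323 D2612
theorem N2580 : nd 2580 = n2613 := ndS (p := 2323) (l := 8) rfl N2323 D2613
theorem N2581 : nd 2581 = n2614 := ndS (p := 2325) (l := 6) rfl N2325 D2614
theorem N2582 : nd 2582 = n2615 := ndS (p := 2325) (l := 8) rfl N2325 D2615
theorem N2583 : nd 2583 = n2616 := ndS (p := 2327) (l := 8) rfl N2327 D2616
theorem N2584 : nd 2584 = n2617 := ndS (p := 2329) (l := 8) rfl N2329 D2617
theorem N2585 : nd 2585 = n2618 := ndS (p := 2331) (l := 8) rfl N2331 D2618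
theorem N2586 : nd 2586 = n2619 := ndS (p := 2333) (l := 0) rfl N2333 D2619
theorem N2587 : nd 2587 = n2620 := ndS (p := 2334) (l := 1) rfl N2334 D2620
theorem N2588 : nd 2588 = n2621 := ndS (p := 2334) (l := 8) rfl N2334 D2621
theorem N2589 : nd 2589 = n2622 := ndS (p := 2336) (l := 0) rfl N2336 D2622
theorem N2590 : nd 2590 = n2623 := ndS (p := 2338) (l := 8) rfl N2338 D2623
theorem N2591 : nd 2591 = n2624 := ndS (p := 2340) (l := 1) rfl N2340 D2624
theorem N2592 : nd 2592 = n2625 := ndS (p := 2340) (l := 8) rfl N2340 D2625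
theorem N2593 : nd 2593 = n2626 := ndS (p := 2341) (l := 7) rfl N2341 D2626
theorem N2594 : nd 2594 = n2627 := ndS (p := 2342) (l := 8) rfl N2342 D2627
theorem N2595 : nd 2595 = n2628 := ndS (p := 2344) (l := 5) rfl N2344 D2628
theorem N2596 : nd 2596 = n2629 := ndS (p := 2344) (l := 8) rfl N2344 D2629
theorem N2597 : nd 2597 = n2630 := ndS (p := 2345) (l := 7) rfl N2345 D2630
theorem N2598 : nd 2598 = n2631 := ndS (p := 2346) (l := 4) rfl N2346 D2631
theorem N2599 : nd 2599 = n2632 := ndS (p := 2346) (l := 8) rfl N2346 D2632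
theorem N2600 : nd 2600 = n2633 := ndS (p := 2347) (l := 5) rfl N2347 D2633
theorem N2601 : nd 2601 = n2634 := ndS (p := 2347) (l := 8) rfl N2347 D2634
theorem N2602 : nd 2602 = n2635 := ndS (p := 2348) (l := 7) rfl N2348 D2635
theorem N2603 : nd 2603 = n2636 := ndS (p := 2349) (l := 8) rfl N2349 D2636
theorem N2604 : nd 2604 = n2637 := ndS (p := 2350) (l := 7) rfl N2350 D2637
theorem N2605 : nd 2605 = n2638 := ndS (p := 2352) (l := 8) rfl N2352 D2638
theorem N2606 : nd 2606 = n2639 := ndS (p := 2360) (l := 5) rfl N2360 D2639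
theorem N2607 : nd 2607 = n2640 := ndS (p := 2360) (l := 8) rfl N2360 D2640
theorem N2608 : nd 2608 = n2641 := ndS (p := 2364) (l := 3) rfl N2364 D2641
theorem N2609 : nd 2609 = n2642 := ndS (p := 2364) (l := 8) rfl N2364 D2642
theorem N2610 : nd 2610 = n2643 := ndS (p := 2365) (l := 3) rfl N2365 D2643
theorem N2611 : nd 2611 = n2644 := ndS (p := 2365) (l := 8) rfl N2365 D2644
theorem N2612 : nd 2612 = n2645 := ndS (p := 2366) (l := 4) rfl N2366 D2645
theorem N2613 : nd 2613 = n2646 := ndS (p := 2366) (l := 8) rfl N2366 D2646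
theorem N2614 : nd 2614 = n2647 := ndS (p := 2368) (l := 3) rfl N2368 D2647
theorem N2615 : nd 2615 = n2648 := ndS (p := 2368) (l := 8) rfl N2368 D2648
theorem N2616 : nd 2616 = n2649 := ndS (p := 2369) (l := 8) rfl N2369 D2649
theorem N2617 : nd 2617 = n2650 := ndS (p := 2371) (l := 4) rfl N2371 D2650
theorem N2618 : nd 2618 = n2651 := ndS (p := 2371) (l := 8) rfl N2371 D2651
theorem N2619 : nd 2619 = n2652 := ndS (p := 2373) (l := 5) rfl N2373 D2652
theorem N2620 : nd 2620 = n2653 := ndS (p := 2373) (l := 8) rfl N2373 D2653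
theorem N2621 : nd 2621 = n2654 := ndS (p := 2374) (l := 7) rfl N2374 D2654
theorem N2622 : nd 2622 = n2655 := ndS (p := 2375) (l := 2) rfl N2375 D2655
theorem N2623 : nd 2623 = n2656 := ndS (p := 2375) (l := 8) rfl N2375 D2656
theorem N2624 : nd 2624 = n2657 := ndS (p := 2378) (l := 2) rfl N2378 D2657
theorem N2625 : nd 2625 = n2658 := ndS (p := 2378) (l := 8) rfl N2378 D2658
theorem N2626 : nd 2626 = n2659 := ndS (p := 2380) (l := 1) rfl N2380 D2659
theorem N2627 : nd 2627 = n2660 := ndS (p := 2380) (l := 8) rfl N2380 D2660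
theorem N2628 : nd 2628 = n2661 := ndS (p := 2381) (l := 7) rfl N2381 D2661
theorem N2629 : nd 2629 = n2662 := ndS (p := 2382) (l := 7) rfl N2382 D2662
theorem N2630 : nd 2630 = n2663 := ndS (p := 2383) (l := 3) rfl N2383 D2663
theorem N2631 : nd 2631 = n2664 := ndS (p := 2383) (l := 8) rfl N2383 D2664
theorem N2632 : nd 2632 = n2665 := ndS (p := 2384) (l := 4) rfl N2384 D2665
theorem N2633 : nd 2633 = n2666 := ndS (p := 2384) (l := 8) rfl N2384 D2666
theorem N2634 : nd 2634 = n2667 := ndS (p := 2386) (l := 7) rfl N2386 D2667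
theorem N2635 : nd 2635 = n2668 := ndS (p := 2387) (l := 2) rfl N2387 D2668
theorem N2636 : nd 2636 = n2669 := ndS (p := 2387) (l := 8) rfl N2387 D2669
theorem N2637 : nd 2637 = n2670 := ndS (p := 2389) (l := 7) rfl N2389 D2670
theorem N2638 : nd 2638 = n2671 := ndS (p := 2390) (l := 6) rfl N2390 D2671
theorem N2639 : nd 2639 = n2672 := ndS (p := 2390) (l := 7) rfl N2390 D2672
theorem N2640 : nd 2640 = n2673 := ndS (p := 2391) (l := 7) rfl N2391 D2673
theorem N2641 : nd 2641 = n2674 := ndS (p := 2392) (l := 3) rfl N2392 D2674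
theorem N2642 : nd 2642 = n2675 := ndS (p := 2392) (l := 8) rfl N2392 D2675
theorem N2643 : nd 2643 = n2676 := ndS (p := 2393) (l := 2) rfl N2393 D2676
theorem N2644 : nd 2644 = n2677 := ndS (p := 2393) (l := 8) rfl N2393 D2677
theorem N2645 : nd 2645 = n2678 := ndS (p := 2395) (l := 6) rfl N2395 D2678
theorem N2646 : nd 2646 = n2679 := ndS (p := 2395) (l := 7) rfl N2395 D2679
theorem N2647 : nd 2647 = n2680 := ndS (p := 2396) (l := 5) rfl N2396 D2680
theorem N2648 : nd 2648 = n2681 := ndS (p := 2396) (l := 7) rfl N2396 D2681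
theorem N2649 : nd 2649 = n2682 := ndS (p := 2397) (l := 3) rfl N2397 D2682
theorem N2650 : nd 2650 = n2683 := ndS (p := 2397) (l := 8) rfl N2397 D2683
theorem N2651 : nd 2651 = n2684 := ndS (p := 2398) (l := 8) rfl N2398 D2684
theorem N2652 : nd 2652 = n2685 := ndS (p := 2399) (l := 4) rfl N2399 D2685
theorem N2653 : nd 2653 = n2686 := ndS (p := 2399) (l := 8) rfl N2399 D2686
theorem N2654 : nd 2654 = n2687 := ndS (p := 2401) (l := 5) rfl N2401 D2687
theorem N2655 : nd 2655 = n2688 := ndS (p := 2401) (l := 8) rfl N2401 D2688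
theorem N2656 : nd 2656 = n2689 := ndS (p := 2402) (l := 7) rfl N2402 D2689
theorem N2657 : nd 2657 = n2690 := ndS (p := 2403) (l := 7) rfl N2403 D2690
theorem N2658 : nd 2658 = n2691 := ndS (p := 2404) (l := 8) rfl N2404 D2691
theorem N2659 : nd 2659 = n2692 := ndS (p := 2405) (l := 2) rfl N2405 D2692
theorem N2660 : nd 2660 = n2693 := ndS (p := 2405) (l := 8) rfl N2405 D2693
theorem N2661 : nd 2661 = n2694 := ndS (p := 2408) (l := 7) rfl N2408 D2694
theorem N2662 : nd 2662 = n2695 := ndS (p := 2409) (l := 3) rfl N2409 D2695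
theorem N2663 : nd 2663 = n2696 := ndS (p := 2409) (l := 8) rfl N2409 D2696
theorem N2664 : nd 2664 = n2697 := ndS (p := 2410) (l := 7) rfl N2410 D2697
theorem N2665 : nd 2665 = n2698 := ndS (p := 2411) (l := 3) rfl N2411 D2698
theorem N2666 : nd 2666 = n2699 := ndS (p := 2411) (l := 8) rfl N2411 D2699
theorem N2667 : nd 2667 = n2700 := ndS (p := 2412) (l := 2) rfl N2412 D2700
theorem N2668 : nd 2668 = n2701 := ndS (p := 2412) (l := 4) rfl N2412 D2701
theorem N2669 : nd 2669 = n2702 := ndS (p := 2412) (l := 8) rfl N2412 D2702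
theorem N2670 : nd 2670 = n2703 := ndS (p := 2414) (l := 8) rfl N2414 D2703
theorem N2671 : nd 2671 = n2704 := ndS (p := 2416) (l := 5) rfl N2416 D2704
theorem N2672 : nd 2672 = n2705 := ndS (p := 2416) (l := 8) rfl N2416 D2705
theorem N2673 : nd 2673 = n2706 := ndS (p := 2417) (l := 7) rfl N2417 D2706
theorem N2674 : nd 2674 = n2707 := ndS (p := 2418) (l := 6) rfl N2418 D2707
theorem N2675 : nd 2675 = n2708 := ndS (p := 2418) (l := 8) rfl N2418 D2708
theorem N2676 : nd 2676 = n2709 := ndS (p := 2419) (l := 7) rfl N2419 D2709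
theorem N2677 : nd 2677 = n2710 := ndS (p := 2421) (l := 3) rfl N2421 D2710
theorem N2678 : nd 2678 = n2711 := ndS (p := 2421) (l := 8) rfl N2421 D2711
theorem N2679 : nd 2679 = n2712 := ndS (p := 2422) (l := 8) rfl N2422 D2712
theorem N2680 : nd 2680 = n2713 := ndS (p := 2424) (l := 1) rfl N2424 D2713
theorem N2681 : nd 2681 = n2714 := ndS (p := 2424) (l := 8) rfl N2424 D2714
theorem N2682 : nd 2682 = n2715 := ndS (p := 2425) (l := 7) rfl N2425 D2715
theorem N2683 : nd 2683 = n2716 := ndS (p := 2426) (l := 4) rfl N2426 D2716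
theorem N2684 : nd 2684 = n2717 := ndS (p := 2426) (l := 8) rfl N2426 D2717
theorem N2685 : nd 2685 = n2718 := ndS (p := 2428) (l := 1) rfl N2428 D2718
theorem N2686 : nd 2686 = n2719 := ndS (p := 2428) (l := 8) rfl N2428 D2719
theorem N2687 : nd 2687 = n2720 := ndS (p := 2429) (l := 7) rfl N2429 D2720
theorem N2688 : nd 2688 = n2721 := ndS (p := 2430) (l := 0) rfl N2430 D2721
theorem N2689 : nd 2689 = n2722 := ndS (p := 2430) (l := 8) rfl N2430 D2722
theorem N2690 : nd 2690 = n2723 := ndS (p := 2431) (l := 7) rfl N2431 D2723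
theorem N2691 : nd 2691 = n2724 := ndS (p := 2433) (l := 3) rfl N2433 D2724
theorem N2692 : nd 2692 = n2725 := ndS (p := 2433) (l := 8) rfl N2433 D2725
theorem N2693 : nd 2693 = n2726 := ndS (p := 2434) (l := 8) rfl N2434 D2726
theorem N2694 : nd 2694 = n2727 := ndS (p := 2436) (l := 5) rfl N2436 D2727
theorem N2695 : nd 2695 = n2728 := ndS (p := 2436) (l := 8) rfl N2436 D2728
theorem N2696 : nd 2696 = n2729 := ndS (p := 2437) (l := 7) rfl N2437 D2729
theorem N2697 : nd 2697 = n2730 := ndS (p := 2438) (l := 7) rfl N2438 D2730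
theorem N2698 : nd 2698 = n2731 := ndS (p := 2439) (l := 8) rfl N2439 D2731
theorem N2699 : nd 2699 = n2732 := ndS (p := 2441) (l := 3) rfl N2441 D2732
theorem N2700 : nd 2700 = n2733 := ndS (p := 2441) (l := 8) rfl N2441 D2733
theorem N2701 : nd 2701 = n2734 := ndS (p := 2442) (l := 4) rfl N2442 D2734
theorem N2702 : nd 2702 = n2735 := ndS (p := 2442) (l := 8) rfl N2442 D2735
theorem N2703 : nd 2703 = n2736 := ndS (p := 2444) (l := 7) rfl N2444 D2736
theorem N2704 : nd 2704 = n2737 := ndS (p := 2446) (l := 3) rfl N2446 D2737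
theorem N2705 : nd 2705 = n2738 := ndS (p := 2446) (l := 8) rfl N2446 D2738
theorem N2706 : nd 2706 = n2739 := ndS (p := 2447) (l := 4) rfl N2447 D2739
theorem N2707 : nd 2707 = n2740 := ndS (p := 2447) (l := 8) rfl N2447 D2740
theorem N2708 : nd 2708 = n2741 := ndS (p := 2449) (l := 5) rfl N2449 D2741
theorem N2709 : nd 2709 = n2742 := ndS (p := 2449) (l := 8) rfl N2449 D2742
theorem N2710 : nd 2710 = n2743 := ndS (p := 2450) (l := 7) rfl N2450 D2743
theorem N2711 : nd 2711 = n2744 := ndS (p := 2451) (l := 6) rfl N2451 D2744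
theorem N2712 : nd 2712 = n2745 := ndS (p := 2451) (l := 8) rfl N2451 D2745
theorem N2713 : nd 2713 = n2746 := ndS (p := 2452) (l := 7) rfl N2452 D2746
theorem N2714 : nd 2714 = n2747 := ndS (p := 2454) (l := 7) rfl N2454 D2747
theorem N2715 : nd 2715 = n2748 := ndS (p := 2455) (l := 7) rfl N2455 D2748
theorem N2716 : nd 2716 = n2749 := ndS (p := 2456) (l := 3) rfl N2456 D2749
theorem N2717 : nd 2717 = n2750 := ndS (p := 2456) (l := 8) rfl N2456 D2750
theorem N2718 : nd 2718 = n2751 := ndS (p := 2457) (l := 8) rfl N2457 D2751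
theorem N2719 : nd 2719 = n2752 := ndS (p := 2459) (l := 3) rfl N2459 D2752
theorem N2720 : nd 2720 = n2753 := ndS (p := 2459) (l := 8) rfl N2459 D2753
theorem N2721 : nd 2721 = n2754 := ndS (p := 2460) (l := 3) rfl N2460 D2754
theorem N2722 : nd 2722 = n2755 := ndS (p := 2460) (l := 8) rfl N2460 D2755
theorem N2723 : nd 2723 = n2756 := ndS (p := 2461) (l := 2) rfl N2461 D2756
theorem N2724 : nd 2724 = n2757 := ndS (p := 2461) (l := 4) rfl N2461 D2757
theorem N2725 : nd 2725 = n2758 := ndS (p := 2461) (l := 8) rfl N2461 D2758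
theorem N2726 : nd 2726 = n2759 := ndS (p := 2463) (l := 4) rfl N2463 D2759
theorem N2727 : nd 2727 = n2760 := ndS (p := 2463) (l := 8) rfl N2463 D2760
theorem N2728 : nd 2728 = n2761 := ndS (p := 2465) (l := 8) rfl N2465 D2761
theorem N2729 : nd 2729 = n2762 := ndS (p := 2466) (l := 7) rfl N2466 D2762
theorem N2730 : nd 2730 = n2763 := ndS (p := 2469) (l := 8) rfl N2469 D2763
theorem N2731 : nd 2731 = n2764 := ndS (p := 2471) (l := 4) rfl N2471 D2764
theorem N2732 : nd 2732 = n2765 := ndS (p := 2471) (l := 8) rfl N2471 D2765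
theorem N2733 : nd 2733 = n2766 := ndS (p := 2473) (l := 3) rfl N2473 D2766
theorem N2734 : nd 2734 = n2767 := ndS (p := 2473) (l := 8) rfl N2473 D2767
theorem N2735 : nd 2735 = n2768 := ndS (p := 2474) (l := 4) rfl N2474 D2768
theorem N2736 : nd 2736 = n2769 := ndS (p := 2474) (l := 8) rfl N2474 D2769
theorem N2737 : nd 2737 = n2770 := ndS (p := 2476) (l := 1) rfl N2476 D2770
theorem N2738 : nd 2738 = n2771 := ndS (p := 2476) (l := 4) rfl N2476 D2771
theorem N2739 : nd 2739 = n2772 := ndS (p := 2476) (l := 8) rfl N2476 D2772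
theorem N2740 : nd 2740 = n2773 := ndS (p := 2477) (l := 5) rfl N2477 D2773
theorem N2741 : nd 2741 = n2774 := ndS (p := 2477) (l := 8) rfl N2477 D2774
theorem N2742 : nd 2742 = n2775 := ndS (p := 2478) (l := 7) rfl N2478 D2775
theorem N2743 : nd 2743 = n2776 := ndS (p := 2479) (l := 5) rfl N2479 D2776
theorem N2744 : nd 2744 = n2777 := ndS (p := 2479) (l := 8) rfl N2479 D2777
theorem N2745 : nd 2745 = n2778 := ndS (p := 2480) (l := 7) rfl N2480 D2778
theorem N2746 : nd 2746 = n2779 := ndS (p := 2481) (l := 6) rfl N2481 D2779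
theorem N2747 : nd 2747 = n2780 := ndS (p := 2481) (l := 8) rfl N2481 D2780
theorem N2748 : nd 2748 = n2781 := ndS (p := 2482) (l := 7) rfl N2482 D2781
theorem N2749 : nd 2749 = n2782 := ndS (p := 2484) (l := 8) rfl N2484 D2782
theorem N2750 : nd 2750 = n2783 := ndS (p := 2485) (l := 7) rfl N2485 D2783
theorem N2751 : nd 2751 = n2784 := ndS (p := 2489) (l := 0) rfl N2489 D2784
theorem N2752 : nd 2752 = n2785 := ndS (p := 2489) (l := 8) rfl N2489 D2785
theorem N2753 : nd 2753 = n2786 := ndS (p := 2491) (l := 8) rfl N2491 D2786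
theorem N2754 : nd 2754 = n2787 := ndS (p := 2493) (l := 8) rfl N2493 D2787
theorem N2755 : nd 2755 = n2788 := ndS (p := 2497) (l := 8) rfl N2497 D2788
theorem N2756 : nd 2756 = n2789 := ndS (p := 2499) (l := 1) rfl N2499 D2789
theorem N2757 : nd 2757 = n2790 := ndS (p := 2499) (l := 8) rfl N2499 D2790
theorem N2758 : nd 2758 = n2791 := ndS (p := 2500) (l := 7) rfl N2500 D2791
theorem N2759 : nd 2759 = n2792 := ndS (p := 2501) (l := 3) rfl N2501 D2792
theorem N2760 : nd 2760 = n2793 := ndS (p := 2501) (l := 8) rfl N2501 D2793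
theorem N2761 : nd 2761 = n2794 := ndS (p := 2502) (l := 3) rfl N2502 D2794
theorem N2762 : nd 2762 = n2795 := ndS (p := 2502) (l := 8) rfl N2502 D2795
theorem N2763 : nd 2763 = n2796 := ndS (p := 2503) (l := 2) rfl N2503 D2796
theorem N2764 : nd 2764 = n2797 := ndS (p := 2503) (l := 8) rfl N2503 D2797
theorem N2765 : nd 2765 = n2798 := ndS (p := 2506) (l := 8) rfl N2506 D2798
theorem N2766 : nd 2766 = n2799 := ndS (p := 2508) (l := 1) rfl N2508 D2799
theorem N2767 : nd 2767 = n2800 := ndS (p := 2508) (l := 8) rfl N2508 D2800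
theorem N2768 : nd 2768 = n2801 := ndS (p := 2509) (l := 7) rfl N2509 D2801
theorem N2769 : nd 2769 = n2802 := ndS (p := 2510) (l := 7) rfl N2510 D2802
theorem N2770 : nd 2770 = n2803 := ndS (p := 2511) (l := 0) rfl N2511 D2803
theorem N2771 : nd 2771 = n2804 := ndS (p := 2511) (l := 8) rfl N2511 D2804
theorem N2772 : nd 2772 = n2805 := ndS (p := 2512) (l := 7) rfl N2512 D2805
theorem N2773 : nd 2773 = n2806 := ndS (p := 2514) (l := 3) rfl N2514 D2806
theorem N2774 : nd 2774 = n2807 := ndS (p := 2514) (l := 8) rfl N2514 D2807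
theorem N2775 : nd 2775 = n2808 := ndS (p := 2516) (l := 3) rfl N2516 D2808
theorem N2776 : nd 2776 = n2809 := ndS (p := 2516) (l := 8) rfl N2516 D2809
theorem N2777 : nd 2777 = n2810 := ndS (p := 2517) (l := 7) rfl N2517 D2810
theorem N2778 : nd 2778 = n2811 := ndS (p := 2518) (l := 3) rfl N2518 D2811
theorem N2779 : nd 2779 = n2812 := ndS (p := 2518) (l := 8) rfl N2518 D2812
theorem N2780 : nd 2780 = n2813 := ndS (p := 2519) (l := 2) rfl N2519 D2813
theorem N2781 : nd 2781 = n2814 := ndS (p := 2519) (l := 4) rfl N2519 D2814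
theorem N2782 : nd 2782 = n2815 := ndS (p := 2519) (l := 8) rfl N2519 D2815
theorem N2783 : nd 2783 = n2816 := ndS (p := 2522) (l := 8) rfl N2522 D2816
theorem N2784 : nd 2784 = n2817 := ndS (p := 2524) (l := 8) rfl N2524 D2817
theorem N2785 : nd 2785 = n2818 := ndS (p := 2525) (l := 2) rfl N2525 D2818
theorem N2786 : nd 2786 = n2819 := ndS (p := 2525) (l := 8) rfl N2525 D2819
theorem N2787 : nd 2787 = n2820 := ndS (p := 2527) (l := 8) rfl N2527 D2820
theorem N2788 : nd 2788 = n2821 := ndS (p := 2528) (l := 7) rfl N2528 D2821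
theorem N2789 : nd 2789 = n2822 := ndS (p := 2529) (l := 2) rfl N2529 D2822
theorem N2790 : nd 2790 = n2823 := ndS (p := 2529) (l := 8) rfl N2529 D2823
theorem N2791 : nd 2791 = n2824 := ndS (p := 2531) (l := 3) rfl N2531 D2824
theorem N2792 : nd 2792 = n2825 := ndS (p := 2531) (l := 8) rfl N2531 D2825
theorem N2793 : nd 2793 = n2826 := ndS (p := 2532) (l := 2) rfl N2532 D2826
theorem N2794 : nd 2794 = n2827 := ndS (p := 2532) (l := 8) rfl N2532 D2827
theorem N2795 : nd 2795 = n2828 := ndS (p := 2534) (l := 1) rfl N2534 D2828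
theorem N2796 : nd 2796 = n2829 := ndS (p := 2534) (l := 4) rfl N2534 D2829
theorem N2797 : nd 2797 = n2830 := ndS (p := 2534) (l := 8) rfl N2534 D2830
theorem N2798 : nd 2798 = n2831 := ndS (p := 2535) (l := 5) rfl N2535 D2831
theorem N2799 : nd 2799 = n2832 := ndS (p := 2535) (l := 8) rfl N2535 D2832
theorem N2800 : nd 2800 = n2833 := ndS (p := 2536) (l := 7) rfl N2536 D2833
theorem N2801 : nd 2801 = n2834 := ndS (p := 2538) (l := 6) rfl N2538 D2834
theorem N2802 : nd 2802 = n2835 := ndS (p := 2538) (l := 8) rfl N2538 D2835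
theorem N2803 : nd 2803 = n2836 := ndS (p := 2540) (l := 8) rfl N2540 D2836
theorem N2804 : nd 2804 = n2837 := ndS (p := 2543) (l := 8) rfl N2543 D2837
theorem N2805 : nd 2805 = n2838 := ndS (p := 2544) (l := 7) rfl N2544 D2838
theorem N2806 : nd 2806 = n2839 := ndS (p := 2545) (l := 0) rfl N2545 D2839
theorem N2807 : nd 2807 = n2840 := ndS (p := 2545) (l := 8) rfl N2545 D2840
theorem N2808 : nd 2808 = n2841 := ndS (p := 2546) (l := 7) rfl N2546 D2841
theorem N2809 : nd 2809 = n2842 := ndS (p := 2549) (l := 8) rfl N2549 D2842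
theorem N2810 : nd 2810 = n2843 := ndS (p := 2550) (l := 7) rfl N2550 D2843
theorem N2811 : nd 2811 = n2844 := ndS (p := 2552) (l := 8) rfl N2552 D2844
theorem N2812 : nd 2812 = n2845 := ndS (p := 2554) (l := 8) rfl N2554 D2845
theorem N2813 : nd 2813 = n2846 := ndS (p := 2556) (l := 8) rfl N2556 D2846
theorem N2814 : nd 2814 = n2847 := ndS (p := 2558) (l := 4) rfl N2558 D2847
theorem N2815 : nd 2815 = n2848 := ndS (p := 2558) (l := 8) rfl N2558 D2848
theorem N2816 : nd 2816 = n2849 := ndS (p := 2559) (l := 8) rfl N2559 D2849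
theorem N2817 : nd 2817 = n2850 := ndS (p := 2560) (l := 7) rfl N2560 D2850
theorem N2818 : nd 2818 = n2851 := ndS (p := 2564) (l := 1) rfl N2564 D2851
theorem N2819 : nd 2819 = n2852 := ndS (p := 2564) (l := 8) rfl N2564 D2852
theorem N2820 : nd 2820 = n2853 := ndS (p := 2565) (l := 7) rfl N2565 D2853
theorem N2821 : nd 2821 = n2854 := ndS (p := 2566) (l := 8) rfl N2566 D2854
theorem N2822 : nd 2822 = n2855 := ndS (p := 2568) (l := 1) rfl N2568 D2855
theorem N2823 : nd 2823 = n2856 := ndS (p := 2568) (l := 4) rfl N2568 D2856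
theorem N2824 : nd 2824 = n2857 := ndS (p := 2568) (l := 8) rfl N2568 D2857
theorem N2825 : nd 2825 = n2858 := ndS (p := 2569) (l := 5) rfl N2569 D2858
theorem N2826 : nd 2826 = n2859 := ndS (p := 2569) (l := 8) rfl N2569 D2859
theorem N2827 : nd 2827 = n2860 := ndS (p := 2570) (l := 7) rfl N2570 D2860
theorem N2828 : nd 2828 = n2861 := ndS (p := 2571) (l := 5) rfl N2571 D2861
theorem N2829 : nd 2829 = n2862 := ndS (p := 2571) (l := 8) rfl N2571 D2862
theorem N2830 : nd 2830 = n2863 := ndS (p := 2572) (l := 7) rfl N2572 D2863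
theorem N2831 : nd 2831 = n2864 := ndS (p := 2573) (l := 0) rfl N2573 D2864
theorem N2832 : nd 2832 = n2865 := ndS (p := 2573) (l := 4) rfl N2573 D2865
theorem N2833 : nd 2833 = n2866 := ndS (p := 2573) (l := 8) rfl N2573 D2866
theorem N2834 : nd 2834 = n2867 := ndS (p := 2574) (l := 5) rfl N2574 D2867
theorem N2835 : nd 2835 = n2868 := ndS (p := 2574) (l := 8) rfl N2574 D2868
theorem N2836 : nd 2836 = n2869 := ndS (p := 2575) (l := 7) rfl N2575 D2869
theorem N2837 : nd 2837 = n2870 := ndS (p := 2576) (l := 8) rfl N2576 D2870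
theorem N2838 : nd 2838 = n2871 := ndS (p := 2577) (l := 7) rfl N2577 D2871
theorem N2839 : nd 2839 = n2872 := ndS (p := 2579) (l := 8) rfl N2579 D2872
theorem N2840 : nd 2840 = n2873 := ndS (p := 2581) (l := 8) rfl N2581 D2873
theorem N2841 : nd 2841 = n2874 := ndS (p := 2587) (l := 0) rfl N2587 D2874
theorem N2842 : nd 2842 = n2875 := ndS (p := 2587) (l := 8) rfl N2587 D2875
theorem N2843 : nd 2843 = n2876 := ndS (p := 2590) (l := 7) rfl N2590 D2876
theorem N2844 : nd 2844 = n2877 := ndS (p := 2591) (l := 8) rfl N2591 D2877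
theorem N2845 : nd 2845 = n2878 := ndS (p := 2592) (l := 7) rfl N2592 D2878
theorem N2846 : nd 2846 = n2879 := ndS (p := 2595) (l := 8) rfl N2595 D2879
theorem N2847 : nd 2847 = n2880 := ndS (p := 2596) (l := 7) rfl N2596 D2880
theorem N2848 : nd 2848 = n2881 := ndS (p := 2598) (l := 5) rfl N2598 D2881
theorem N2849 : nd 2849 = n2882 := ndS (p := 2598) (l := 8) rfl N2598 D2882
theorem N2850 : nd 2850 = n2883 := ndS (p := 2599) (l := 7) rfl N2599 D2883
theorem N2851 : nd 2851 = n2884 := ndS (p := 2600) (l := 8) rfl N2600 D2884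
theorem N2852 : nd 2852 = n2885 := ndS (p := 2601) (l := 7) rfl N2601 D2885
theorem N2853 : nd 2853 = n2886 := ndS (p := 2603) (l := 7) rfl N2603 D2886
theorem N2854 : nd 2854 = n2887 := ndS (p := 2606) (l := 8) rfl N2606 D2887
theorem N2855 : nd 2855 = n2888 := ndS (p := 2608) (l := 2) rfl N2608 D2888
theorem N2856 : nd 2856 = n2889 := ndS (p := 2608) (l := 4) rfl N2608 D2889
theorem N2857 : nd 2857 = n2890 := ndS (p := 2608) (l := 8) rfl N2608 D2890
theorem N2858 : nd 2858 = n2891 := ndS (p := 2610) (l := 8) rfl N2610 D2891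
theorem N2859 : nd 2859 = n2892 := ndS (p := 2612) (l := 5) rfl N2612 D2892
theorem N2860 : nd 2860 = n2893 := ndS (p := 2612) (l := 8) rfl N2612 D2893
theorem N2861 : nd 2861 = n2894 := ndS (p := 2613) (l := 7) rfl N2613 D2894
theorem N2862 : nd 2862 = n2895 := ndS (p := 2614) (l := 8) rfl N2614 D2895
theorem N2863 : nd 2863 = n2896 := ndS (p := 2617) (l := 5) rfl N2617 D2896
theorem N2864 : nd 2864 = n2897 := ndS (p := 2617) (l := 8) rfl N2617 D2897
theorem N2865 : nd 2865 = n2898 := ndS (p := 2618) (l := 7) rfl N2618 D2898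
theorem N2866 : nd 2866 = n2899 := ndS (p := 2619) (l := 6) rfl N2619 D2899
theorem N2867 : nd 2867 = n2900 := ndS (p := 2619) (l := 8) rfl N2619 D2900
theorem N2868 : nd 2868 = n2901 := ndS (p := 2620) (l := 7) rfl N2620 D2901
theorem N2869 : nd 2869 = n2902 := ndS (p := 2622) (l := 1) rfl N2622 D2902
theorem N2870 : nd 2870 = n2903 := ndS (p := 2622) (l := 8) rfl N2622 D2903
theorem N2871 : nd 2871 = n2904 := ndS (p := 2623) (l := 7) rfl N2623 D2904
theorem N2872 : nd 2872 = n2905 := ndS (p := 2624) (l := 1) rfl N2624 D2905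
theorem N2873 : nd 2873 = n2906 := ndS (p := 2624) (l := 8) rfl N2624 D2906
theorem N2874 : nd 2874 = n2907 := ndS (p := 2625) (l := 7) rfl N2625 D2907
theorem N2875 : nd 2875 = n2908 := ndS (p := 2626) (l := 0) rfl N2626 D2908
theorem N2876 : nd 2876 = n2909 := ndS (p := 2626) (l := 8) rfl N2626 D2909
theorem N2877 : nd 2877 = n2910 := ndS (p := 2627) (l := 7) rfl N2627 D2910
theorem N2878 : nd 2878 = n2911 := ndS (p := 2629) (l := 3) rfl N2629 D2911
theorem N2879 : nd 2879 = n2912 := ndS (p := 2629) (l := 8) rfl N2629 D2912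
theorem N2880 : nd 2880 = n2913 := ndS (p := 2630) (l := 2) rfl N2630 D2913
theorem N2881 : nd 2881 = n2914 := ndS (p := 2630) (l := 4) rfl N2630 D2914
theorem N2882 : nd 2882 = n2915 := ndS (p := 2630) (l := 8) rfl N2630 D2915
theorem N2883 : nd 2883 = n2916 := ndS (p := 2632) (l := 8) rfl N2632 D2916
theorem N2884 : nd 2884 = n2917 := ndS (p := 2633) (l := 7) rfl N2633 D2917
theorem N2885 : nd 2885 = n2918 := ndS (p := 2635) (l := 8) rfl N2635 D2918
theorem N2886 : nd 2886 = n2919 := ndS (p := 2636) (l := 7) rfl N2636 D2919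
theorem N2887 : nd 2887 = n2920 := ndS (p := 2638) (l := 7) rfl N2638 D2920
theorem N2888 : nd 2888 = n2921 := ndS (p := 2639) (l := 3) rfl N2639 D2921
theorem N2889 : nd 2889 = n2922 := ndS (p := 2639) (l := 8) rfl N2639 D2922
theorem N2890 : nd 2890 = n2923 := ndS (p := 2640) (l := 8) rfl N2640 D2923
theorem N2891 : nd 2891 = n2924 := ndS (p := 2641) (l := 4) rfl N2641 D2924
theorem N2892 : nd 2892 = n2925 := ndS (p := 2641) (l := 8) rfl N2641 D2925
theorem N2893 : nd 2893 = n2926 := ndS (p := 2643) (l := 8) rfl N2643 D2926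
theorem N2894 : nd 2894 = n2927 := ndS (p := 2644) (l := 7) rfl N2644 D2927
theorem N2895 : nd 2895 = n2928 := ndS (p := 2645) (l := 7) rfl N2645 D2928
theorem N2896 : nd 2896 = n2929 := ndS (p := 2646) (l := 3) rfl N2646 D2929
theorem N2897 : nd 2897 = n2930 := ndS (p := 2646) (l := 8) rfl N2646 D2930
theorem N2898 : nd 2898 = n2931 := ndS (p := 2647) (l := 7) rfl N2647 D2931
theorem N2899 : nd 2899 = n2932 := ndS (p := 2648) (l := 3) rfl N2648 D2932
theorem N2900 : nd 2900 = n2933 := ndS (p := 2648) (l := 8) rfl N2648 D2933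
theorem N2901 : nd 2901 = n2934 := ndS (p := 2649) (l := 2) rfl N2649 D2934
theorem N2902 : nd 2902 = n2935 := ndS (p := 2649) (l := 4) rfl N2649 D2935
theorem N2903 : nd 2903 = n2936 := ndS (p := 2649) (l := 8) rfl N2649 D2936
theorem N2904 : nd 2904 = n2937 := ndS (p := 2652) (l := 5) rfl N2652 D2937
theorem N2905 : nd 2905 = n2938 := ndS (p := 2652) (l := 8) rfl N2652 D2938
theorem N2906 : nd 2906 = n2939 := ndS (p := 2653) (l := 7) rfl N2653 D2939
theorem N2907 : nd 2907 = n2940 := ndS (p := 2654) (l := 8) rfl N2654 D2940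
theorem N2908 : nd 2908 = n2941 := ndS (p := 2655) (l := 7) rfl N2655 D2941
theorem N2909 : nd 2909 = n2942 := ndS (p := 2657) (l := 8) rfl N2657 D2942
theorem N2910 : nd 2910 = n2943 := ndS (p := 2659) (l := 8) rfl N2659 D2943
theorem N2911 : nd 2911 = n2944 := ndS (p := 2660) (l := 7) rfl N2660 D2944
theorem N2912 : nd 2912 = n2945 := ndS (p := 2661) (l := 3) rfl N2661 D2945
theorem N2913 : nd 2913 = n2946 := ndS (p := 2661) (l := 8) rfl N2661 D2946
theorem N2914 : nd 2914 = n2947 := ndS (p := 2662) (l := 2) rfl N2662 D2947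
theorem N2915 : nd 2915 = n2948 := ndS (p := 2662) (l := 4) rfl N2662 D2948
theorem N2916 : nd 2916 = n2949 := ndS (p := 2662) (l := 8) rfl N2662 D2949
theorem N2917 : nd 2917 = n2950 := ndS (p := 2664) (l := 3) rfl N2664 D2950
theorem N2918 : nd 2918 = n2951 := ndS (p := 2664) (l := 8) rfl N2664 D2951
theorem N2919 : nd 2919 = n2952 := ndS (p := 2665) (l := 8) rfl N2665 D2952
theorem N2920 : nd 2920 = n2953 := ndS (p := 2667) (l := 1) rfl N2667 D2953
theorem N2921 : nd 2921 = n2954 := ndS (p := 2667) (l := 8) rfl N2667 D2954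
theorem N2922 : nd 2922 = n2955 := ndS (p := 2668) (l := 5) rfl N2668 D2955
theorem N2923 : nd 2923 = n2956 := ndS (p := 2668) (l := 8) rfl N2668 D2956
theorem N2924 : nd 2924 = n2957 := ndS (p := 2669) (l := 7) rfl N2669 D2957
theorem N2925 : nd 2925 = n2958 := ndS (p := 2670) (l := 7) rfl N2670 D2958
theorem N2926 : nd 2926 = n2959 := ndS (p := 2671) (l := 6) rfl N2671 D2959
theorem N2927 : nd 2927 = n2960 := ndS (p := 2671) (l := 8) rfl N2671 D2960
theorem N2928 : nd 2928 = n2961 := ndS (p := 2672) (l := 7) rfl N2672 D2961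
theorem N2929 : nd 2929 = n2962 := ndS (p := 2674) (l := 8) rfl N2674 D2962
theorem N2930 : nd 2930 = n2963 := ndS (p := 2675) (l := 7) rfl N2675 D2963
theorem N2931 : nd 2931 = n2964 := ndS (p := 2677) (l := 8) rfl N2677 D2964
theorem N2932 : nd 2932 = n2965 := ndS (p := 2679) (l := 7) rfl N2679 D2965
theorem N2933 : nd 2933 = n2966 := ndS (p := 2680) (l := 0) rfl N2680 D2966
theorem N2934 : nd 2934 = n2967 := ndS (p := 2680) (l := 8) rfl N2680 D2967
theorem N2935 : nd 2935 = n2968 := ndS (p := 2681) (l := 7) rfl N2681 D2968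
theorem N2936 : nd 2936 = n2969 := ndS (p := 2683) (l := 8) rfl N2683 D2969
theorem N2937 : nd 2937 = n2970 := ndS (p := 2684) (l := 7) rfl N2684 D2970
theorem N2938 : nd 2938 = n2971 := ndS (p := 2685) (l := 8) rfl N2685 D2971
theorem N2939 : nd 2939 = n2972 := ndS (p := 2686) (l := 7) rfl N2686 D2972
theorem N2940 : nd 2940 = n2973 := ndS (p := 2688) (l := 8) rfl N2688 D2973
theorem N2941 : nd 2941 = n2974 := ndS (p := 2689) (l := 7) rfl N2689 D2974
theorem N2942 : nd 2942 = n2975 := ndS (p := 2691) (l := 8) rfl N2691 D2975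
theorem N2943 : nd 2943 = n2976 := ndS (p := 2693) (l := 7) rfl N2693 D2976
theorem N2944 : nd 2944 = n2977 := ndS (p := 2694) (l := 8) rfl N2694 D2977
theorem N2945 : nd 2945 = n2978 := ndS (p := 2695) (l := 7) rfl N2695 D2978
theorem N2946 : nd 2946 = n2979 := ndS (p := 2697) (l := 3) rfl N2697 D2979
theorem N2947 : nd 2947 = n2980 := ndS (p := 2697) (l := 8) rfl N2697 D2980
theorem N2948 : nd 2948 = n2981 := ndS (p := 2699) (l := 4) rfl N2699 D2981
theorem N2949 : nd 2949 = n2982 := ndS (p := 2699) (l := 8) rfl N2699 D2982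
theorem N2950 : nd 2950 = n2983 := ndS (p := 2701) (l := 8) rfl N2701 D2983
theorem N2951 : nd 2951 = n2984 := ndS (p := 2702) (l := 7) rfl N2702 D2984
theorem N2952 : nd 2952 = n2985 := ndS (p := 2704) (l := 4) rfl N2704 D2985
theorem N2953 : nd 2953 = n2986 := ndS (p := 2704) (l := 8) rfl N2704 D2986
theorem N2954 : nd 2954 = n2987 := ndS (p := 2706) (l := 5) rfl N2706 D2987
theorem N2955 : nd 2955 = n2988 := ndS (p := 2706) (l := 8) rfl N2706 D2988
theorem N2956 : nd 2956 = n2989 := ndS (p := 2707) (l := 7) rfl N2707 D2989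
theorem N2957 : nd 2957 = n2990 := ndS (p := 2708) (l := 8) rfl N2708 D2990
theorem N2958 : nd 2958 = n2991 := ndS (p := 2709) (l := 7) rfl N2709 D2991
theorem N2959 : nd 2959 = n2992 := ndS (p := 2711) (l := 8) rfl N2711 D2992
theorem N2960 : nd 2960 = n2993 := ndS (p := 2712) (l := 7) rfl N2712 D2993
theorem N2961 : nd 2961 = n2994 := ndS (p := 2714) (l := 3) rfl N2714 D2994
theorem N2962 : nd 2962 = n2995 := ndS (p := 2714) (l := 8) rfl N2714 D2995
theorem N2963 : nd 2963 = n2996 := ndS (p := 2715) (l := 3) rfl N2715 D2996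
theorem N2964 : nd 2964 = n2997 := ndS (p := 2715) (l := 8) rfl N2715 D2997
theorem N2965 : nd 2965 = n2998 := ndS (p := 2716) (l := 2) rfl N2716 D2998
theorem N2966 : nd 2966 = n2999 := ndS (p := 2716) (l := 8) rfl N2716 D2999
theorem N2967 : nd 2967 = n3000 := ndS (p := 2719) (l := 4) rfl N2719 D3000
theorem N2968 : nd 2968 = n3001 := ndS (p := 2719) (l := 8) rfl N2719 D3001
theorem N2969 : nd 2969 = n3002 := ndS (p := 2721) (l := 4) rfl N2721 D3002
theorem N2970 : nd 2970 = n3003 := ndS (p := 2721) (l := 8) rfl N2721 D3003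
theorem N2971 : nd 2971 = n3004 := ndS (p := 2723) (l := 4) rfl N2723 D3004
theorem N2972 : nd 2972 = n3005 := ndS (p := 2723) (l := 8) rfl N2723 D3005
theorem N2973 : nd 2973 = n3006 := ndS (p := 2724) (l := 8) rfl N2724 D3006
theorem N2974 : nd 2974 = n3007 := ndS (p := 2725) (l := 7) rfl N2725 D3007
theorem N2975 : nd 2975 = n3008 := ndS (p := 2726) (l := 5) rfl N2726 D3008
theorem N2976 : nd 2976 = n3009 := ndS (p := 2726) (l := 8) rfl N2726 D3009
theorem N2977 : nd 2977 = n3010 := ndS (p := 2727) (l := 7) rfl N2727 D3010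
theorem N2978 : nd 2978 = n3011 := ndS (p := 2728) (l := 7) rfl N2728 D3011
theorem N2979 : nd 2979 = n3012 := ndS (p := 2731) (l := 5) rfl N2731 D3012
theorem N2980 : nd 2980 = n3013 := ndS (p := 2731) (l := 8) rfl N2731 D3013
theorem N2981 : nd 2981 = n3014 := ndS (p := 2732) (l := 7) rfl N2732 D3014
theorem N2982 : nd 2982 = n3015 := ndS (p := 2733) (l := 4) rfl N2733 D3015
theorem N2983 : nd 2983 = n3016 := ndS (p := 2733) (l := 8) rfl N2733 D3016
theorem N2984 : nd 2984 = n3017 := ndS (p := 2735) (l := 5) rfl N2735 D3017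
theorem N2985 : nd 2985 = n3018 := ndS (p := 2735) (l := 8) rfl N2735 D3018
theorem N2986 : nd 2986 = n3019 := ndS (p := 2736) (l := 7) rfl N2736 D3019
theorem N2987 : nd 2987 = n3020 := ndS (p := 2737) (l := 0) rfl N2737 D3020
theorem N2988 : nd 2988 = n3021 := ndS (p := 2737) (l := 4) rfl N2737 D3021
theorem N2989 : nd 2989 = n3022 := ndS (p := 2737) (l := 8) rfl N2737 D3022
theorem N2990 : nd 2990 = n3023 := ndS (p := 2738) (l := 5) rfl N2738 D3023
theorem N2991 : nd 2991 = n3024 := ndS (p := 2738) (l := 8) rfl N2738 D3024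
theorem N2992 : nd 2992 = n3025 := ndS (p := 2739) (l := 7) rfl N2739 D3025
theorem N2993 : nd 2993 = n3026 := ndS (p := 2740) (l := 6) rfl N2740 D3026
theorem N2994 : nd 2994 = n3027 := ndS (p := 2740) (l := 8) rfl N2740 D3027
theorem N2995 : nd 2995 = n3028 := ndS (p := 2741) (l := 7) rfl N2741 D3028
theorem N2996 : nd 2996 = n3029 := ndS (p := 2743) (l := 6) rfl N2743 D3029
theorem N2997 : nd 2997 = n3030 := ndS (p := 2743) (l := 8) rfl N2743 D3030
theorem N2998 : nd 2998 = n3031 := ndS (p := 2744) (l := 7) rfl N2744 D3031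
theorem N2999 : nd 2999 = n3032 := ndS (p := 2746) (l := 8) rfl N2746 D3032
theorem N3000 : nd 3000 = n3033 := ndS (p := 2747) (l := 7) rfl N2747 D3033
theorem N3001 : nd 3001 = n3034 := ndS (p := 2748) (l := 3) rfl N2748 D3034
theorem N3002 : nd 3002 = n3035 := ndS (p := 2749) (l := 7) rfl N2749 D3035
theorem N3003 : nd 3003 = n3036 := ndS (p := 2751) (l := 8) rfl N2751 D3036
theorem N3004 : nd 3004 = n3037 := ndS (p := 2755) (l := 7) rfl N2755 D3037
theorem N3005 : nd 3005 = n3038 := ndS (p := 2756) (l := 8) rfl N2756 D3038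
theorem N3006 : nd 3006 = n3039 := ndS (p := 2757) (l := 7) rfl N2757 D3039
theorem N3007 : nd 3007 = n3040 := ndS (p := 2759) (l := 8) rfl N2759 D3040
theorem N3008 : nd 3008 = n3041 := ndS (p := 2761) (l := 8) rfl N2761 D3041
theorem N3009 : nd 3009 = n3042 := ndS (p := 2763) (l := 1) rfl N2763 D3042
theorem N3010 : nd 3010 = n3043 := ndS (p := 2763) (l := 8) rfl N2763 D3043
theorem N3011 : nd 3011 = n3044 := ndS (p := 2764) (l := 7) rfl N2764 D3044
theorem N3012 : nd 3012 = n3045 := ndS (p := 2765) (l := 7) rfl N2765 D3045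
theorem N3013 : nd 3013 = n3046 := ndS (p := 2766) (l := 8) rfl N2766 D3046
theorem N3014 : nd 3014 = n3047 := ndS (p := 2767) (l := 7) rfl N2767 D3047
theorem N3015 : nd 3015 = n3048 := ndS (p := 2770) (l := 8) rfl N2770 D3048
theorem N3016 : nd 3016 = n3049 := ndS (p := 2771) (l := 7) rfl N2771 D3049
theorem N3017 : nd 3017 = n3050 := ndS (p := 2773) (l := 8) rfl N2773 D3050
theorem N3018 : nd 3018 = n3051 := ndS (p := 2775) (l := 2) rfl N2775 D3051
theorem N3019 : nd 3019 = n3052 := ndS (p := 2775) (l := 8) rfl N2775 D3052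
theorem N3020 : nd 3020 = n3053 := ndS (p := 2777) (l := 3) rfl N2777 D3053
theorem N3021 : nd 3021 = n3054 := ndS (p := 2777) (l := 8) rfl N2777 D3054
theorem N3022 : nd 3022 = n3055 := ndS (p := 2778) (l := 2) rfl N2778 D3055
theorem N3023 : nd 3023 = n3056 := ndS (p := 2778) (l := 8) rfl N2778 D3056
theorem N3024 : nd 3024 = n3057 := ndS (p := 2780) (l := 4) rfl N2780 D3057
theorem N3025 : nd 3025 = n3058 := ndS (p := 2780) (l := 8) rfl N2780 D3058
theorem N3026 : nd 3026 = n3059 := ndS (p := 2781) (l := 8) rfl N2781 D3059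
theorem N3027 : nd 3027 = n3060 := ndS (p := 2782) (l := 7) rfl N2782 D3060
theorem N3028 : nd 3028 = n3061 := ndS (p := 2785) (l := 8) rfl N2785 D3061
theorem N3029 : nd 3029 = n3062 := ndS (p := 2786) (l := 7) rfl N2786 D3062
theorem N3030 : nd 3030 = n3063 := ndS (p := 2787) (l := 7) rfl N2787 D3063
theorem N3031 : nd 3031 = n3064 := ndS (p := 2789) (l := 1) rfl N2789 D3064
theorem N3032 : nd 3032 = n3065 := ndS (p := 2789) (l := 8) rfl N2789 D3065
theorem N3033 : nd 3033 = n3066 := ndS (p := 2790) (l := 7) rfl N2790 D3066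
theorem N3034 : nd 3034 = n3067 := ndS (p := 2791) (l := 4) rfl N2791 D3067
theorem N3035 : nd 3035 = n3068 := ndS (p := 2791) (l := 8) rfl N2791 D3068
theorem N3036 : nd 3036 = n3069 := ndS (p := 2793) (l := 8) rfl N2793 D3069
theorem N3037 : nd 3037 = n3070 := ndS (p := 2794) (l := 7) rfl N2794 D3070
theorem N3038 : nd 3038 = n3071 := ndS (p := 2795) (l := 0) rfl N2795 D3071
theorem N3039 : nd 3039 = n3072 := ndS (p := 2795) (l := 4) rfl N2795 D3072
theorem N3040 : nd 3040 = n3073 := ndS (p := 2795) (l := 8) rfl N2795 D3073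
theorem N3041 : nd 3041 = n3074 := ndS (p := 2796) (l := 5) rfl N2796 D3074
theorem N3042 : nd 3042 = n3075 := ndS (p := 2796) (l := 8) rfl N2796 D3075
theorem N3043 : nd 3043 = n3076 := ndS (p := 2797) (l := 7) rfl N2797 D3076
theorem N3044 : nd 3044 = n3077 := ndS (p := 2798) (l := 6) rfl N2798 D3077
theorem N3045 : nd 3045 = n3078 := ndS (p := 2798) (l := 8) rfl N2798 D3078
theorem N3046 : nd 3046 = n3079 := ndS (p := 2799) (l := 7) rfl N2799 D3079
theorem N3047 : nd 3047 = n3080 := ndS (p := 2801) (l := 8) rfl N2801 D3080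
theorem N3048 : nd 3048 = n3081 := ndS (p := 2804) (l := 7) rfl N2804 D3081
theorem N3049 : nd 3049 = n3082 := ndS (p := 2806) (l := 8) rfl N2806 D3082
theorem N3050 : nd 3050 = n3083 := ndS (p := 2807) (l := 7) rfl N2807 D3083
theorem N3051 : nd 3051 = n3084 := ndS (p := 2808) (l := 3) rfl N2808 D3084
theorem N3052 : nd 3052 = n3085 := ndS (p := 2809) (l := 7) rfl N2809 D3085
theorem N3053 : nd 3053 = n3086 := ndS (p := 2811) (l := 7) rfl N2811 D3086
theorem N3054 : nd 3054 = n3087 := ndS (p := 2812) (l := 7) rfl N2812 D3087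
theorem N3055 : nd 3055 = n3088 := ndS (p := 2813) (l := 7) rfl N2813 D3088
theorem N3056 : nd 3056 = n3089 := ndS (p := 2814) (l := 8) rfl N2814 D3089
theorem N3057 : nd 3057 = n3090 := ndS (p := 2815) (l := 7) rfl N2815 D3090
theorem N3058 : nd 3058 = n3091 := ndS (p := 2816) (l := 7) rfl N2816 D3091
theorem N3059 : nd 3059 = n3092 := ndS (p := 2818) (l := 8) rfl N2818 D3092
theorem N3060 : nd 3060 = n3093 := ndS (p := 2819) (l := 7) rfl N2819 D3093
theorem N3061 : nd 3061 = n3094 := ndS (p := 2822) (l := 0) rfl N2822 D3094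
theorem N3062 : nd 3062 = n3095 := ndS (p := 2822) (l := 4) rfl N2822 D3095
theorem N3063 : nd 3063 = n3096 := ndS (p := 2822) (l := 8) rfl N2822 D3096
theorem N3064 : nd 3064 = n3097 := ndS (p := 2823) (l := 5) rfl N2823 D3097
theorem N3065 : nd 3065 = n3098 := ndS (p := 2823) (l := 8) rfl N2823 D3098
theorem N3066 : nd 3066 = n3099 := ndS (p := 2824) (l := 7) rfl N2824 D3099
theorem N3067 : nd 3067 = n3100 := ndS (p := 2825) (l := 8) rfl N2825 D3100
theorem N3068 : nd 3068 = n3101 := ndS (p := 2826) (l := 7) rfl N2826 D3101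
theorem N3069 : nd 3069 = n3102 := ndS (p := 2828) (l := 8) rfl N2828 D3102
theorem N3070 : nd 3070 = n3103 := ndS (p := 2829) (l := 7) rfl N2829 D3103
theorem N3071 : nd 3071 = n3104 := ndS (p := 2831) (l := 8) rfl N2831 D3104
theorem N3072 : nd 3072 = n3105 := ndS (p := 2832) (l := 5) rfl N2832 D3105
theorem N3073 : nd 3073 = n3106 := ndS (p := 2832) (l := 8) rfl N2832 D3106
theorem N3074 : nd 3074 = n3107 := ndS (p := 2833) (l := 7) rfl N2833 D3107
theorem N3075 : nd 3075 = n3108 := ndS (p := 2834) (l := 8) rfl N2834 D3108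
theorem N3076 : nd 3076 = n3109 := ndS (p := 2835) (l := 7) rfl N2835 D3109
theorem N3077 : nd 3077 = n3110 := ndS (p := 2837) (l := 7) rfl N2837 D3110
theorem N3078 : nd 3078 = n3111 := ndS (p := 2841) (l := 8) rfl N2841 D3111
theorem N3079 : nd 3079 = n3112 := ndS (p := 2844) (l := 7) rfl N2844 D3112
theorem N3080 : nd 3080 = n3113 := ndS (p := 2846) (l := 7) rfl N2846 D3113
theorem N3081 : nd 3081 = n3114 := ndS (p := 2848) (l := 8) rfl N2848 D3114
theorem N3082 : nd 3082 = n3115 := ndS (p := 2849) (l := 7) rfl N2849 D3115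
theorem N3083 : nd 3083 = n3116 := ndS (p := 2851) (l := 7) rfl N2851 D3116
theorem N3084 : nd 3084 = n3117 := ndS (p := 2852) (l := 3) rfl N2852 D3117
theorem N3085 : nd 3085 = n3118 := ndS (p := 2855) (l := 8) rfl N2855 D3118
theorem N3086 : nd 3086 = n3119 := ndS (p := 2856) (l := 8) rfl N2856 D3119
theorem N3087 : nd 3087 = n3120 := ndS (p := 2857) (l := 7) rfl N2857 D3120
theorem N3088 : nd 3088 = n3121 := ndS (p := 2858) (l := 7) rfl N2858 D3121
theorem N3089 : nd 3089 = n3122 := ndS (p := 2859) (l := 8) rfl N2859 D3122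
theorem N3090 : nd 3090 = n3123 := ndS (p := 2860) (l := 7) rfl N2860 D3123
theorem N3091 : nd 3091 = n3124 := ndS (p := 2862) (l := 7) rfl N2862 D3124
theorem N3092 : nd 3092 = n3125 := ndS (p := 2863) (l := 8) rfl N2863 D3125
theorem N3093 : nd 3093 = n3126 := ndS (p := 2864) (l := 7) rfl N2864 D3126
theorem N3094 : nd 3094 = n3127 := ndS (p := 2866) (l := 8) rfl N2866 D3127
theorem N3095 : nd 3095 = n3128 := ndS (p := 2867) (l := 7) rfl N2867 D3128
theorem N3096 : nd 3096 = n3129 := ndS (p := 2868) (l := 3) rfl N2868 D3129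
theorem N3097 : nd 3097 = n3130 := ndS (p := 2869) (l := 8) rfl N2869 D3130
theorem N3098 : nd 3098 = n3131 := ndS (p := 2870) (l := 7) rfl N2870 D3131
theorem N3099 : nd 3099 = n3132 := ndS (p := 2872) (l := 8) rfl N2872 D3132
theorem N3100 : nd 3100 = n3133 := ndS (p := 2873) (l := 7) rfl N2873 D3133
theorem N3101 : nd 3101 = n3134 := ndS (p := 2875) (l := 8) rfl N2875 D3134
theorem N3102 : nd 3102 = n3135 := ndS (p := 2876) (l := 7) rfl N2876 D3135
theorem N3103 : nd 3103 = n3136 := ndS (p := 2877) (l := 3) rfl N2877 D3136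
theorem N3104 : nd 3104 = n3137 := ndS (p := 2878) (l := 2) rfl N2878 D3137
theorem N3105 : nd 3105 = n3138 := ndS (p := 2878) (l := 4) rfl N2878 D3138
theorem N3106 : nd 3106 = n3139 := ndS (p := 2878) (l := 8) rfl N2878 D3139
theorem N3107 : nd 3107 = n3140 := ndS (p := 2880) (l := 4) rfl N2880 D3140
theorem N3108 : nd 3108 = n3141 := ndS (p := 2880) (l := 8) rfl N2880 D3141
theorem N3109 : nd 3109 = n3142 := ndS (p := 2881) (l := 8) rfl N2881 D3142
theorem N3110 : nd 3110 = n3143 := ndS (p := 2882) (l := 7) rfl N2882 D3143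
theorem N3111 : nd 3111 = n3144 := ndS (p := 2883) (l := 7) rfl N2883 D3144
theorem N3112 : nd 3112 = n3145 := ndS (p := 2885) (l := 7) rfl N2885 D3145
theorem N3113 : nd 3113 = n3146 := ndS (p := 2887) (l := 3) rfl N2887 D3146
theorem N3114 : nd 3114 = n3147 := ndS (p := 2887) (l := 8) rfl N2887 D3147
theorem N3115 : nd 3115 = n3148 := ndS (p := 2888) (l := 2) rfl N2888 D3148
theorem N3116 : nd 3116 = n3149 := ndS (p := 2888) (l := 4) rfl N2888 D3149
theorem N3117 : nd 3117 = n3150 := ndS (p := 2888) (l := 8) rfl N2888 D3150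
theorem N3118 : nd 3118 = n3151 := ndS (p := 2891) (l := 8) rfl N2891 D3151
theorem N3119 : nd 3119 = n3152 := ndS (p := 2892) (l := 7) rfl N2892 D3152
theorem N3120 : nd 3120 = n3153 := ndS (p := 2893) (l := 7) rfl N2893 D3153
theorem N3121 : nd 3121 = n3154 := ndS (p := 2895) (l := 3) rfl N2895 D3154
theorem N3122 : nd 3122 = n3155 := ndS (p := 2895) (l := 8) rfl N2895 D3155
theorem N3123 : nd 3123 = n3156 := ndS (p := 2896) (l := 2) rfl N2896 D3156
theorem N3124 : nd 3124 = n3157 := ndS (p := 2896) (l := 4) rfl N2896 D3157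
theorem N3125 : nd 3125 = n3158 := ndS (p := 2896) (l := 8) rfl N2896 D3158
theorem N3126 : nd 3126 = n3159 := ndS (p := 2898) (l := 3) rfl N2898 D3159
theorem N3127 : nd 3127 = n3160 := ndS (p := 2898) (l := 8) rfl N2898 D3160
theorem N3128 : nd 3128 = n3161 := ndS (p := 2899) (l := 8) rfl N2899 D3161
theorem N3129 : nd 3129 = n3162 := ndS (p := 2901) (l := 8) rfl N2901 D3162
theorem N3130 : nd 3130 = n3163 := ndS (p := 2902) (l := 5) rfl N2902 D3163
theorem N3131 : nd 3131 = n3164 := ndS (p := 2902) (l := 8) rfl N2902 D3164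
theorem N3132 : nd 3132 = n3165 := ndS (p := 2903) (l := 7) rfl N2903 D3165
theorem N3133 : nd 3133 = n3166 := ndS (p := 2904) (l := 8) rfl N2904 D3166
theorem N3134 : nd 3134 = n3167 := ndS (p := 2905) (l := 7) rfl N2905 D3167
theorem N3135 : nd 3135 = n3168 := ndS (p := 2907) (l := 7) rfl N2907 D3168
theorem N3136 : nd 3136 = n3169 := ndS (p := 2910) (l := 7) rfl N2910 D3169
theorem N3137 : nd 3137 = n3170 := ndS (p := 2912) (l := 8) rfl N2912 D3170
theorem N3138 : nd 3138 = n3171 := ndS (p := 2914) (l := 1) rfl N2914 D3171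
theorem N3139 : nd 3139 = n3172 := ndS (p := 2914) (l := 8) rfl N2914 D3172
theorem N3140 : nd 3140 = n3173 := ndS (p := 2915) (l := 5) rfl N2915 D3173
theorem N3141 : nd 3141 = n3174 := ndS (p := 2915) (l := 8) rfl N2915 D3174
theorem N3142 : nd 3142 = n3175 := ndS (p := 2916) (l := 7) rfl N2916 D3175
theorem N3143 : nd 3143 = n3176 := ndS (p := 2917) (l := 4) rfl N2917 D3176
theorem N3144 : nd 3144 = n3177 := ndS (p := 2917) (l := 8) rfl N2917 D3177
theorem N3145 : nd 3145 = n3178 := ndS (p := 2919) (l := 7) rfl N2919 D3178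
theorem N3146 : nd 3146 = n3179 := ndS (p := 2920) (l := 0) rfl N2920 D3179
theorem N3147 : nd 3147 = n3180 := ndS (p := 2920) (l := 8) rfl N2920 D3180
theorem N3148 : nd 3148 = n3181 := ndS (p := 2921) (l := 7) rfl N2921 D3181
theorem N3149 : nd 3149 = n3182 := ndS (p := 2922) (l := 6) rfl N2922 D3182
theorem N3150 : nd 3150 = n3183 := ndS (p := 2922) (l := 8) rfl N2922 D3183
theorem N3151 : nd 3151 = n3184 := ndS (p := 2923) (l := 7) rfl N2923 D3184
theorem N3152 : nd 3152 = n3185 := ndS (p := 2926) (l := 8) rfl N2926 D3185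
theorem N3153 : nd 3153 = n3186 := ndS (p := 2927) (l := 7) rfl N2927 D3186
theorem N3154 : nd 3154 = n3187 := ndS (p := 2928) (l := 3) rfl N2928 D3187
theorem N3155 : nd 3155 = n3188 := ndS (p := 2929) (l := 7) rfl N2929 D3188
theorem N3156 : nd 3156 = n3189 := ndS (p := 2931) (l := 7) rfl N2931 D3189
theorem N3157 : nd 3157 = n3190 := ndS (p := 2933) (l := 8) rfl N2933 D3190
theorem N3158 : nd 3158 = n3191 := ndS (p := 2934) (l := 7) rfl N2934 D3191
theorem N3159 : nd 3159 = n3192 := ndS (p := 2935) (l := 3) rfl N2935 D3192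
theorem N3160 : nd 3160 = n3193 := ndS (p := 2936) (l := 7) rfl N2936 D3193
theorem N3161 : nd 3161 = n3194 := ndS (p := 2938) (l := 7) rfl N2938 D3194
theorem N3162 : nd 3162 = n3195 := ndS (p := 2940) (l := 7) rfl N2940 D3195
theorem N3163 : nd 3163 = n3196 := ndS (p := 2942) (l := 7) rfl N2942 D3196
theorem N3164 : nd 3164 = n3197 := ndS (p := 2944) (l := 7) rfl N2944 D3197
theorem N3165 : nd 3165 = n3198 := ndS (p := 2945) (l := 3) rfl N2945 D3198
theorem N3166 : nd 3166 = n3199 := ndS (p := 2946) (l := 8) rfl N2946 D3199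
theorem N3167 : nd 3167 = n3200 := ndS (p := 2948) (l := 8) rfl N2948 D3200
theorem N3168 : nd 3168 = n3201 := ndS (p := 2949) (l := 7) rfl N2949 D3201
theorem N3169 : nd 3169 = n3202 := ndS (p := 2950) (l := 7) rfl N2950 D3202
theorem N3170 : nd 3170 = n3203 := ndS (p := 2952) (l := 8) rfl N2952 D3203
theorem N3171 : nd 3171 = n3204 := ndS (p := 2953) (l := 7) rfl N2953 D3204
theorem N3172 : nd 3172 = n3205 := ndS (p := 2954) (l := 8) rfl N2954 D3205
theorem N3173 : nd 3173 = n3206 := ndS (p := 2955) (l := 7) rfl N2955 D3206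
theorem N3174 : nd 3174 = n3207 := ndS (p := 2957) (l := 7) rfl N2957 D3207
theorem N3175 : nd 3175 = n3208 := ndS (p := 2958) (l := 3) rfl N2958 D3208
theorem N3176 : nd 3176 = n3209 := ndS (p := 2959) (l := 7) rfl N2959 D3209
theorem N3177 : nd 3177 = n3210 := ndS (p := 2961) (l := 8) rfl N2961 D3210
theorem N3178 : nd 3178 = n3211 := ndS (p := 2963) (l := 8) rfl N2963 D3211
theorem N3179 : nd 3179 = n3212 := ndS (p := 2965) (l := 8) rfl N2965 D3212
theorem N3180 : nd 3180 = n3213 := ndS (p := 2966) (l := 7) rfl N2966 D3213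
theorem N3181 : nd 3181 = n3214 := ndS (p := 2967) (l := 8) rfl N2967 D3214
theorem N3182 : nd 3182 = n3215 := ndS (p := 2968) (l := 7) rfl N2968 D3215
theorem N3183 : nd 3183 = n3216 := ndS (p := 2969) (l := 5) rfl N2969 D3216
theorem N3184 : nd 3184 = n3217 := ndS (p := 2969) (l := 8) rfl N2969 D3217
theorem N3185 : nd 3185 = n3218 := ndS (p := 2970) (l := 7) rfl N2970 D3218
theorem N3186 : nd 3186 = n3219 := ndS (p := 2971) (l := 8) rfl N2971 D3219
theorem N3187 : nd 3187 = n3220 := ndS (p := 2972) (l := 7) rfl N2972 D3220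
theorem N3188 : nd 3188 = n3221 := ndS (p := 2973) (l := 7) rfl N2973 D3221
theorem N3189 : nd 3189 = n3222 := ndS (p := 2975) (l := 8) rfl N2975 D3222
theorem N3190 : nd 3190 = n3223 := ndS (p := 2976) (l := 7) rfl N2976 D3223
theorem N3191 : nd 3191 = n3224 := ndS (p := 2978) (l := 3) rfl N2978 D3224
theorem N3192 : nd 3192 = n3225 := ndS (p := 2979) (l := 6) rfl N2979 D3225
theorem N3193 : nd 3193 = n3226 := ndS (p := 2979) (l := 8) rfl N2979 D3226
theorem N3194 : nd 3194 = n3227 := ndS (p := 2980) (l := 7) rfl N2980 D3227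
theorem N3195 : nd 3195 = n3228 := ndS (p := 2982) (l := 8) rfl N2982 D3228
theorem N3196 : nd 3196 = n3229 := ndS (p := 2983) (l := 7) rfl N2983 D3229
theorem N3197 : nd 3197 = n3230 := ndS (p := 2984) (l := 6) rfl N2984 D3230
theorem N3198 : nd 3198 = n3231 := ndS (p := 2984) (l := 8) rfl N2984 D3231
theorem N3199 : nd 3199 = n3232 := ndS (p := 2985) (l := 7) rfl N2985 D3232
theorem N3200 : nd 3200 = n3233 := ndS (p := 2987) (l := 8) rfl N2987 D3233
theorem N3201 : nd 3201 = n3234 := ndS (p := 2988) (l := 5) rfl N2988 D3234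
theorem N3202 : nd 3202 = n3235 := ndS (p := 2988) (l := 8) rfl N2988 D3235
theorem N3203 : nd 3203 = n3236 := ndS (p := 2989) (l := 7) rfl N2989 D3236
theorem N3204 : nd 3204 = n3237 := ndS (p := 2990) (l := 6) rfl N2990 D3237
theorem N3205 : nd 3205 = n3238 := ndS (p := 2990) (l := 8) rfl N2990 D3238
theorem N3206 : nd 3206 = n3239 := ndS (p := 2991) (l := 7) rfl N2991 D3239
theorem N3207 : nd 3207 = n3240 := ndS (p := 2993) (l := 8) rfl N2993 D3240
theorem N3208 : nd 3208 = n3241 := ndS (p := 2994) (l := 7) rfl N2994 D3241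
theorem N3209 : nd 3209 = n3242 := ndS (p := 2995) (l := 3) rfl N2995 D3242
theorem N3210 : nd 3210 = n3243 := ndS (p := 2996) (l := 8) rfl N2996 D3243
theorem N3211 : nd 3211 = n3244 := ndS (p := 2997) (l := 7) rfl N2997 D3244
theorem N3212 : nd 3212 = n3245 := ndS (p := 2998) (l := 3) rfl N2998 D3245
theorem N3213 : nd 3213 = n3246 := ndS (p := 2999) (l := 7) rfl N2999 D3246
theorem N3214 : nd 3214 = n3247 := ndS (p := 3000) (l := 3) rfl N3000 D3247
theorem N3215 : nd 3215 = n3248 := ndS (p := 3001) (l := 2) rfl N3001 D3248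
theorem N3216 : nd 3216 = n3249 := ndS (p := 3005) (l := 7) rfl N3005 D3249
theorem N3217 : nd 3217 = n3250 := ndS (p := 3006) (l := 3) rfl N3006 D3250
theorem N3218 : nd 3218 = n3251 := ndS (p := 3007) (l := 7) rfl N3007 D3251
theorem N3219 : nd 3219 = n3252 := ndS (p := 3008) (l := 7) rfl N3008 D3252
theorem N3220 : nd 3220 = n3253 := ndS (p := 3009) (l := 8) rfl N3009 D3253
theorem N3221 : nd 3221 = n3254 := ndS (p := 3010) (l := 7) rfl N3010 D3254
theorem N3222 : nd 3222 = n3255 := ndS (p := 3013) (l := 7) rfl N3013 D3255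
theorem N3223 : nd 3223 = n3256 := ndS (p := 3014) (l := 3) rfl N3014 D3256
theorem N3224 : nd 3224 = n3257 := ndS (p := 3015) (l := 7) rfl N3015 D3257
theorem N3225 : nd 3225 = n3258 := ndS (p := 3017) (l := 7) rfl N3017 D3258
theorem N3226 : nd 3226 = n3259 := ndS (p := 3018) (l := 8) rfl N3018 D3259
theorem N3227 : nd 3227 = n3260 := ndS (p := 3019) (l := 7) rfl N3019 D3260
theorem N3228 : nd 3228 = n3261 := ndS (p := 3020) (l := 8) rfl N3020 D3261
theorem N3229 : nd 3229 = n3262 := ndS (p := 3022) (l := 8) rfl N3022 D3262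
theorem N3230 : nd 3230 = n3263 := ndS (p := 3023) (l := 7) rfl N3023 D3263
theorem N3231 : nd 3231 = n3264 := ndS (p := 3024) (l := 8) rfl N3024 D3264
theorem N3232 : nd 3232 = n3265 := ndS (p := 3025) (l := 7) rfl N3025 D3265
theorem N3233 : nd 3233 = n3266 := ndS (p := 3026) (l := 7) rfl N3026 D3266
theorem N3234 : nd 3234 = n3267 := ndS (p := 3028) (l := 7) rfl N3028 D3267
theorem N3235 : nd 3235 = n3268 := ndS (p := 3030) (l := 3) rfl N3030 D3268
theorem N3236 : nd 3236 = n3269 := ndS (p := 3031) (l := 8) rfl N3031 D3269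
theorem N3237 : nd 3237 = n3270 := ndS (p := 3032) (l := 7) rfl N3032 D3270
theorem N3238 : nd 3238 = n3271 := ndS (p := 3034) (l := 8) rfl N3034 D3271
theorem N3239 : nd 3239 = n3272 := ndS (p := 3035) (l := 7) rfl N3035 D3272
theorem N3240 : nd 3240 = n3273 := ndS (p := 3036) (l := 7) rfl N3036 D3273
theorem N3241 : nd 3241 = n3274 := ndS (p := 3038) (l := 8) rfl N3038 D3274
theorem N3242 : nd 3242 = n3275 := ndS (p := 3039) (l := 8) rfl N3039 D3275
theorem N3243 : nd 3243 = n3276 := ndS (p := 3040) (l := 7) rfl N3040 D3276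
theorem N3244 : nd 3244 = n3277 := ndS (p := 3041) (l := 8) rfl N3041 D3277
theorem N3245 : nd 3245 = n3278 := ndS (p := 3042) (l := 7) rfl N3042 D3278
theorem N3246 : nd 3246 = n3279 := ndS (p := 3043) (l := 3) rfl N3043 D3279
theorem N3247 : nd 3247 = n3280 := ndS (p := 3044) (l := 8) rfl N3044 D3280
theorem N3248 : nd 3248 = n3281 := ndS (p := 3045) (l := 7) rfl N3045 D3281
theorem N3249 : nd 3249 = n3282 := ndS (p := 3048) (l := 3) rfl N3048 D3282
theorem N3250 : nd 3250 = n3283 := ndS (p := 3049) (l := 7) rfl N3049 D3283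
theorem N3251 : nd 3251 = n3284 := ndS (p := 3050) (l := 3) rfl N3050 D3284
theorem N3252 : nd 3252 = n3285 := ndS (p := 3051) (l := 4) rfl N3051 D3285
theorem N3253 : nd 3253 = n3286 := ndS (p := 3056) (l := 7) rfl N3056 D3286
theorem N3254 : nd 3254 = n3287 := ndS (p := 3059) (l := 7) rfl N3059 D3287
theorem N3255 : nd 3255 = n3288 := ndS (p := 3061) (l := 8) rfl N3061 D3288
theorem N3256 : nd 3256 = n3289 := ndS (p := 3062) (l := 8) rfl N3062 D3289
theorem N3257 : nd 3257 = n3290 := ndS (p := 3063) (l := 7) rfl N3063 D3290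
theorem N3258 : nd 3258 = n3291 := ndS (p := 3064) (l := 8) rfl N3064 D3291
theorem N3259 : nd 3259 = n3292 := ndS (p := 3065) (l := 7) rfl N3065 D3292
theorem N3260 : nd 3260 = n3293 := ndS (p := 3067) (l := 7) rfl N3067 D3293
theorem N3261 : nd 3261 = n3294 := ndS (p := 3069) (l := 7) rfl N3069 D3294
theorem N3262 : nd 3262 = n3295 := ndS (p := 3071) (l := 7) rfl N3071 D3295
theorem N3263 : nd 3263 = n3296 := ndS (p := 3072) (l := 8) rfl N3072 D3296
theorem N3264 : nd 3264 = n3297 := ndS (p := 3073) (l := 7) rfl N3073 D3297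
theorem N3265 : nd 3265 = n3298 := ndS (p := 3075) (l := 7) rfl N3075 D3298
theorem N3266 : nd 3266 = n3299 := ndS (p := 3076) (l := 3) rfl N3076 D3299
theorem N3267 : nd 3267 = n3300 := ndS (p := 3081) (l := 7) rfl N3081 D3300
theorem N3268 : nd 3268 = n3301 := ndS (p := 3082) (l := 3) rfl N3082 D3301
theorem N3269 : nd 3269 = n3302 := ndS (p := 3083) (l := 3) rfl N3083 D3302
theorem N3270 : nd 3270 = n3303 := ndS (p := 3085) (l := 7) rfl N3085 D3303
theorem N3271 : nd 3271 = n3304 := ndS (p := 3086) (l := 7) rfl N3086 D3304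
theorem N3272 : nd 3272 = n3305 := ndS (p := 3089) (l := 7) rfl N3089 D3305
theorem N3273 : nd 3273 = n3306 := ndS (p := 3090) (l := 3) rfl N3090 D3306
theorem N3274 : nd 3274 = n3307 := ndS (p := 3092) (l := 7) rfl N3092 D3307
theorem N3275 : nd 3275 = n3308 := ndS (p := 3094) (l := 7) rfl N3094 D3308
theorem N3276 : nd 3276 = n3309 := ndS (p := 3095) (l := 3) rfl N3095 D3309
theorem N3277 : nd 3277 = n3310 := ndS (p := 3096) (l := 2) rfl N3096 D3310
theorem N3278 : nd 3278 = n3311 := ndS (p := 3097) (l := 7) rfl N3097 D3311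
theorem N3279 : nd 3279 = n3312 := ndS (p := 3099) (l := 7) rfl N3099 D3312
theorem N3280 : nd 3280 = n3313 := ndS (p := 3100) (l := 3) rfl N3100 D3313
theorem N3281 : nd 3281 = n3314 := ndS (p := 3101) (l := 7) rfl N3101 D3314
theorem N3282 : nd 3282 = n3315 := ndS (p := 3102) (l := 3) rfl N3102 D3315
theorem N3283 : nd 3283 = n3316 := ndS (p := 3103) (l := 4) rfl N3103 D3316
theorem N3284 : nd 3284 = n3317 := ndS (p := 3104) (l := 8) rfl N3104 D3317
theorem N3285 : nd 3285 = n3318 := ndS (p := 3105) (l := 8) rfl N3105 D3318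
theorem N3286 : nd 3286 = n3319 := ndS (p := 3106) (l := 7) rfl N3106 D3319
theorem N3287 : nd 3287 = n3320 := ndS (p := 3107) (l := 8) rfl N3107 D3320
theorem N3288 : nd 3288 = n3321 := ndS (p := 3108) (l := 7) rfl N3108 D3321
theorem N3289 : nd 3289 = n3322 := ndS (p := 3109) (l := 7) rfl N3109 D3322
theorem N3290 : nd 3290 = n3323 := ndS (p := 3111) (l := 3) rfl N3111 D3323
theorem N3291 : nd 3291 = n3324 := ndS (p := 3112) (l := 3) rfl N3112 D3324
theorem N3292 : nd 3292 = n3325 := ndS (p := 3113) (l := 8) rfl N3113 D3325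
theorem N3293 : nd 3293 = n3326 := ndS (p := 3115) (l := 8) rfl N3115 D3326
theorem N3294 : nd 3294 = n3327 := ndS (p := 3116) (l := 8) rfl N3116 D3327
theorem N3295 : nd 3295 = n3328 := ndS (p := 3117) (l := 7) rfl N3117 D3328
theorem N3296 : nd 3296 = n3329 := ndS (p := 3118) (l := 7) rfl N3118 D3329
theorem N3297 : nd 3297 = n3330 := ndS (p := 3121) (l := 8) rfl N3121 D3330
theorem N3298 : nd 3298 = n3331 := ndS (p := 3123) (l := 8) rfl N3123 D3331
theorem N3299 : nd 3299 = n3332 := ndS (p := 3124) (l := 8) rfl N3124 D3332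
theorem N3300 : nd 3300 = n3333 := ndS (p := 3125) (l := 7) rfl N3125 D3333
theorem N3301 : nd 3301 = n3334 := ndS (p := 3126) (l := 8) rfl N3126 D3334
theorem N3302 : nd 3302 = n3335 := ndS (p := 3128) (l := 7) rfl N3128 D3335
theorem N3303 : nd 3303 = n3336 := ndS (p := 3129) (l := 7) rfl N3129 D3336
theorem N3304 : nd 3304 = n3337 := ndS (p := 3130) (l := 8) rfl N3130 D3337
theorem N3305 : nd 3305 = n3338 := ndS (p := 3131) (l := 7) rfl N3131 D3338
theorem N3306 : nd 3306 = n3339 := ndS (p := 3133) (l := 7) rfl N3133 D3339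
theorem N3307 : nd 3307 = n3340 := ndS (p := 3134) (l := 3) rfl N3134 D3340
theorem N3308 : nd 3308 = n3341 := ndS (p := 3136) (l := 3) rfl N3136 D3341
theorem N3309 : nd 3309 = n3342 := ndS (p := 3137) (l := 7) rfl N3137 D3342
theorem N3310 : nd 3310 = n3343 := ndS (p := 3138) (l := 8) rfl N3138 D3343
theorem N3311 : nd 3311 = n3344 := ndS (p := 3139) (l := 7) rfl N3139 D3344
theorem N3312 : nd 3312 = n3345 := ndS (p := 3140) (l := 8) rfl N3140 D3345
theorem N3313 : nd 3313 = n3346 := ndS (p := 3141) (l := 7) rfl N3141 D3346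
theorem N3314 : nd 3314 = n3347 := ndS (p := 3143) (l := 8) rfl N3143 D3347
theorem N3315 : nd 3315 = n3348 := ndS (p := 3144) (l := 7) rfl N3144 D3348
theorem N3316 : nd 3316 = n3349 := ndS (p := 3146) (l := 8) rfl N3146 D3349
theorem N3317 : nd 3317 = n3350 := ndS (p := 3147) (l := 7) rfl N3147 D3350
theorem N3318 : nd 3318 = n3351 := ndS (p := 3148) (l := 3) rfl N3148 D3351
theorem N3319 : nd 3319 = n3352 := ndS (p := 3149) (l := 8) rfl N3149 D3352
theorem N3320 : nd 3320 = n3353 := ndS (p := 3150) (l := 7) rfl N3150 D3353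
theorem N3321 : nd 3321 = n3354 := ndS (p := 3151) (l := 3) rfl N3151 D3354
theorem N3322 : nd 3322 = n3355 := ndS (p := 3152) (l := 7) rfl N3152 D3355
theorem N3323 : nd 3323 = n3356 := ndS (p := 3153) (l := 3) rfl N3153 D3356
theorem N3324 : nd 3324 = n3357 := ndS (p := 3154) (l := 2) rfl N3154 D3357
theorem N3325 : nd 3325 = n3358 := ndS (p := 3157) (l := 7) rfl N3157 D3358
theorem N3326 : nd 3326 = n3359 := ndS (p := 3158) (l := 3) rfl N3158 D3359
theorem N3327 : nd 3327 = n3360 := ndS (p := 3159) (l := 4) rfl N3159 D3360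
theorem N3328 : nd 3328 = n3361 := ndS (p := 3164) (l := 3) rfl N3164 D3361
theorem N3329 : nd 3329 = n3362 := ndS (p := 3166) (l := 7) rfl N3166 D3362
theorem N3330 : nd 3330 = n3363 := ndS (p := 3167) (l := 7) rfl N3167 D3363
theorem N3331 : nd 3331 = n3364 := ndS (p := 3169) (l := 3) rfl N3169 D3364
theorem N3332 : nd 3332 = n3365 := ndS (p := 3170) (l := 7) rfl N3170 D3365
theorem N3333 : nd 3333 = n3366 := ndS (p := 3172) (l := 7) rfl N3172 D3366
theorem N3334 : nd 3334 = n3367 := ndS (p := 3173) (l := 3) rfl N3173 D3367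
theorem N3335 : nd 3335 = n3368 := ndS (p := 3174) (l := 3) rfl N3174 D3368
theorem N3336 : nd 3336 = n3369 := ndS (p := 3175) (l := 2) rfl N3175 D3369
theorem N3337 : nd 3337 = n3370 := ndS (p := 3177) (l := 7) rfl N3177 D3370
theorem N3338 : nd 3338 = n3371 := ndS (p := 3178) (l := 7) rfl N3178 D3371
theorem N3339 : nd 3339 = n3372 := ndS (p := 3179) (l := 7) rfl N3179 D3372
theorem N3340 : nd 3340 = n3373 := ndS (p := 3181) (l := 7) rfl N3181 D3373
theorem N3341 : nd 3341 = n3374 := ndS (p := 3183) (l := 8) rfl N3183 D3374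
theorem N3342 : nd 3342 = n3375 := ndS (p := 3184) (l := 7) rfl N3184 D3375
theorem N3343 : nd 3343 = n3376 := ndS (p := 3186) (l := 7) rfl N3186 D3376
theorem N3344 : nd 3344 = n3377 := ndS (p := 3188) (l := 3) rfl N3188 D3377
theorem N3345 : nd 3345 = n3378 := ndS (p := 3189) (l := 7) rfl N3189 D3378
theorem N3346 : nd 3346 = n3379 := ndS (p := 3190) (l := 3) rfl N3190 D3379
theorem N3347 : nd 3347 = n3380 := ndS (p := 3191) (l := 2) rfl N3191 D3380
theorem N3348 : nd 3348 = n3381 := ndS (p := 3192) (l := 8) rfl N3192 D3381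
theorem N3349 : nd 3349 = n3382 := ndS (p := 3193) (l := 7) rfl N3193 D3382
theorem N3350 : nd 3350 = n3383 := ndS (p := 3194) (l := 3) rfl N3194 D3383
theorem N3351 : nd 3351 = n3384 := ndS (p := 3195) (l := 7) rfl N3195 D3384
theorem N3352 : nd 3352 = n3385 := ndS (p := 3197) (l := 8) rfl N3197 D3385
theorem N3353 : nd 3353 = n3386 := ndS (p := 3198) (l := 7) rfl N3198 D3386
theorem N3354 : nd 3354 = n3387 := ndS (p := 3199) (l := 3) rfl N3199 D3387
theorem N3355 : nd 3355 = n3388 := ndS (p := 3200) (l := 7) rfl N3200 D3388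
theorem N3356 : nd 3356 = n3389 := ndS (p := 3201) (l := 8) rfl N3201 D3389
theorem N3357 : nd 3357 = n3390 := ndS (p := 3202) (l := 7) rfl N3202 D3390
theorem N3358 : nd 3358 = n3391 := ndS (p := 3204) (l := 8) rfl N3204 D3391
theorem N3359 : nd 3359 = n3392 := ndS (p := 3205) (l := 7) rfl N3205 D3392
theorem N3360 : nd 3360 = n3393 := ndS (p := 3206) (l := 3) rfl N3206 D3393
theorem N3361 : nd 3361 = n3394 := ndS (p := 3207) (l := 7) rfl N3207 D3394
theorem N3362 : nd 3362 = n3395 := ndS (p := 3208) (l := 3) rfl N3208 D3395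
theorem N3363 : nd 3363 = n3396 := ndS (p := 3209) (l := 2) rfl N3209 D3396
theorem N3364 : nd 3364 = n3397 := ndS (p := 3210) (l := 7) rfl N3210 D3397
theorem N3365 : nd 3365 = n3398 := ndS (p := 3211) (l := 3) rfl N3211 D3398
theorem N3366 : nd 3366 = n3399 := ndS (p := 3212) (l := 2) rfl N3212 D3399
theorem N3367 : nd 3367 = n3400 := ndS (p := 3214) (l := 2) rfl N3214 D3400
theorem N3368 : nd 3368 = n3401 := ndS (p := 3215) (l := 1) rfl N3215 D3401
theorem N3369 : nd 3369 = n3402 := ndS (p := 3216) (l := 3) rfl N3216 D3402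
theorem N3370 : nd 3370 = n3403 := ndS (p := 3220) (l := 7) rfl N3220 D3403
theorem N3371 : nd 3371 = n3404 := ndS (p := 3221) (l := 3) rfl N3221 D3404
theorem N3372 : nd 3372 = n3405 := ndS (p := 3222) (l := 3) rfl N3222 D3405
theorem N3373 : nd 3373 = n3406 := ndS (p := 3226) (l := 7) rfl N3226 D3406
theorem N3374 : nd 3374 = n3407 := ndS (p := 3228) (l := 7) rfl N3228 D3407
theorem N3375 : nd 3375 = n3408 := ndS (p := 3229) (l := 7) rfl N3229 D3408
theorem N3376 : nd 3376 = n3409 := ndS (p := 3231) (l := 7) rfl N3231 D3409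
theorem N3377 : nd 3377 = n3410 := ndS (p := 3232) (l := 3) rfl N3232 D3410
theorem N3378 : nd 3378 = n3411 := ndS (p := 3236) (l := 7) rfl N3236 D3411
theorem N3379 : nd 3379 = n3412 := ndS (p := 3237) (l := 3) rfl N3237 D3412
theorem N3380 : nd 3380 = n3413 := ndS (p := 3238) (l := 7) rfl N3238 D3413
theorem N3381 : nd 3381 = n3414 := ndS (p := 3240) (l := 3) rfl N3240 D3414
theorem N3382 : nd 3382 = n3415 := ndS (p := 3241) (l := 7) rfl N3241 D3415
theorem N3383 : nd 3383 = n3416 := ndS (p := 3242) (l := 7) rfl N3242 D3416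
theorem N3384 : nd 3384 = n3417 := ndS (p := 3243) (l := 3) rfl N3243 D3417
theorem N3385 : nd 3385 = n3418 := ndS (p := 3244) (l := 7) rfl N3244 D3418
theorem N3386 : nd 3386 = n3419 := ndS (p := 3245) (l := 3) rfl N3245 D3419
theorem N3387 : nd 3387 = n3420 := ndS (p := 3246) (l := 4) rfl N3246 D3420
theorem N3388 : nd 3388 = n3421 := ndS (p := 3247) (l := 7) rfl N3247 D3421
theorem N3389 : nd 3389 = n3422 := ndS (p := 3253) (l := 3) rfl N3253 D3422
theorem N3390 : nd 3390 = n3423 := ndS (p := 3255) (l := 7) rfl N3255 D3423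
theorem N3391 : nd 3391 = n3424 := ndS (p := 3256) (l := 7) rfl N3256 D3424
theorem N3392 : nd 3392 = n3425 := ndS (p := 3258) (l := 7) rfl N3258 D3425
theorem N3393 : nd 3393 = n3426 := ndS (p := 3259) (l := 3) rfl N3259 D3426
theorem N3394 : nd 3394 = n3427 := ndS (p := 3263) (l := 7) rfl N3263 D3427
theorem N3395 : nd 3395 = n3428 := ndS (p := 3264) (l := 3) rfl N3264 D3428
theorem N3396 : nd 3396 = n3429 := ndS (p := 3265) (l := 3) rfl N3265 D3429
theorem N3397 : nd 3397 = n3430 := ndS (p := 3267) (l := 3) rfl N3267 D3430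
theorem N3398 : nd 3398 = n3431 := ndS (p := 3268) (l := 2) rfl N3268 D3431
theorem N3399 : nd 3399 = n3432 := ndS (p := 3270) (l := 3) rfl N3270 D3432
theorem N3400 : nd 3400 = n3433 := ndS (p := 3271) (l := 3) rfl N3271 D3433
theorem N3401 : nd 3401 = n3434 := ndS (p := 3272) (l := 3) rfl N3272 D3434
theorem N3402 : nd 3402 = n3435 := ndS (p := 3275) (l := 3) rfl N3275 D3435
theorem N3403 : nd 3403 = n3436 := ndS (p := 3276) (l := 2) rfl N3276 D3436
theorem N3404 : nd 3404 = n3437 := ndS (p := 3276) (l := 4) rfl N3276 D3437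
theorem N3405 : nd 3405 = n3438 := ndS (p := 3284) (l := 7) rfl N3284 D3438
theorem N3406 : nd 3406 = n3439 := ndS (p := 3285) (l := 7) rfl N3285 D3439
theorem N3407 : nd 3407 = n3440 := ndS (p := 3287) (l := 7) rfl N3287 D3440
theorem N3408 : nd 3408 = n3441 := ndS (p := 3288) (l := 3) rfl N3288 D3441
theorem N3409 : nd 3409 = n3442 := ndS (p := 3289) (l := 3) rfl N3289 D3442
theorem N3410 : nd 3410 = n3443 := ndS (p := 3290) (l := 2) rfl N3290 D3443
theorem N3411 : nd 3411 = n3444 := ndS (p := 3291) (l := 4) rfl N3291 D3444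
theorem N3412 : nd 3412 = n3445 := ndS (p := 3292) (l := 7) rfl N3292 D3445
theorem N3413 : nd 3413 = n3446 := ndS (p := 3293) (l := 7) rfl N3293 D3446
theorem N3414 : nd 3414 = n3447 := ndS (p := 3294) (l := 7) rfl N3294 D3447
theorem N3415 : nd 3415 = n3448 := ndS (p := 3296) (l := 3) rfl N3296 D3448
theorem N3416 : nd 3416 = n3449 := ndS (p := 3297) (l := 7) rfl N3297 D3449
theorem N3417 : nd 3417 = n3450 := ndS (p := 3298) (l := 7) rfl N3298 D3450
theorem N3418 : nd 3418 = n3451 := ndS (p := 3299) (l := 7) rfl N3299 D3451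
theorem N3419 : nd 3419 = n3452 := ndS (p := 3301) (l := 7) rfl N3301 D3452
theorem N3420 : nd 3420 = n3453 := ndS (p := 3303) (l := 3) rfl N3303 D3453
theorem N3421 : nd 3421 = n3454 := ndS (p := 3304) (l := 7) rfl N3304 D3454
theorem N3422 : nd 3422 = n3455 := ndS (p := 3305) (l := 3) rfl N3305 D3455
theorem N3423 : nd 3423 = n3456 := ndS (p := 3306) (l := 3) rfl N3306 D3456
theorem N3424 : nd 3424 = n3457 := ndS (p := 3310) (l := 7) rfl N3310 D3457
theorem N3425 : nd 3425 = n3458 := ndS (p := 3311) (l := 3) rfl N3311 D3458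
theorem N3426 : nd 3426 = n3459 := ndS (p := 3312) (l := 7) rfl N3312 D3459
theorem N3427 : nd 3427 = n3460 := ndS (p := 3313) (l := 3) rfl N3313 D3460
theorem N3428 : nd 3428 = n3461 := ndS (p := 3314) (l := 7) rfl N3314 D3461
theorem N3429 : nd 3429 = n3462 := ndS (p := 3316) (l := 7) rfl N3316 D3462
theorem N3430 : nd 3430 = n3463 := ndS (p := 3317) (l := 3) rfl N3317 D3463
theorem N3431 : nd 3431 = n3464 := ndS (p := 3318) (l := 4) rfl N3318 D3464
theorem N3432 : nd 3432 = n3465 := ndS (p := 3319) (l := 7) rfl N3319 D3465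
theorem N3433 : nd 3433 = n3466 := ndS (p := 3320) (l := 3) rfl N3320 D3466
theorem N3434 : nd 3434 = n3467 := ndS (p := 3321) (l := 2) rfl N3321 D3467
theorem N3435 : nd 3435 = n3468 := ndS (p := 3322) (l := 3) rfl N3322 D3468
theorem N3436 : nd 3436 = n3469 := ndS (p := 3323) (l := 2) rfl N3323 D3469
theorem N3437 : nd 3437 = n3470 := ndS (p := 3324) (l := 1) rfl N3324 D3470
theorem N3438 : nd 3438 = n3471 := ndS (p := 3327) (l := 5) rfl N3327 D3471
theorem N3439 : nd 3439 = n3472 := ndS (p := 3330) (l := 3) rfl N3330 D3472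
theorem N3440 : nd 3440 = n3473 := ndS (p := 3332) (l := 3) rfl N3332 D3473
theorem N3441 : nd 3441 = n3474 := ndS (p := 3333) (l := 3) rfl N3333 D3474
theorem N3442 : nd 3442 = n3475 := ndS (p := 3334) (l := 2) rfl N3334 D3475
theorem N3443 : nd 3443 = n3476 := ndS (p := 3339) (l := 3) rfl N3339 D3476
theorem N3444 : nd 3444 = n3477 := ndS (p := 3340) (l := 3) rfl N3340 D3477
theorem N3445 : nd 3445 = n3478 := ndS (p := 3341) (l := 7) rfl N3341 D3478
theorem N3446 : nd 3446 = n3479 := ndS (p := 3342) (l := 3) rfl N3342 D3479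
theorem N3447 : nd 3447 = n3480 := ndS (p := 3343) (l := 3) rfl N3343 D3480
theorem N3448 : nd 3448 = n3481 := ndS (p := 3344) (l := 2) rfl N3344 D3481
theorem N3449 : nd 3449 = n3482 := ndS (p := 3348) (l := 7) rfl N3348 D3482
theorem N3450 : nd 3450 = n3483 := ndS (p := 3349) (l := 3) rfl N3349 D3483
theorem N3451 : nd 3451 = n3484 := ndS (p := 3350) (l := 2) rfl N3350 D3484
theorem N3452 : nd 3452 = n3485 := ndS (p := 3351) (l := 3) rfl N3351 D3485
theorem N3453 : nd 3453 = n3486 := ndS (p := 3352) (l := 7) rfl N3352 D3486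
theorem N3454 : nd 3454 = n3487 := ndS (p := 3353) (l := 3) rfl N3353 D3487
theorem N3455 : nd 3455 = n3488 := ndS (p := 3354) (l := 2) rfl N3354 D3488
theorem N3456 : nd 3456 = n3489 := ndS (p := 3356) (l := 7) rfl N3356 D3489
theorem N3457 : nd 3457 = n3490 := ndS (p := 3357) (l := 3) rfl N3357 D3490
theorem N3458 : nd 3458 = n3491 := ndS (p := 3358) (l := 7) rfl N3358 D3491
theorem N3459 : nd 3459 = n3492 := ndS (p := 3359) (l := 3) rfl N3359 D3492
theorem N3460 : nd 3460 = n3493 := ndS (p := 3360) (l := 2) rfl N3360 D3493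
theorem N3461 : nd 3461 = n3494 := ndS (p := 3362) (l := 2) rfl N3362 D3494
theorem N3462 : nd 3462 = n3495 := ndS (p := 3363) (l := 1) rfl N3363 D3495
theorem N3463 : nd 3463 = n3496 := ndS (p := 3365) (l := 2) rfl N3365 D3496
theorem N3464 : nd 3464 = n3497 := ndS (p := 3365) (l := 4) rfl N3365 D3497
theorem N3465 : nd 3465 = n3498 := ndS (p := 3370) (l := 3) rfl N3370 D3498
theorem N3466 : nd 3466 = n3499 := ndS (p := 3373) (l := 3) rfl N3373 D3499
theorem N3467 : nd 3467 = n3500 := ndS (p := 3376) (l := 3) rfl N3376 D3500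
theorem N3468 : nd 3468 = n3501 := ndS (p := 3378) (l := 3) rfl N3378 D3501
theorem N3469 : nd 3469 = n3502 := ndS (p := 3380) (l := 3) rfl N3380 D3502
theorem N3470 : nd 3470 = n3503 := ndS (p := 3383) (l := 3) rfl N3383 D3503
theorem N3471 : nd 3471 = n3504 := ndS (p := 3385) (l := 3) rfl N3385 D3504
theorem N3472 : nd 3472 = n3505 := ndS (p := 3391) (l := 3) rfl N3391 D3505
theorem N3473 : nd 3473 = n3506 := ndS (p := 3392) (l := 3) rfl N3392 D3506
theorem N3474 : nd 3474 = n3507 := ndS (p := 3394) (l := 3) rfl N3394 D3507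
theorem N3475 : nd 3475 = n3508 := ndS (p := 3395) (l := 2) rfl N3395 D3508
theorem N3476 : nd 3476 = n3509 := ndS (p := 3405) (l := 3) rfl N3405 D3509
theorem N3477 : nd 3477 = n3510 := ndS (p := 3406) (l := 3) rfl N3406 D3510
theorem N3478 : nd 3478 = n3511 := ndS (p := 3407) (l := 3) rfl N3407 D3511
theorem N3479 : nd 3479 = n3512 := ndS (p := 3408) (l := 4) rfl N3408 D3512
theorem N3480 : nd 3480 = n3513 := ndS (p := 3409) (l := 2) rfl N3409 D3513
theorem N3481 : nd 3481 = n3514 := ndS (p := 3410) (l := 1) rfl N3410 D3514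
theorem N3482 : nd 3482 = n3515 := ndS (p := 3413) (l := 3) rfl N3413 D3515
theorem N3483 : nd 3483 = n3516 := ndS (p := 3414) (l := 3) rfl N3414 D3516
theorem N3484 : nd 3484 = n3517 := ndS (p := 3417) (l := 3) rfl N3417 D3517
theorem N3485 : nd 3485 = n3518 := ndS (p := 3418) (l := 3) rfl N3418 D3518
theorem N3486 : nd 3486 = n3519 := ndS (p := 3421) (l := 3) rfl N3421 D3519
theorem N3487 : nd 3487 = n3520 := ndS (p := 3424) (l := 3) rfl N3424 D3520
theorem N3488 : nd 3488 = n3521 := ndS (p := 3425) (l := 4) rfl N3425 D3521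
theorem N3489 : nd 3489 = n3522 := ndS (p := 3426) (l := 3) rfl N3426 D3522
theorem N3490 : nd 3490 = n3523 := ndS (p := 3427) (l := 2) rfl N3427 D3523
theorem N3491 : nd 3491 = n3524 := ndS (p := 3428) (l := 3) rfl N3428 D3524
theorem N3492 : nd 3492 = n3525 := ndS (p := 3429) (l := 3) rfl N3429 D3525
theorem N3493 : nd 3493 = n3526 := ndS (p := 3430) (l := 4) rfl N3430 D3526
theorem N3494 : nd 3494 = n3527 := ndS (p := 3431) (l := 5) rfl N3431 D3527
theorem N3495 : nd 3495 = n3528 := ndS (p := 3434) (l := 1) rfl N3434 D3528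
theorem N3496 : nd 3496 = n3529 := ndS (p := 3444) (l := 2) rfl N3444 D3529
theorem N3497 : nd 3497 = n3530 := ndS (p := 3447) (l := 2) rfl N3447 D3530
theorem N3498 : nd 3498 = n3531 := ndS (p := 3450) (l := 2) rfl N3450 D3531
theorem N3499 : nd 3499 = n3532 := ndS (p := 3451) (l := 1) rfl N3451 D3532
theorem N3500 : nd 3500 = n3533 := ndS (p := 3454) (l := 2) rfl N3454 D3533
theorem N3501 : nd 3501 = n3534 := ndS (p := 3454) (l := 4) rfl N3454 D3534
theorem N3502 : nd 3502 = n3535 := ndS (p := 3458) (l := 3) rfl N3458 D3535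
theorem N3503 : nd 3503 = n3536 := ndS (p := 3459) (l := 4) rfl N3459 D3536
theorem N3504 : nd 3504 = n3537 := ndS (p := 3472) (l := 2) rfl N3472 D3537
theorem N3505 : nd 3505 = n3538 := ndS (p := 3476) (l := 4) rfl N3476 D3538
theorem N3506 : nd 3506 = n3539 := ndS (p := 3477) (l := 2) rfl N3477 D3539
theorem N3507 : nd 3507 = n3540 := ndS (p := 3478) (l := 2) rfl N3478 D3540
theorem N3508 : nd 3508 = n3541 := ndS (p := 3478) (l := 4) rfl N3478 D3541
theorem N3509 : nd 3509 = n3542 := ndS (p := 3479) (l := 5) rfl N3479 D3542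

theorem Q1 : ∀ i, i < 1 → P i := stepQ 0 Q0 (allL N0 (tt N0 F1) (tt N1 D1) (tt N0 F2) (tt N0 F3) (tt N0 F4) (tt N0 F5) (tt N0 F6) (tt N0 F7) (tt N0 F8))
theorem Q2 : ∀ i, i < 2 → P i := stepQ 1 Q1 (allL N1 (tt N2 D2) (tt N0 (iv D1)) (tt N3 (iv F9)) (tt N1 F30) (tt N1 F31) (tt N1 F32) (tt N1 F33) (tt N1 F34) (tt N1 F35))
theorem Q3 : ∀ i, i < 3 → P i := stepQ 2 Q2 (allL N2 (tt N1 (iv D2)) (tt N2 F20) (tt N4 F46) (tt N2 F47) (tt N2 F45) (tt N2 F94) (tt N2 F80) (tt N2 F41) (tt N2 F36))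
theorem Q4 : ∀ i, i < 4 → P i := stepQ 3 Q3 (allL N3 (tt N4 (iv F48)) (tt N3 F10) (tt N1 F9) (tt N5 (iv D23)) (tt N3 F62) (tt N3 F95) (tt N3 F81) (tt N3 F42) (tt N3 F37))
theorem Q5 : ∀ i, i < 5 → P i := stepQ 4 Q4 (allL N4 (tt N3 F48) (tt N6 D7) (tt N2 (iv F46)) (tt N7 D24) (tt N4 F49) (tt N4 F96) (tt N4 F82) (tt N4 F50) (tt N4 F51))
theorem Q6 : ∀ i, i < 6 → P i := stepQ 5 Q5 (allL N5 (tt N7 (iv F102)) (tt N5 F11) (tt N5 F79) (tt N3 D23) (tt N8 (iv D22)) (tt N5 F97) (tt N5 F83) (tt N9 (iv F225)) (tt N5 F38))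
theorem Q7 : ∀ i, i < 7 → P i := stepQ 6 Q6 (allL N6 (tt N6 F67) (tt N4 (iv D7)) (tt N6 F24) (tt N10 F68) (tt N6 F63) (tt N6 F98) (tt N6 F93) (tt N6 F54) (tt N6 F52))
theorem Q8 : ∀ i, i < 8 → P i := stepQ 7 Q7 (allL N7 (tt N5 F102) (tt N10 F103) (tt N7 F104) (tt N4 (iv D24)) (tt N11 F184) (tt N7 F105) (tt N7 F106) (tt N12 (iv F208)) (tt N7 F107))
theorem Q9 : ∀ i, i < 9 → P i := stepQ 8 Q8 (allL N8 (tt N11 (iv F179)) (tt N8 F12) (tt N8 F78) (tt N8 F66) (tt N5 D22) (tt N13 D51) (tt N8 F84) (tt N14 (iv D21)) (tt N8 F39))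
theorem Q10 : ∀ i, i < 10 → P i := stepQ 9 Q9 (allL N9 (tt N12 F220) (tt N9 F221) (tt N9 F222) (tt N9 F223) (tt N14 (iv D48)) (tt N9 F226) (tt N9 F224) (tt N5 F225) (tt N15 D73))
theorem Q11 : ∀ i, i < 11 → P i := stepQ 10 Q10 (allL N10 (tt N10 F69) (tt N7 (iv F103)) (tt N16 D12) (tt N6 (iv F68)) (tt N17 D25) (tt N10 F99) (tt N10 F92) (tt N18 D26) (tt N10 F59))
theorem Q12 : ∀ i, i < 12 → P i := stepQ 11 Q11 (allL N11 (tt N8 F179) (tt N17 (iv F198)) (tt N11 F181) (tt N11 F183) (tt N7 (iv F184)) (tt N19 (iv F331)) (tt N11 F182) (tt N20 (iv D45)) (tt N11 F185))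
theorem Q13 : ∀ i, i < 13 → P i := stepQ 12 Q12 (allL N12 (tt N9 (iv F220)) (tt N18 (iv F196)) (tt N12 F175) (tt N12 F207) (tt N20 (iv D43)) (tt N12 F205) (tt N12 F176) (tt N7 F208) (tt N21 D66))
theorem Q14 : ∀ i, i < 14 → P i := stepQ 13 Q13 (allL N13 (tt N19 (iv F326)) (tt N13 F236) (tt N13 F237) (tt N13 F238) (tt N13 F239) (tt N8 (iv D51)) (tt N22 D76) (tt N23 F240) (tt N13 F241))
theorem Q15 : ∀ i, i < 15 → P i := stepQ 14 Q14 (allL N14 (tt N20 (iv D20)) (tt N14 F13) (tt N14 F77) (tt N24 D47) (tt N9 D48) (tt N23 D49) (tt N14 F85) (tt N8 D21) (tt N25 D50))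
theorem Q16 : ∀ i, i < 16 → P i := stepQ 15 Q15 (allL N15 (tt N21 F352) (tt N15 F353) (tt N15 F354) (tt N15 F355) (tt N25 F356) (tt N15 F357) (tt N15 F358) (tt N15 F359) (tt N9 (iv D73)))
theorem Q17 : ∀ i, i < 17 → P i := stepQ 16 Q16 (allL N16 (tt N16 F70) (tt N16 F71) (tt N10 (iv D12)) (tt N16 F28) (tt N26 D27) (tt N16 F100) (tt N16 F91) (tt N27 F72) (tt N16 F60))
theorem Q18 : ∀ i, i < 18 → P i := stepQ 17 Q17 (allL N17 (tt N17 F108) (tt N11 F198) (tt N26 (iv F119)) (tt N17 F109) (tt N10 (iv D25)) (tt N28 D52) (tt N17 F110) (tt N29 F199) (tt N17 F111))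
theorem Q19 : ∀ i, i < 19 → P i := stepQ 18 Q18 (allL N18 (tt N18 F112) (tt N12 F196) (tt N27 F113) (tt N18 F114) (tt N29 F197) (tt N18 F115) (tt N18 F116) (tt N10 (iv D26)) (tt N30 D53))
theorem Q20 : ∀ i, i < 20 → P i := stepQ 19 Q19 (allL N19 (tt N13 F326) (tt N28 F327) (tt N19 F328) (tt N19 F329) (tt N19 F330) (tt N11 F331) (tt N31 (iv F469)) (tt N32 (iv D68)) (tt N19 F332))
theorem Q21 : ∀ i, i < 21 → P i := stepQ 20 Q20 (allL N20 (tt N14 D20) (tt N29 (iv D19)) (tt N20 F76) (tt N33 D42) (tt N12 D43) (tt N32 D44) (tt N20 F86) (tt N11 D45) (tt N34 D46))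
theorem Q22 : ∀ i, i < 22 → P i := stepQ 21 Q21 (allL N21 (tt N15 (iv F352)) (tt N30 F315) (tt N21 F316) (tt N21 F317) (tt N34 F318) (tt N21 F319) (tt N21 F320) (tt N21 F321) (tt N12 (iv D66)))
theorem Q23 : ∀ i, i < 23 → P i := stepQ 22 Q22 (allL N22 (tt N31 (iv F463)) (tt N22 F371) (tt N22 F372) (tt N22 F373) (tt N22 F374) (tt N22 F375) (tt N13 (iv D76)) (tt N35 F376) (tt N22 F377))
theorem Q24 : ∀ i, i < 24 → P i := stepQ 23 Q23 (allL N23 (tt N32 F227) (tt N23 F228) (tt N23 F229) (tt N36 (iv F345)) (tt N23 F230) (tt N14 (iv D49)) (tt N35 D74) (tt N13 (iv F240)) (tt N37 D75))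
theorem Q25 : ∀ i, i < 25 → P i := stepQ 24 Q24 (allL N24 (tt N33 F215) (tt N24 F216) (tt N38 D70) (tt N14 (iv D47)) (tt N24 F219) (tt N36 D71) (tt N24 F217) (tt N24 F218) (tt N39 D72))
theorem Q26 : ∀ i, i < 26 → P i := stepQ 25 Q25 (allL N25 (tt N34 F231) (tt N25 F232) (tt N25 F233) (tt N39 (iv F349)) (tt N15 (iv F356)) (tt N37 (iv F369)) (tt N25 F234) (tt N25 F235) (tt N14 (iv D50)))
theorem Q27 : ∀ i, i < 27 → P i := stepQ 26 Q26 (allL N26 (tt N26 F117) (tt N26 F118) (tt N17 F119) (tt N40 D54) (tt N16 (iv D27)) (tt N41 D55) (tt N26 F120) (tt N42 F121) (tt N26 F122))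
theorem Q28 : ∀ i, i < 28 → P i := stepQ 27 Q27 (allL N27 (tt N27 F17) (tt N27 F73) (tt N18 (iv F113)) (tt N43 D28) (tt N42 D16) (tt N27 F101) (tt N27 F90) (tt N16 (iv F72)) (tt N44 D29))
theorem Q29 : ∀ i, i < 29 → P i := stepQ 28 Q28 (allL N28 (tt N28 F242) (tt N19 (iv F327)) (tt N41 (iv F263)) (tt N28 F243) (tt N28 F244) (tt N17 (iv D52)) (tt N45 D77) (tt N46 F245) (tt N28 F246))
theorem Q30 : ∀ i, i < 30 → P i := stepQ 29 Q29 (allL N29 (tt N29 F14) (tt N20 D19) (tt N42 F193) (tt N47 D37) (tt N18 (iv F197)) (tt N46 D39) (tt N29 F87) (tt N17 (iv F199)) (tt N48 D41))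
theorem Q31 : ∀ i, i < 31 → P i := stepQ 30 Q30 (allL N30 (tt N30 F247) (tt N21 (iv F315)) (tt N44 F248) (tt N30 F249) (tt N48 F250) (tt N30 F251) (tt N30 F252) (tt N30 F253) (tt N18 (iv D53)))
theorem Q32 : ∀ i, i < 32 → P i := stepQ 31 Q31 (allL N31 (tt N22 F463) (tt N45 F464) (tt N31 F465) (tt N31 F466) (tt N31 F467) (tt N31 F468) (tt N19 F469) (tt N49 (iv D93)) (tt N31 F470))
theorem Q33 : ∀ i, i < 33 → P i := stepQ 32 Q32 (allL N32 (tt N23 (iv F227)) (tt N46 F177) (tt N32 F178) (tt N50 (iv F309)) (tt N32 F204) (tt N20 (iv D44)) (tt N49 D67) (tt N19 D68) (tt N51 D69))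
theorem Q34 : ∀ i, i < 34 → P i := stepQ 33 Q33 (allL N33 (tt N24 (iv F215)) (tt N47 F172) (tt N52 D63) (tt N20 (iv D42)) (tt N33 F206) (tt N50 D64) (tt N33 F173) (tt N33 F201) (tt N53 D65))
theorem Q35 : ∀ i, i < 35 → P i := stepQ 34 Q34 (allL N34 (tt N25 (iv F231)) (tt N48 F211) (tt N34 F212) (tt N53 (iv F312)) (tt N21 (iv F318)) (tt N51 (iv F336)) (tt N34 F213) (tt N34 F214) (tt N20 (iv D46)))
theorem Q36 : ∀ i, i < 36 → P i := stepQ 35 Q35 (allL N35 (tt N49 F360) (tt N35 F361) (tt N35 F362) (tt N54 (iv F499)) (tt N35 F363) (tt N35 F364) (tt N23 (iv D74)) (tt N22 (iv F376)) (tt N55 D102))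
theorem Q37 : ∀ i, i < 37 → P i := stepQ 36 Q36 (allL N36 (tt N50 F343) (tt N36 F344) (tt N56 (iv F484)) (tt N23 F345) (tt N57 D98) (tt N24 (iv D71)) (tt N54 D99) (tt N36 F346) (tt N58 D100))
theorem Q38 : ∀ i, i < 38 → P i := stepQ 37 Q37 (allL N37 (tt N51 F365) (tt N37 F366) (tt N37 F367) (tt N58 (iv F504)) (tt N37 F368) (tt N25 F369) (tt N55 (iv F517)) (tt N37 F370) (tt N23 (iv D75)))
theorem Q39 : ∀ i, i < 39 → P i := stepQ 38 Q38 (allL N38 (tt N52 F338) (tt N59 D95) (tt N24 (iv D70)) (tt N38 F339) (tt N38 F340) (tt N56 D96) (tt N38 F341) (tt N38 F342) (tt N60 D97))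
theorem Q40 : ∀ i, i < 40 → P i := stepQ 39 Q39 (allL N39 (tt N53 F347) (tt N39 F348) (tt N60 (iv F488)) (tt N25 F349) (tt N39 F350) (tt N58 (iv F505)) (tt N39 F351) (tt N61 D101) (tt N24 (iv D72)))
theorem Q41 : ∀ i, i < 41 → P i := stepQ 40 Q40 (allL N40 (tt N40 F254) (tt N40 F255) (tt N40 F256) (tt N26 (iv D54)) (tt N40 F257) (tt N62 D78) (tt N40 F258) (tt N40 F259) (tt N40 F260))
theorem Q42 : ∀ i, i < 42 → P i := stepQ 41 Q41 (allL N41 (tt N41 F261) (tt N41 F262) (tt N28 F263) (tt N62 (iv F387)) (tt N41 F264) (tt N26 (iv D55)) (tt N63 D79) (tt N64 F265) (tt N41 F266))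
theorem Q43 : ∀ i, i < 43 → P i := stepQ 42 Q42 (allL N42 (tt N42 F16) (tt N42 F74) (tt N29 (iv F193)) (tt N42 F192) (tt N27 (iv D16)) (tt N64 D31) (tt N42 F89) (tt N26 (iv F121)) (tt N65 D32))
theorem Q44 : ∀ i, i < 44 → P i := stepQ 43 Q43 (allL N43 (tt N43 F123) (tt N43 F124) (tt N43 F125) (tt N27 (iv D28)) (tt N43 F210) (tt N43 F126) (tt N43 F127) (tt N43 F128) (tt N66 D56))
theorem Q45 : ∀ i, i < 45 → P i := stepQ 44 Q44 (allL N44 (tt N44 F129) (tt N44 F130) (tt N30 (iv F248)) (tt N66 (iv F270)) (tt N65 (iv F143)) (tt N44 F131) (tt N44 F132) (tt N44 F133) (tt N27 (iv D29)))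
theorem Q46 : ∀ i, i < 46 → P i := stepQ 45 Q45 (allL N45 (tt N45 F378) (tt N31 (iv F464)) (tt N63 (iv F392)) (tt N45 F379) (tt N45 F380) (tt N45 F381) (tt N28 (iv D77)) (tt N67 F382) (tt N45 F383))
theorem Q47 : ∀ i, i < 47 → P i := stepQ 46 Q46 (allL N46 (tt N46 F164) (tt N32 (iv F177)) (tt N64 (iv F194)) (tt N68 (iv F287)) (tt N46 F203) (tt N29 (iv D39)) (tt N67 D61) (tt N28 (iv F245)) (tt N69 D62))
theorem Q48 : ∀ i, i < 48 → P i := stepQ 47 Q47 (allL N47 (tt N47 F159) (tt N33 (iv F172)) (tt N47 F209) (tt N29 (iv D37)) (tt N47 F202) (tt N68 D59) (tt N47 F160) (tt N47 F200) (tt N70 D60))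
theorem Q49 : ∀ i, i < 49 → P i := stepQ 48 Q48 (allL N48 (tt N48 F169) (tt N34 (iv F211)) (tt N65 (iv F190)) (tt N70 (iv F291)) (tt N30 (iv F250)) (tt N69 (iv F301)) (tt N48 F171) (tt N48 F188) (tt N29 (iv D41)))
theorem Q50 : ∀ i, i < 50 → P i := stepQ 49 Q49 (allL N49 (tt N35 (iv F360)) (tt N67 F322) (tt N49 F323) (tt N71 (iv F452)) (tt N49 F324) (tt N49 F325) (tt N32 (iv D67)) (tt N31 D93) (tt N72 D94))
theorem Q51 : ∀ i, i < 51 → P i := stepQ 50 Q50 (allL N50 (tt N36 (iv F343)) (tt N68 F308) (tt N73 (iv F439)) (tt N32 F309) (tt N74 D89) (tt N33 (iv D64)) (tt N71 D90) (tt N50 F310) (tt N75 D91))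
theorem Q52 : ∀ i, i < 52 → P i := stepQ 51 Q51 (allL N51 (tt N37 (iv F365)) (tt N69 F333) (tt N51 F334) (tt N75 (iv F456)) (tt N51 F335) (tt N34 F336) (tt N72 (iv F475)) (tt N51 F337) (tt N32 (iv D69)))
theorem Q53 : ∀ i, i < 53 → P i := stepQ 52 Q52 (allL N52 (tt N38 (iv F338)) (tt N52 F303) (tt N33 (iv D63)) (tt N52 F304) (tt N52 F305) (tt N73 D87) (tt N52 F306) (tt N52 F307) (tt N76 D88))
theorem Q54 : ∀ i, i < 54 → P i := stepQ 53 Q53 (allL N53 (tt N39 (iv F347)) (tt N70 F311) (tt N76 (iv F443)) (tt N34 F312) (tt N53 F313) (tt N75 (iv F457)) (tt N53 F314) (tt N77 D92) (tt N33 (iv D65)))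
theorem Q55 : ∀ i, i < 55 → P i := stepQ 54 Q54 (allL N54 (tt N71 F497) (tt N54 F498) (tt N78 (iv F603)) (tt N35 F499) (tt N79 (iv F619)) (tt N54 F500) (tt N36 (iv D99)) (tt N54 F501) (tt N80 D125))
theorem Q56 : ∀ i, i < 56 → P i := stepQ 55 Q55 (allL N55 (tt N72 F512) (tt N55 F513) (tt N55 F514) (tt N80 (iv F628)) (tt N55 F515) (tt N55 F516) (tt N37 F517) (tt N55 F518) (tt N35 (iv D102)))
theorem Q57 : ∀ i, i < 57 → P i := stepQ 56 Q56 (allL N56 (tt N73 F483) (tt N81 (iv F588)) (tt N36 F484) (tt N56 F485) (tt N82 D119) (tt N38 (iv D96)) (tt N78 D120) (tt N56 F486) (tt N83 D121))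
theorem Q58 : ∀ i, i < 58 → P i := stepQ 57 Q57 (allL N57 (tt N74 F492) (tt N57 F493) (tt N82 (iv F599)) (tt N57 F494) (tt N36 (iv D98)) (tt N57 F495) (tt N79 D123) (tt N57 F496) (tt N84 D124))
theorem Q59 : ∀ i, i < 59 → P i := stepQ 58 Q58 (allL N58 (tt N75 F502) (tt N58 F503) (tt N83 (iv F608)) (tt N37 F504) (tt N84 (iv F624)) (tt N39 F505) (tt N80 (iv F630)) (tt N85 D126) (tt N36 (iv D100)))
theorem Q60 : ∀ i, i < 60 → P i := stepQ 59 Q59 (allL N59 (tt N59 F477) (tt N38 (iv D95)) (tt N59 F478) (tt N59 F479) (tt N59 F480) (tt N81 D117) (tt N59 F481) (tt N59 F482) (tt N86 D118))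
theorem Q61 : ∀ i, i < 61 → P i := stepQ 60 Q60 (allL N60 (tt N76 F487) (tt N86 (iv F593)) (tt N39 F488) (tt N60 F489) (tt N60 F490) (tt N83 (iv F610)) (tt N60 F491) (tt N87 D122) (tt N38 (iv D97)))
theorem Q62 : ∀ i, i < 62 → P i := stepQ 61 Q61 (allL N61 (tt N77 F506) (tt N61 F507) (tt N87 (iv F612)) (tt N61 F508) (tt N61 F509) (tt N85 (iv F634)) (tt N61 F510) (tt N39 (iv D101)) (tt N61 F511))
theorem Q63 : ∀ i, i < 63 → P i := stepQ 62 Q62 (allL N62 (tt N62 F384) (tt N62 F385) (tt N62 F386) (tt N41 F387) (tt N88 D103) (tt N40 (iv D78)) (tt N89 D104) (tt N62 F388) (tt N62 F389))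
theorem Q64 : ∀ i, i < 64 → P i := stepQ 63 Q63 (allL N63 (tt N63 F390) (tt N63 F391) (tt N45 F392) (tt N89 (iv F529)) (tt N63 F393) (tt N63 F394) (tt N41 (iv D79)) (tt N90 F395) (tt N63 F396))
theorem Q65 : ∀ i, i < 65 → P i := stepQ 64 Q64 (allL N64 (tt N64 F138) (tt N64 F139) (tt N46 F194) (tt N64 F195) (tt N64 F140) (tt N42 (iv D31)) (tt N90 D57) (tt N41 (iv F265)) (tt N91 D58))
theorem Q66 : ∀ i, i < 66 → P i := stepQ 65 Q65 (allL N65 (tt N65 F141) (tt N65 F142) (tt N48 F190) (tt N65 F191) (tt N44 F143) (tt N91 (iv F283)) (tt N65 F144) (tt N65 F145) (tt N42 (iv D32)))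
theorem Q67 : ∀ i, i < 67 → P i := stepQ 66 Q66 (allL N66 (tt N66 F267) (tt N66 F268) (tt N66 F269) (tt N44 F270) (tt N66 F271) (tt N66 F272) (tt N66 F273) (tt N92 D80) (tt N43 (iv D56)))
theorem Q68 : ∀ i, i < 68 → P i := stepQ 67 Q67 (allL N67 (tt N67 F294) (tt N49 (iv F322)) (tt N90 F295) (tt N93 (iv F419)) (tt N67 F296) (tt N67 F297) (tt N46 (iv D61)) (tt N45 (iv F382)) (tt N94 D86))
theorem Q69 : ∀ i, i < 69 → P i := stepQ 68 Q68 (allL N68 (tt N68 F285) (tt N50 (iv F308)) (tt N68 F286) (tt N46 F287) (tt N95 D82) (tt N47 (iv D59)) (tt N93 D83) (tt N68 F288) (tt N96 D84))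
theorem Q70 : ∀ i, i < 70 → P i := stepQ 69 Q69 (allL N69 (tt N69 F298) (tt N51 (iv F333)) (tt N91 F299) (tt N96 (iv F424)) (tt N69 F300) (tt N48 F301) (tt N94 (iv F436)) (tt N69 F302) (tt N46 (iv D62)))
theorem Q71 : ∀ i, i < 71 → P i := stepQ 70 Q70 (allL N70 (tt N70 F289) (tt N53 (iv F311)) (tt N70 F290) (tt N48 F291) (tt N70 F292) (tt N96 (iv F425)) (tt N70 F293) (tt N97 D85) (tt N47 (iv D60)))
theorem Q72 : ∀ i, i < 72 → P i := stepQ 71 Q71 (allL N71 (tt N54 (iv F497)) (tt N93 F451) (tt N98 (iv F558)) (tt N49 F452) (tt N99 (iv F573)) (tt N71 F453) (tt N50 (iv D90)) (tt N71 F454) (tt N100 D115))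
theorem Q73 : ∀ i, i < 73 → P i := stepQ 72 Q72 (allL N72 (tt N55 (iv F512)) (tt N94 F471) (tt N72 F472) (tt N100 (iv F580)) (tt N72 F473) (tt N72 F474) (tt N51 F475) (tt N72 F476) (tt N49 (iv D94)))
theorem Q74 : ∀ i, i < 74 → P i := stepQ 73 Q73 (allL N73 (tt N56 (iv F483)) (tt N73 F438) (tt N50 F439) (tt N73 F440) (tt N101 D109) (tt N52 (iv D87)) (tt N98 D110) (tt N73 F441) (tt N102 D111))
theorem Q75 : ∀ i, i < 75 → P i := stepQ 74 Q74 (allL N74 (tt N57 (iv F492)) (tt N95 F447) (tt N101 (iv F554)) (tt N74 F448) (tt N50 (iv D89)) (tt N74 F449) (tt N99 D113) (tt N74 F450) (tt N103 D114))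
theorem Q76 : ∀ i, i < 76 → P i := stepQ 75 Q75 (allL N75 (tt N58 (iv F502)) (tt N96 F455) (tt N102 (iv F563)) (tt N51 F456) (tt N103 (iv F577)) (tt N53 F457) (tt N100 (iv F582)) (tt N104 D116) (tt N50 (iv D91)))
theorem Q77 : ∀ i, i < 77 → P i := stepQ 76 Q76 (allL N76 (tt N60 (iv F487)) (tt N76 F442) (tt N53 F443) (tt N76 F444) (tt N76 F445) (tt N102 (iv F565)) (tt N76 F446) (tt N105 D112) (tt N52 (iv D88)))
theorem Q78 : ∀ i, i < 78 → P i := stepQ 77 Q77 (allL N77 (tt N61 (iv F506)) (tt N97 F458) (tt N105 (iv F567)) (tt N77 F459) (tt N77 F460) (tt N104 (iv F585)) (tt N77 F461) (tt N53 (iv D92)) (tt N77 F462))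
theorem Q79 : ∀ i, i < 79 → P i := stepQ 78 Q78 (allL N78 (tt N98 F602) (tt N106 (iv F715)) (tt N54 F603) (tt N78 F604) (tt N107 (iv F737)) (tt N78 F605) (tt N56 (iv D120)) (tt N78 F606) (tt N108 D149))
theorem Q80 : ∀ i, i < 80 → P i := stepQ 79 Q79 (allL N79 (tt N99 F616) (tt N79 F617) (tt N107 (iv F736)) (tt N79 F618) (tt N54 F619) (tt N109 D152) (tt N57 (iv D123)) (tt N79 F620) (tt N110 D153))
theorem Q81 : ∀ i, i < 81 → P i := stepQ 80 Q80 (allL N80 (tt N100 F626) (tt N80 F627) (tt N108 (iv F744)) (tt N55 F628) (tt N110 (iv F766)) (tt N80 F629) (tt N58 F630) (tt N111 D155) (tt N54 (iv D125)))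
theorem Q82 : ∀ i, i < 82 → P i := stepQ 81 Q81 (allL N81 (tt N81 F587) (tt N56 F588) (tt N81 F589) (tt N81 F590) (tt N112 D142) (tt N59 (iv D117)) (tt N106 D143) (tt N81 F591) (tt N113 D144))
theorem Q83 : ∀ i, i < 83 → P i := stepQ 82 Q82 (allL N82 (tt N101 F598) (tt N112 (iv F710)) (tt N57 F599) (tt N114 D146) (tt N56 (iv D119)) (tt N82 F600) (tt N107 D147) (tt N82 F601) (tt N115 D148))
theorem Q84 : ∀ i, i < 84 → P i := stepQ 83 Q83 (allL N83 (tt N102 F607) (tt N113 (iv F721)) (tt N58 F608) (tt N83 F609) (tt N115 (iv F741)) (tt N60 F610) (tt N108 (iv F747)) (tt N116 D150) (tt N56 (iv D121)))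
theorem Q85 : ∀ i, i < 85 → P i := stepQ 84 Q84 (allL N84 (tt N103 F621) (tt N84 F622) (tt N115 (iv F740)) (tt N84 F623) (tt N58 F624) (tt N84 F625) (tt N110 (iv F767)) (tt N117 D154) (tt N57 (iv D124)))
theorem Q86 : ∀ i, i < 86 → P i := stepQ 85 Q85 (allL N85 (tt N104 F631) (tt N85 F632) (tt N116 (iv F749)) (tt N85 F633) (tt N117 (iv F770)) (tt N61 F634) (tt N111 (iv F777)) (tt N58 (iv D126)) (tt N85 F635))
theorem Q87 : ∀ i, i < 87 → P i := stepQ 86 Q86 (allL N86 (tt N86 F592) (tt N60 F593) (tt N86 F594) (tt N86 F595) (tt N86 F596) (tt N113 (iv F724)) (tt N86 F597) (tt N118 D145) (tt N59 (iv D118)))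
theorem Q88 : ∀ i, i < 88 → P i := stepQ 87 Q87 (allL N87 (tt N105 F611) (tt N118 (iv F726)) (tt N61 F612) (tt N119 D151) (tt N87 F613) (tt N116 (iv F750)) (tt N87 F614) (tt N60 (iv D122)) (tt N87 F615))
theorem Q89 : ∀ i, i < 89 → P i := stepQ 88 Q88 (allL N88 (tt N88 F519) (tt N88 F520) (tt N88 F521) (tt N88 F522) (tt N62 (iv D103)) (tt N88 F523) (tt N120 D127) (tt N88 F524) (tt N88 F525))
theorem Q90 : ∀ i, i < 90 → P i := stepQ 89 Q89 (allL N89 (tt N89 F526) (tt N89 F527) (tt N89 F528) (tt N63 F529) (tt N120 (iv F640)) (tt N89 F530) (tt N62 (iv D104)) (tt N89 F531) (tt N89 F532))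
theorem Q91 : ∀ i, i < 91 → P i := stepQ 90 Q90 (allL N90 (tt N90 F274) (tt N90 F275) (tt N67 (iv F295)) (tt N90 F276) (tt N90 F277) (tt N90 F278) (tt N64 (iv D57)) (tt N63 (iv F395)) (tt N121 D81))
theorem Q92 : ∀ i, i < 92 → P i := stepQ 91 Q91 (allL N91 (tt N91 F279) (tt N91 F280) (tt N69 (iv F299)) (tt N91 F281) (tt N91 F282) (tt N65 F283) (tt N121 (iv F410)) (tt N91 F284) (tt N64 (iv D58)))
theorem Q93 : ∀ i, i < 93 → P i := stepQ 92 Q92 (allL N92 (tt N92 F397) (tt N92 F398) (tt N92 F399) (tt N92 F400) (tt N92 F401) (tt N92 F402) (tt N92 F403) (tt N66 (iv D80)) (tt N92 F404))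
theorem Q94 : ∀ i, i < 94 → P i := stepQ 93 Q93 (allL N93 (tt N93 F417) (tt N71 (iv F451)) (tt N93 F418) (tt N67 F419) (tt N122 (iv F536)) (tt N93 F420) (tt N68 (iv D83)) (tt N93 F421) (tt N123 D107))
theorem Q95 : ∀ i, i < 95 → P i := stepQ 94 Q94 (allL N94 (tt N94 F432) (tt N72 (iv F471)) (tt N121 F433) (tt N123 (iv F545)) (tt N94 F434) (tt N94 F435) (tt N69 F436) (tt N94 F437) (tt N67 (iv D86)))
theorem Q96 : ∀ i, i < 96 → P i := stepQ 95 Q95 (allL N95 (tt N95 F412) (tt N74 (iv F447)) (tt N95 F413) (tt N95 F414) (tt N68 (iv D82)) (tt N95 F415) (tt N122 D105) (tt N95 F416) (tt N124 D106))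
theorem Q97 : ∀ i, i < 97 → P i := stepQ 96 Q96 (allL N96 (tt N96 F422) (tt N75 (iv F455)) (tt N96 F423) (tt N69 F424) (tt N124 (iv F541)) (tt N70 F425) (tt N123 (iv F547)) (tt N125 D108) (tt N68 (iv D84)))
theorem Q98 : ∀ i, i < 98 → P i := stepQ 97 Q97 (allL N97 (tt N97 F426) (tt N77 (iv F458)) (tt N97 F427) (tt N97 F428) (tt N97 F429) (tt N125 (iv F551)) (tt N97 F430) (tt N70 (iv D85)) (tt N97 F431))
theorem Q99 : ∀ i, i < 99 → P i := stepQ 98 Q98 (allL N98 (tt N78 (iv F602)) (tt N98 F557) (tt N71 F558) (tt N98 F559) (tt N126 (iv F671)) (tt N98 F560) (tt N73 (iv D110)) (tt N98 F561) (tt N127 D135))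
theorem Q100 : ∀ i, i < 100 → P i := stepQ 99 Q99 (allL N99 (tt N79 (iv F616)) (tt N122 F571) (tt N126 (iv F670)) (tt N99 F572) (tt N71 F573) (tt N128 D138) (tt N74 (iv D113)) (tt N99 F574) (tt N129 D139))
theorem Q101 : ∀ i, i < 101 → P i := stepQ 100 Q100 (allL N100 (tt N80 (iv F626)) (tt N123 F579) (tt N127 (iv F678)) (tt N72 F580) (tt N129 (iv F698)) (tt N100 F581) (tt N75 F582) (tt N130 D141) (tt N71 (iv D115)))
theorem Q102 : ∀ i, i < 102 → P i := stepQ 101 Q101 (allL N101 (tt N82 (iv F598)) (tt N101 F553) (tt N74 F554) (tt N131 D132) (tt N73 (iv D109)) (tt N101 F555) (tt N126 D133) (tt N101 F556) (tt N132 D134))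
theorem Q103 : ∀ i, i < 103 → P i := stepQ 102 Q102 (allL N102 (tt N83 (iv F607)) (tt N102 F562) (tt N75 F563) (tt N102 F564) (tt N132 (iv F675)) (tt N76 F565) (tt N127 (iv F681)) (tt N133 D136) (tt N73 (iv D111)))
theorem Q104 : ∀ i, i < 104 → P i := stepQ 103 Q103 (allL N103 (tt N84 (iv F621)) (tt N124 F575) (tt N132 (iv F674)) (tt N103 F576) (tt N75 F577) (tt N103 F578) (tt N129 (iv F699)) (tt N134 D140) (tt N74 (iv D114)))
theorem Q105 : ∀ i, i < 105 → P i := stepQ 104 Q104 (allL N104 (tt N85 (iv F631)) (tt N125 F583) (tt N133 (iv F683)) (tt N104 F584) (tt N134 (iv F701)) (tt N77 F585) (tt N130 (iv F707)) (tt N75 (iv D116)) (tt N104 F586))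
theorem Q106 : ∀ i, i < 106 → P i := stepQ 105 Q105 (allL N105 (tt N87 (iv F611)) (tt N105 F566) (tt N77 F567) (tt N135 D137) (tt N105 F568) (tt N133 (iv F684)) (tt N105 F569) (tt N76 (iv D112)) (tt N105 F570))
theorem Q107 : ∀ i, i < 107 → P i := stepQ 106 Q106 (allL N106 (tt N106 F714) (tt N78 F715) (tt N106 F716) (tt N106 F717) (tt N136 (iv F868)) (tt N106 F718) (tt N81 (iv D143)) (tt N106 F719) (tt N137 D175))
theorem Q108 : ∀ i, i < 108 → P i := stepQ 107 Q107 (allL N107 (tt N126 F735) (tt N136 (iv F866)) (tt N79 F736) (tt N138 (iv F893)) (tt N78 F737) (tt N139 D181) (tt N82 (iv D147)) (tt N107 F738) (tt N140 D182))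
theorem Q109 : ∀ i, i < 109 → P i := stepQ 108 Q108 (allL N108 (tt N127 F743) (tt N137 (iv F876)) (tt N80 F744) (tt N108 F745) (tt N140 (iv F912)) (tt N108 F746) (tt N83 F747) (tt N141 D184) (tt N78 (iv D149)))
theorem Q110 : ∀ i, i < 110 → P i := stepQ 109 Q109 (allL N109 (tt N128 F757) (tt N109 F758) (tt N139 (iv F906)) (tt N109 F759) (tt N109 F760) (tt N79 (iv D152)) (tt N109 F761) (tt N109 F762) (tt N142 D187))
theorem Q111 : ∀ i, i < 111 → P i := stepQ 110 Q110 (allL N110 (tt N129 F763) (tt N110 F764) (tt N140 (iv F911)) (tt N110 F765) (tt N80 F766) (tt N142 (iv F939)) (tt N84 F767) (tt N143 D188) (tt N79 (iv D153)))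
theorem Q112 : ∀ i, i < 112 → P i := stepQ 111 Q111 (allL N111 (tt N130 F773) (tt N111 F774) (tt N141 (iv F920)) (tt N111 F775) (tt N143 (iv F943)) (tt N111 F776) (tt N85 F777) (tt N80 (iv D155)) (tt N111 F778))
theorem Q113 : ∀ i, i < 113 → P i := stepQ 112 Q112 (allL N112 (tt N112 F709) (tt N82 F710) (tt N112 F711) (tt N144 D172) (tt N81 (iv D142)) (tt N112 F712) (tt N136 D173) (tt N112 F713) (tt N145 D174))
theorem Q114 : ∀ i, i < 114 → P i := stepQ 113 Q113 (allL N113 (tt N113 F720) (tt N83 F721) (tt N113 F722) (tt N113 F723) (tt N145 (iv F873)) (tt N86 F724) (tt N137 (iv F880)) (tt N146 D176) (tt N81 (iv D144)))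
theorem Q115 : ∀ i, i < 115 → P i := stepQ 114 Q114 (allL N114 (tt N131 F731) (tt N144 (iv F862)) (tt N114 F732) (tt N82 (iv D146)) (tt N114 F733) (tt N114 F734) (tt N138 D178) (tt N147 D179) (tt N148 D180))
theorem Q116 : ∀ i, i < 116 → P i := stepQ 115 Q115 (allL N115 (tt N132 F739) (tt N145 (iv F871)) (tt N84 F740) (tt N148 (iv F902)) (tt N83 F741) (tt N115 F742) (tt N140 (iv F913)) (tt N149 D183) (tt N82 (iv D148)))
theorem Q117 : ∀ i, i < 117 → P i := stepQ 116 Q116 (allL N116 (tt N133 F748) (tt N146 (iv F882)) (tt N85 F749) (tt N150 D185) (tt N149 (iv F916)) (tt N87 F750) (tt N141 (iv F922)) (tt N83 (iv D150)) (tt N116 F751))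
theorem Q118 : ∀ i, i < 118 → P i := stepQ 117 Q117 (allL N117 (tt N134 F768) (tt N117 F769) (tt N149 (iv F915)) (tt N151 D189) (tt N85 F770) (tt N117 F771) (tt N143 (iv F944)) (tt N84 (iv D154)) (tt N117 F772))
theorem Q119 : ∀ i, i < 119 → P i := stepQ 118 Q118 (allL N118 (tt N118 F725) (tt N87 F726) (tt N118 F727) (tt N152 D177) (tt N118 F728) (tt N146 (iv F884)) (tt N118 F729) (tt N86 (iv D145)) (tt N118 F730))
theorem Q120 : ∀ i, i < 120 → P i := stepQ 119 Q119 (allL N119 (tt N135 F752) (tt N152 (iv F887)) (tt N119 F753) (tt N87 (iv D151)) (tt N153 D186) (tt N150 (iv F926)) (tt N119 F754) (tt N119 F755) (tt N119 F756))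
theorem Q121 : ∀ i, i < 121 → P i := stepQ 120 Q120 (allL N120 (tt N120 F636) (tt N120 F637) (tt N120 F638) (tt N120 F639) (tt N89 F640) (tt N154 D156) (tt N88 (iv D127)) (tt N120 F641) (tt N120 F642))
theorem Q122 : ∀ i, i < 122 → P i := stepQ 121 Q121 (allL N121 (tt N121 F405) (tt N121 F406) (tt N94 (iv F433)) (tt N121 F407) (tt N121 F408) (tt N121 F409) (tt N91 F410) (tt N121 F411) (tt N90 (iv D81)))
theorem Q123 : ∀ i, i < 123 → P i := stepQ 122 Q122 (allL N122 (tt N122 F533) (tt N99 (iv F571)) (tt N122 F534) (tt N122 F535) (tt N93 F536) (tt N155 D128) (tt N95 (iv D105)) (tt N122 F537) (tt N156 D129))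
theorem Q124 : ∀ i, i < 124 → P i := stepQ 123 Q123 (allL N123 (tt N123 F543) (tt N100 (iv F579)) (tt N123 F544) (tt N94 F545) (tt N156 (iv F652)) (tt N123 F546) (tt N96 F547) (tt N157 D131) (tt N93 (iv D107)))
theorem Q125 : ∀ i, i < 125 → P i := stepQ 124 Q124 (allL N124 (tt N124 F538) (tt N103 (iv F575)) (tt N124 F539) (tt N124 F540) (tt N96 F541) (tt N124 F542) (tt N156 (iv F653)) (tt N158 D130) (tt N95 (iv D106)))
theorem Q126 : ∀ i, i < 126 → P i := stepQ 125 Q125 (allL N125 (tt N125 F548) (tt N104 (iv F583)) (tt N125 F549) (tt N125 F550) (tt N158 (iv F656)) (tt N97 F551) (tt N157 (iv F663)) (tt N96 (iv D108)) (tt N125 F552))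
theorem Q127 : ∀ i, i < 127 → P i := stepQ 126 Q126 (allL N126 (tt N107 (iv F735)) (tt N126 F669) (tt N99 F670) (tt N159 (iv F805)) (tt N98 F671) (tt N160 D163) (tt N101 (iv D133)) (tt N126 F672) (tt N161 D164))
theorem Q128 : ∀ i, i < 128 → P i := stepQ 127 Q127 (allL N127 (tt N108 (iv F743)) (tt N127 F677) (tt N100 F678) (tt N127 F679) (tt N161 (iv F824)) (tt N127 F680) (tt N102 F681) (tt N162 D166) (tt N98 (iv D135)))
theorem Q129 : ∀ i, i < 129 → P i := stepQ 128 Q128 (allL N128 (tt N109 (iv F757)) (tt N155 F691) (tt N160 (iv F818)) (tt N128 F692) (tt N128 F693) (tt N99 (iv D138)) (tt N128 F694) (tt N128 F695) (tt N163 D169))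
theorem Q130 : ∀ i, i < 130 → P i := stepQ 129 Q129 (allL N129 (tt N110 (iv F763)) (tt N156 F696) (tt N161 (iv F823)) (tt N129 F697) (tt N100 F698) (tt N163 (iv F850)) (tt N103 F699) (tt N164 D170) (tt N99 (iv D139)))
theorem Q131 : ∀ i, i < 131 → P i := stepQ 130 Q130 (allL N130 (tt N111 (iv F773)) (tt N157 F704) (tt N162 (iv F832)) (tt N130 F705) (tt N164 (iv F853)) (tt N130 F706) (tt N104 F707) (tt N100 (iv D141)) (tt N130 F708))
theorem Q132 : ∀ i, i < 132 → P i := stepQ 131 Q131 (allL N131 (tt N114 (iv F731)) (tt N131 F665) (tt N131 F666) (tt N101 (iv D132)) (tt N131 F667) (tt N131 F668) (tt N159 D160) (tt N165 D161) (tt N166 D162))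
theorem Q133 : ∀ i, i < 133 → P i := stepQ 132 Q132 (allL N132 (tt N115 (iv F739)) (tt N132 F673) (tt N103 F674) (tt N166 (iv F814)) (tt N102 F675) (tt N132 F676) (tt N161 (iv F825)) (tt N167 D165) (tt N101 (iv D134)))
theorem Q134 : ∀ i, i < 134 → P i := stepQ 133 Q133 (allL N133 (tt N116 (iv F748)) (tt N133 F682) (tt N104 F683) (tt N168 D167) (tt N167 (iv F828)) (tt N105 F684) (tt N162 (iv F834)) (tt N102 (iv D136)) (tt N133 F685))
theorem Q135 : ∀ i, i < 135 → P i := stepQ 134 Q134 (allL N134 (tt N117 (iv F768)) (tt N158 F700) (tt N167 (iv F827)) (tt N169 D171) (tt N104 F701) (tt N134 F702) (tt N164 (iv F854)) (tt N103 (iv D140)) (tt N134 F703))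
theorem Q136 : ∀ i, i < 136 → P i := stepQ 135 Q135 (allL N135 (tt N119 (iv F752)) (tt N135 F686) (tt N135 F687) (tt N105 (iv D137)) (tt N170 D168) (tt N168 (iv F838)) (tt N135 F688) (tt N135 F689) (tt N135 F690))
theorem Q137 : ∀ i, i < 137 → P i := stepQ 136 Q136 (allL N136 (tt N136 F865) (tt N107 F866) (tt N136 F867) (tt N171 (iv F1041)) (tt N106 F868) (tt N172 D211) (tt N112 (iv D173)) (tt N136 F869) (tt N173 D212))
theorem Q138 : ∀ i, i < 138 → P i := stepQ 137 Q137 (allL N137 (tt N137 F875) (tt N108 F876) (tt N137 F877) (tt N137 F878) (tt N173 (iv F1062)) (tt N137 F879) (tt N113 F880) (tt N174 D214) (tt N106 (iv D175)))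
theorem Q139 : ∀ i, i < 139 → P i := stepQ 138 Q138 (allL N138 (tt N159 F891) (tt N171 (iv F1040)) (tt N138 F892) (tt N107 F893) (tt N138 F894) (tt N175 D218) (tt N114 (iv D178)) (tt N176 D219) (tt N177 D220))
theorem Q140 : ∀ i, i < 140 → P i := stepQ 139 Q139 (allL N139 (tt N160 F905) (tt N172 (iv F1054)) (tt N109 F906) (tt N175 (iv F1095)) (tt N139 F907) (tt N107 (iv D181)) (tt N139 F908) (tt N139 F909) (tt N178 D223))
theorem Q141 : ∀ i, i < 141 → P i := stepQ 140 Q140 (allL N140 (tt N161 F910) (tt N173 (iv F1060)) (tt N110 F911) (tt N177 (iv F1104)) (tt N108 F912) (tt N178 (iv F1119)) (tt N115 F913) (tt N179 D224) (tt N107 (iv D182)))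
theorem Q142 : ∀ i, i < 142 → P i := stepQ 141 Q141 (allL N141 (tt N162 F919) (tt N174 (iv F1071)) (tt N111 F920) (tt N180 D226) (tt N179 (iv F1123)) (tt N141 F921) (tt N116 F922) (tt N108 (iv D184)) (tt N141 F923))
theorem Q143 : ∀ i, i < 143 → P i := stepQ 142 Q142 (allL N142 (tt N163 F935) (tt N142 F936) (tt N178 (iv F1117)) (tt N142 F937) (tt N142 F938) (tt N110 F939) (tt N142 F940) (tt N181 D229) (tt N109 (iv D187)))
theorem Q144 : ∀ i, i < 144 → P i := stepQ 143 Q143 (allL N143 (tt N164 F941) (tt N143 F942) (tt N179 (iv F1122)) (tt N182 D230) (tt N111 F943) (tt N181 (iv F1147)) (tt N117 F944) (tt N110 (iv D188)) (tt N143 F945))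
theorem Q145 : ∀ i, i < 145 → P i := stepQ 144 Q144 (allL N144 (tt N144 F861) (tt N114 F862) (tt N183 D207) (tt N112 (iv D172)) (tt N144 F863) (tt N144 F864) (tt N171 D208) (tt N184 D209) (tt N185 D210))
theorem Q146 : ∀ i, i < 146 → P i := stepQ 145 Q145 (allL N145 (tt N145 F870) (tt N115 F871) (tt N145 F872) (tt N185 (iv F1050)) (tt N113 F873) (tt N145 F874) (tt N173 (iv F1063)) (tt N186 D213) (tt N112 (iv D174)))
theorem Q147 : ∀ i, i < 147 → P i := stepQ 146 Q146 (allL N146 (tt N146 F881) (tt N116 F882) (tt N146 F883) (tt N187 D215) (tt N186 (iv F1067)) (tt N118 F884) (tt N174 (iv F1074)) (tt N113 (iv D176)) (tt N146 F885))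
theorem Q148 : ∀ i, i < 148 → P i := stepQ 147 Q147 (allL N147 (tt N165 F895) (tt N184 (iv F1044)) (tt N147 F896) (tt N147 F897) (tt N147 F898) (tt N147 F899) (tt N176 (iv F1101)) (tt N114 (iv D179)) (tt N188 D221))
theorem Q149 : ∀ i, i < 149 → P i := stepQ 148 Q148 (allL N148 (tt N166 F900) (tt N185 (iv F1049)) (tt N148 F901) (tt N115 F902) (tt N148 F903) (tt N148 F904) (tt N177 (iv F1106)) (tt N189 D222) (tt N114 (iv D180)))
theorem Q150 : ∀ i, i < 150 → P i := stepQ 149 Q149 (allL N149 (tt N167 F914) (tt N186 (iv F1065)) (tt N117 F915) (tt N190 D225) (tt N116 F916) (tt N149 F917) (tt N179 (iv F1124)) (tt N115 (iv D183)) (tt N149 F918))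
theorem Q151 : ∀ i, i < 151 → P i := stepQ 150 Q150 (allL N150 (tt N168 F924) (tt N187 (iv F1077)) (tt N150 F925) (tt N116 (iv D185)) (tt N191 D227) (tt N119 F926) (tt N180 (iv F1132)) (tt N150 F927) (tt N150 F928))
theorem Q152 : ∀ i, i < 152 → P i := stepQ 151 Q151 (allL N151 (tt N169 F946) (tt N151 F947) (tt N192 D231) (tt N117 (iv D189)) (tt N151 F948) (tt N151 F949) (tt N182 (iv F1153)) (tt N151 F950) (tt N151 F951))
theorem Q153 : ∀ i, i < 153 → P i := stepQ 152 Q152 (allL N152 (tt N152 F886) (tt N119 F887) (tt N193 D216) (tt N118 (iv D177)) (tt N194 D217) (tt N187 (iv F1078)) (tt N152 F888) (tt N152 F889) (tt N152 F890))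
theorem Q154 : ∀ i, i < 154 → P i := stepQ 153 Q153 (allL N153 (tt N170 F929) (tt N194 (iv F1088)) (tt N153 F930) (tt N153 F931) (tt N119 (iv D186)) (tt N195 D228) (tt N153 F932) (tt N153 F933) (tt N153 F934))
theorem Q155 : ∀ i, i < 155 → P i := stepQ 154 Q154 (allL N154 (tt N154 F779) (tt N154 F780) (tt N154 F781) (tt N154 F782) (tt N154 F783) (tt N120 (iv D156)) (tt N154 F784) (tt N154 F785) (tt N154 F786))
theorem Q156 : ∀ i, i < 156 → P i := stepQ 155 Q155 (allL N155 (tt N155 F643) (tt N128 (iv F691)) (tt N155 F644) (tt N155 F645) (tt N155 F646) (tt N122 (iv D128)) (tt N155 F647) (tt N155 F648) (tt N196 D157))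
theorem Q157 : ∀ i, i < 157 → P i := stepQ 156 Q156 (allL N156 (tt N156 F649) (tt N129 (iv F696)) (tt N156 F650) (tt N156 F651) (tt N123 F652) (tt N196 (iv F791)) (tt N124 F653) (tt N197 D158) (tt N122 (iv D129)))
theorem Q158 : ∀ i, i < 158 → P i := stepQ 157 Q157 (allL N157 (tt N157 F659) (tt N130 (iv F704)) (tt N157 F660) (tt N157 F661) (tt N197 (iv F795)) (tt N157 F662) (tt N125 F663) (tt N123 (iv D131)) (tt N157 F664))
theorem Q159 : ∀ i, i < 159 → P i := stepQ 158 Q158 (allL N158 (tt N158 F654) (tt N134 (iv F700)) (tt N158 F655) (tt N198 D159) (tt N125 F656) (tt N158 F657) (tt N197 (iv F796)) (tt N124 (iv D130)) (tt N158 F658))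
theorem Q160 : ∀ i, i < 160 → P i := stepQ 159 Q159 (allL N159 (tt N138 (iv F891)) (tt N159 F803) (tt N159 F804) (tt N126 F805) (tt N159 F806) (tt N199 D193) (tt N131 (iv D160)) (tt N200 D194) (tt N201 D195))
theorem Q161 : ∀ i, i < 161 → P i := stepQ 160 Q160 (allL N160 (tt N139 (iv F905)) (tt N160 F817) (tt N128 F818) (tt N199 (iv F971)) (tt N160 F819) (tt N126 (iv D163)) (tt N160 F820) (tt N160 F821) (tt N202 D198))
theorem Q162 : ∀ i, i < 162 → P i := stepQ 161 Q161 (allL N161 (tt N140 (iv F910)) (tt N161 F822) (tt N129 F823) (tt N201 (iv F980)) (tt N127 F824) (tt N202 (iv F995)) (tt N132 F825) (tt N203 D199) (tt N126 (iv D164)))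
theorem Q163 : ∀ i, i < 163 → P i := stepQ 162 Q162 (allL N162 (tt N141 (iv F919)) (tt N162 F831) (tt N130 F832) (tt N204 D201) (tt N203 (iv F999)) (tt N162 F833) (tt N133 F834) (tt N127 (iv D166)) (tt N162 F835))
theorem Q164 : ∀ i, i < 164 → P i := stepQ 163 Q163 (allL N163 (tt N142 (iv F935)) (tt N196 F847) (tt N202 (iv F993)) (tt N163 F848) (tt N163 F849) (tt N129 F850) (tt N163 F851) (tt N205 D204) (tt N128 (iv D169)))
theorem Q165 : ∀ i, i < 165 → P i := stepQ 164 Q164 (allL N164 (tt N143 (iv F941)) (tt N197 F852) (tt N203 (iv F998)) (tt N206 D205) (tt N130 F853) (tt N205 (iv F1022)) (tt N134 F854) (tt N129 (iv D170)) (tt N164 F855))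
theorem Q166 : ∀ i, i < 166 → P i := stepQ 165 Q165 (allL N165 (tt N147 (iv F895)) (tt N165 F807) (tt N165 F808) (tt N165 F809) (tt N165 F810) (tt N165 F811) (tt N200 (iv F977)) (tt N131 (iv D161)) (tt N207 D196))
theorem Q167 : ∀ i, i < 167 → P i := stepQ 166 Q166 (allL N166 (tt N148 (iv F900)) (tt N166 F812) (tt N166 F813) (tt N132 F814) (tt N166 F815) (tt N166 F816) (tt N201 (iv F982)) (tt N208 D197) (tt N131 (iv D162)))
theorem Q168 : ∀ i, i < 168 → P i := stepQ 167 Q167 (allL N167 (tt N149 (iv F914)) (tt N167 F826) (tt N134 F827) (tt N209 D200) (tt N133 F828) (tt N167 F829) (tt N203 (iv F1000)) (tt N132 (iv D165)) (tt N167 F830))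
theorem Q169 : ∀ i, i < 169 → P i := stepQ 168 Q168 (allL N168 (tt N150 (iv F924)) (tt N168 F836) (tt N168 F837) (tt N133 (iv D167)) (tt N210 D202) (tt N135 F838) (tt N204 (iv F1008)) (tt N168 F839) (tt N168 F840))
theorem Q170 : ∀ i, i < 170 → P i := stepQ 169 Q169 (allL N169 (tt N151 (iv F946)) (tt N198 F856) (tt N211 D206) (tt N134 (iv D171)) (tt N169 F857) (tt N169 F858) (tt N206 (iv F1027)) (tt N169 F859) (tt N169 F860))
theorem Q171 : ∀ i, i < 171 → P i := stepQ 170 Q170 (allL N170 (tt N153 (iv F929)) (tt N170 F841) (tt N170 F842) (tt N170 F843) (tt N135 (iv D168)) (tt N212 D203) (tt N170 F844) (tt N170 F845) (tt N170 F846))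
theorem Q172 : ∀ i, i < 172 → P i := stepQ 171 Q171 (allL N171 (tt N171 F1039) (tt N138 F1040) (tt N213 (iv F1256)) (tt N136 F1041) (tt N171 F1042) (tt N214 D255) (tt N144 (iv D208)) (tt N215 D256) (tt N216 D257))
theorem Q173 : ∀ i, i < 173 → P i := stepQ 172 Q172 (allL N172 (tt N172 F1053) (tt N139 F1054) (tt N172 F1055) (tt N214 (iv F1272)) (tt N172 F1056) (tt N136 (iv D211)) (tt N172 F1057) (tt N172 F1058) (tt N217 D260))
theorem Q174 : ∀ i, i < 174 → P i := stepQ 173 Q173 (allL N173 (tt N173 F1059) (tt N140 F1060) (tt N173 F1061) (tt N216 (iv F1281)) (tt N137 F1062) (tt N217 (iv F1297)) (tt N145 F1063) (tt N218 D261) (tt N136 (iv D212)))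
theorem Q175 : ∀ i, i < 175 → P i := stepQ 174 Q174 (allL N174 (tt N174 F1070) (tt N141 F1071) (tt N174 F1072) (tt N219 D263) (tt N218 (iv F1302)) (tt N174 F1073) (tt N146 F1074) (tt N137 (iv D214)) (tt N174 F1075))
theorem Q176 : ∀ i, i < 176 → P i := stepQ 175 Q175 (allL N175 (tt N199 F1093) (tt N214 (iv F1271)) (tt N175 F1094) (tt N139 F1095) (tt N220 D268) (tt N138 (iv D218)) (tt N175 F1096) (tt N221 D269) (tt N222 D270))
theorem Q177 : ∀ i, i < 177 → P i := stepQ 176 Q176 (allL N176 (tt N200 F1097) (tt N215 (iv F1275)) (tt N176 F1098) (tt N176 F1099) (tt N176 F1100) (tt N221 (iv F1344)) (tt N147 F1101) (tt N138 (iv D219)) (tt N223 D271))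
theorem Q178 : ∀ i, i < 178 → P i := stepQ 177 Q177 (allL N177 (tt N201 F1102) (tt N216 (iv F1280)) (tt N177 F1103) (tt N140 F1104) (tt N177 F1105) (tt N222 (iv F1349)) (tt N148 F1106) (tt N224 D272) (tt N138 (iv D220)))
theorem Q179 : ∀ i, i < 179 → P i := stepQ 178 Q178 (allL N178 (tt N202 F1116) (tt N217 (iv F1294)) (tt N142 F1117) (tt N222 (iv F1348)) (tt N178 F1118) (tt N140 F1119) (tt N178 F1120) (tt N225 D275) (tt N139 (iv D223)))
theorem Q180 : ∀ i, i < 180 → P i := stepQ 179 Q179 (allL N179 (tt N203 F1121) (tt N218 (iv F1300)) (tt N143 F1122) (tt N226 D276) (tt N141 F1123) (tt N225 (iv F1371)) (tt N149 F1124) (tt N140 (iv D224)) (tt N179 F1125))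
theorem Q181 : ∀ i, i < 181 → P i := stepQ 180 Q180 (allL N180 (tt N204 F1129) (tt N219 (iv F1310)) (tt N180 F1130) (tt N141 (iv D226)) (tt N227 D279) (tt N180 F1131) (tt N150 F1132) (tt N180 F1133) (tt N180 F1134))
theorem Q182 : ∀ i, i < 182 → P i := stepQ 181 Q181 (allL N181 (tt N205 F1144) (tt N181 F1145) (tt N225 (iv F1369)) (tt N228 D282) (tt N181 F1146) (tt N143 F1147) (tt N181 F1148) (tt N142 (iv D229)) (tt N181 F1149))
theorem Q183 : ∀ i, i < 183 → P i := stepQ 182 Q182 (allL N182 (tt N206 F1150) (tt N182 F1151) (tt N229 D283) (tt N143 (iv D230)) (tt N182 F1152) (tt N228 (iv F1402)) (tt N151 F1153) (tt N182 F1154) (tt N182 F1155))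
theorem Q184 : ∀ i, i < 184 → P i := stepQ 183 Q183 (allL N183 (tt N183 F1034) (tt N183 F1035) (tt N144 (iv D207)) (tt N183 F1036) (tt N183 F1037) (tt N183 F1038) (tt N213 D252) (tt N230 D253) (tt N231 D254))
theorem Q185 : ∀ i, i < 185 → P i := stepQ 184 Q184 (allL N184 (tt N184 F1043) (tt N147 F1044) (tt N230 (iv F1261)) (tt N184 F1045) (tt N184 F1046) (tt N184 F1047) (tt N215 (iv F1278)) (tt N144 (iv D209)) (tt N232 D258))
theorem Q186 : ∀ i, i < 186 → P i := stepQ 185 Q185 (allL N185 (tt N185 F1048) (tt N148 F1049) (tt N231 (iv F1266)) (tt N145 F1050) (tt N185 F1051) (tt N185 F1052) (tt N216 (iv F1283)) (tt N233 D259) (tt N144 (iv D210)))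
theorem Q187 : ∀ i, i < 187 → P i := stepQ 186 Q186 (allL N186 (tt N186 F1064) (tt N149 F1065) (tt N186 F1066) (tt N234 D262) (tt N146 F1067) (tt N186 F1068) (tt N218 (iv F1303)) (tt N145 (iv D213)) (tt N186 F1069))
theorem Q188 : ∀ i, i < 188 → P i := stepQ 187 Q187 (allL N187 (tt N187 F1076) (tt N150 F1077) (tt N235 D264) (tt N146 (iv D215)) (tt N236 D265) (tt N152 F1078) (tt N219 (iv F1312)) (tt N187 F1079) (tt N187 F1080))
theorem Q189 : ∀ i, i < 189 → P i := stepQ 188 Q188 (allL N188 (tt N207 F1107) (tt N232 (iv F1285)) (tt N188 F1108) (tt N188 F1109) (tt N188 F1110) (tt N188 F1111) (tt N223 (iv F1355)) (tt N237 D273) (tt N147 (iv D221)))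
theorem Q190 : ∀ i, i < 190 → P i := stepQ 189 Q189 (allL N189 (tt N208 F1112) (tt N233 (iv F1290)) (tt N189 F1113) (tt N238 D274) (tt N189 F1114) (tt N189 F1115) (tt N224 (iv F1359)) (tt N148 (iv D222)) (tt N237 (iv F1364)))
theorem Q191 : ∀ i, i < 191 → P i := stepQ 190 Q190 (allL N190 (tt N209 F1126) (tt N234 (iv F1306)) (tt N239 D277) (tt N149 (iv D225)) (tt N240 D278) (tt N190 F1127) (tt N226 (iv F1375)) (tt N238 (iv F1367)) (tt N190 F1128))
theorem Q192 : ∀ i, i < 192 → P i := stepQ 191 Q191 (allL N191 (tt N210 F1135) (tt N236 (iv F1322)) (tt N191 F1136) (tt N240 (iv F1382)) (tt N150 (iv D227)) (tt N241 D280) (tt N227 (iv F1386)) (tt N191 F1137) (tt N191 F1138))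
theorem Q193 : ∀ i, i < 193 → P i := stepQ 192 Q192 (allL N192 (tt N211 F1156) (tt N242 D284) (tt N151 (iv D231)) (tt N239 (iv F1378)) (tt N192 F1157) (tt N192 F1158) (tt N229 (iv F1408)) (tt N192 F1159) (tt N192 F1160))
theorem Q194 : ∀ i, i < 194 → P i := stepQ 193 Q193 (allL N193 (tt N193 F1081) (tt N193 F1082) (tt N152 (iv D216)) (tt N193 F1083) (tt N243 D266) (tt N235 (iv F1318)) (tt N193 F1084) (tt N193 F1085) (tt N193 F1086))
theorem Q195 : ∀ i, i < 195 → P i := stepQ 194 Q194 (allL N194 (tt N194 F1087) (tt N153 F1088) (tt N243 (iv F1327)) (tt N194 F1089) (tt N152 (iv D217)) (tt N244 D267) (tt N194 F1090) (tt N194 F1091) (tt N194 F1092))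
theorem Q196 : ∀ i, i < 196 → P i := stepQ 195 Q195 (allL N195 (tt N212 F1139) (tt N244 (iv F1332)) (tt N195 F1140) (tt N195 F1141) (tt N241 (iv F1391)) (tt N153 (iv D228)) (tt N245 D281) (tt N195 F1142) (tt N195 F1143))
theorem Q197 : ∀ i, i < 197 → P i := stepQ 196 Q196 (allL N196 (tt N196 F787) (tt N163 (iv F847)) (tt N196 F788) (tt N196 F789) (tt N196 F790) (tt N156 F791) (tt N196 F792) (tt N246 D190) (tt N155 (iv D157)))
theorem Q198 : ∀ i, i < 198 → P i := stepQ 197 Q197 (allL N197 (tt N197 F793) (tt N164 (iv F852)) (tt N197 F794) (tt N247 D191) (tt N157 F795) (tt N246 (iv F955)) (tt N158 F796) (tt N156 (iv D158)) (tt N197 F797))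
theorem Q199 : ∀ i, i < 199 → P i := stepQ 198 Q198 (allL N198 (tt N198 F798) (tt N169 (iv F856)) (tt N248 D192) (tt N158 (iv D159)) (tt N198 F799) (tt N198 F800) (tt N247 (iv F960)) (tt N198 F801) (tt N198 F802))
theorem Q200 : ∀ i, i < 200 → P i := stepQ 199 Q199 (allL N199 (tt N175 (iv F1093)) (tt N199 F969) (tt N199 F970) (tt N160 F971) (tt N249 D235) (tt N159 (iv D193)) (tt N199 F972) (tt N250 D236) (tt N251 D237))
theorem Q201 : ∀ i, i < 201 → P i := stepQ 200 Q200 (allL N200 (tt N176 (iv F1097)) (tt N200 F973) (tt N200 F974) (tt N200 F975) (tt N200 F976) (tt N250 (iv F1185)) (tt N165 F977) (tt N159 (iv D194)) (tt N252 D238))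
theorem Q202 : ∀ i, i < 202 → P i := stepQ 201 Q201 (allL N201 (tt N177 (iv F1102)) (tt N201 F978) (tt N201 F979) (tt N161 F980) (tt N201 F981) (tt N251 (iv F1190)) (tt N166 F982) (tt N253 D239) (tt N159 (iv D195)))
theorem Q203 : ∀ i, i < 203 → P i := stepQ 202 Q202 (allL N202 (tt N178 (iv F1116)) (tt N202 F992) (tt N163 F993) (tt N251 (iv F1189)) (tt N202 F994) (tt N161 F995) (tt N202 F996) (tt N254 D242) (tt N160 (iv D198)))
theorem Q204 : ∀ i, i < 204 → P i := stepQ 203 Q203 (allL N203 (tt N179 (iv F1121)) (tt N203 F997) (tt N164 F998) (tt N255 D243) (tt N162 F999) (tt N254 (iv F1212)) (tt N167 F1000) (tt N161 (iv D199)) (tt N203 F1001))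
theorem Q205 : ∀ i, i < 205 → P i := stepQ 204 Q204 (allL N204 (tt N180 (iv F1129)) (tt N204 F1005) (tt N204 F1006) (tt N162 (iv D201)) (tt N256 D246) (tt N204 F1007) (tt N168 F1008) (tt N204 F1009) (tt N204 F1010))
theorem Q206 : ∀ i, i < 206 → P i := stepQ 205 Q205 (allL N205 (tt N181 (iv F1144)) (tt N246 F1020) (tt N254 (iv F1210)) (tt N257 D249) (tt N205 F1021) (tt N164 F1022) (tt N205 F1023) (tt N163 (iv D204)) (tt N205 F1024))
theorem Q207 : ∀ i, i < 207 → P i := stepQ 206 Q206 (allL N206 (tt N182 (iv F1150)) (tt N247 F1025) (tt N258 D250) (tt N164 (iv D205)) (tt N206 F1026) (tt N257 (iv F1241)) (tt N169 F1027) (tt N206 F1028) (tt N206 F1029))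
theorem Q208 : ∀ i, i < 208 → P i := stepQ 207 Q207 (allL N207 (tt N188 (iv F1107)) (tt N207 F983) (tt N207 F984) (tt N207 F985) (tt N207 F986) (tt N207 F987) (tt N252 (iv F1196)) (tt N259 D240) (tt N165 (iv D196)))
theorem Q209 : ∀ i, i < 209 → P i := stepQ 208 Q208 (allL N208 (tt N189 (iv F1112)) (tt N208 F988) (tt N208 F989) (tt N260 D241) (tt N208 F990) (tt N208 F991) (tt N253 (iv F1200)) (tt N166 (iv D197)) (tt N259 (iv F1205)))
theorem Q210 : ∀ i, i < 210 → P i := stepQ 209 Q209 (allL N209 (tt N190 (iv F1126)) (tt N209 F1002) (tt N261 D244) (tt N167 (iv D200)) (tt N262 D245) (tt N209 F1003) (tt N255 (iv F1216)) (tt N260 (iv F1208)) (tt N209 F1004))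
theorem Q211 : ∀ i, i < 211 → P i := stepQ 210 Q210 (allL N210 (tt N191 (iv F1135)) (tt N210 F1011) (tt N210 F1012) (tt N262 (iv F1222)) (tt N168 (iv D202)) (tt N263 D247) (tt N256 (iv F1226)) (tt N210 F1013) (tt N210 F1014))
theorem Q212 : ∀ i, i < 212 → P i := stepQ 211 Q211 (allL N211 (tt N192 (iv F1156)) (tt N264 D251) (tt N169 (iv D206)) (tt N261 (iv F1218)) (tt N211 F1030) (tt N211 F1031) (tt N258 (iv F1246)) (tt N211 F1032) (tt N211 F1033))
theorem Q213 : ∀ i, i < 213 → P i := stepQ 212 Q212 (allL N212 (tt N195 (iv F1139)) (tt N212 F1015) (tt N212 F1016) (tt N212 F1017) (tt N263 (iv F1231)) (tt N170 (iv D203)) (tt N265 D248) (tt N212 F1018) (tt N212 F1019))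
theorem Q214 : ∀ i, i < 214 → P i := stepQ 213 Q213 (allL N213 (tt N213 F1254) (tt N213 F1255) (tt N171 F1256) (tt N213 F1257) (tt N213 F1258) (tt N266 D310) (tt N183 (iv D252)) (tt N267 D311) (tt N268 D312))
theorem Q215 : ∀ i, i < 215 → P i := stepQ 214 Q214 (allL N214 (tt N214 F1270) (tt N175 F1271) (tt N266 (iv F1531)) (tt N172 F1272) (tt N269 D316) (tt N171 (iv D255)) (tt N214 F1273) (tt N270 D317) (tt N271 D318))
theorem Q216 : ∀ i, i < 216 → P i := stepQ 215 Q215 (allL N215 (tt N215 F1274) (tt N176 F1275) (tt N267 (iv F1536)) (tt N215 F1276) (tt N215 F1277) (tt N270 (iv F1568)) (tt N184 F1278) (tt N171 (iv D256)) (tt N272 D319))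
theorem Q217 : ∀ i, i < 217 → P i := stepQ 216 Q216 (allL N216 (tt N216 F1279) (tt N177 F1280) (tt N268 (iv F1541)) (tt N173 F1281) (tt N216 F1282) (tt N271 (iv F1573)) (tt N185 F1283) (tt N273 D320) (tt N171 (iv D257)))
theorem Q218 : ∀ i, i < 218 → P i := stepQ 217 Q217 (allL N217 (tt N217 F1293) (tt N178 F1294) (tt N217 F1295) (tt N271 (iv F1572)) (tt N217 F1296) (tt N173 F1297) (tt N217 F1298) (tt N274 D323) (tt N172 (iv D260)))
theorem Q219 : ∀ i, i < 219 → P i := stepQ 218 Q218 (allL N218 (tt N218 F1299) (tt N179 F1300) (tt N218 F1301) (tt N275 D324) (tt N174 F1302) (tt N274 (iv F1597)) (tt N186 F1303) (tt N173 (iv D261)) (tt N218 F1304))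
theorem Q220 : ∀ i, i < 220 → P i := stepQ 219 Q219 (allL N219 (tt N219 F1309) (tt N180 F1310) (tt N276 D327) (tt N174 (iv D263)) (tt N277 D328) (tt N219 F1311) (tt N187 F1312) (tt N219 F1313) (tt N219 F1314))
theorem Q221 : ∀ i, i < 221 → P i := stepQ 220 Q220 (allL N220 (tt N249 F1336) (tt N269 (iv F1561)) (tt N220 F1337) (tt N220 F1338) (tt N175 (iv D268)) (tt N220 F1339) (tt N220 F1340) (tt N278 D334) (tt N279 D335))
theorem Q222 : ∀ i, i < 222 → P i := stepQ 221 Q221 (allL N221 (tt N250 F1341) (tt N270 (iv F1566)) (tt N221 F1342) (tt N221 F1343) (tt N278 (iv F1653)) (tt N176 F1344) (tt N221 F1345) (tt N175 (iv D269)) (tt N280 D336))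
theorem Q223 : ∀ i, i < 223 → P i := stepQ 222 Q222 (allL N222 (tt N251 F1346) (tt N271 (iv F1571)) (tt N222 F1347) (tt N178 F1348) (tt N279 (iv F1659)) (tt N177 F1349) (tt N222 F1350) (tt N281 D337) (tt N175 (iv D270)))
theorem Q224 : ∀ i, i < 224 → P i := stepQ 223 Q223 (allL N223 (tt N252 F1351) (tt N272 (iv F1576)) (tt N223 F1352) (tt N223 F1353) (tt N223 F1354) (tt N280 (iv F1665)) (tt N188 F1355) (tt N282 D338) (tt N176 (iv D271)))
theorem Q225 : ∀ i, i < 225 → P i := stepQ 224 Q224 (allL N224 (tt N253 F1356) (tt N273 (iv F1581)) (tt N224 F1357) (tt N283 D339) (tt N224 F1358) (tt N281 (iv F1669)) (tt N189 F1359) (tt N177 (iv D272)) (tt N282 (iv F1675)))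
theorem Q226 : ∀ i, i < 226 → P i := stepQ 225 Q225 (allL N225 (tt N254 F1368) (tt N274 (iv F1594)) (tt N181 F1369) (tt N284 D343) (tt N225 F1370) (tt N179 F1371) (tt N225 F1372) (tt N178 (iv D275)) (tt N225 F1373))
theorem Q227 : ∀ i, i < 227 → P i := stepQ 226 Q226 (allL N226 (tt N255 F1374) (tt N275 (iv F1601)) (tt N285 D344) (tt N179 (iv D276)) (tt N286 D345) (tt N284 (iv F1691)) (tt N190 F1375) (tt N283 (iv F1678)) (tt N226 F1376))
theorem Q228 : ∀ i, i < 228 → P i := stepQ 227 Q227 (allL N227 (tt N256 F1384) (tt N277 (iv F1620)) (tt N227 F1385) (tt N286 (iv F1699)) (tt N180 (iv D279)) (tt N287 D349) (tt N191 F1386) (tt N227 F1387) (tt N227 F1388))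
theorem Q229 : ∀ i, i < 229 → P i := stepQ 228 Q228 (allL N228 (tt N257 F1400) (tt N228 F1401) (tt N288 D351) (tt N181 (iv D282)) (tt N289 D352) (tt N182 F1402) (tt N228 F1403) (tt N228 F1404) (tt N228 F1405))
theorem Q230 : ∀ i, i < 230 → P i := stepQ 229 Q229 (allL N229 (tt N258 F1406) (tt N290 D353) (tt N182 (iv D283)) (tt N285 (iv F1695)) (tt N229 F1407) (tt N288 (iv F1724)) (tt N192 F1408) (tt N229 F1409) (tt N229 F1410))
theorem Q231 : ∀ i, i < 231 → P i := stepQ 230 Q230 (allL N230 (tt N230 F1259) (tt N230 F1260) (tt N184 F1261) (tt N291 D313) (tt N230 F1262) (tt N230 F1263) (tt N267 (iv F1538)) (tt N183 (iv D253)) (tt N292 D314))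
theorem Q232 : ∀ i, i < 232 → P i := stepQ 231 Q231 (allL N231 (tt N231 F1264) (tt N231 F1265) (tt N185 F1266) (tt N231 F1267) (tt N231 F1268) (tt N231 F1269) (tt N268 (iv F1544)) (tt N293 D315) (tt N183 (iv D254)))
theorem Q233 : ∀ i, i < 233 → P i := stepQ 232 Q232 (allL N232 (tt N232 F1284) (tt N188 F1285) (tt N292 (iv F1552)) (tt N232 F1286) (tt N232 F1287) (tt N232 F1288) (tt N272 (iv F1579)) (tt N294 D321) (tt N184 (iv D258)))
theorem Q234 : ∀ i, i < 234 → P i := stepQ 233 Q233 (allL N233 (tt N233 F1289) (tt N189 F1290) (tt N293 (iv F1557)) (tt N295 D322) (tt N233 F1291) (tt N233 F1292) (tt N273 (iv F1583)) (tt N185 (iv D259)) (tt N294 (iv F1588)))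
theorem Q235 : ∀ i, i < 235 → P i := stepQ 234 Q234 (allL N234 (tt N234 F1305) (tt N190 F1306) (tt N296 D325) (tt N186 (iv D262)) (tt N297 D326) (tt N234 F1307) (tt N275 (iv F1602)) (tt N295 (iv F1592)) (tt N234 F1308))
theorem Q236 : ∀ i, i < 236 → P i := stepQ 235 Q235 (allL N235 (tt N235 F1315) (tt N235 F1316) (tt N187 (iv D264)) (tt N235 F1317) (tt N298 D329) (tt N193 F1318) (tt N276 (iv F1616)) (tt N235 F1319) (tt N235 F1320))
theorem Q237 : ∀ i, i < 237 → P i := stepQ 236 Q236 (allL N236 (tt N236 F1321) (tt N191 F1322) (tt N298 (iv F1626)) (tt N297 (iv F1610)) (tt N187 (iv D265)) (tt N299 D330) (tt N277 (iv F1621)) (tt N236 F1323) (tt N236 F1324))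
theorem Q238 : ∀ i, i < 238 → P i := stepQ 237 Q237 (allL N237 (tt N259 F1360) (tt N294 (iv F1585)) (tt N237 F1361) (tt N300 D340) (tt N237 F1362) (tt N237 F1363) (tt N282 (iv F1674)) (tt N188 (iv D273)) (tt N189 F1364))
theorem Q239 : ∀ i, i < 239 → P i := stepQ 238 Q238 (allL N238 (tt N260 F1365) (tt N295 (iv F1590)) (tt N301 D341) (tt N189 (iv D274)) (tt N302 D342) (tt N238 F1366) (tt N283 (iv F1677)) (tt N190 F1367) (tt N300 (iv F1682)))
theorem Q240 : ∀ i, i < 240 → P i := stepQ 239 Q239 (allL N239 (tt N261 F1377) (tt N303 D346) (tt N190 (iv D277)) (tt N192 F1378) (tt N304 D347) (tt N239 F1379) (tt N285 (iv F1696)) (tt N301 (iv F1686)) (tt N239 F1380))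
theorem Q241 : ∀ i, i < 241 → P i := stepQ 240 Q240 (allL N240 (tt N262 F1381) (tt N297 (iv F1609)) (tt N304 (iv F1706)) (tt N191 F1382) (tt N190 (iv D278)) (tt N305 D348) (tt N286 (iv F1700)) (tt N302 (iv F1689)) (tt N240 F1383))
theorem Q242 : ∀ i, i < 242 → P i := stepQ 241 Q241 (allL N241 (tt N263 F1389) (tt N299 (iv F1630)) (tt N241 F1390) (tt N305 (iv F1710)) (tt N195 F1391) (tt N191 (iv D280)) (tt N306 D350) (tt N241 F1392) (tt N241 F1393))
theorem Q243 : ∀ i, i < 243 → P i := stepQ 242 Q242 (allL N242 (tt N307 D354) (tt N192 (iv D284)) (tt N242 F1411) (tt N303 (iv F1702)) (tt N242 F1412) (tt N242 F1413) (tt N290 (iv F1737)) (tt N242 F1414) (tt N242 F1415))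
theorem Q244 : ∀ i, i < 244 → P i := stepQ 243 Q243 (allL N243 (tt N243 F1325) (tt N243 F1326) (tt N194 F1327) (tt N308 D331) (tt N193 (iv D266)) (tt N309 D332) (tt N243 F1328) (tt N243 F1329) (tt N243 F1330))
theorem Q245 : ∀ i, i < 245 → P i := stepQ 244 Q244 (allL N244 (tt N244 F1331) (tt N195 F1332) (tt N309 (iv F1642)) (tt N244 F1333) (tt N299 (iv F1631)) (tt N194 (iv D267)) (tt N310 D333) (tt N244 F1334) (tt N244 F1335))
theorem Q246 : ∀ i, i < 246 → P i := stepQ 245 Q245 (allL N245 (tt N265 F1394) (tt N310 (iv F1646)) (tt N245 F1395) (tt N245 F1396) (tt N306 (iv F1720)) (tt N245 F1397) (tt N195 (iv D281)) (tt N245 F1398) (tt N245 F1399))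
theorem Q247 : ∀ i, i < 247 → P i := stepQ 246 Q246 (allL N246 (tt N246 F952) (tt N205 (iv F1020)) (tt N246 F953) (tt N311 D232) (tt N246 F954) (tt N197 F955) (tt N246 F956) (tt N196 (iv D190)) (tt N246 F957))
theorem Q248 : ∀ i, i < 248 → P i := stepQ 247 Q247 (allL N247 (tt N247 F958) (tt N206 (iv F1025)) (tt N312 D233) (tt N197 (iv D191)) (tt N247 F959) (tt N311 (iv F1162)) (tt N198 F960) (tt N247 F961) (tt N247 F962))
theorem Q249 : ∀ i, i < 249 → P i := stepQ 248 Q248 (allL N248 (tt N248 F963) (tt N313 D234) (tt N198 (iv D192)) (tt N248 F964) (tt N248 F965) (tt N248 F966) (tt N312 (iv F1169)) (tt N248 F967) (tt N248 F968))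
theorem Q250 : ∀ i, i < 250 → P i := stepQ 249 Q249 (allL N249 (tt N220 (iv F1336)) (tt N249 F1177) (tt N249 F1178) (tt N249 F1179) (tt N199 (iv D235)) (tt N249 F1180) (tt N249 F1181) (tt N314 D289) (tt N315 D290))
theorem Q251 : ∀ i, i < 251 → P i := stepQ 250 Q250 (allL N250 (tt N221 (iv F1341)) (tt N250 F1182) (tt N250 F1183) (tt N250 F1184) (tt N314 (iv F1441)) (tt N200 F1185) (tt N250 F1186) (tt N199 (iv D236)) (tt N316 D291))
theorem Q252 : ∀ i, i < 252 → P i := stepQ 251 Q251 (allL N251 (tt N222 (iv F1346)) (tt N251 F1187) (tt N251 F1188) (tt N202 F1189) (tt N315 (iv F1447)) (tt N201 F1190) (tt N251 F1191) (tt N317 D292) (tt N199 (iv D237)))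
theorem Q253 : ∀ i, i < 253 → P i := stepQ 252 Q252 (allL N252 (tt N223 (iv F1351)) (tt N252 F1192) (tt N252 F1193) (tt N252 F1194) (tt N252 F1195) (tt N316 (iv F1453)) (tt N207 F1196) (tt N318 D293) (tt N200 (iv D238)))
theorem Q254 : ∀ i, i < 254 → P i := stepQ 253 Q253 (allL N253 (tt N224 (iv F1356)) (tt N253 F1197) (tt N253 F1198) (tt N319 D294) (tt N253 F1199) (tt N317 (iv F1457)) (tt N208 F1200) (tt N201 (iv D239)) (tt N318 (iv F1463)))
theorem Q255 : ∀ i, i < 255 → P i := stepQ 254 Q254 (allL N254 (tt N225 (iv F1368)) (tt N254 F1209) (tt N205 F1210) (tt N320 D298) (tt N254 F1211) (tt N203 F1212) (tt N254 F1213) (tt N202 (iv D242)) (tt N254 F1214))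
theorem Q256 : ∀ i, i < 256 → P i := stepQ 255 Q255 (allL N255 (tt N226 (iv F1374)) (tt N255 F1215) (tt N321 D299) (tt N203 (iv D243)) (tt N322 D300) (tt N320 (iv F1478)) (tt N209 F1216) (tt N319 (iv F1466)) (tt N255 F1217))
theorem Q257 : ∀ i, i < 257 → P i := stepQ 256 Q256 (allL N256 (tt N227 (iv F1384)) (tt N256 F1224) (tt N256 F1225) (tt N322 (iv F1485)) (tt N204 (iv D246)) (tt N323 D304) (tt N210 F1226) (tt N256 F1227) (tt N256 F1228))
theorem Q258 : ∀ i, i < 258 → P i := stepQ 257 Q257 (allL N257 (tt N228 (iv F1400)) (tt N311 F1240) (tt N324 D306) (tt N205 (iv D249)) (tt N325 D307) (tt N206 F1241) (tt N257 F1242) (tt N257 F1243) (tt N257 F1244))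
theorem Q259 : ∀ i, i < 259 → P i := stepQ 258 Q258 (allL N258 (tt N229 (iv F1406)) (tt N326 D308) (tt N206 (iv D250)) (tt N321 (iv F1481)) (tt N258 F1245) (tt N324 (iv F1509)) (tt N211 F1246) (tt N258 F1247) (tt N258 F1248))
theorem Q260 : ∀ i, i < 260 → P i := stepQ 259 Q259 (allL N259 (tt N237 (iv F1360)) (tt N259 F1201) (tt N259 F1202) (tt N327 D295) (tt N259 F1203) (tt N259 F1204) (tt N318 (iv F1462)) (tt N207 (iv D240)) (tt N208 F1205))
theorem Q261 : ∀ i, i < 261 → P i := stepQ 260 Q260 (allL N260 (tt N238 (iv F1365)) (tt N260 F1206) (tt N328 D296) (tt N208 (iv D241)) (tt N329 D297) (tt N260 F1207) (tt N319 (iv F1465)) (tt N209 F1208) (tt N327 (iv F1470)))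
theorem Q262 : ∀ i, i < 262 → P i := stepQ 261 Q261 (allL N261 (tt N239 (iv F1377)) (tt N330 D301) (tt N209 (iv D244)) (tt N211 F1218) (tt N331 D302) (tt N261 F1219) (tt N321 (iv F1482)) (tt N328 (iv F1473)) (tt N261 F1220))
theorem Q263 : ∀ i, i < 263 → P i := stepQ 262 Q262 (allL N262 (tt N240 (iv F1381)) (tt N262 F1221) (tt N331 (iv F1492)) (tt N210 F1222) (tt N209 (iv D245)) (tt N332 D303) (tt N322 (iv F1486)) (tt N329 (iv F1476)) (tt N262 F1223))
theorem Q264 : ∀ i, i < 264 → P i := stepQ 263 Q263 (allL N263 (tt N241 (iv F1389)) (tt N263 F1229) (tt N263 F1230) (tt N332 (iv F1496)) (tt N212 F1231) (tt N210 (iv D247)) (tt N333 D305) (tt N263 F1232) (tt N263 F1233))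
theorem Q265 : ∀ i, i < 265 → P i := stepQ 264 Q264 (allL N264 (tt N334 D309) (tt N211 (iv D251)) (tt N313 F1249) (tt N330 (iv F1489)) (tt N264 F1250) (tt N264 F1251) (tt N326 (iv F1521)) (tt N264 F1252) (tt N264 F1253))
theorem Q266 : ∀ i, i < 266 → P i := stepQ 265 Q265 (allL N265 (tt N245 (iv F1394)) (tt N265 F1234) (tt N265 F1235) (tt N265 F1236) (tt N333 (iv F1506)) (tt N265 F1237) (tt N212 (iv D248)) (tt N265 F1238) (tt N265 F1239))
theorem Q267 : ∀ i, i < 267 → P i := stepQ 266 Q266 (allL N266 (tt N266 F1529) (tt N266 F1530) (tt N214 F1531) (tt N266 F1532) (tt N335 D384) (tt N213 (iv D310)) (tt N266 F1533) (tt N336 D385) (tt N337 D386))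
theorem Q268 : ∀ i, i < 268 → P i := stepQ 267 Q267 (allL N267 (tt N267 F1534) (tt N267 F1535) (tt N215 F1536) (tt N338 D387) (tt N267 F1537) (tt N336 (iv F1880)) (tt N230 F1538) (tt N213 (iv D311)) (tt N339 D388))
theorem Q269 : ∀ i, i < 269 → P i := stepQ 268 Q268 (allL N268 (tt N268 F1539) (tt N268 F1540) (tt N216 F1541) (tt N268 F1542) (tt N268 F1543) (tt N337 (iv F1886)) (tt N231 F1544) (tt N340 D389) (tt N213 (iv D312)))
theorem Q270 : ∀ i, i < 270 → P i := stepQ 269 Q269 (allL N269 (tt N269 F1560) (tt N220 F1561) (tt N335 (iv F1874)) (tt N269 F1562) (tt N214 (iv D316)) (tt N269 F1563) (tt N269 F1564) (tt N341 D394) (tt N342 D395))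
theorem Q271 : ∀ i, i < 271 → P i := stepQ 270 Q270 (allL N270 (tt N270 F1565) (tt N221 F1566) (tt N336 (iv F1879)) (tt N270 F1567) (tt N341 (iv F1925)) (tt N215 F1568) (tt N270 F1569) (tt N214 (iv D317)) (tt N343 D396))
theorem Q272 : ∀ i, i < 272 → P i := stepQ 271 Q271 (allL N271 (tt N271 F1570) (tt N222 F1571) (tt N337 (iv F1884)) (tt N217 F1572) (tt N342 (iv F1931)) (tt N216 F1573) (tt N271 F1574) (tt N344 D397) (tt N214 (iv D318)))
theorem Q273 : ∀ i, i < 273 → P i := stepQ 272 Q272 (allL N272 (tt N272 F1575) (tt N223 F1576) (tt N339 (iv F1895)) (tt N272 F1577) (tt N272 F1578) (tt N343 (iv F1937)) (tt N232 F1579) (tt N345 D398) (tt N215 (iv D319)))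
theorem Q274 : ∀ i, i < 274 → P i := stepQ 273 Q273 (allL N273 (tt N273 F1580) (tt N224 F1581) (tt N340 (iv F1900)) (tt N346 D399) (tt N273 F1582) (tt N344 (iv F1941)) (tt N233 F1583) (tt N216 (iv D320)) (tt N345 (iv F1947)))
theorem Q275 : ∀ i, i < 275 → P i := stepQ 274 Q274 (allL N274 (tt N274 F1593) (tt N225 F1594) (tt N274 F1595) (tt N347 D403) (tt N274 F1596) (tt N218 F1597) (tt N274 F1598) (tt N217 (iv D323)) (tt N274 F1599))
theorem Q276 : ∀ i, i < 276 → P i := stepQ 275 Q275 (allL N275 (tt N275 F1600) (tt N226 F1601) (tt N348 D404) (tt N218 (iv D324)) (tt N349 D405) (tt N347 (iv F1966)) (tt N234 F1602) (tt N346 (iv F1951)) (tt N275 F1603))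
theorem Q277 : ∀ i, i < 277 → P i := stepQ 276 Q276 (allL N276 (tt N276 F1612) (tt N276 F1613) (tt N219 (iv D327)) (tt N276 F1614) (tt N350 D409) (tt N276 F1615) (tt N235 F1616) (tt N276 F1617) (tt N276 F1618))
theorem Q278 : ∀ i, i < 278 → P i := stepQ 277 Q277 (allL N277 (tt N277 F1619) (tt N227 F1620) (tt N350 (iv F1992)) (tt N349 (iv F1975)) (tt N219 (iv D328)) (tt N351 D410) (tt N236 F1621) (tt N277 F1622) (tt N277 F1623))
theorem Q279 : ∀ i, i < 279 → P i := stepQ 278 Q278 (allL N278 (tt N314 F1651) (tt N341 (iv F1924)) (tt N278 F1652) (tt N352 D417) (tt N221 F1653) (tt N278 F1654) (tt N278 F1655) (tt N220 (iv D334)) (tt N353 D418))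
theorem Q280 : ∀ i, i < 280 → P i := stepQ 279 Q279 (allL N279 (tt N315 F1656) (tt N342 (iv F1929)) (tt N279 F1657) (tt N279 F1658) (tt N222 F1659) (tt N279 F1660) (tt N279 F1661) (tt N354 D419) (tt N220 (iv D335)))
theorem Q281 : ∀ i, i < 281 → P i := stepQ 280 Q280 (allL N280 (tt N316 F1662) (tt N343 (iv F1935)) (tt N280 F1663) (tt N280 F1664) (tt N353 (iv F2040)) (tt N223 F1665) (tt N280 F1666) (tt N355 D420) (tt N221 (iv D336)))
theorem Q282 : ∀ i, i < 282 → P i := stepQ 281 Q281 (allL N281 (tt N317 F1667) (tt N344 (iv F1940)) (tt N281 F1668) (tt N356 D421) (tt N354 (iv F2045)) (tt N224 F1669) (tt N281 F1670) (tt N222 (iv D337)) (tt N355 (iv F2052)))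
theorem Q283 : ∀ i, i < 283 → P i := stepQ 282 Q282 (allL N282 (tt N318 F1671) (tt N345 (iv F1944)) (tt N282 F1672) (tt N357 D422) (tt N282 F1673) (tt N355 (iv F2050)) (tt N237 F1674) (tt N223 (iv D338)) (tt N224 F1675))
theorem Q284 : ∀ i, i < 284 → P i := stepQ 283 Q283 (allL N283 (tt N319 F1676) (tt N346 (iv F1949)) (tt N358 D423) (tt N224 (iv D339)) (tt N359 D424) (tt N356 (iv F2054)) (tt N238 F1677) (tt N226 F1678) (tt N357 (iv F2060)))
theorem Q285 : ∀ i, i < 285 → P i := stepQ 284 Q284 (allL N284 (tt N320 F1690) (tt N347 (iv F1965)) (tt N360 D430) (tt N225 (iv D343)) (tt N361 D431) (tt N226 F1691) (tt N284 F1692) (tt N356 (iv F2056)) (tt N284 F1693))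
theorem Q286 : ∀ i, i < 286 → P i := stepQ 285 Q285 (allL N285 (tt N321 F1694) (tt N362 D432) (tt N226 (iv D344)) (tt N229 F1695) (tt N363 D433) (tt N360 (iv F2090)) (tt N239 F1696) (tt N358 (iv F2064)) (tt N285 F1697))
theorem Q287 : ∀ i, i < 287 → P i := stepQ 286 Q286 (allL N286 (tt N322 F1698) (tt N349 (iv F1974)) (tt N363 (iv F2101)) (tt N227 F1699) (tt N226 (iv D345)) (tt N364 D434) (tt N240 F1700) (tt N359 (iv F2068)) (tt N286 F1701))
theorem Q288 : ∀ i, i < 288 → P i := stepQ 287 Q287 (allL N287 (tt N323 F1713) (tt N351 (iv F1997)) (tt N287 F1714) (tt N364 (iv F2106)) (tt N287 F1715) (tt N227 (iv D349)) (tt N365 D439) (tt N287 F1716) (tt N287 F1717))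
theorem Q289 : ∀ i, i < 289 → P i := stepQ 288 Q288 (allL N288 (tt N324 F1723) (tt N366 D440) (tt N228 (iv D351)) (tt N360 (iv F2089)) (tt N367 D441) (tt N229 F1724) (tt N288 F1725) (tt N288 F1726) (tt N288 F1727))
theorem Q290 : ∀ i, i < 290 → P i := stepQ 289 Q289 (allL N289 (tt N325 F1728) (tt N289 F1729) (tt N367 (iv F2136)) (tt N289 F1730) (tt N228 (iv D352)) (tt N289 F1731) (tt N289 F1732) (tt N289 F1733) (tt N289 F1734))
theorem Q291 : ∀ i, i < 291 → P i := stepQ 290 Q290 (allL N290 (tt N368 D442) (tt N229 (iv D353)) (tt N290 F1735) (tt N362 (iv F2097)) (tt N290 F1736) (tt N366 (iv F2131)) (tt N242 F1737) (tt N290 F1738) (tt N290 F1739))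
theorem Q292 : ∀ i, i < 292 → P i := stepQ 291 Q291 (allL N291 (tt N291 F1545) (tt N291 F1546) (tt N291 F1547) (tt N230 (iv D313)) (tt N369 D390) (tt N291 F1548) (tt N338 (iv F1891)) (tt N291 F1549) (tt N370 D391))
theorem Q293 : ∀ i, i < 293 → P i := stepQ 292 Q292 (allL N292 (tt N292 F1550) (tt N292 F1551) (tt N232 F1552) (tt N370 (iv F1911)) (tt N292 F1553) (tt N292 F1554) (tt N339 (iv F1897)) (tt N371 D392) (tt N230 (iv D314)))
theorem Q294 : ∀ i, i < 294 → P i := stepQ 293 Q293 (allL N293 (tt N293 F1555) (tt N293 F1556) (tt N233 F1557) (tt N372 D393) (tt N293 F1558) (tt N293 F1559) (tt N340 (iv F1902)) (tt N231 (iv D315)) (tt N371 (iv F1918)))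
theorem Q295 : ∀ i, i < 295 → P i := stepQ 294 Q294 (allL N294 (tt N294 F1584) (tt N237 F1585) (tt N371 (iv F1915)) (tt N373 D400) (tt N294 F1586) (tt N294 F1587) (tt N345 (iv F1946)) (tt N232 (iv D321)) (tt N233 F1588))
theorem Q296 : ∀ i, i < 296 → P i := stepQ 295 Q295 (allL N295 (tt N295 F1589) (tt N238 F1590) (tt N374 D401) (tt N233 (iv D322)) (tt N375 D402) (tt N295 F1591) (tt N346 (iv F1950)) (tt N234 F1592) (tt N373 (iv F1956)))
theorem Q297 : ∀ i, i < 297 → P i := stepQ 296 Q296 (allL N296 (tt N296 F1604) (tt N376 D406) (tt N234 (iv D325)) (tt N296 F1605) (tt N377 D407) (tt N296 F1606) (tt N348 (iv F1971)) (tt N374 (iv F1959)) (tt N296 F1607))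
theorem Q298 : ∀ i, i < 298 → P i := stepQ 297 Q297 (allL N297 (tt N297 F1608) (tt N240 F1609) (tt N377 (iv F1983)) (tt N236 F1610) (tt N234 (iv D326)) (tt N378 D408) (tt N349 (iv F1976)) (tt N375 (iv F1963)) (tt N297 F1611))
theorem Q299 : ∀ i, i < 299 → P i := stepQ 298 Q298 (allL N298 (tt N298 F1624) (tt N298 F1625) (tt N236 F1626) (tt N379 D411) (tt N235 (iv D329)) (tt N380 D412) (tt N350 (iv F1993)) (tt N298 F1627) (tt N298 F1628))
theorem Q300 : ∀ i, i < 300 → P i := stepQ 299 Q299 (allL N299 (tt N299 F1629) (tt N241 F1630) (tt N380 (iv F2007)) (tt N378 (iv F1987)) (tt N244 F1631) (tt N236 (iv D330)) (tt N381 D413) (tt N299 F1632) (tt N299 F1633))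
theorem Q301 : ∀ i, i < 301 → P i := stepQ 300 Q300 (allL N300 (tt N327 F1679) (tt N373 (iv F1953)) (tt N382 D425) (tt N237 (iv D340)) (tt N383 D426) (tt N300 F1680) (tt N357 (iv F2058)) (tt N300 F1681) (tt N238 F1682))
theorem Q302 : ∀ i, i < 302 → P i := stepQ 301 Q301 (allL N301 (tt N328 F1683) (tt N384 D427) (tt N238 (iv D341)) (tt N301 F1684) (tt N385 D428) (tt N301 F1685) (tt N358 (iv F2063)) (tt N239 F1686) (tt N382 (iv F2073)))
theorem Q303 : ∀ i, i < 303 → P i := stepQ 302 Q302 (allL N302 (tt N329 F1687) (tt N375 (iv F1961)) (tt N385 (iv F2082)) (tt N302 F1688) (tt N238 (iv D342)) (tt N386 D429) (tt N359 (iv F2067)) (tt N240 F1689) (tt N383 (iv F2077)))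
theorem Q304 : ∀ i, i < 304 → P i := stepQ 303 Q303 (allL N303 (tt N387 D435) (tt N239 (iv D346)) (tt N376 (iv F1978)) (tt N242 F1702) (tt N388 D436) (tt N303 F1703) (tt N362 (iv F2098)) (tt N384 (iv F2080)) (tt N303 F1704))
theorem Q305 : ∀ i, i < 305 → P i := stepQ 304 Q304 (allL N304 (tt N331 F1705) (tt N388 (iv F2112)) (tt N240 F1706) (tt N304 F1707) (tt N239 (iv D347)) (tt N389 D437) (tt N363 (iv F2103)) (tt N385 (iv F2083)) (tt N304 F1708))
theorem Q306 : ∀ i, i < 306 → P i := stepQ 305 Q305 (allL N305 (tt N332 F1709) (tt N378 (iv F1986)) (tt N389 (iv F2116)) (tt N241 F1710) (tt N305 F1711) (tt N240 (iv D348)) (tt N390 D438) (tt N386 (iv F2087)) (tt N305 F1712))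
theorem Q307 : ∀ i, i < 307 → P i := stepQ 306 Q306 (allL N306 (tt N333 F1718) (tt N381 (iv F2012)) (tt N306 F1719) (tt N390 (iv F2121)) (tt N245 F1720) (tt N365 (iv F2127)) (tt N241 (iv D350)) (tt N306 F1721) (tt N306 F1722))
theorem Q308 : ∀ i, i < 308 → P i := stepQ 307 Q307 (allL N307 (tt N242 (iv D354)) (tt N334 F1740) (tt N307 F1741) (tt N387 (iv F2109)) (tt N307 F1742) (tt N307 F1743) (tt N368 (iv F2144)) (tt N307 F1744) (tt N307 F1745))
theorem Q309 : ∀ i, i < 309 → P i := stepQ 308 Q308 (allL N308 (tt N308 F1634) (tt N308 F1635) (tt N308 F1636) (tt N243 (iv D331)) (tt N308 F1637) (tt N391 D414) (tt N308 F1638) (tt N392 D415) (tt N308 F1639))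
theorem Q310 : ∀ i, i < 310 → P i := stepQ 309 Q309 (allL N309 (tt N309 F1640) (tt N309 F1641) (tt N244 F1642) (tt N391 (iv F2019)) (tt N380 (iv F2008)) (tt N243 (iv D332)) (tt N393 D416) (tt N309 F1643) (tt N309 F1644))
theorem Q311 : ∀ i, i < 311 → P i := stepQ 310 Q310 (allL N310 (tt N310 F1645) (tt N245 F1646) (tt N393 (iv F2029)) (tt N310 F1647) (tt N381 (iv F2013)) (tt N310 F1648) (tt N244 (iv D333)) (tt N310 F1649) (tt N310 F1650))
theorem Q312 : ∀ i, i < 312 → P i := stepQ 311 Q311 (allL N311 (tt N311 F1161) (tt N257 (iv F1240)) (tt N394 D285) (tt N246 (iv D232)) (tt N395 D286) (tt N247 F1162) (tt N311 F1163) (tt N311 F1164) (tt N311 F1165))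
theorem Q313 : ∀ i, i < 313 → P i := stepQ 312 Q312 (allL N312 (tt N312 F1166) (tt N396 D287) (tt N247 (iv D233)) (tt N312 F1167) (tt N312 F1168) (tt N394 (iv F1418)) (tt N248 F1169) (tt N312 F1170) (tt N312 F1171))
theorem Q314 : ∀ i, i < 314 → P i := stepQ 313 Q313 (allL N313 (tt N397 D288) (tt N248 (iv D234)) (tt N264 (iv F1249)) (tt N313 F1172) (tt N313 F1173) (tt N313 F1174) (tt N396 (iv F1430)) (tt N313 F1175) (tt N313 F1176))
theorem Q315 : ∀ i, i < 315 → P i := stepQ 314 Q314 (allL N314 (tt N278 (iv F1651)) (tt N314 F1439) (tt N314 F1440) (tt N398 D358) (tt N250 F1441) (tt N314 F1442) (tt N314 F1443) (tt N249 (iv D289)) (tt N399 D359))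
theorem Q316 : ∀ i, i < 316 → P i := stepQ 315 Q315 (allL N315 (tt N279 (iv F1656)) (tt N315 F1444) (tt N315 F1445) (tt N315 F1446) (tt N251 F1447) (tt N315 F1448) (tt N315 F1449) (tt N400 D360) (tt N249 (iv D290)))
theorem Q317 : ∀ i, i < 317 → P i := stepQ 316 Q316 (allL N316 (tt N280 (iv F1662)) (tt N316 F1450) (tt N316 F1451) (tt N316 F1452) (tt N399 (iv F1770)) (tt N252 F1453) (tt N316 F1454) (tt N401 D361) (tt N250 (iv D291)))
theorem Q318 : ∀ i, i < 318 → P i := stepQ 317 Q317 (allL N317 (tt N281 (iv F1667)) (tt N317 F1455) (tt N317 F1456) (tt N402 D362) (tt N400 (iv F1775)) (tt N253 F1457) (tt N317 F1458) (tt N251 (iv D292)) (tt N401 (iv F1782)))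
theorem Q319 : ∀ i, i < 319 → P i := stepQ 318 Q318 (allL N318 (tt N282 (iv F1671)) (tt N318 F1459) (tt N318 F1460) (tt N403 D363) (tt N318 F1461) (tt N401 (iv F1780)) (tt N259 F1462) (tt N252 (iv D293)) (tt N253 F1463))
theorem Q320 : ∀ i, i < 320 → P i := stepQ 319 Q319 (allL N319 (tt N283 (iv F1676)) (tt N319 F1464) (tt N404 D364) (tt N253 (iv D294)) (tt N405 D365) (tt N402 (iv F1784)) (tt N260 F1465) (tt N255 F1466) (tt N403 (iv F1790)))
theorem Q321 : ∀ i, i < 321 → P i := stepQ 320 Q320 (allL N320 (tt N284 (iv F1690)) (tt N320 F1477) (tt N406 D371) (tt N254 (iv D298)) (tt N407 D372) (tt N255 F1478) (tt N320 F1479) (tt N402 (iv F1786)) (tt N320 F1480))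
theorem Q322 : ∀ i, i < 322 → P i := stepQ 321 Q321 (allL N321 (tt N285 (iv F1694)) (tt N408 D373) (tt N255 (iv D299)) (tt N258 F1481) (tt N409 D374) (tt N406 (iv F1817)) (tt N261 F1482) (tt N404 (iv F1793)) (tt N321 F1483))
theorem Q323 : ∀ i, i < 323 → P i := stepQ 322 Q322 (allL N322 (tt N286 (iv F1698)) (tt N322 F1484) (tt N409 (iv F1828)) (tt N256 F1485) (tt N255 (iv D300)) (tt N410 D375) (tt N262 F1486) (tt N405 (iv F1797)) (tt N322 F1487))
theorem Q324 : ∀ i, i < 324 → P i := stepQ 323 Q323 (allL N323 (tt N287 (iv F1713)) (tt N323 F1499) (tt N323 F1500) (tt N410 (iv F1833)) (tt N323 F1501) (tt N256 (iv D304)) (tt N411 D380) (tt N323 F1502) (tt N323 F1503))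
theorem Q325 : ∀ i, i < 325 → P i := stepQ 324 Q324 (allL N324 (tt N288 (iv F1723)) (tt N412 D381) (tt N257 (iv D306)) (tt N406 (iv F1816)) (tt N413 D382) (tt N258 F1509) (tt N324 F1510) (tt N324 F1511) (tt N324 F1512))
theorem Q326 : ∀ i, i < 326 → P i := stepQ 325 Q325 (allL N325 (tt N289 (iv F1728)) (tt N395 F1513) (tt N413 (iv F1862)) (tt N325 F1514) (tt N257 (iv D307)) (tt N325 F1515) (tt N325 F1516) (tt N325 F1517) (tt N325 F1518))
theorem Q327 : ∀ i, i < 327 → P i := stepQ 326 Q326 (allL N326 (tt N414 D383) (tt N258 (iv D308)) (tt N396 F1519) (tt N408 (iv F1825)) (tt N326 F1520) (tt N412 (iv F1858)) (tt N264 F1521) (tt N326 F1522) (tt N326 F1523))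
theorem Q328 : ∀ i, i < 328 → P i := stepQ 327 Q327 (allL N327 (tt N300 (iv F1679)) (tt N327 F1467) (tt N415 D366) (tt N259 (iv D295)) (tt N416 D367) (tt N327 F1468) (tt N403 (iv F1788)) (tt N327 F1469) (tt N260 F1470))
theorem Q329 : ∀ i, i < 329 → P i := stepQ 328 Q328 (allL N328 (tt N301 (iv F1683)) (tt N417 D368) (tt N260 (iv D296)) (tt N328 F1471) (tt N418 D369) (tt N328 F1472) (tt N404 (iv F1792)) (tt N261 F1473) (tt N415 (iv F1801)))
theorem Q330 : ∀ i, i < 330 → P i := stepQ 329 Q329 (allL N329 (tt N302 (iv F1687)) (tt N329 F1474) (tt N418 (iv F1810)) (tt N329 F1475) (tt N260 (iv D297)) (tt N419 D370) (tt N405 (iv F1796)) (tt N262 F1476) (tt N416 (iv F1805)))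
theorem Q331 : ∀ i, i < 331 → P i := stepQ 330 Q330 (allL N330 (tt N420 D376) (tt N261 (iv D301)) (tt N330 F1488) (tt N264 F1489) (tt N421 D377) (tt N330 F1490) (tt N408 (iv F1826)) (tt N417 (iv F1809)) (tt N330 F1491))
theorem Q332 : ∀ i, i < 332 → P i := stepQ 331 Q331 (allL N331 (tt N304 (iv F1705)) (tt N421 (iv F1839)) (tt N262 F1492) (tt N331 F1493) (tt N261 (iv D302)) (tt N422 D378) (tt N409 (iv F1830)) (tt N418 (iv F1811)) (tt N331 F1494))
theorem Q333 : ∀ i, i < 333 → P i := stepQ 332 Q332 (allL N332 (tt N305 (iv F1709)) (tt N332 F1495) (tt N422 (iv F1843)) (tt N263 F1496) (tt N332 F1497) (tt N262 (iv D303)) (tt N423 D379) (tt N419 (iv F1815)) (tt N332 F1498))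
theorem Q334 : ∀ i, i < 334 → P i := stepQ 333 Q333 (allL N333 (tt N306 (iv F1718)) (tt N333 F1504) (tt N333 F1505) (tt N423 (iv F1848)) (tt N265 F1506) (tt N411 (iv F1854)) (tt N263 (iv D305)) (tt N333 F1507) (tt N333 F1508))
theorem Q335 : ∀ i, i < 335 → P i := stepQ 334 Q334 (allL N334 (tt N264 (iv D309)) (tt N307 (iv F1740)) (tt N397 F1524) (tt N420 (iv F1836)) (tt N334 F1525) (tt N334 F1526) (tt N414 (iv F1869)) (tt N334 F1527) (tt N334 F1528))
theorem Q336 : ∀ i, i < 336 → P i := stepQ 335 Q335 (allL N335 (tt N335 F1872) (tt N335 F1873) (tt N269 F1874) (tt N424 D479) (tt N266 (iv D384)) (tt N335 F1875) (tt N335 F1876) (tt N425 D480) (tt N426 D481))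
theorem Q337 : ∀ i, i < 337 → P i := stepQ 336 Q336 (allL N336 (tt N336 F1877) (tt N336 F1878) (tt N270 F1879) (tt N427 D482) (tt N425 (iv F2312)) (tt N267 F1880) (tt N336 F1881) (tt N266 (iv D385)) (tt N428 D483))
theorem Q338 : ∀ i, i < 338 → P i := stepQ 337 Q337 (allL N337 (tt N337 F1882) (tt N337 F1883) (tt N271 F1884) (tt N337 F1885) (tt N426 (iv F2318)) (tt N268 F1886) (tt N337 F1887) (tt N429 D484) (tt N266 (iv D386)))
theorem Q339 : ∀ i, i < 339 → P i := stepQ 338 Q338 (allL N338 (tt N338 F1888) (tt N338 F1889) (tt N338 F1890) (tt N267 (iv D387)) (tt N430 D485) (tt N427 (iv F2325)) (tt N291 F1891) (tt N338 F1892) (tt N431 D486))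
theorem Q340 : ∀ i, i < 340 → P i := stepQ 339 Q339 (allL N339 (tt N339 F1893) (tt N339 F1894) (tt N272 F1895) (tt N431 (iv F2348)) (tt N339 F1896) (tt N428 (iv F2331)) (tt N292 F1897) (tt N432 D487) (tt N267 (iv D388)))
theorem Q341 : ∀ i, i < 341 → P i := stepQ 340 Q340 (allL N340 (tt N340 F1898) (tt N340 F1899) (tt N273 F1900) (tt N433 D488) (tt N340 F1901) (tt N429 (iv F2336)) (tt N293 F1902) (tt N268 (iv D389)) (tt N432 (iv F2355)))
theorem Q342 : ∀ i, i < 342 → P i := stepQ 341 Q341 (allL N341 (tt N341 F1923) (tt N278 F1924) (tt N425 (iv F2310)) (tt N434 D495) (tt N270 F1925) (tt N341 F1926) (tt N341 F1927) (tt N269 (iv D394)) (tt N435 D496))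
theorem Q343 : ∀ i, i < 343 → P i := stepQ 342 Q342 (allL N342 (tt N342 F1928) (tt N279 F1929) (tt N426 (iv F2317)) (tt N342 F1930) (tt N271 F1931) (tt N342 F1932) (tt N342 F1933) (tt N436 D497) (tt N269 (iv D395)))
theorem Q344 : ∀ i, i < 344 → P i := stepQ 343 Q343 (allL N343 (tt N343 F1934) (tt N280 F1935) (tt N428 (iv F2330)) (tt N343 F1936) (tt N435 (iv F2398)) (tt N272 F1937) (tt N343 F1938) (tt N437 D498) (tt N270 (iv D396)))
theorem Q345 : ∀ i, i < 345 → P i := stepQ 344 Q344 (allL N344 (tt N344 F1939) (tt N281 F1940) (tt N429 (iv F2335)) (tt N438 D499) (tt N436 (iv F2403)) (tt N273 F1941) (tt N344 F1942) (tt N271 (iv D397)) (tt N437 (iv F2410)))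
theorem Q346 : ∀ i, i < 346 → P i := stepQ 345 Q345 (allL N345 (tt N345 F1943) (tt N282 F1944) (tt N432 (iv F2352)) (tt N439 D500) (tt N345 F1945) (tt N437 (iv F2408)) (tt N294 F1946) (tt N272 (iv D398)) (tt N273 F1947))
theorem Q347 : ∀ i, i < 347 → P i := stepQ 346 Q346 (allL N346 (tt N346 F1948) (tt N283 F1949) (tt N440 D501) (tt N273 (iv D399)) (tt N441 D502) (tt N438 (iv F2413)) (tt N295 F1950) (tt N275 F1951) (tt N439 (iv F2420)))
theorem Q348 : ∀ i, i < 348 → P i := stepQ 347 Q347 (allL N347 (tt N347 F1964) (tt N284 F1965) (tt N442 D508) (tt N274 (iv D403)) (tt N443 D509) (tt N275 F1966) (tt N347 F1967) (tt N438 (iv F2415)) (tt N347 F1968))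
theorem Q349 : ∀ i, i < 349 → P i := stepQ 348 Q348 (allL N348 (tt N348 F1969) (tt N444 D510) (tt N275 (iv D404)) (tt N348 F1970) (tt N445 D511) (tt N442 (iv F2451)) (tt N296 F1971) (tt N440 (iv F2423)) (tt N348 F1972))
theorem Q350 : ∀ i, i < 350 → P i := stepQ 349 Q349 (allL N349 (tt N349 F1973) (tt N286 F1974) (tt N445 (iv F2464)) (tt N277 F1975) (tt N275 (iv D405)) (tt N446 D512) (tt N297 F1976) (tt N441 (iv F2428)) (tt N349 F1977))
theorem Q351 : ∀ i, i < 351 → P i := stepQ 350 Q350 (allL N350 (tt N350 F1990) (tt N350 F1991) (tt N277 F1992) (tt N447 D518) (tt N276 (iv D409)) (tt N448 D519) (tt N298 F1993) (tt N350 F1994) (tt N350 F1995))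
theorem Q352 : ∀ i, i < 352 → P i := stepQ 351 Q351 (allL N351 (tt N351 F1996) (tt N287 F1997) (tt N448 (iv F2499)) (tt N446 (iv F2469)) (tt N351 F1998) (tt N277 (iv D410)) (tt N449 D520) (tt N351 F1999) (tt N351 F2000))
theorem Q353 : ∀ i, i < 353 → P i := stepQ 352 Q352 (allL N352 (tt N398 F2033) (tt N434 (iv F2390)) (tt N450 D528) (tt N278 (iv D417)) (tt N352 F2034) (tt N352 F2035) (tt N352 F2036) (tt N352 F2037) (tt N451 D529))
theorem Q354 : ∀ i, i < 354 → P i := stepQ 353 Q353 (allL N353 (tt N399 F2038) (tt N435 (iv F2397)) (tt N353 F2039) (tt N451 (iv F2554)) (tt N280 F2040) (tt N353 F2041) (tt N353 F2042) (tt N452 D530) (tt N278 (iv D418)))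
theorem Q355 : ∀ i, i < 355 → P i := stepQ 354 Q354 (allL N354 (tt N400 F2043) (tt N436 (iv F2402)) (tt N354 F2044) (tt N453 D531) (tt N281 F2045) (tt N354 F2046) (tt N354 F2047) (tt N279 (iv D419)) (tt N452 (iv F2563)))
theorem Q356 : ∀ i, i < 356 → P i := stepQ 355 Q355 (allL N355 (tt N401 F2048) (tt N437 (iv F2407)) (tt N355 F2049) (tt N454 D532) (tt N452 (iv F2560)) (tt N282 F2050) (tt N355 F2051) (tt N280 (iv D420)) (tt N281 F2052))
theorem Q357 : ∀ i, i < 357 → P i := stepQ 356 Q356 (allL N356 (tt N402 F2053) (tt N438 (iv F2412)) (tt N455 D533) (tt N281 (iv D421)) (tt N456 D534) (tt N283 F2054) (tt N356 F2055) (tt N284 F2056) (tt N454 (iv F2572)))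
theorem Q358 : ∀ i, i < 358 → P i := stepQ 357 Q357 (allL N357 (tt N403 F2057) (tt N439 (iv F2417)) (tt N457 D535) (tt N282 (iv D422)) (tt N458 D536) (tt N454 (iv F2569)) (tt N300 F2058) (tt N357 F2059) (tt N283 F2060))
theorem Q359 : ∀ i, i < 359 → P i := stepQ 358 Q358 (allL N358 (tt N404 F2061) (tt N459 D537) (tt N283 (iv D423)) (tt N358 F2062) (tt N460 D538) (tt N455 (iv F2575)) (tt N301 F2063) (tt N285 F2064) (tt N457 (iv F2585)))
theorem Q360 : ∀ i, i < 360 → P i := stepQ 359 Q359 (allL N359 (tt N405 F2065) (tt N441 (iv F2425)) (tt N460 (iv F2595)) (tt N359 F2066) (tt N283 (iv D424)) (tt N461 D539) (tt N302 F2067) (tt N286 F2068) (tt N458 (iv F2590)))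
theorem Q361 : ∀ i, i < 361 → P i := stepQ 360 Q360 (allL N360 (tt N406 F2088) (tt N462 D548) (tt N284 (iv D430)) (tt N288 F2089) (tt N463 D549) (tt N285 F2090) (tt N360 F2091) (tt N455 (iv F2577)) (tt N360 F2092))
theorem Q362 : ∀ i, i < 362 → P i := stepQ 361 Q361 (allL N361 (tt N407 F2093) (tt N443 (iv F2455)) (tt N463 (iv F2637)) (tt N361 F2094) (tt N284 (iv D431)) (tt N464 D550) (tt N361 F2095) (tt N456 (iv F2580)) (tt N361 F2096))
theorem Q363 : ∀ i, i < 363 → P i := stepQ 362 Q362 (allL N362 (tt N465 D551) (tt N285 (iv D432)) (tt N444 (iv F2459)) (tt N290 F2097) (tt N466 D552) (tt N462 (iv F2633)) (tt N303 F2098) (tt N459 (iv F2593)) (tt N362 F2099))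
theorem Q364 : ∀ i, i < 364 → P i := stepQ 363 Q363 (allL N363 (tt N409 F2100) (tt N466 (iv F2648)) (tt N286 F2101) (tt N363 F2102) (tt N285 (iv D433)) (tt N467 D553) (tt N304 F2103) (tt N460 (iv F2597)) (tt N363 F2104))
theorem Q365 : ∀ i, i < 365 → P i := stepQ 364 Q364 (allL N364 (tt N410 F2105) (tt N446 (iv F2468)) (tt N467 (iv F2653)) (tt N287 F2106) (tt N464 (iv F2642)) (tt N286 (iv D434)) (tt N468 D554) (tt N461 (iv F2600)) (tt N364 F2107))
theorem Q366 : ∀ i, i < 366 → P i := stepQ 365 Q365 (allL N365 (tt N411 F2124) (tt N449 (iv F2504)) (tt N365 F2125) (tt N468 (iv F2657)) (tt N365 F2126) (tt N306 F2127) (tt N287 (iv D439)) (tt N365 F2128) (tt N365 F2129))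
theorem Q367 : ∀ i, i < 367 → P i := stepQ 366 Q366 (allL N366 (tt N469 D558) (tt N288 (iv D440)) (tt N366 F2130) (tt N462 (iv F2632)) (tt N470 D559) (tt N290 F2131) (tt N366 F2132) (tt N366 F2133) (tt N366 F2134))
theorem Q368 : ∀ i, i < 368 → P i := stepQ 367 Q367 (allL N367 (tt N413 F2135) (tt N470 (iv F2679)) (tt N289 F2136) (tt N471 D560) (tt N288 (iv D441)) (tt N367 F2137) (tt N367 F2138) (tt N367 F2139) (tt N367 F2140))
theorem Q369 : ∀ i, i < 369 → P i := stepQ 368 Q368 (allL N368 (tt N290 (iv D442)) (tt N414 F2141) (tt N368 F2142) (tt N465 (iv F2645)) (tt N368 F2143) (tt N469 (iv F2675)) (tt N307 F2144) (tt N368 F2145) (tt N368 F2146))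
theorem Q370 : ∀ i, i < 370 → P i := stepQ 369 Q369 (allL N369 (tt N369 F1903) (tt N369 F1904) (tt N369 F1905) (tt N369 F1906) (tt N291 (iv D390)) (tt N472 D489) (tt N430 (iv F2343)) (tt N369 F1907) (tt N473 D490))
theorem Q371 : ∀ i, i < 371 → P i := stepQ 370 Q370 (allL N370 (tt N370 F1908) (tt N370 F1909) (tt N370 F1910) (tt N292 F1911) (tt N473 (iv F2371)) (tt N370 F1912) (tt N431 (iv F2349)) (tt N474 D491) (tt N291 (iv D391)))
theorem Q372 : ∀ i, i < 372 → P i := stepQ 371 Q371 (allL N371 (tt N371 F1913) (tt N371 F1914) (tt N294 F1915) (tt N475 D492) (tt N371 F1916) (tt N371 F1917) (tt N432 (iv F2354)) (tt N292 (iv D392)) (tt N293 F1918))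
theorem Q373 : ∀ i, i < 373 → P i := stepQ 372 Q372 (allL N372 (tt N372 F1919) (tt N372 F1920) (tt N476 D493) (tt N293 (iv D393)) (tt N477 D494) (tt N372 F1921) (tt N433 (iv F2358)) (tt N372 F1922) (tt N475 (iv F2380)))
theorem Q374 : ∀ i, i < 374 → P i := stepQ 373 Q373 (allL N373 (tt N373 F1952) (tt N300 F1953) (tt N478 D503) (tt N294 (iv D400)) (tt N479 D504) (tt N373 F1954) (tt N439 (iv F2418)) (tt N373 F1955) (tt N295 F1956))
theorem Q375 : ∀ i, i < 375 → P i := stepQ 374 Q374 (allL N374 (tt N374 F1957) (tt N480 D505) (tt N295 (iv D401)) (tt N476 (iv F2382)) (tt N481 D506) (tt N374 F1958) (tt N440 (iv F2422)) (tt N296 F1959) (tt N478 (iv F2432)))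
theorem Q376 : ∀ i, i < 376 → P i := stepQ 375 Q375 (allL N375 (tt N375 F1960) (tt N302 F1961) (tt N481 (iv F2442)) (tt N375 F1962) (tt N295 (iv D402)) (tt N482 D507) (tt N441 (iv F2427)) (tt N297 F1963) (tt N479 (iv F2437)))
theorem Q377 : ∀ i, i < 377 → P i := stepQ 376 Q376 (allL N376 (tt N483 D513) (tt N296 (iv D406)) (tt N303 F1978) (tt N376 F1979) (tt N484 D514) (tt N376 F1980) (tt N444 (iv F2461)) (tt N480 (iv F2440)) (tt N376 F1981))
theorem Q378 : ∀ i, i < 378 → P i := stepQ 377 Q377 (allL N377 (tt N377 F1982) (tt N484 (iv F2476)) (tt N297 F1983) (tt N485 D515) (tt N296 (iv D407)) (tt N486 D516) (tt N445 (iv F2465)) (tt N481 (iv F2443)) (tt N377 F1984))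
theorem Q379 : ∀ i, i < 379 → P i := stepQ 378 Q378 (allL N378 (tt N378 F1985) (tt N305 F1986) (tt N486 (iv F2484)) (tt N299 F1987) (tt N378 F1988) (tt N297 (iv D408)) (tt N487 D517) (tt N482 (iv F2448)) (tt N378 F1989))
theorem Q380 : ∀ i, i < 380 → P i := stepQ 379 Q379 (allL N379 (tt N379 F2001) (tt N379 F2002) (tt N485 (iv F2480)) (tt N298 (iv D411)) (tt N379 F2003) (tt N488 D521) (tt N447 (iv F2495)) (tt N489 D522) (tt N379 F2004))
theorem Q381 : ∀ i, i < 381 → P i := stepQ 380 Q380 (allL N380 (tt N380 F2005) (tt N380 F2006) (tt N299 F2007) (tt N488 (iv F2511)) (tt N309 F2008) (tt N298 (iv D412)) (tt N490 D523) (tt N380 F2009) (tt N380 F2010))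
theorem Q382 : ∀ i, i < 382 → P i := stepQ 381 Q381 (allL N381 (tt N381 F2011) (tt N306 F2012) (tt N490 (iv F2519)) (tt N487 (iv F2489)) (tt N310 F2013) (tt N449 (iv F2506)) (tt N299 (iv D413)) (tt N381 F2014) (tt N381 F2015))
theorem Q383 : ∀ i, i < 383 → P i := stepQ 382 Q382 (allL N382 (tt N415 F2069) (tt N491 D540) (tt N300 (iv D425)) (tt N382 F2070) (tt N492 D541) (tt N382 F2071) (tt N457 (iv F2583)) (tt N382 F2072) (tt N301 F2073))
theorem Q384 : ∀ i, i < 384 → P i := stepQ 383 Q383 (allL N383 (tt N416 F2074) (tt N479 (iv F2434)) (tt N492 (iv F2606)) (tt N383 F2075) (tt N300 (iv D426)) (tt N493 D542) (tt N458 (iv F2588)) (tt N383 F2076) (tt N302 F2077))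
theorem Q385 : ∀ i, i < 385 → P i := stepQ 384 Q384 (allL N384 (tt N494 D543) (tt N301 (iv D427)) (tt N480 (iv F2438)) (tt N384 F2078) (tt N495 D544) (tt N384 F2079) (tt N459 (iv F2592)) (tt N303 F2080) (tt N491 (iv F2604)))
theorem Q386 : ∀ i, i < 386 → P i := stepQ 385 Q385 (allL N385 (tt N418 F2081) (tt N495 (iv F2618)) (tt N302 F2082) (tt N496 D545) (tt N301 (iv D428)) (tt N497 D546) (tt N460 (iv F2596)) (tt N304 F2083) (tt N492 (iv F2608)))
theorem Q387 : ∀ i, i < 387 → P i := stepQ 386 Q386 (allL N386 (tt N419 F2084) (tt N482 (iv F2445)) (tt N497 (iv F2625)) (tt N386 F2085) (tt N386 F2086) (tt N302 (iv D429)) (tt N498 D547) (tt N305 F2087) (tt N493 (iv F2613)))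
theorem Q388 : ∀ i, i < 388 → P i := stepQ 387 Q387 (allL N387 (tt N303 (iv D435)) (tt N420 F2108) (tt N483 (iv F2472)) (tt N307 F2109) (tt N499 D555) (tt N387 F2110) (tt N465 (iv F2646)) (tt N494 (iv F2617)) (tt N387 F2111))
theorem Q389 : ∀ i, i < 389 → P i := stepQ 388 Q388 (allL N388 (tt N499 (iv F2660)) (tt N304 F2112) (tt N484 (iv F2477)) (tt N388 F2113) (tt N303 (iv D436)) (tt N500 D556) (tt N466 (iv F2650)) (tt N495 (iv F2619)) (tt N388 F2114))
theorem Q390 : ∀ i, i < 390 → P i := stepQ 389 Q389 (allL N389 (tt N422 F2115) (tt N500 (iv F2664)) (tt N305 F2116) (tt N389 F2117) (tt N389 F2118) (tt N304 (iv D437)) (tt N501 D557) (tt N497 (iv F2627)) (tt N389 F2119))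
theorem Q391 : ∀ i, i < 391 → P i := stepQ 390 Q390 (allL N390 (tt N423 F2120) (tt N487 (iv F2488)) (tt N501 (iv F2669)) (tt N306 F2121) (tt N390 F2122) (tt N468 (iv F2658)) (tt N305 (iv D438)) (tt N498 (iv F2631)) (tt N390 F2123))
theorem Q392 : ∀ i, i < 392 → P i := stepQ 391 Q391 (allL N391 (tt N391 F2016) (tt N391 F2017) (tt N391 F2018) (tt N309 F2019) (tt N474 (iv F3277)) (tt N308 (iv D414)) (tt N502 D525) (tt N473 (iv F3278)) (tt N391 F2020))
theorem Q393 : ∀ i, i < 393 → P i := stepQ 392 Q392 (allL N392 (tt N392 F2021) (tt N392 F2022) (tt N392 F2023) (tt N392 F2024) (tt N392 F2025) (tt N473 F3281) (tt N392 F2026) (tt N308 (iv D415)) (tt N472 (iv F3283)))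
theorem Q394 : ∀ i, i < 394 → P i := stepQ 393 Q393 (allL N393 (tt N393 F2027) (tt N393 F2028) (tt N310 F2029) (tt N502 (iv F2531)) (tt N490 (iv F2520)) (tt N393 F2030) (tt N309 (iv D416)) (tt N393 F2031) (tt N393 F2032))
theorem Q395 : ∀ i, i < 395 → P i := stepQ 394 Q394 (allL N394 (tt N394 F1416) (tt N503 D355) (tt N311 (iv D285)) (tt N394 F1417) (tt N504 D356) (tt N312 F1418) (tt N394 F1419) (tt N394 F1420) (tt N394 F1421))
theorem Q396 : ∀ i, i < 396 → P i := stepQ 395 Q395 (allL N395 (tt N395 F1422) (tt N325 (iv F1513)) (tt N504 (iv F1752)) (tt N395 F1423) (tt N311 (iv D286)) (tt N395 F1424) (tt N395 F1425) (tt N395 F1426) (tt N395 F1427))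
theorem Q397 : ∀ i, i < 397 → P i := stepQ 396 Q396 (allL N396 (tt N505 D357) (tt N312 (iv D287)) (tt N326 (iv F1519)) (tt N396 F1428) (tt N396 F1429) (tt N503 (iv F1747)) (tt N313 F1430) (tt N396 F1431) (tt N396 F1432))
theorem Q398 : ∀ i, i < 398 → P i := stepQ 397 Q397 (allL N397 (tt N313 (iv D288)) (tt N397 F1433) (tt N334 (iv F1524)) (tt N397 F1434) (tt N397 F1435) (tt N397 F1436) (tt N505 (iv F1760)) (tt N397 F1437) (tt N397 F1438))
theorem Q399 : ∀ i, i < 399 → P i := stepQ 398 Q398 (allL N398 (tt N352 (iv F2033)) (tt N398 F1763) (tt N506 D446) (tt N314 (iv D358)) (tt N398 F1764) (tt N398 F1765) (tt N398 F1766) (tt N398 F1767) (tt N507 D447))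
theorem Q400 : ∀ i, i < 400 → P i := stepQ 399 Q399 (allL N399 (tt N353 (iv F2038)) (tt N399 F1768) (tt N399 F1769) (tt N507 (iv F2170)) (tt N316 F1770) (tt N399 F1771) (tt N399 F1772) (tt N508 D448) (tt N314 (iv D359)))
theorem Q401 : ∀ i, i < 401 → P i := stepQ 400 Q400 (allL N400 (tt N354 (iv F2043)) (tt N400 F1773) (tt N400 F1774) (tt N509 D449) (tt N317 F1775) (tt N400 F1776) (tt N400 F1777) (tt N315 (iv D360)) (tt N508 (iv F2179)))
theorem Q402 : ∀ i, i < 402 → P i := stepQ 401 Q401 (allL N401 (tt N355 (iv F2048)) (tt N401 F1778) (tt N401 F1779) (tt N510 D450) (tt N508 (iv F2176)) (tt N318 F1780) (tt N401 F1781) (tt N316 (iv D361)) (tt N317 F1782))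
theorem Q403 : ∀ i, i < 403 → P i := stepQ 402 Q402 (allL N402 (tt N356 (iv F2053)) (tt N402 F1783) (tt N511 D451) (tt N317 (iv D362)) (tt N512 D452) (tt N319 F1784) (tt N402 F1785) (tt N320 F1786) (tt N510 (iv F2188)))
theorem Q404 : ∀ i, i < 404 → P i := stepQ 403 Q403 (allL N403 (tt N357 (iv F2057)) (tt N403 F1787) (tt N513 D453) (tt N318 (iv D363)) (tt N514 D454) (tt N510 (iv F2185)) (tt N327 F1788) (tt N403 F1789) (tt N319 F1790))
theorem Q405 : ∀ i, i < 405 → P i := stepQ 404 Q404 (allL N404 (tt N358 (iv F2061)) (tt N515 D455) (tt N319 (iv D364)) (tt N404 F1791) (tt N516 D456) (tt N511 (iv F2190)) (tt N328 F1792) (tt N321 F1793) (tt N513 (iv F2199)))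
theorem Q406 : ∀ i, i < 406 → P i := stepQ 405 Q405 (allL N405 (tt N359 (iv F2065)) (tt N405 F1794) (tt N516 (iv F2209)) (tt N405 F1795) (tt N319 (iv D365)) (tt N517 D457) (tt N329 F1796) (tt N322 F1797) (tt N514 (iv F2204)))
theorem Q407 : ∀ i, i < 407 → P i := stepQ 406 Q406 (allL N406 (tt N360 (iv F2088)) (tt N518 D466) (tt N320 (iv D371)) (tt N324 F1816) (tt N519 D467) (tt N321 F1817) (tt N406 F1818) (tt N511 (iv F2192)) (tt N406 F1819))
theorem Q408 : ∀ i, i < 408 → P i := stepQ 407 Q407 (allL N407 (tt N361 (iv F2093)) (tt N407 F1820) (tt N519 (iv F2250)) (tt N407 F1821) (tt N320 (iv D372)) (tt N520 D468) (tt N407 F1822) (tt N512 (iv F2195)) (tt N407 F1823))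
theorem Q409 : ∀ i, i < 409 → P i := stepQ 408 Q408 (allL N408 (tt N521 D469) (tt N321 (iv D373)) (tt N408 F1824) (tt N326 F1825) (tt N522 D470) (tt N518 (iv F2247)) (tt N330 F1826) (tt N515 (iv F2208)) (tt N408 F1827))
theorem Q410 : ∀ i, i < 410 → P i := stepQ 409 Q409 (allL N409 (tt N363 (iv F2100)) (tt N522 (iv F2261)) (tt N322 F1828) (tt N409 F1829) (tt N321 (iv D374)) (tt N523 D471) (tt N331 F1830) (tt N516 (iv F2211)) (tt N409 F1831))
theorem Q411 : ∀ i, i < 411 → P i := stepQ 410 Q410 (allL N410 (tt N364 (iv F2105)) (tt N410 F1832) (tt N523 (iv F2266)) (tt N323 F1833) (tt N520 (iv F2255)) (tt N322 (iv D375)) (tt N524 D472) (tt N517 (iv F2214)) (tt N410 F1834))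
theorem Q412 : ∀ i, i < 412 → P i := stepQ 411 Q411 (allL N411 (tt N365 (iv F2124)) (tt N411 F1851) (tt N411 F1852) (tt N524 (iv F2270)) (tt N411 F1853) (tt N333 F1854) (tt N323 (iv D380)) (tt N411 F1855) (tt N411 F1856))
theorem Q413 : ∀ i, i < 413 → P i := stepQ 412 Q412 (allL N412 (tt N525 D476) (tt N324 (iv D381)) (tt N503 F1857) (tt N518 (iv F2246)) (tt N526 D477) (tt N326 F1858) (tt N412 F1859) (tt N412 F1860) (tt N412 F1861))
theorem Q414 : ∀ i, i < 414 → P i := stepQ 413 Q413 (allL N413 (tt N367 (iv F2135)) (tt N526 (iv F2291)) (tt N325 F1862) (tt N527 D478) (tt N324 (iv D382)) (tt N413 F1863) (tt N413 F1864) (tt N413 F1865) (tt N413 F1866))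
theorem Q415 : ∀ i, i < 415 → P i := stepQ 414 Q414 (allL N414 (tt N326 (iv D383)) (tt N368 (iv F2141)) (tt N505 F1867) (tt N521 (iv F2258)) (tt N414 F1868) (tt N525 (iv F2287)) (tt N334 F1869) (tt N414 F1870) (tt N414 F1871))
theorem Q416 : ∀ i, i < 416 → P i := stepQ 415 Q415 (allL N415 (tt N382 (iv F2069)) (tt N528 D458) (tt N327 (iv D366)) (tt N415 F1798) (tt N529 D459) (tt N415 F1799) (tt N513 (iv F2197)) (tt N415 F1800) (tt N328 F1801))
theorem Q417 : ∀ i, i < 417 → P i := stepQ 416 Q416 (allL N416 (tt N383 (iv F2074)) (tt N416 F1802) (tt N529 (iv F2220)) (tt N416 F1803) (tt N327 (iv D367)) (tt N530 D460) (tt N514 (iv F2202)) (tt N416 F1804) (tt N329 F1805))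
theorem Q418 : ∀ i, i < 418 → P i := stepQ 417 Q417 (allL N417 (tt N531 D461) (tt N328 (iv D368)) (tt N417 F1806) (tt N417 F1807) (tt N532 D462) (tt N417 F1808) (tt N515 (iv F2207)) (tt N330 F1809) (tt N528 (iv F2219)))
theorem Q419 : ∀ i, i < 419 → P i := stepQ 418 Q418 (allL N418 (tt N385 (iv F2081)) (tt N532 (iv F2232)) (tt N329 F1810) (tt N533 D463) (tt N328 (iv D369)) (tt N534 D464) (tt N516 (iv F2210)) (tt N331 F1811) (tt N529 (iv F2222)))
theorem Q420 : ∀ i, i < 420 → P i := stepQ 419 Q419 (allL N419 (tt N386 (iv F2084)) (tt N419 F1812) (tt N534 (iv F2238)) (tt N419 F1813) (tt N419 F1814) (tt N329 (iv D370)) (tt N535 D465) (tt N332 F1815) (tt N530 (iv F2227)))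
theorem Q421 : ∀ i, i < 421 → P i := stepQ 420 Q420 (allL N420 (tt N330 (iv D376)) (tt N387 (iv F2108)) (tt N420 F1835) (tt N334 F1836) (tt N536 D473) (tt N420 F1837) (tt N521 (iv F2259)) (tt N531 (iv F2231)) (tt N420 F1838))
theorem Q422 : ∀ i, i < 422 → P i := stepQ 421 Q421 (allL N421 (tt N536 (iv F2273)) (tt N331 F1839) (tt N421 F1840) (tt N421 F1841) (tt N330 (iv D377)) (tt N537 D474) (tt N522 (iv F2264)) (tt N532 (iv F2234)) (tt N421 F1842))
theorem Q423 : ∀ i, i < 423 → P i := stepQ 422 Q422 (allL N422 (tt N389 (iv F2115)) (tt N537 (iv F2277)) (tt N332 F1843) (tt N422 F1844) (tt N422 F1845) (tt N331 (iv D378)) (tt N538 D475) (tt N534 (iv F2240)) (tt N422 F1846))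
theorem Q424 : ∀ i, i < 424 → P i := stepQ 423 Q423 (allL N423 (tt N390 (iv F2120)) (tt N423 F1847) (tt N538 (iv F2282)) (tt N333 F1848) (tt N423 F1849) (tt N524 (iv F2271)) (tt N332 (iv D379)) (tt N535 (iv F2244)) (tt N423 F1850))
theorem Q425 : ∀ i, i < 425 → P i := stepQ 424 Q424 (allL N424 (tt N424 F2301) (tt N424 F2302) (tt N424 F2303) (tt N335 (iv D479)) (tt N424 F2304) (tt N424 F2305) (tt N424 F2306) (tt N424 F2307) (tt N539 D603))
theorem Q426 : ∀ i, i < 426 → P i := stepQ 425 Q425 (allL N425 (tt N425 F2308) (tt N425 F2309) (tt N341 F2310) (tt N425 F2311) (tt N336 F2312) (tt N425 F2313) (tt N425 F2314) (tt N335 (iv D480)) (tt N540 D604))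
theorem Q427 : ∀ i, i < 427 → P i := stepQ 426 Q426 (allL N426 (tt N426 F2315) (tt N426 F2316) (tt N342 F2317) (tt N539 (iv F2882)) (tt N337 F2318) (tt N426 F2319) (tt N426 F2320) (tt N541 D605) (tt N335 (iv D481)))
theorem Q428 : ∀ i, i < 428 → P i := stepQ 427 Q427 (allL N427 (tt N427 F2321) (tt N427 F2322) (tt N427 F2323) (tt N336 (iv D482)) (tt N427 F2324) (tt N338 F2325) (tt N427 F2326) (tt N427 F2327) (tt N542 D606))
theorem Q429 : ∀ i, i < 429 → P i := stepQ 428 Q428 (allL N428 (tt N428 F2328) (tt N428 F2329) (tt N343 F2330) (tt N542 (iv F2902)) (tt N540 (iv F2890)) (tt N339 F2331) (tt N428 F2332) (tt N543 D607) (tt N336 (iv D483)))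
theorem Q430 : ∀ i, i < 430 → P i := stepQ 429 Q429 (allL N429 (tt N429 F2333) (tt N429 F2334) (tt N344 F2335) (tt N544 D608) (tt N541 (iv F2896)) (tt N340 F2336) (tt N429 F2337) (tt N337 (iv D484)) (tt N543 (iv F2911)))
theorem Q431 : ∀ i, i < 431 → P i := stepQ 430 Q430 (allL N430 (tt N430 F2338) (tt N430 F2339) (tt N430 F2340) (tt N430 F2341) (tt N338 (iv D485)) (tt N430 F2342) (tt N369 F2343) (tt N430 F2344) (tt N545 D609))
theorem Q432 : ∀ i, i < 432 → P i := stepQ 431 Q431 (allL N431 (tt N431 F2345) (tt N431 F2346) (tt N431 F2347) (tt N339 F2348) (tt N545 (iv F2921)) (tt N542 (iv F2904)) (tt N370 F2349) (tt N546 D610) (tt N338 (iv D486)))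
theorem Q433 : ∀ i, i < 433 → P i := stepQ 432 Q432 (allL N432 (tt N432 F2350) (tt N432 F2351) (tt N345 F2352) (tt N547 D611) (tt N432 F2353) (tt N543 (iv F2909)) (tt N371 F2354) (tt N339 (iv D487)) (tt N340 F2355))
theorem Q434 : ∀ i, i < 434 → P i := stepQ 433 Q433 (allL N433 (tt N433 F2356) (tt N433 F2357) (tt N548 D612) (tt N340 (iv D488)) (tt N549 D613) (tt N544 (iv F2914)) (tt N372 F2358) (tt N433 F2359) (tt N547 (iv F2932)))
theorem Q435 : ∀ i, i < 435 → P i := stepQ 434 Q434 (allL N434 (tt N434 F2389) (tt N352 F2390) (tt N434 F2391) (tt N341 (iv D495)) (tt N434 F2392) (tt N434 F2393) (tt N434 F2394) (tt N434 F2395) (tt N550 D622))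
theorem Q436 : ∀ i, i < 436 → P i := stepQ 435 Q435 (allL N435 (tt N435 F2396) (tt N353 F2397) (tt N540 (iv F2888)) (tt N550 (iv F2982)) (tt N343 F2398) (tt N435 F2399) (tt N435 F2400) (tt N551 D623) (tt N341 (iv D496)))
theorem Q437 : ∀ i, i < 437 → P i := stepQ 436 Q436 (allL N436 (tt N436 F2401) (tt N354 F2402) (tt N541 (iv F2895)) (tt N552 D624) (tt N344 F2403) (tt N436 F2404) (tt N436 F2405) (tt N342 (iv D497)) (tt N551 (iv F2991)))
theorem Q438 : ∀ i, i < 438 → P i := stepQ 437 Q437 (allL N437 (tt N437 F2406) (tt N355 F2407) (tt N543 (iv F2908)) (tt N553 D625) (tt N551 (iv F2988)) (tt N345 F2408) (tt N437 F2409) (tt N343 (iv D498)) (tt N344 F2410))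
theorem Q439 : ∀ i, i < 439 → P i := stepQ 438 Q438 (allL N438 (tt N438 F2411) (tt N356 F2412) (tt N554 D626) (tt N344 (iv D499)) (tt N555 D627) (tt N346 F2413) (tt N438 F2414) (tt N347 F2415) (tt N553 (iv F3002)))
theorem Q440 : ∀ i, i < 440 → P i := stepQ 439 Q439 (allL N439 (tt N439 F2416) (tt N357 F2417) (tt N556 D628) (tt N345 (iv D500)) (tt N557 D629) (tt N553 (iv F2999)) (tt N373 F2418) (tt N439 F2419) (tt N346 F2420))
theorem Q441 : ∀ i, i < 441 → P i := stepQ 440 Q440 (allL N440 (tt N440 F2421) (tt N558 D630) (tt N346 (iv D501)) (tt N548 (iv F2934)) (tt N559 D631) (tt N554 (iv F3004)) (tt N374 F2422) (tt N348 F2423) (tt N556 (iv F3014)))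
theorem Q442 : ∀ i, i < 442 → P i := stepQ 441 Q441 (allL N441 (tt N441 F2424) (tt N359 F2425) (tt N559 (iv F3025)) (tt N441 F2426) (tt N346 (iv D502)) (tt N560 D632) (tt N375 F2427) (tt N349 F2428) (tt N557 (iv F3020)))
theorem Q443 : ∀ i, i < 443 → P i := stepQ 442 Q442 (allL N442 (tt N442 F2449) (tt N561 D641) (tt N347 (iv D508)) (tt N442 F2450) (tt N562 D642) (tt N348 F2451) (tt N442 F2452) (tt N554 (iv F3006)) (tt N442 F2453))
theorem Q444 : ∀ i, i < 444 → P i := stepQ 443 Q443 (allL N443 (tt N443 F2454) (tt N361 F2455) (tt N562 (iv F3070)) (tt N443 F2456) (tt N347 (iv D509)) (tt N563 D643) (tt N443 F2457) (tt N555 (iv F3010)) (tt N443 F2458))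
theorem Q445 : ∀ i, i < 445 → P i := stepQ 444 Q444 (allL N444 (tt N564 D644) (tt N348 (iv D510)) (tt N362 F2459) (tt N444 F2460) (tt N565 D645) (tt N561 (iv F3066)) (tt N376 F2461) (tt N558 (iv F3023)) (tt N444 F2462))
theorem Q446 : ∀ i, i < 446 → P i := stepQ 445 Q445 (allL N445 (tt N445 F2463) (tt N565 (iv F3083)) (tt N349 F2464) (tt N566 D646) (tt N348 (iv D511)) (tt N567 D647) (tt N377 F2465) (tt N559 (iv F3027)) (tt N445 F2466))
theorem Q447 : ∀ i, i < 447 → P i := stepQ 446 Q446 (allL N446 (tt N446 F2467) (tt N364 F2468) (tt N567 (iv F3093)) (tt N351 F2469) (tt N563 (iv F3076)) (tt N349 (iv D512)) (tt N568 D648) (tt N560 (iv F3031)) (tt N446 F2470))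
theorem Q448 : ∀ i, i < 448 → P i := stepQ 447 Q447 (allL N447 (tt N447 F2492) (tt N447 F2493) (tt N566 (iv F3088)) (tt N350 (iv D518)) (tt N447 F2494) (tt N569 D655) (tt N379 F2495) (tt N570 D656) (tt N447 F2496))
theorem Q449 : ∀ i, i < 449 → P i := stepQ 448 Q448 (allL N448 (tt N448 F2497) (tt N448 F2498) (tt N351 F2499) (tt N569 (iv F3125)) (tt N448 F2500) (tt N350 (iv D519)) (tt N571 D657) (tt N448 F2501) (tt N448 F2502))
theorem Q450 : ∀ i, i < 450 → P i := stepQ 449 Q449 (allL N449 (tt N449 F2503) (tt N365 F2504) (tt N571 (iv F3134)) (tt N568 (iv F3097)) (tt N449 F2505) (tt N381 F2506) (tt N351 (iv D520)) (tt N449 F2507) (tt N449 F2508))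
theorem Q451 : ∀ i, i < 451 → P i := stepQ 450 Q450 (allL N450 (tt N506 F2546) (tt N450 F2547) (tt N352 (iv D528)) (tt N450 F2548) (tt N450 F2549) (tt N450 F2550) (tt N450 F2551) (tt N450 F2552) (tt N572 D666))
theorem Q452 : ∀ i, i < 452 → P i := stepQ 451 Q451 (allL N451 (tt N507 F2553) (tt N550 (iv F2980)) (tt N572 (iv F3181)) (tt N353 F2554) (tt N451 F2555) (tt N451 F2556) (tt N451 F2557) (tt N573 D667) (tt N352 (iv D529)))
theorem Q453 : ∀ i, i < 453 → P i := stepQ 452 Q452 (allL N452 (tt N508 F2558) (tt N551 (iv F2987)) (tt N452 F2559) (tt N574 D668) (tt N355 F2560) (tt N452 F2561) (tt N452 F2562) (tt N353 (iv D530)) (tt N354 F2563))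
theorem Q454 : ∀ i, i < 454 → P i := stepQ 453 Q453 (allL N453 (tt N509 F2564) (tt N552 (iv F2993)) (tt N575 D669) (tt N354 (iv D531)) (tt N576 D670) (tt N453 F2565) (tt N453 F2566) (tt N453 F2567) (tt N574 (iv F3194)))
theorem Q455 : ∀ i, i < 455 → P i := stepQ 454 Q454 (allL N454 (tt N510 F2568) (tt N553 (iv F2998)) (tt N577 D671) (tt N355 (iv D532)) (tt N578 D672) (tt N357 F2569) (tt N454 F2570) (tt N454 F2571) (tt N356 F2572))
theorem Q456 : ∀ i, i < 456 → P i := stepQ 455 Q455 (allL N455 (tt N511 F2573) (tt N579 D673) (tt N356 (iv D533)) (tt N455 F2574) (tt N580 D674) (tt N358 F2575) (tt N455 F2576) (tt N360 F2577) (tt N577 (iv F3209)))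
theorem Q457 : ∀ i, i < 457 → P i := stepQ 456 Q456 (allL N456 (tt N512 F2578) (tt N555 (iv F3008)) (tt N580 (iv F3219)) (tt N576 (iv F3201)) (tt N356 (iv D534)) (tt N581 D675) (tt N456 F2579) (tt N361 F2580) (tt N578 (iv F3213)))
theorem Q458 : ∀ i, i < 458 → P i := stepQ 457 Q457 (allL N457 (tt N513 F2581) (tt N582 D676) (tt N357 (iv D535)) (tt N457 F2582) (tt N583 D677) (tt N577 (iv F3206)) (tt N382 F2583) (tt N457 F2584) (tt N358 F2585))
theorem Q459 : ∀ i, i < 459 → P i := stepQ 458 Q458 (allL N458 (tt N514 F2586) (tt N557 (iv F3016)) (tt N583 (iv F3230)) (tt N458 F2587) (tt N357 (iv D536)) (tt N584 D678) (tt N383 F2588) (tt N458 F2589) (tt N359 F2590))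
theorem Q460 : ∀ i, i < 460 → P i := stepQ 459 Q459 (allL N459 (tt N585 D679) (tt N358 (iv D537)) (tt N558 (iv F3021)) (tt N459 F2591) (tt N586 D680) (tt N579 (iv F3215)) (tt N384 F2592) (tt N362 F2593) (tt N582 (iv F3228)))
theorem Q461 : ∀ i, i < 461 → P i := stepQ 460 Q460 (allL N460 (tt N516 F2594) (tt N586 (iv F3242)) (tt N359 F2595) (tt N587 D681) (tt N358 (iv D538)) (tt N588 D682) (tt N385 F2596) (tt N363 F2597) (tt N583 (iv F3233)))
theorem Q462 : ∀ i, i < 462 → P i := stepQ 461 Q461 (allL N461 (tt N517 F2598) (tt N560 (iv F3029)) (tt N588 (iv F3251)) (tt N461 F2599) (tt N581 (iv F3223)) (tt N359 (iv D539)) (tt N589 D683) (tt N364 F2600) (tt N584 (iv F3237)))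
theorem Q463 : ∀ i, i < 463 → P i := stepQ 462 Q462 (allL N462 (tt N590 D694) (tt N360 (iv D548)) (tt N561 (iv F3064)) (tt N366 F2632) (tt N591 D695) (tt N362 F2633) (tt N462 F2634) (tt N579 (iv F3217)) (tt N462 F2635))
theorem Q464 : ∀ i, i < 464 → P i := stepQ 463 Q463 (allL N463 (tt N519 F2636) (tt N591 (iv F3316)) (tt N361 F2637) (tt N592 D696) (tt N360 (iv D549)) (tt N593 D697) (tt N463 F2638) (tt N580 (iv F3221)) (tt N463 F2639))
theorem Q465 : ∀ i, i < 465 → P i := stepQ 464 Q464 (allL N464 (tt N520 F2640) (tt N563 (iv F3074)) (tt N593 (iv F3325)) (tt N464 F2641) (tt N364 F2642) (tt N361 (iv D550)) (tt N594 D698) (tt N581 (iv F3224)) (tt N464 F2643))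
theorem Q466 : ∀ i, i < 466 → P i := stepQ 465 Q465 (allL N465 (tt N362 (iv D551)) (tt N521 F2644) (tt N564 (iv F3079)) (tt N368 F2645) (tt N595 D699) (tt N590 (iv F3313)) (tt N387 F2646) (tt N585 (iv F3241)) (tt N465 F2647))
theorem Q467 : ∀ i, i < 467 → P i := stepQ 466 Q466 (allL N466 (tt N595 (iv F3333)) (tt N363 F2648) (tt N565 (iv F3084)) (tt N466 F2649) (tt N362 (iv D552)) (tt N596 D700) (tt N388 F2650) (tt N586 (iv F3244)) (tt N466 F2651))
theorem Q468 : ∀ i, i < 468 → P i := stepQ 467 Q467 (allL N467 (tt N523 F2652) (tt N596 (iv F3338)) (tt N364 F2653) (tt N467 F2654) (tt N593 (iv F3326)) (tt N363 (iv D553)) (tt N597 D701) (tt N588 (iv F3252)) (tt N467 F2655))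
theorem Q469 : ∀ i, i < 469 → P i := stepQ 468 Q468 (allL N468 (tt N524 F2656) (tt N568 (iv F3096)) (tt N597 (iv F3342)) (tt N365 F2657) (tt N594 (iv F3330)) (tt N390 F2658) (tt N364 (iv D554)) (tt N589 (iv F3256)) (tt N468 F2659))
theorem Q470 : ∀ i, i < 470 → P i := stepQ 469 Q469 (allL N469 (tt N366 (iv D558)) (tt N525 F2673) (tt N469 F2674) (tt N590 (iv F3312)) (tt N598 D704) (tt N368 F2675) (tt N469 F2676) (tt N469 F2677) (tt N469 F2678))
theorem Q471 : ∀ i, i < 471 → P i := stepQ 470 Q470 (allL N470 (tt N598 (iv F3355)) (tt N367 F2679) (tt N470 F2680) (tt N599 D705) (tt N366 (iv D559)) (tt N470 F2681) (tt N470 F2682) (tt N470 F2683) (tt N470 F2684))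
theorem Q472 : ∀ i, i < 472 → P i := stepQ 471 Q471 (allL N471 (tt N527 F2685) (tt N599 (iv F3362)) (tt N471 F2686) (tt N367 (iv D560)) (tt N592 (iv F3321)) (tt N471 F2687) (tt N471 F2688) (tt N600 D706) (tt N471 F2689))
theorem Q473 : ∀ i, i < 473 → P i := stepQ 472 Q472 (allL N472 (tt N472 F2360) (tt N472 F2361) (tt N472 F2362) (tt N472 F2363) (tt N472 F2364) (tt N369 (iv D489)) (tt N472 F2365) (tt N472 F2366) (tt N392 F3283))
theorem Q474 : ∀ i, i < 474 → P i := stepQ 473 Q473 (allL N473 (tt N473 F2367) (tt N473 F2368) (tt N473 F2369) (tt N473 F2370) (tt N370 F2371) (tt N392 (iv F3281)) (tt N545 (iv F2923)) (tt N391 F3278) (tt N369 (iv D490)))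
theorem Q475 : ∀ i, i < 475 → P i := stepQ 474 Q474 (allL N474 (tt N474 F2372) (tt N474 F2373) (tt N474 F2374) (tt N601 D616) (tt N391 F3277) (tt N474 F2375) (tt N546 (iv F2927)) (tt N370 (iv D491)) (tt N474 F2376))
theorem Q476 : ∀ i, i < 476 → P i := stepQ 475 Q475 (allL N475 (tt N475 F2377) (tt N475 F2378) (tt N602 D617) (tt N371 (iv D492)) (tt N603 D618) (tt N475 F2379) (tt N547 (iv F2931)) (tt N601 (iv F2957)) (tt N372 F2380))
theorem Q477 : ∀ i, i < 477 → P i := stepQ 476 Q476 (allL N476 (tt N476 F2381) (tt N604 D619) (tt N372 (iv D493)) (tt N374 F2382) (tt N605 D620) (tt N476 F2383) (tt N548 (iv F2935)) (tt N476 F2384) (tt N602 (iv F2962)))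
theorem Q478 : ∀ i, i < 478 → P i := stepQ 477 Q477 (allL N477 (tt N477 F2385) (tt N477 F2386) (tt N605 (iv F2972)) (tt N477 F2387) (tt N372 (iv D494)) (tt N606 D621) (tt N549 (iv F2940)) (tt N477 F2388) (tt N603 (iv F2966)))
theorem Q479 : ∀ i, i < 479 → P i := stepQ 478 Q478 (allL N478 (tt N478 F2429) (tt N607 D633) (tt N373 (iv D503)) (tt N602 (iv F2960)) (tt N608 D634) (tt N478 F2430) (tt N556 (iv F3012)) (tt N478 F2431) (tt N374 F2432))
theorem Q480 : ∀ i, i < 480 → P i := stepQ 479 Q479 (allL N479 (tt N479 F2433) (tt N383 F2434) (tt N608 (iv F3037)) (tt N479 F2435) (tt N373 (iv D504)) (tt N609 D635) (tt N557 (iv F3018)) (tt N479 F2436) (tt N375 F2437))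
theorem Q481 : ∀ i, i < 481 → P i := stepQ 480 Q480 (allL N480 (tt N610 D636) (tt N374 (iv D505)) (tt N384 F2438) (tt N604 (iv F2968)) (tt N611 D637) (tt N480 F2439) (tt N558 (iv F3022)) (tt N376 F2440) (tt N607 (iv F3035)))
theorem Q482 : ∀ i, i < 482 → P i := stepQ 481 Q481 (allL N481 (tt N481 F2441) (tt N611 (iv F3050)) (tt N375 F2442) (tt N612 D638) (tt N374 (iv D506)) (tt N613 D639) (tt N559 (iv F3026)) (tt N377 F2443) (tt N608 (iv F3039)))
theorem Q483 : ∀ i, i < 483 → P i := stepQ 482 Q482 (allL N482 (tt N482 F2444) (tt N386 F2445) (tt N613 (iv F3056)) (tt N482 F2446) (tt N482 F2447) (tt N375 (iv D507)) (tt N614 D640) (tt N378 F2448) (tt N609 (iv F3045)))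
theorem Q484 : ∀ i, i < 484 → P i := stepQ 483 Q483 (allL N483 (tt N376 (iv D513)) (tt N483 F2471) (tt N387 F2472) (tt N483 F2473) (tt N615 D649) (tt N483 F2474) (tt N564 (iv F3081)) (tt N610 (iv F3049)) (tt N483 F2475))
theorem Q485 : ∀ i, i < 485 → P i := stepQ 484 Q484 (allL N484 (tt N615 (iv F3100)) (tt N377 F2476) (tt N388 F2477) (tt N616 D650) (tt N376 (iv D514)) (tt N617 D651) (tt N565 (iv F3085)) (tt N611 (iv F3052)) (tt N484 F2478))
theorem Q486 : ∀ i, i < 486 → P i := stepQ 485 Q485 (allL N485 (tt N485 F2479) (tt N616 (iv F3104)) (tt N379 F2480) (tt N377 (iv D515)) (tt N485 F2481) (tt N618 D652) (tt N566 (iv F3090)) (tt N619 D653) (tt N485 F2482))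
theorem Q487 : ∀ i, i < 487 → P i := stepQ 486 Q486 (allL N486 (tt N486 F2483) (tt N617 (iv F3108)) (tt N378 F2484) (tt N618 (iv F3114)) (tt N486 F2485) (tt N377 (iv D516)) (tt N620 D654) (tt N613 (iv F3058)) (tt N486 F2486))
theorem Q488 : ∀ i, i < 488 → P i := stepQ 487 Q487 (allL N487 (tt N487 F2487) (tt N390 F2488) (tt N620 (iv F3120)) (tt N381 F2489) (tt N487 F2490) (tt N568 (iv F3098)) (tt N378 (iv D517)) (tt N614 (iv F3063)) (tt N487 F2491))
theorem Q489 : ∀ i, i < 489 → P i := stepQ 488 Q488 (allL N488 (tt N488 F2509) (tt N488 F2510) (tt N618 (iv F3113)) (tt N380 F2511) (tt N601 (iv F3279)) (tt N379 (iv D521)) (tt N621 D659) (tt N603 (iv F3285)) (tt N488 F2512))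
theorem Q490 : ∀ i, i < 490 → P i := stepQ 489 Q489 (allL N489 (tt N489 F2513) (tt N489 F2514) (tt N619 (iv F3117)) (tt N489 F2515) (tt N489 F2516) (tt N603 (iv F3284)) (tt N570 (iv F3131)) (tt N379 (iv D522)) (tt N606 (iv F3286)))
theorem Q491 : ∀ i, i < 491 → P i := stepQ 490 Q490 (allL N490 (tt N490 F2517) (tt N490 F2518) (tt N381 F2519) (tt N621 (iv F3146)) (tt N393 F2520) (tt N571 (iv F3136)) (tt N380 (iv D523)) (tt N490 F2521) (tt N490 F2522))
theorem Q492 : ∀ i, i < 492 → P i := stepQ 491 Q491 (allL N491 (tt N622 D684) (tt N382 (iv D540)) (tt N607 (iv F3032)) (tt N491 F2601) (tt N623 D685) (tt N491 F2602) (tt N582 (iv F3226)) (tt N491 F2603) (tt N384 F2604))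
theorem Q493 : ∀ i, i < 493 → P i := stepQ 492 Q492 (allL N492 (tt N529 F2605) (tt N623 (iv F3262)) (tt N383 F2606) (tt N624 D686) (tt N382 (iv D541)) (tt N625 D687) (tt N583 (iv F3231)) (tt N492 F2607) (tt N385 F2608))
theorem Q494 : ∀ i, i < 494 → P i := stepQ 493 Q493 (allL N493 (tt N530 F2609) (tt N609 (iv F3041)) (tt N625 (iv F3272)) (tt N493 F2610) (tt N493 F2611) (tt N383 (iv D542)) (tt N626 D688) (tt N493 F2612) (tt N386 F2613))
theorem Q495 : ∀ i, i < 495 → P i := stepQ 494 Q494 (allL N494 (tt N384 (iv D543)) (tt N531 F2614) (tt N610 (iv F3047)) (tt N494 F2615) (tt N627 D689) (tt N494 F2616) (tt N585 (iv F3240)) (tt N387 F2617) (tt N622 (iv F3261)))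
theorem Q496 : ∀ i, i < 496 → P i := stepQ 495 Q495 (allL N495 (tt N627 (iv F3292)) (tt N385 F2618) (tt N611 (iv F3051)) (tt N628 D690) (tt N384 (iv D544)) (tt N629 D691) (tt N586 (iv F3243)) (tt N388 F2619) (tt N623 (iv F3264)))
theorem Q497 : ∀ i, i < 497 → P i := stepQ 496 Q496 (allL N496 (tt N533 F2620) (tt N628 (iv F3295)) (tt N496 F2621) (tt N385 (iv D545)) (tt N496 F2622) (tt N630 D692) (tt N587 (iv F3248)) (tt N496 F2623) (tt N624 (iv F3268)))
theorem Q498 : ∀ i, i < 498 → P i := stepQ 497 Q497 (allL N497 (tt N534 F2624) (tt N629 (iv F3298)) (tt N386 F2625) (tt N630 (iv F3303)) (tt N497 F2626) (tt N385 (iv D546)) (tt N631 D693) (tt N389 F2627) (tt N625 (iv F3276)))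
theorem Q499 : ∀ i, i < 499 → P i := stepQ 498 Q498 (allL N498 (tt N535 F2628) (tt N614 (iv F3060)) (tt N631 (iv F3308)) (tt N498 F2629) (tt N498 F2630) (tt N589 (iv F3255)) (tt N386 (iv D547)) (tt N390 F2631) (tt N626 (iv F3291)))
theorem Q500 : ∀ i, i < 500 → P i := stepQ 499 Q499 (allL N499 (tt N388 F2660) (tt N536 F2661) (tt N615 (iv F3102)) (tt N499 F2662) (tt N387 (iv D555)) (tt N632 D702) (tt N595 (iv F3336)) (tt N627 (iv F3294)) (tt N499 F2663))
theorem Q501 : ∀ i, i < 501 → P i := stepQ 500 Q500 (allL N500 (tt N632 (iv F3346)) (tt N389 F2664) (tt N617 (iv F3109)) (tt N500 F2665) (tt N500 F2666) (tt N388 (iv D556)) (tt N633 D703) (tt N629 (iv F3300)) (tt N500 F2667))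
theorem Q502 : ∀ i, i < 502 → P i := stepQ 501 Q501 (allL N501 (tt N538 F2668) (tt N633 (iv F3351)) (tt N390 F2669) (tt N501 F2670) (tt N501 F2671) (tt N597 (iv F3344)) (tt N389 (iv D557)) (tt N631 (iv F3310)) (tt N501 F2672))
theorem Q503 : ∀ i, i < 503 → P i := stepQ 502 Q502 (allL N502 (tt N502 F2528) (tt N502 F2529) (tt N502 F2530) (tt N393 F2531) (tt N546 (iv F3280)) (tt N502 F2532) (tt N391 (iv D525)) (tt N545 (iv F3282)) (tt N502 F2533))
theorem Q504 : ∀ i, i < 504 → P i := stepQ 503 Q503 (allL N503 (tt N634 D443) (tt N394 (iv D355)) (tt N412 (iv F1857)) (tt N503 F1746) (tt N635 D444) (tt N396 F1747) (tt N503 F1748) (tt N503 F1749) (tt N503 F1750))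
theorem Q505 : ∀ i, i < 505 → P i := stepQ 504 Q504 (allL N504 (tt N504 F1751) (tt N635 (iv F2153)) (tt N395 F1752) (tt N636 D445) (tt N394 (iv D356)) (tt N504 F1753) (tt N504 F1754) (tt N504 F1755) (tt N504 F1756))
theorem Q506 : ∀ i, i < 506 → P i := stepQ 505 Q505 (allL N505 (tt N396 (iv D357)) (tt N505 F1757) (tt N414 (iv F1867)) (tt N505 F1758) (tt N505 F1759) (tt N634 (iv F2149)) (tt N397 F1760) (tt N505 F1761) (tt N505 F1762))
theorem Q507 : ∀ i, i < 507 → P i := stepQ 506 Q506 (allL N506 (tt N450 (iv F2546)) (tt N637 D564) (tt N398 (iv D446)) (tt N506 F2164) (tt N506 F2165) (tt N506 F2166) (tt N506 F2167) (tt N506 F2168) (tt N638 D565))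
theorem Q508 : ∀ i, i < 508 → P i := stepQ 507 Q507 (allL N507 (tt N451 (iv F2553)) (tt N507 F2169) (tt N638 (iv F2714)) (tt N399 F2170) (tt N507 F2171) (tt N507 F2172) (tt N507 F2173) (tt N639 D566) (tt N398 (iv D447)))
theorem Q509 : ∀ i, i < 509 → P i := stepQ 508 Q508 (allL N508 (tt N452 (iv F2558)) (tt N508 F2174) (tt N508 F2175) (tt N640 D567) (tt N401 F2176) (tt N508 F2177) (tt N508 F2178) (tt N399 (iv D448)) (tt N400 F2179))
theorem Q510 : ∀ i, i < 510 → P i := stepQ 509 Q509 (allL N509 (tt N453 (iv F2564)) (tt N509 F2180) (tt N641 D568) (tt N400 (iv D449)) (tt N642 D569) (tt N509 F2181) (tt N509 F2182) (tt N509 F2183) (tt N640 (iv F2727)))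
theorem Q511 : ∀ i, i < 511 → P i := stepQ 510 Q510 (allL N510 (tt N454 (iv F2568)) (tt N510 F2184) (tt N643 D570) (tt N401 (iv D450)) (tt N644 D571) (tt N403 F2185) (tt N510 F2186) (tt N510 F2187) (tt N402 F2188))
theorem Q512 : ∀ i, i < 512 → P i := stepQ 511 Q511 (allL N511 (tt N455 (iv F2573)) (tt N645 D572) (tt N402 (iv D451)) (tt N511 F2189) (tt N646 D573) (tt N404 F2190) (tt N511 F2191) (tt N406 F2192) (tt N643 (iv F2740)))
theorem Q513 : ∀ i, i < 513 → P i := stepQ 512 Q512 (allL N512 (tt N456 (iv F2578)) (tt N512 F2193) (tt N646 (iv F2750)) (tt N642 (iv F2733)) (tt N402 (iv D452)) (tt N647 D574) (tt N512 F2194) (tt N407 F2195) (tt N644 (iv F2744)))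
theorem Q514 : ∀ i, i < 514 → P i := stepQ 513 Q513 (allL N513 (tt N457 (iv F2581)) (tt N648 D575) (tt N403 (iv D453)) (tt N513 F2196) (tt N649 D576) (tt N643 (iv F2737)) (tt N415 F2197) (tt N513 F2198) (tt N404 F2199))
theorem Q515 : ∀ i, i < 515 → P i := stepQ 514 Q514 (allL N514 (tt N458 (iv F2586)) (tt N514 F2200) (tt N649 (iv F2761)) (tt N514 F2201) (tt N403 (iv D454)) (tt N650 D577) (tt N416 F2202) (tt N514 F2203) (tt N405 F2204))
theorem Q516 : ∀ i, i < 516 → P i := stepQ 515 Q515 (allL N515 (tt N651 D578) (tt N404 (iv D455)) (tt N515 F2205) (tt N515 F2206) (tt N652 D579) (tt N645 (iv F2747)) (tt N417 F2207) (tt N408 F2208) (tt N648 (iv F2760)))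
theorem Q517 : ∀ i, i < 517 → P i := stepQ 516 Q516 (allL N516 (tt N460 (iv F2594)) (tt N652 (iv F2773)) (tt N405 F2209) (tt N653 D580) (tt N404 (iv D456)) (tt N654 D581) (tt N418 F2210) (tt N409 F2211) (tt N649 (iv F2764)))
theorem Q518 : ∀ i, i < 518 → P i := stepQ 517 Q517 (allL N517 (tt N461 (iv F2598)) (tt N517 F2212) (tt N654 (iv F2781)) (tt N517 F2213) (tt N647 (iv F2754)) (tt N405 (iv D457)) (tt N655 D582) (tt N410 F2214) (tt N650 (iv F2768)))
theorem Q519 : ∀ i, i < 519 → P i := stepQ 518 Q518 (allL N518 (tt N656 D590) (tt N406 (iv D466)) (tt N518 F2245) (tt N412 F2246) (tt N657 D591) (tt N408 F2247) (tt N518 F2248) (tt N645 (iv F2749)) (tt N518 F2249))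
theorem Q520 : ∀ i, i < 520 → P i := stepQ 519 Q519 (allL N519 (tt N463 (iv F2636)) (tt N657 (iv F2826)) (tt N407 F2250) (tt N658 D592) (tt N406 (iv D467)) (tt N659 D593) (tt N519 F2251) (tt N646 (iv F2752)) (tt N519 F2252))
theorem Q521 : ∀ i, i < 521 → P i := stepQ 520 Q520 (allL N520 (tt N464 (iv F2640)) (tt N520 F2253) (tt N659 (iv F2834)) (tt N520 F2254) (tt N410 F2255) (tt N407 (iv D468)) (tt N660 D594) (tt N647 (iv F2755)) (tt N520 F2256))
theorem Q522 : ∀ i, i < 522 → P i := stepQ 521 Q521 (allL N521 (tt N408 (iv D469)) (tt N465 (iv F2644)) (tt N521 F2257) (tt N414 F2258) (tt N661 D595) (tt N656 (iv F2823)) (tt N420 F2259) (tt N651 (iv F2772)) (tt N521 F2260))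
theorem Q523 : ∀ i, i < 523 → P i := stepQ 522 Q522 (allL N522 (tt N661 (iv F2842)) (tt N409 F2261) (tt N522 F2262) (tt N522 F2263) (tt N408 (iv D470)) (tt N662 D596) (tt N421 F2264) (tt N652 (iv F2776)) (tt N522 F2265))
theorem Q524 : ∀ i, i < 524 → P i := stepQ 523 Q523 (allL N523 (tt N467 (iv F2652)) (tt N662 (iv F2847)) (tt N410 F2266) (tt N523 F2267) (tt N659 (iv F2835)) (tt N409 (iv D471)) (tt N663 D597) (tt N654 (iv F2782)) (tt N523 F2268))
theorem Q525 : ∀ i, i < 525 → P i := stepQ 524 Q524 (allL N524 (tt N468 (iv F2656)) (tt N524 F2269) (tt N663 (iv F2851)) (tt N411 F2270) (tt N660 (iv F2839)) (tt N423 F2271) (tt N410 (iv D472)) (tt N655 (iv F2786)) (tt N524 F2272))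
theorem Q526 : ∀ i, i < 526 → P i := stepQ 525 Q525 (allL N525 (tt N412 (iv D476)) (tt N469 (iv F2673)) (tt N634 F2286) (tt N656 (iv F2822)) (tt N664 D600) (tt N414 F2287) (tt N525 F2288) (tt N525 F2289) (tt N525 F2290))
theorem Q527 : ∀ i, i < 527 → P i := stepQ 526 Q526 (allL N526 (tt N664 (iv F2865)) (tt N413 F2291) (tt N635 F2292) (tt N665 D601) (tt N412 (iv D477)) (tt N526 F2293) (tt N526 F2294) (tt N526 F2295) (tt N526 F2296))
theorem Q528 : ∀ i, i < 528 → P i := stepQ 527 Q527 (allL N527 (tt N471 (iv F2685)) (tt N665 (iv F2871)) (tt N527 F2297) (tt N413 (iv D478)) (tt N658 (iv F2831)) (tt N527 F2298) (tt N527 F2299) (tt N666 D602) (tt N527 F2300))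
theorem Q529 : ∀ i, i < 529 → P i := stepQ 528 Q528 (allL N528 (tt N667 D583) (tt N415 (iv D458)) (tt N528 F2215) (tt N528 F2216) (tt N668 D584) (tt N528 F2217) (tt N648 (iv F2758)) (tt N528 F2218) (tt N417 F2219))
theorem Q530 : ∀ i, i < 530 → P i := stepQ 529 Q529 (allL N529 (tt N492 (iv F2605)) (tt N668 (iv F2792)) (tt N416 F2220) (tt N669 D585) (tt N415 (iv D459)) (tt N670 D586) (tt N649 (iv F2762)) (tt N529 F2221) (tt N418 F2222))
theorem Q531 : ∀ i, i < 531 → P i := stepQ 530 Q530 (allL N530 (tt N493 (iv F2609)) (tt N530 F2223) (tt N670 (iv F2805)) (tt N530 F2224) (tt N530 F2225) (tt N416 (iv D460)) (tt N671 D587) (tt N530 F2226) (tt N419 F2227))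
theorem Q532 : ∀ i, i < 532 → P i := stepQ 531 Q531 (allL N531 (tt N417 (iv D461)) (tt N494 (iv F2614)) (tt N531 F2228) (tt N531 F2229) (tt N672 D588) (tt N531 F2230) (tt N651 (iv F2771)) (tt N420 F2231) (tt N667 (iv F2791)))
theorem Q533 : ∀ i, i < 533 → P i := stepQ 532 Q532 (allL N532 (tt N672 (iv F2815)) (tt N418 F2232) (tt N532 F2233) (tt N670 (iv F2806)) (tt N417 (iv D462)) (tt N669 F2802) (tt N652 (iv F2775)) (tt N421 F2234) (tt N668 (iv F2795)))
theorem Q534 : ∀ i, i < 534 → P i := stepQ 533 Q533 (allL N533 (tt N496 (iv F2620)) (tt N670 (iv F2804)) (tt N533 F2235) (tt N418 (iv D463)) (tt N533 F2236) (tt N668 (iv F2797)) (tt N653 (iv F2779)) (tt N533 F2237) (tt N669 (iv F2801)))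
theorem Q535 : ∀ i, i < 535 → P i := stepQ 534 Q534 (allL N534 (tt N497 (iv F2624)) (tt N669 (iv F2798)) (tt N419 F2238) (tt N668 F2796) (tt N534 F2239) (tt N418 (iv D464)) (tt N673 D589) (tt N422 F2240) (tt N670 (iv F2809)))
theorem Q536 : ∀ i, i < 536 → P i := stepQ 535 Q535 (allL N535 (tt N498 (iv F2628)) (tt N535 F2241) (tt N673 (iv F2818)) (tt N535 F2242) (tt N535 F2243) (tt N655 (iv F2785)) (tt N419 (iv D465)) (tt N423 F2244) (tt N671 (iv F2814)))
theorem Q537 : ∀ i, i < 537 → P i := stepQ 536 Q536 (allL N536 (tt N421 F2273) (tt N499 (iv F2661)) (tt N536 F2274) (tt N536 F2275) (tt N420 (iv D473)) (tt N674 D598) (tt N661 (iv F2845)) (tt N672 (iv F2817)) (tt N536 F2276))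
theorem Q538 : ∀ i, i < 538 → P i := stepQ 537 Q537 (allL N537 (tt N674 (iv F2855)) (tt N422 F2277) (tt N537 F2278) (tt N537 F2279) (tt N537 F2280) (tt N421 (iv D474)) (tt N675 D599) (tt N669 (iv F2803)) (tt N537 F2281))
theorem Q539 : ∀ i, i < 539 → P i := stepQ 538 Q538 (allL N538 (tt N501 (iv F2668)) (tt N675 (iv F2860)) (tt N423 F2282) (tt N538 F2283) (tt N538 F2284) (tt N663 (iv F2853)) (tt N422 (iv D475)) (tt N673 (iv F2820)) (tt N538 F2285))
theorem Q540 : ∀ i, i < 540 → P i := stepQ 539 Q539 (allL N539 (tt N539 F2879) (tt N539 F2880) (tt N539 F2881) (tt N426 F2882) (tt N539 F2883) (tt N539 F2884) (tt N539 F2885) (tt N676 D747) (tt N424 (iv D603)))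
theorem Q541 : ∀ i, i < 541 → P i := stepQ 540 Q540 (allL N540 (tt N540 F2886) (tt N540 F2887) (tt N435 F2888) (tt N540 F2889) (tt N428 F2890) (tt N540 F2891) (tt N540 F2892) (tt N677 D748) (tt N425 (iv D604)))
theorem Q542 : ∀ i, i < 542 → P i := stepQ 541 Q541 (allL N541 (tt N541 F2893) (tt N541 F2894) (tt N436 F2895) (tt N678 D749) (tt N429 F2896) (tt N541 F2897) (tt N541 F2898) (tt N426 (iv D605)) (tt N677 (iv F3571)))
theorem Q543 : ∀ i, i < 543 → P i := stepQ 542 Q542 (allL N542 (tt N542 F2899) (tt N542 F2900) (tt N542 F2901) (tt N428 F2902) (tt N542 F2903) (tt N431 F2904) (tt N542 F2905) (tt N679 D750) (tt N427 (iv D606)))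
theorem Q544 : ∀ i, i < 544 → P i := stepQ 543 Q543 (allL N543 (tt N543 F2906) (tt N543 F2907) (tt N437 F2908) (tt N680 D751) (tt N677 (iv F3568)) (tt N432 F2909) (tt N543 F2910) (tt N428 (iv D607)) (tt N429 F2911))
theorem Q545 : ∀ i, i < 545 → P i := stepQ 544 Q544 (allL N544 (tt N544 F2912) (tt N544 F2913) (tt N681 D752) (tt N429 (iv D608)) (tt N682 D753) (tt N433 F2914) (tt N544 F2915) (tt N544 F2916) (tt N680 (iv F3587)))
theorem Q546 : ∀ i, i < 546 → P i := stepQ 545 Q545 (allL N545 (tt N545 F2917) (tt N545 F2918) (tt N545 F2919) (tt N545 F2920) (tt N431 F2921) (tt N545 F2922) (tt N473 F2923) (tt N502 F3282) (tt N430 (iv D609)))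
theorem Q547 : ∀ i, i < 547 → P i := stepQ 546 Q546 (allL N546 (tt N546 F2924) (tt N546 F2925) (tt N546 F2926) (tt N683 D754) (tt N502 F3280) (tt N679 (iv F3580)) (tt N474 F2927) (tt N431 (iv D610)) (tt N546 F2928))
theorem Q548 : ∀ i, i < 548 → P i := stepQ 547 Q547 (allL N547 (tt N547 F2929) (tt N547 F2930) (tt N684 D755) (tt N432 (iv D611)) (tt N685 D756) (tt N680 (iv F3585)) (tt N475 F2931) (tt N683 (iv F3601)) (tt N433 F2932))
theorem Q549 : ∀ i, i < 549 → P i := stepQ 548 Q548 (allL N548 (tt N548 F2933) (tt N686 D757) (tt N433 (iv D612)) (tt N440 F2934) (tt N687 D758) (tt N681 (iv F3590)) (tt N476 F2935) (tt N548 F2936) (tt N684 (iv F3606)))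
theorem Q550 : ∀ i, i < 550 → P i := stepQ 549 Q549 (allL N549 (tt N549 F2937) (tt N549 F2938) (tt N687 (iv F3618)) (tt N549 F2939) (tt N433 (iv D613)) (tt N688 D759) (tt N477 F2940) (tt N549 F2941) (tt N685 (iv F3612)))
theorem Q551 : ∀ i, i < 551 → P i := stepQ 550 Q550 (allL N550 (tt N550 F2979) (tt N451 F2980) (tt N550 F2981) (tt N435 F2982) (tt N550 F2983) (tt N550 F2984) (tt N550 F2985) (tt N689 D768) (tt N434 (iv D622)))
theorem Q552 : ∀ i, i < 552 → P i := stepQ 551 Q551 (allL N551 (tt N551 F2986) (tt N452 F2987) (tt N677 (iv F3567)) (tt N690 D769) (tt N437 F2988) (tt N551 F2989) (tt N551 F2990) (tt N435 (iv D623)) (tt N436 F2991))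
theorem Q553 : ∀ i, i < 553 → P i := stepQ 552 Q552 (allL N552 (tt N552 F2992) (tt N453 F2993) (tt N691 D770) (tt N436 (iv D624)) (tt N692 D771) (tt N552 F2994) (tt N552 F2995) (tt N552 F2996) (tt N690 (iv F3673)))
theorem Q554 : ∀ i, i < 554 → P i := stepQ 553 Q553 (allL N553 (tt N553 F2997) (tt N454 F2998) (tt N693 D772) (tt N437 (iv D625)) (tt N694 D773) (tt N439 F2999) (tt N553 F3000) (tt N553 F3001) (tt N438 F3002))
theorem Q555 : ∀ i, i < 555 → P i := stepQ 554 Q554 (allL N554 (tt N554 F3003) (tt N695 D774) (tt N438 (iv D626)) (tt N681 (iv F3589)) (tt N696 D775) (tt N440 F3004) (tt N554 F3005) (tt N442 F3006) (tt N693 (iv F3687)))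
theorem Q556 : ∀ i, i < 556 → P i := stepQ 555 Q555 (allL N555 (tt N555 F3007) (tt N456 F3008) (tt N696 (iv F3698)) (tt N692 (iv F3680)) (tt N438 (iv D627)) (tt N697 D776) (tt N555 F3009) (tt N443 F3010) (tt N694 (iv F3692)))
theorem Q557 : ∀ i, i < 557 → P i := stepQ 556 Q556 (allL N556 (tt N556 F3011) (tt N698 D777) (tt N439 (iv D628)) (tt N684 (iv F3604)) (tt N699 D778) (tt N693 (iv F3684)) (tt N478 F3012) (tt N556 F3013) (tt N440 F3014))
theorem Q558 : ∀ i, i < 558 → P i := stepQ 557 Q557 (allL N557 (tt N557 F3015) (tt N458 F3016) (tt N699 (iv F3710)) (tt N557 F3017) (tt N439 (iv D629)) (tt N700 D779) (tt N479 F3018) (tt N557 F3019) (tt N441 F3020))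
theorem Q559 : ∀ i, i < 559 → P i := stepQ 558 Q558 (allL N558 (tt N701 D780) (tt N440 (iv D630)) (tt N459 F3021) (tt N686 (iv F3614)) (tt N702 D781) (tt N695 (iv F3694)) (tt N480 F3022) (tt N444 F3023) (tt N698 (iv F3708)))
theorem Q560 : ∀ i, i < 560 → P i := stepQ 559 Q559 (allL N559 (tt N559 F3024) (tt N702 (iv F3723)) (tt N441 F3025) (tt N703 D782) (tt N440 (iv D631)) (tt N704 D783) (tt N481 F3026) (tt N445 F3027) (tt N699 (iv F3713)))
theorem Q561 : ∀ i, i < 561 → P i := stepQ 560 Q560 (allL N560 (tt N560 F3028) (tt N461 F3029) (tt N704 (iv F3731)) (tt N560 F3030) (tt N697 (iv F3703)) (tt N441 (iv D632)) (tt N705 D784) (tt N446 F3031) (tt N700 (iv F3718)))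
theorem Q562 : ∀ i, i < 562 → P i := stepQ 561 Q561 (allL N561 (tt N706 D796) (tt N442 (iv D641)) (tt N462 F3064) (tt N561 F3065) (tt N707 D797) (tt N444 F3066) (tt N561 F3067) (tt N695 (iv F3696)) (tt N561 F3068))
theorem Q563 : ∀ i, i < 563 → P i := stepQ 562 Q562 (allL N562 (tt N562 F3069) (tt N707 (iv F3786)) (tt N443 F3070) (tt N708 D798) (tt N442 (iv D642)) (tt N709 D799) (tt N562 F3071) (tt N696 (iv F3700)) (tt N562 F3072))
theorem Q564 : ∀ i, i < 564 → P i := stepQ 563 Q563 (allL N563 (tt N563 F3073) (tt N464 F3074) (tt N709 (iv F3796)) (tt N563 F3075) (tt N446 F3076) (tt N443 (iv D643)) (tt N710 D800) (tt N697 (iv F3704)) (tt N563 F3077))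
theorem Q565 : ∀ i, i < 565 → P i := stepQ 564 Q564 (allL N564 (tt N444 (iv D644)) (tt N564 F3078) (tt N465 F3079) (tt N564 F3080) (tt N711 D801) (tt N706 (iv F3783)) (tt N483 F3081) (tt N701 (iv F3722)) (tt N564 F3082))
theorem Q566 : ∀ i, i < 566 → P i := stepQ 565 Q565 (allL N565 (tt N711 (iv F3805)) (tt N445 F3083) (tt N466 F3084) (tt N712 D802) (tt N444 (iv D645)) (tt N713 D803) (tt N484 F3085) (tt N702 (iv F3726)) (tt N565 F3086))
theorem Q567 : ∀ i, i < 567 → P i := stepQ 566 Q566 (allL N566 (tt N566 F3087) (tt N712 (iv F3810)) (tt N447 F3088) (tt N445 (iv D646)) (tt N566 F3089) (tt N714 D804) (tt N485 F3090) (tt N715 D805) (tt N566 F3091))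
theorem Q568 : ∀ i, i < 568 → P i := stepQ 567 Q567 (allL N567 (tt N567 F3092) (tt N713 (iv F3815)) (tt N446 F3093) (tt N714 (iv F3820)) (tt N709 (iv F3797)) (tt N445 (iv D647)) (tt N716 D806) (tt N704 (iv F3732)) (tt N567 F3094))
theorem Q569 : ∀ i, i < 569 → P i := stepQ 568 Q568 (allL N568 (tt N568 F3095) (tt N468 F3096) (tt N716 (iv F3827)) (tt N449 F3097) (tt N710 (iv F3802)) (tt N487 F3098) (tt N446 (iv D648)) (tt N705 (iv F3737)) (tt N568 F3099))
theorem Q570 : ∀ i, i < 570 → P i := stepQ 569 Q569 (allL N569 (tt N569 F3123) (tt N569 F3124) (tt N714 (iv F3819)) (tt N448 F3125) (tt N717 D813) (tt N447 (iv D655)) (tt N718 D814) (tt N719 D815) (tt N569 F3126))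
theorem Q571 : ∀ i, i < 571 → P i := stepQ 570 Q570 (allL N570 (tt N570 F3127) (tt N570 F3128) (tt N715 (iv F3823)) (tt N570 F3129) (tt N570 F3130) (tt N719 (iv F3868)) (tt N489 F3131) (tt N447 (iv D656)) (tt N720 (iv F3661)))
theorem Q572 : ∀ i, i < 572 → P i := stepQ 571 Q571 (allL N571 (tt N571 F3132) (tt N571 F3133) (tt N449 F3134) (tt N718 (iv F3862)) (tt N571 F3135) (tt N490 F3136) (tt N448 (iv D657)) (tt N571 F3137) (tt N571 F3138))
theorem Q573 : ∀ i, i < 573 → P i := stepQ 572 Q572 (allL N572 (tt N638 F3179) (tt N572 F3180) (tt N451 F3181) (tt N572 F3182) (tt N572 F3183) (tt N572 F3184) (tt N572 F3185) (tt N721 (iv F3478)) (tt N450 (iv D666)))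
theorem Q574 : ∀ i, i < 574 → P i := stepQ 573 Q573 (allL N573 (tt N639 F3186) (tt N689 (iv F3663)) (tt N721 F3479) (tt N722 D816) (tt N573 F3187) (tt N573 F3188) (tt N573 F3189) (tt N451 (iv D667)) (tt N573 F3190))
theorem Q575 : ∀ i, i < 575 → P i := stepQ 574 Q574 (allL N574 (tt N640 F3191) (tt N690 (iv F3670)) (tt N723 D817) (tt N452 (iv D668)) (tt N724 D818) (tt N574 F3192) (tt N574 F3193) (tt N722 (iv F3873)) (tt N453 F3194))
theorem Q576 : ∀ i, i < 576 → P i := stepQ 575 Q575 (allL N575 (tt N641 F3195) (tt N725 D819) (tt N453 (iv D669)) (tt N575 F3196) (tt N726 D820) (tt N575 F3197) (tt N575 F3198) (tt N575 F3199) (tt N723 (iv F3880)))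
theorem Q577 : ∀ i, i < 577 → P i := stepQ 576 Q576 (allL N576 (tt N642 F3200) (tt N692 (iv F3679)) (tt N726 (iv F3890)) (tt N456 F3201) (tt N453 (iv D670)) (tt N727 D821) (tt N576 F3202) (tt N576 F3203) (tt N724 (iv F3884)))
theorem Q578 : ∀ i, i < 578 → P i := stepQ 577 Q577 (allL N577 (tt N643 F3204) (tt N728 D822) (tt N454 (iv D671)) (tt N577 F3205) (tt N729 D823) (tt N457 F3206) (tt N577 F3207) (tt N577 F3208) (tt N455 F3209))
theorem Q579 : ∀ i, i < 579 → P i := stepQ 578 Q578 (allL N578 (tt N644 F3210) (tt N694 (iv F3689)) (tt N729 (iv F3903)) (tt N724 (iv F3882)) (tt N454 (iv D672)) (tt N730 D824) (tt N578 F3211) (tt N578 F3212) (tt N456 F3213))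
theorem Q580 : ∀ i, i < 580 → P i := stepQ 579 Q579 (allL N579 (tt N731 D825) (tt N455 (iv D673)) (tt N695 (iv F3693)) (tt N579 F3214) (tt N732 D826) (tt N459 F3215) (tt N579 F3216) (tt N462 F3217) (tt N728 (iv F3901)))
theorem Q581 : ∀ i, i < 581 → P i := stepQ 580 Q580 (allL N580 (tt N646 F3218) (tt N732 (iv F3916)) (tt N456 F3219) (tt N733 D827) (tt N455 (iv D674)) (tt N734 D828) (tt N580 F3220) (tt N463 F3221) (tt N729 (iv F3906)))
theorem Q582 : ∀ i, i < 582 → P i := stepQ 581 Q581 (allL N581 (tt N647 F3222) (tt N697 (iv F3702)) (tt N734 (iv F3923)) (tt N727 (iv F3894)) (tt N461 F3223) (tt N456 (iv D675)) (tt N735 D829) (tt N464 F3224) (tt N730 (iv F3910)))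
theorem Q583 : ∀ i, i < 583 → P i := stepQ 582 Q582 (allL N582 (tt N736 D830) (tt N457 (iv D676)) (tt N698 (iv F3705)) (tt N582 F3225) (tt N737 D831) (tt N728 (iv F3898)) (tt N491 F3226) (tt N582 F3227) (tt N459 F3228))
theorem Q584 : ∀ i, i < 584 → P i := stepQ 583 Q583 (allL N583 (tt N649 F3229) (tt N737 (iv F3935)) (tt N458 F3230) (tt N738 D832) (tt N457 (iv D677)) (tt N739 D833) (tt N492 F3231) (tt N583 F3232) (tt N460 F3233))
theorem Q585 : ∀ i, i < 585 → P i := stepQ 584 Q584 (allL N584 (tt N650 F3234) (tt N700 (iv F3715)) (tt N739 (iv F3946)) (tt N584 F3235) (tt N730 (iv F3908)) (tt N458 (iv D678)) (tt N740 D834) (tt N584 F3236) (tt N461 F3237))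
theorem Q586 : ∀ i, i < 586 → P i := stepQ 585 Q585 (allL N585 (tt N459 (iv D679)) (tt N651 F3238) (tt N701 (iv F3720)) (tt N585 F3239) (tt N741 D835) (tt N731 (iv F3913)) (tt N494 F3240) (tt N465 F3241) (tt N736 (iv F3934)))
theorem Q587 : ∀ i, i < 587 → P i := stepQ 586 Q586 (allL N586 (tt N741 (iv F3954)) (tt N460 F3242) (tt N702 (iv F3724)) (tt N742 D836) (tt N459 (iv D680)) (tt N743 D837) (tt N495 F3243) (tt N466 F3244) (tt N737 (iv F3938)))
theorem Q588 : ∀ i, i < 588 → P i := stepQ 587 Q587 (allL N587 (tt N653 F3245) (tt N742 (iv F3958)) (tt N587 F3246) (tt N460 (iv D681)) (tt N587 F3247) (tt N744 D838) (tt N496 F3248) (tt N587 F3249) (tt N738 (iv F3943)))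
theorem Q589 : ∀ i, i < 589 → P i := stepQ 588 Q588 (allL N588 (tt N654 F3250) (tt N743 (iv F3962)) (tt N461 F3251) (tt N744 (iv F3966)) (tt N734 (iv F3924)) (tt N460 (iv D682)) (tt N745 D839) (tt N467 F3252) (tt N739 (iv F3948)))
theorem Q590 : ∀ i, i < 590 → P i := stepQ 589 Q589 (allL N589 (tt N655 F3253) (tt N705 (iv F3734)) (tt N745 (iv F3969)) (tt N589 F3254) (tt N735 (iv F3927)) (tt N498 F3255) (tt N461 (iv D683)) (tt N468 F3256) (tt N740 (iv F3953)))
theorem Q591 : ∀ i, i < 591 → P i := stepQ 590 Q590 (allL N590 (tt N462 (iv D694)) (tt N656 F3311) (tt N706 (iv F3781)) (tt N469 F3312) (tt N746 D847) (tt N465 F3313) (tt N590 F3314) (tt N731 (iv F3915)) (tt N590 F3315))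
theorem Q592 : ∀ i, i < 592 → P i := stepQ 591 Q591 (allL N591 (tt N746 (iv F4008)) (tt N463 F3316) (tt N707 (iv F3787)) (tt N747 D848) (tt N462 (iv D695)) (tt N748 D849) (tt N591 F3317) (tt N732 (iv F3918)) (tt N591 F3318))
theorem Q593 : ∀ i, i < 593 → P i := stepQ 592 Q592 (allL N592 (tt N658 F3319) (tt N747 (iv F4012)) (tt N592 F3320) (tt N463 (iv D696)) (tt N471 F3321) (tt N749 D850) (tt N592 F3322) (tt N750 D851) (tt N592 F3323))
theorem Q594 : ∀ i, i < 594 → P i := stepQ 593 Q593 (allL N593 (tt N659 F3324) (tt N748 (iv F4016)) (tt N464 F3325) (tt N749 (iv F4021)) (tt N467 F3326) (tt N463 (iv D697)) (tt N751 D852) (tt N734 (iv F3925)) (tt N593 F3327))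
theorem Q595 : ∀ i, i < 595 → P i := stepQ 594 Q594 (allL N594 (tt N660 F3328) (tt N710 (iv F3800)) (tt N751 (iv F4029)) (tt N594 F3329) (tt N468 F3330) (tt N594 F3331) (tt N464 (iv D698)) (tt N735 (iv F3929)) (tt N594 F3332))
theorem Q596 : ∀ i, i < 596 → P i := stepQ 595 Q595 (allL N595 (tt N466 F3333) (tt N661 F3334) (tt N711 (iv F3807)) (tt N595 F3335) (tt N465 (iv D699)) (tt N752 D853) (tt N499 F3336) (tt N741 (iv F3957)) (tt N595 F3337))
theorem Q597 : ∀ i, i < 597 → P i := stepQ 596 Q596 (allL N596 (tt N752 (iv F4033)) (tt N467 F3338) (tt N713 (iv F3816)) (tt N596 F3339) (tt N748 (iv F4017)) (tt N466 (iv D700)) (tt N753 D854) (tt N743 (iv F3963)) (tt N596 F3340))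
theorem Q598 : ∀ i, i < 598 → P i := stepQ 597 Q597 (allL N597 (tt N663 F3341) (tt N753 (iv F4037)) (tt N468 F3342) (tt N597 F3343) (tt N751 (iv F4030)) (tt N501 F3344) (tt N467 (iv D701)) (tt N745 (iv F3971)) (tt N597 F3345))
theorem Q599 : ∀ i, i < 599 → P i := stepQ 598 Q598 (allL N598 (tt N470 F3355) (tt N664 F3356) (tt N598 F3357) (tt N754 D856) (tt N469 (iv D704)) (tt N598 F3358) (tt N598 F3359) (tt N598 F3360) (tt N598 F3361))
theorem Q600 : ∀ i, i < 600 → P i := stepQ 599 Q599 (allL N599 (tt N754 (iv F4046)) (tt N471 F3362) (tt N755 D857) (tt N470 (iv D705)) (tt N747 (iv F4013)) (tt N599 F3363) (tt N599 F3364) (tt N756 D858) (tt N599 F3365))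
theorem Q601 : ∀ i, i < 601 → P i := stepQ 600 Q600 (allL N600 (tt N666 F3366) (tt N756 (iv F4056)) (tt N600 F3367) (tt N600 F3368) (tt N750 (iv F4026)) (tt N600 F3369) (tt N600 F3370) (tt N471 (iv D706)) (tt N757 D859))
theorem Q602 : ∀ i, i < 602 → P i := stepQ 601 Q601 (allL N601 (tt N601 F2954) (tt N601 F2955) (tt N758 D760) (tt N474 (iv D616)) (tt N488 F3279) (tt N601 F2956) (tt N683 (iv F3600)) (tt N475 F2957) (tt N601 F2958))
theorem Q603 : ∀ i, i < 603 → P i := stepQ 602 Q602 (allL N602 (tt N602 F2959) (tt N759 D761) (tt N475 (iv D617)) (tt N478 F2960) (tt N760 D762) (tt N602 F2961) (tt N684 (iv F3605)) (tt N758 (iv F3629)) (tt N476 F2962))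
theorem Q604 : ∀ i, i < 604 → P i := stepQ 603 Q603 (allL N603 (tt N603 F2963) (tt N603 F2964) (tt N760 (iv F3636)) (tt N603 F2965) (tt N475 (iv D618)) (tt N489 F3284) (tt N685 (iv F3610)) (tt N488 F3285) (tt N477 F2966))
theorem Q605 : ∀ i, i < 605 → P i := stepQ 604 Q604 (allL N604 (tt N761 D763) (tt N476 (iv D619)) (tt N604 F2967) (tt N480 F2968) (tt N762 D764) (tt N604 F2969) (tt N686 (iv F3615)) (tt N604 F2970) (tt N759 (iv F3634)))
theorem Q606 : ∀ i, i < 606 → P i := stepQ 605 Q605 (allL N605 (tt N605 F2971) (tt N762 (iv F3645)) (tt N477 F2972) (tt N763 D765) (tt N476 (iv D620)) (tt N764 D766) (tt N687 (iv F3619)) (tt N605 F2973) (tt N760 (iv F3638)))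
theorem Q607 : ∀ i, i < 607 → P i := stepQ 606 Q606 (allL N606 (tt N606 F2974) (tt N606 F2975) (tt N764 (iv F3652)) (tt N606 F2976) (tt N606 F2977) (tt N477 (iv D621)) (tt N720 D767) (tt N606 F2978) (tt N489 F3286))
theorem Q608 : ∀ i, i < 608 → P i := stepQ 607 Q607 (allL N607 (tt N765 D785) (tt N478 (iv D633)) (tt N491 F3032) (tt N759 (iv F3632)) (tt N766 D786) (tt N607 F3033) (tt N698 (iv F3706)) (tt N607 F3034) (tt N480 F3035))
theorem Q609 : ∀ i, i < 609 → P i := stepQ 608 Q608 (allL N608 (tt N608 F3036) (tt N766 (iv F3743)) (tt N479 F3037) (tt N767 D787) (tt N478 (iv D634)) (tt N768 D788) (tt N699 (iv F3711)) (tt N608 F3038) (tt N481 F3039))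
theorem Q610 : ∀ i, i < 610 → P i := stepQ 609 Q609 (allL N609 (tt N609 F3040) (tt N493 F3041) (tt N768 (iv F3751)) (tt N609 F3042) (tt N609 F3043) (tt N479 (iv D635)) (tt N769 D789) (tt N609 F3044) (tt N482 F3045))
theorem Q611 : ∀ i, i < 611 → P i := stepQ 610 Q610 (allL N610 (tt N480 (iv D636)) (tt N610 F3046) (tt N494 F3047) (tt N761 (iv F3642)) (tt N770 D790) (tt N610 F3048) (tt N701 (iv F3721)) (tt N483 F3049) (tt N765 (iv F3742)))
theorem Q612 : ∀ i, i < 612 → P i := stepQ 611 Q611 (allL N611 (tt N770 (iv F3761)) (tt N481 F3050) (tt N495 F3051) (tt N771 D791) (tt N480 (iv D637)) (tt N772 D792) (tt N702 (iv F3725)) (tt N484 F3052) (tt N766 (iv F3746)))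
theorem Q613 : ∀ i, i < 613 → P i := stepQ 612 Q612 (allL N612 (tt N612 F3053) (tt N771 (iv F3765)) (tt N612 F3054) (tt N481 (iv D638)) (tt N763 (iv F3650)) (tt N773 D793) (tt N703 (iv F3729)) (tt N774 D794) (tt N767 (iv F3749)))
theorem Q614 : ∀ i, i < 614 → P i := stepQ 613 Q613 (allL N613 (tt N613 F3055) (tt N772 (iv F3766)) (tt N482 F3056) (tt N773 (iv F3772)) (tt N613 F3057) (tt N481 (iv D639)) (tt N775 D795) (tt N486 F3058) (tt N768 (iv F3754)))
theorem Q615 : ∀ i, i < 615 → P i := stepQ 614 Q614 (allL N614 (tt N614 F3059) (tt N498 F3060) (tt N775 (iv F3777)) (tt N614 F3061) (tt N614 F3062) (tt N705 (iv F3736)) (tt N482 (iv D640)) (tt N487 F3063) (tt N769 (iv F3760)))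
theorem Q616 : ∀ i, i < 616 → P i := stepQ 615 Q615 (allL N615 (tt N484 F3100) (tt N615 F3101) (tt N499 F3102) (tt N776 D807) (tt N483 (iv D649)) (tt N777 D808) (tt N711 (iv F3808)) (tt N770 (iv F3764)) (tt N615 F3103))
theorem Q617 : ∀ i, i < 617 → P i := stepQ 616 Q616 (allL N616 (tt N776 (iv F3830)) (tt N485 F3104) (tt N616 F3105) (tt N484 (iv D650)) (tt N616 F3106) (tt N778 D809) (tt N712 (iv F3813)) (tt N779 D810) (tt N616 F3107))
theorem Q618 : ∀ i, i < 618 → P i := stepQ 617 Q617 (allL N617 (tt N777 (iv F3835)) (tt N486 F3108) (tt N500 F3109) (tt N778 (iv F3842)) (tt N617 F3110) (tt N484 (iv D651)) (tt N780 D811) (tt N772 (iv F3769)) (tt N617 F3111))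
theorem Q619 : ∀ i, i < 619 → P i := stepQ 618 Q618 (allL N618 (tt N618 F3112) (tt N778 (iv F3840)) (tt N488 F3113) (tt N486 F3114) (tt N758 (iv F3627)) (tt N485 (iv D652)) (tt N781 D812) (tt N760 (iv F3637)) (tt N618 F3115))
theorem Q620 : ∀ i, i < 620 → P i := stepQ 619 Q619 (allL N619 (tt N619 F3116) (tt N779 (iv F3844)) (tt N489 F3117) (tt N774 (iv F3775)) (tt N619 F3118) (tt N760 F3639) (tt N715 (iv F3825)) (tt N485 (iv D653)) (tt N764 (iv F3655)))
theorem Q621 : ∀ i, i < 621 → P i := stepQ 620 Q620 (allL N620 (tt N620 F3119) (tt N780 (iv F3847)) (tt N487 F3120) (tt N781 (iv F3853)) (tt N620 F3121) (tt N716 (iv F3828)) (tt N486 (iv D654)) (tt N775 (iv F3779)) (tt N620 F3122))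
theorem Q622 : ∀ i, i < 622 → P i := stepQ 621 Q621 (allL N621 (tt N621 F3144) (tt N621 F3145) (tt N781 (iv F3852)) (tt N490 F3146) (tt N683 (iv F3599)) (tt N718 (iv F3863)) (tt N488 (iv D659)) (tt N685 (iv F3611)) (tt N621 F3147))
theorem Q623 : ∀ i, i < 623 → P i := stepQ 622 Q622 (allL N622 (tt N491 (iv D684)) (tt N667 F3257) (tt N765 (iv F3739)) (tt N622 F3258) (tt N782 D840) (tt N622 F3259) (tt N736 (iv F3932)) (tt N622 F3260) (tt N494 F3261))
theorem Q624 : ∀ i, i < 624 → P i := stepQ 623 Q623 (allL N623 (tt N782 (iv F3972)) (tt N492 F3262) (tt N766 (iv F3744)) (tt N783 D841) (tt N491 (iv D685)) (tt N784 D842) (tt N737 (iv F3936)) (tt N623 F3263) (tt N495 F3264))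
theorem Q625 : ∀ i, i < 625 → P i := stepQ 624 Q624 (allL N624 (tt N669 F3265) (tt N783 (iv F3979)) (tt N624 F3266) (tt N492 (iv D686)) (tt N624 F3267) (tt N672 (iv F3269)) (tt N738 (iv F3942)) (tt N674 (iv F3270)) (tt N496 F3268))
theorem Q626 : ∀ i, i < 626 → P i := stepQ 625 Q625 (allL N625 (tt N670 F3271) (tt N784 (iv F3985)) (tt N493 F3272) (tt N672 F3273) (tt N625 F3274) (tt N492 (iv D687)) (tt N785 D843) (tt N625 F3275) (tt N497 F3276))
theorem Q627 : ∀ i, i < 627 → P i := stepQ 626 Q626 (allL N626 (tt N671 F3287) (tt N769 (iv F3756)) (tt N785 (iv F3991)) (tt N626 F3288) (tt N626 F3289) (tt N740 (iv F3951)) (tt N493 (iv D688)) (tt N626 F3290) (tt N498 F3291))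
theorem Q628 : ∀ i, i < 628 → P i := stepQ 627 Q627 (allL N627 (tt N495 F3292) (tt N672 F3293) (tt N770 (iv F3763)) (tt N784 (iv F3986)) (tt N494 (iv D689)) (tt N783 F3982) (tt N741 (iv F3956)) (tt N499 F3294) (tt N782 (iv F3975)))
theorem Q629 : ∀ i, i < 629 → P i := stepQ 628 Q628 (allL N628 (tt N784 (iv F3984)) (tt N496 F3295) (tt N786 D844) (tt N495 (iv D690)) (tt N628 F3296) (tt N782 F3977) (tt N742 (iv F3960)) (tt N628 F3297) (tt N783 (iv F3981)))
theorem Q630 : ∀ i, i < 630 → P i := stepQ 629 Q629 (allL N629 (tt N783 (iv F3978)) (tt N497 F3298) (tt N772 (iv F3767)) (tt N782 (iv F3976)) (tt N629 F3299) (tt N495 (iv D691)) (tt N787 D845) (tt N500 F3300) (tt N784 (iv F3989)))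
theorem Q631 : ∀ i, i < 631 → P i := stepQ 630 Q630 (allL N630 (tt N668 F3301) (tt N782 (iv F3973)) (tt N630 F3302) (tt N497 F3303) (tt N667 (iv F3306)) (tt N496 (iv D692)) (tt N788 D846) (tt N630 F3304) (tt N672 F3305))
theorem Q632 : ∀ i, i < 632 → P i := stepQ 631 Q631 (allL N631 (tt N673 F3307) (tt N787 (iv F3999)) (tt N498 F3308) (tt N788 (iv F4004)) (tt N631 F3309) (tt N745 (iv F3970)) (tt N497 (iv D693)) (tt N501 F3310) (tt N785 (iv F3995)))
theorem Q633 : ∀ i, i < 633 → P i := stepQ 632 Q632 (allL N632 (tt N500 F3346) (tt N674 F3347) (tt N777 (iv F3837)) (tt N632 F3348) (tt N632 F3349) (tt N499 (iv D702)) (tt N789 D855) (tt N783 (iv F3983)) (tt N632 F3350))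
theorem Q634 : ∀ i, i < 634 → P i := stepQ 633 Q633 (allL N633 (tt N789 (iv F4041)) (tt N501 F3351) (tt N780 (iv F3848)) (tt N633 F3352) (tt N633 F3353) (tt N753 (iv F4039)) (tt N500 (iv D703)) (tt N787 (iv F4001)) (tt N633 F3354))
theorem Q635 : ∀ i, i < 635 → P i := stepQ 634 Q634 (allL N634 (tt N503 (iv D443)) (tt N634 F2147) (tt N525 (iv F2286)) (tt N634 F2148) (tt N790 D561) (tt N505 F2149) (tt N634 F2150) (tt N634 F2151) (tt N634 F2152))
theorem Q636 : ∀ i, i < 636 → P i := stepQ 635 Q635 (allL N635 (tt N790 (iv F2690)) (tt N504 F2153) (tt N526 (iv F2292)) (tt N791 D562) (tt N503 (iv D444)) (tt N635 F2154) (tt N635 F2155) (tt N635 F2156) (tt N635 F2157))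
theorem Q637 : ∀ i, i < 637 → P i := stepQ 636 Q636 (allL N636 (tt N636 F2158) (tt N791 (iv F2696)) (tt N636 F2159) (tt N504 (iv D445)) (tt N636 F2160) (tt N636 F2161) (tt N636 F2162) (tt N792 D563) (tt N636 F2163))
theorem Q638 : ∀ i, i < 638 → P i := stepQ 637 Q637 (allL N637 (tt N637 F2707) (tt N506 (iv D564)) (tt N637 F2708) (tt N637 F2709) (tt N637 F2710) (tt N637 F2711) (tt N637 F2712) (tt N637 F2713) (tt N792 F3477))
theorem Q639 : ∀ i, i < 639 → P i := stepQ 638 Q638 (allL N638 (tt N572 (iv F3179)) (tt N792 (iv F3476)) (tt N507 F2714) (tt N638 F2715) (tt N638 F2716) (tt N638 F2717) (tt N638 F2718) (tt N791 F3475) (tt N506 (iv D565)))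
theorem Q640 : ∀ i, i < 640 → P i := stepQ 639 Q639 (allL N639 (tt N573 (iv F3186)) (tt N639 F2719) (tt N791 (iv F3474)) (tt N793 D713) (tt N639 F2720) (tt N639 F2721) (tt N639 F2722) (tt N507 (iv D566)) (tt N639 F2723))
theorem Q641 : ∀ i, i < 641 → P i := stepQ 640 Q640 (allL N640 (tt N574 (iv F3191)) (tt N640 F2724) (tt N794 D714) (tt N508 (iv D567)) (tt N795 D715) (tt N640 F2725) (tt N640 F2726) (tt N793 (iv F3409)) (tt N509 F2727))
theorem Q642 : ∀ i, i < 642 → P i := stepQ 641 Q641 (allL N641 (tt N575 (iv F3195)) (tt N796 D716) (tt N509 (iv D568)) (tt N641 F2728) (tt N797 D717) (tt N641 F2729) (tt N641 F2730) (tt N641 F2731) (tt N794 (iv F3414)))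
theorem Q643 : ∀ i, i < 643 → P i := stepQ 642 Q642 (allL N642 (tt N576 (iv F3200)) (tt N642 F2732) (tt N797 (iv F3424)) (tt N512 F2733) (tt N509 (iv D569)) (tt N798 D718) (tt N642 F2734) (tt N642 F2735) (tt N795 (iv F3418)))
theorem Q644 : ∀ i, i < 644 → P i := stepQ 643 Q643 (allL N643 (tt N577 (iv F3204)) (tt N799 D719) (tt N510 (iv D570)) (tt N643 F2736) (tt N800 D720) (tt N513 F2737) (tt N643 F2738) (tt N643 F2739) (tt N511 F2740))
theorem Q645 : ∀ i, i < 645 → P i := stepQ 644 Q644 (allL N644 (tt N578 (iv F3210)) (tt N644 F2741) (tt N800 (iv F3437)) (tt N795 (iv F3416)) (tt N510 (iv D571)) (tt N801 D721) (tt N644 F2742) (tt N644 F2743) (tt N512 F2744))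
theorem Q646 : ∀ i, i < 646 → P i := stepQ 645 Q645 (allL N645 (tt N802 D722) (tt N511 (iv D572)) (tt N645 F2745) (tt N645 F2746) (tt N803 D723) (tt N515 F2747) (tt N645 F2748) (tt N518 F2749) (tt N799 (iv F3436)))
theorem Q647 : ∀ i, i < 647 → P i := stepQ 646 Q646 (allL N646 (tt N580 (iv F3218)) (tt N803 (iv F3450)) (tt N512 F2750) (tt N804 D724) (tt N511 (iv D573)) (tt N805 D725) (tt N646 F2751) (tt N519 F2752) (tt N800 (iv F3440)))
theorem Q648 : ∀ i, i < 648 → P i := stepQ 647 Q647 (allL N647 (tt N581 (iv F3222)) (tt N647 F2753) (tt N805 (iv F3456)) (tt N798 (iv F3428)) (tt N517 F2754) (tt N512 (iv D574)) (tt N806 D726) (tt N520 F2755) (tt N801 (iv F3444)))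
theorem Q649 : ∀ i, i < 649 → P i := stepQ 648 Q648 (allL N648 (tt N807 D727) (tt N513 (iv D575)) (tt N648 F2756) (tt N648 F2757) (tt N808 D728) (tt N799 (iv F3433)) (tt N528 F2758) (tt N648 F2759) (tt N515 F2760))
theorem Q650 : ∀ i, i < 650 → P i := stepQ 649 Q649 (allL N649 (tt N583 (iv F3229)) (tt N808 (iv F3468)) (tt N514 F2761) (tt N809 D729) (tt N513 (iv D576)) (tt N810 D730) (tt N529 F2762) (tt N649 F2763) (tt N516 F2764))
theorem Q651 : ∀ i, i < 651 → P i := stepQ 650 Q650 (allL N650 (tt N584 (iv F3234)) (tt N650 F2765) (tt N810 (iv F3490)) (tt N650 F2766) (tt N801 (iv F3442)) (tt N514 (iv D577)) (tt N811 D731) (tt N650 F2767) (tt N517 F2768))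
theorem Q652 : ∀ i, i < 652 → P i := stepQ 651 Q651 (allL N651 (tt N515 (iv D578)) (tt N585 (iv F3238)) (tt N651 F2769) (tt N651 F2770) (tt N812 D732) (tt N802 (iv F3447)) (tt N531 F2771) (tt N521 F2772) (tt N807 (iv F3467)))
theorem Q653 : ∀ i, i < 653 → P i := stepQ 652 Q652 (allL N652 (tt N812 (iv F3498)) (tt N516 F2773) (tt N652 F2774) (tt N813 D733) (tt N515 (iv D579)) (tt N814 D734) (tt N532 F2775) (tt N522 F2776) (tt N808 (iv F3472)))
theorem Q654 : ∀ i, i < 654 → P i := stepQ 653 Q653 (allL N653 (tt N587 (iv F3245)) (tt N813 (iv F3502)) (tt N653 F2777) (tt N516 (iv D580)) (tt N653 F2778) (tt N815 D735) (tt N533 F2779) (tt N653 F2780) (tt N809 (iv F3488)))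
theorem Q655 : ∀ i, i < 655 → P i := stepQ 654 Q654 (allL N654 (tt N588 (iv F3250)) (tt N814 (iv F3508)) (tt N517 F2781) (tt N815 (iv F3512)) (tt N805 (iv F3457)) (tt N516 (iv D581)) (tt N816 D736) (tt N523 F2782) (tt N810 (iv F3492)))
theorem Q656 : ∀ i, i < 656 → P i := stepQ 655 Q655 (allL N655 (tt N589 (iv F3253)) (tt N655 F2783) (tt N816 (iv F3514)) (tt N655 F2784) (tt N806 (iv F3460)) (tt N535 F2785) (tt N517 (iv D582)) (tt N524 F2786) (tt N811 (iv F3497)))
theorem Q657 : ∀ i, i < 657 → P i := stepQ 656 Q656 (allL N656 (tt N518 (iv D590)) (tt N590 (iv F3311)) (tt N656 F2821) (tt N525 F2822) (tt N817 D737) (tt N521 F2823) (tt N656 F2824) (tt N802 (iv F3449)) (tt N656 F2825))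
theorem Q658 : ∀ i, i < 658 → P i := stepQ 657 Q657 (allL N657 (tt N817 (iv F3517)) (tt N519 F2826) (tt N657 F2827) (tt N818 D738) (tt N518 (iv D591)) (tt N819 D739) (tt N657 F2828) (tt N803 (iv F3453)) (tt N657 F2829))
theorem Q659 : ∀ i, i < 659 → P i := stepQ 658 Q658 (allL N658 (tt N592 (iv F3319)) (tt N818 (iv F3521)) (tt N658 F2830) (tt N519 (iv D592)) (tt N527 F2831) (tt N820 D740) (tt N658 F2832) (tt N821 D741) (tt N658 F2833))
theorem Q660 : ∀ i, i < 660 → P i := stepQ 659 Q659 (allL N659 (tt N593 (iv F3324)) (tt N819 (iv F3525)) (tt N520 F2834) (tt N820 (iv F3530)) (tt N523 F2835) (tt N519 (iv D593)) (tt N822 D742) (tt N805 (iv F3458)) (tt N659 F2836))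
theorem Q661 : ∀ i, i < 661 → P i := stepQ 660 Q660 (allL N660 (tt N594 (iv F3328)) (tt N660 F2837) (tt N822 (iv F3536)) (tt N660 F2838) (tt N524 F2839) (tt N660 F2840) (tt N520 (iv D594)) (tt N806 (iv F3462)) (tt N660 F2841))
theorem Q662 : ∀ i, i < 662 → P i := stepQ 661 Q661 (allL N661 (tt N522 F2842) (tt N595 (iv F3334)) (tt N661 F2843) (tt N661 F2844) (tt N521 (iv D595)) (tt N823 D743) (tt N536 F2845) (tt N812 (iv F3501)) (tt N661 F2846))
theorem Q663 : ∀ i, i < 663 → P i := stepQ 662 Q662 (allL N662 (tt N823 (iv F3540)) (tt N523 F2847) (tt N662 F2848) (tt N662 F2849) (tt N819 (iv F3527)) (tt N522 (iv D596)) (tt N824 D744) (tt N814 (iv F3510)) (tt N662 F2850))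
theorem Q664 : ∀ i, i < 664 → P i := stepQ 663 Q663 (allL N663 (tt N597 (iv F3341)) (tt N824 (iv F3544)) (tt N524 F2851) (tt N663 F2852) (tt N822 (iv F3537)) (tt N538 F2853) (tt N523 (iv D597)) (tt N816 (iv F3516)) (tt N663 F2854))
theorem Q665 : ∀ i, i < 665 → P i := stepQ 664 Q664 (allL N664 (tt N526 F2865) (tt N598 (iv F3356)) (tt N790 F2866) (tt N825 D746) (tt N525 (iv D600)) (tt N664 F2867) (tt N664 F2868) (tt N664 F2869) (tt N664 F2870))
theorem Q666 : ∀ i, i < 666 → P i := stepQ 665 Q665 (allL N665 (tt N825 (iv F3554)) (tt N527 F2871) (tt N793 (iv F3480)) (tt N526 (iv D601)) (tt N818 (iv F3522)) (tt N665 F2872) (tt N665 F2873) (tt N794 F3481) (tt N665 F2874))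
theorem Q667 : ∀ i, i < 667 → P i := stepQ 666 Q666 (allL N666 (tt N600 (iv F3366)) (tt N794 (iv F3482)) (tt N666 F2875) (tt N666 F2876) (tt N821 (iv F3534)) (tt N666 F2877) (tt N666 F2878) (tt N527 (iv D602)) (tt N796 F3483))
theorem Q668 : ∀ i, i < 668 → P i := stepQ 667 Q667 (allL N667 (tt N528 (iv D583)) (tt N622 (iv F3257)) (tt N667 F2787) (tt N667 F2788) (tt N630 F3306) (tt N667 F2789) (tt N807 (iv F3465)) (tt N667 F2790) (tt N531 F2791))
theorem Q669 : ∀ i, i < 669 → P i := stepQ 668 Q668 (allL N668 (tt N630 (iv F3301)) (tt N529 F2792) (tt N668 F2793) (tt N534 (iv F2796)) (tt N528 (iv D584)) (tt N533 F2797) (tt N808 (iv F3470)) (tt N668 F2794) (tt N532 F2795))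
theorem Q670 : ∀ i, i < 670 → P i := stepQ 669 Q669 (allL N669 (tt N624 (iv F3265)) (tt N534 F2798) (tt N669 F2799) (tt N529 (iv D585)) (tt N669 F2800) (tt N532 (iv F2802)) (tt N809 (iv F3487)) (tt N537 F2803) (tt N533 F2801))
theorem Q671 : ∀ i, i < 671 → P i := stepQ 670 Q670 (allL N670 (tt N625 (iv F3271)) (tt N533 F2804) (tt N530 F2805) (tt N532 F2806) (tt N670 F2807) (tt N529 (iv D586)) (tt N813 (iv F3504)) (tt N670 F2808) (tt N534 F2809))
theorem Q672 : ∀ i, i < 672 → P i := stepQ 671 Q671 (allL N671 (tt N626 (iv F3287)) (tt N671 F2810) (tt N813 (iv F3507)) (tt N671 F2811) (tt N671 F2812) (tt N811 (iv F3495)) (tt N530 (iv D587)) (tt N671 F2813) (tt N535 F2814))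
theorem Q673 : ∀ i, i < 673 → P i := stepQ 672 Q672 (allL N672 (tt N532 F2815) (tt N627 (iv F3293)) (tt N672 F2816) (tt N625 (iv F3273)) (tt N531 (iv D588)) (tt N624 F3269) (tt N812 (iv F3500)) (tt N536 F2817) (tt N630 (iv F3305)))
theorem Q674 : ∀ i, i < 674 → P i := stepQ 673 Q673 (allL N673 (tt N631 (iv F3307)) (tt N809 (iv F3484)) (tt N535 F2818) (tt N808 F3473) (tt N673 F2819) (tt N816 (iv F3515)) (tt N534 (iv D589)) (tt N538 F2820) (tt N813 (iv F3506)))
theorem Q675 : ∀ i, i < 675 → P i := stepQ 674 Q674 (allL N674 (tt N537 F2855) (tt N632 (iv F3347)) (tt N674 F2856) (tt N674 F2857) (tt N674 F2858) (tt N536 (iv D598)) (tt N826 D745) (tt N624 F3270) (tt N674 F2859))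
theorem Q676 : ∀ i, i < 676 → P i := stepQ 675 Q675 (allL N675 (tt N826 (iv F3549)) (tt N538 F2860) (tt N675 F2861) (tt N675 F2862) (tt N675 F2863) (tt N824 (iv F3547)) (tt N537 (iv D599)) (tt N809 F3489) (tt N675 F2864))
theorem Q677 : ∀ i, i < 677 → P i := stepQ 676 Q676 (allL N676 (tt N676 F3558) (tt N676 F3559) (tt N676 F3560) (tt N827 D890) (tt N676 F3561) (tt N676 F3562) (tt N676 F3563) (tt N539 (iv D747)) (tt N676 F3564))
theorem Q678 : ∀ i, i < 678 → P i := stepQ 677 Q677 (allL N677 (tt N677 F3565) (tt N677 F3566) (tt N551 F3567) (tt N828 D891) (tt N543 F3568) (tt N677 F3569) (tt N677 F3570) (tt N540 (iv D748)) (tt N541 F3571))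
theorem Q679 : ∀ i, i < 679 → P i := stepQ 678 Q678 (allL N678 (tt N678 F3572) (tt N678 F3573) (tt N829 D892) (tt N541 (iv D749)) (tt N830 D893) (tt N678 F3574) (tt N678 F3575) (tt N827 (iv F4197)) (tt N828 (iv F4204)))
theorem Q680 : ∀ i, i < 680 → P i := stepQ 679 Q679 (allL N679 (tt N679 F3576) (tt N679 F3577) (tt N679 F3578) (tt N831 D894) (tt N679 F3579) (tt N546 F3580) (tt N679 F3581) (tt N542 (iv D750)) (tt N679 F3582))
theorem Q681 : ∀ i, i < 681 → P i := stepQ 680 Q680 (allL N680 (tt N680 F3583) (tt N680 F3584) (tt N832 D895) (tt N543 (iv D751)) (tt N833 D896) (tt N547 F3585) (tt N680 F3586) (tt N831 (iv F4217)) (tt N544 F3587))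
theorem Q682 : ∀ i, i < 682 → P i := stepQ 681 Q681 (allL N681 (tt N681 F3588) (tt N834 D897) (tt N544 (iv D752)) (tt N554 F3589) (tt N835 D898) (tt N548 F3590) (tt N681 F3591) (tt N681 F3592) (tt N832 (iv F4223)))
theorem Q683 : ∀ i, i < 683 → P i := stepQ 682 Q682 (allL N682 (tt N682 F3593) (tt N682 F3594) (tt N835 (iv F4234)) (tt N830 (iv F4211)) (tt N544 (iv D753)) (tt N836 D899) (tt N682 F3595) (tt N682 F3596) (tt N833 (iv F4227)))
theorem Q684 : ∀ i, i < 684 → P i := stepQ 683 Q683 (allL N683 (tt N683 F3597) (tt N683 F3598) (tt N837 D900) (tt N546 (iv D754)) (tt N621 F3599) (tt N831 (iv F4215)) (tt N601 F3600) (tt N547 F3601) (tt N683 F3602))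
theorem Q685 : ∀ i, i < 685 → P i := stepQ 684 Q684 (allL N684 (tt N684 F3603) (tt N838 D901) (tt N547 (iv D755)) (tt N556 F3604) (tt N839 D902) (tt N832 (iv F4221)) (tt N602 F3605) (tt N837 (iv F4245)) (tt N548 F3606))
theorem Q686 : ∀ i, i < 686 → P i := stepQ 685 Q685 (allL N685 (tt N685 F3607) (tt N685 F3608) (tt N839 (iv F4252)) (tt N685 F3609) (tt N547 (iv D756)) (tt N840 D903) (tt N603 F3610) (tt N621 F3611) (tt N549 F3612))
theorem Q687 : ∀ i, i < 687 → P i := stepQ 686 Q686 (allL N686 (tt N841 D904) (tt N548 (iv D757)) (tt N686 F3613) (tt N558 F3614) (tt N842 D905) (tt N834 (iv F4230)) (tt N604 F3615) (tt N686 F3616) (tt N838 (iv F4250)))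
theorem Q688 : ∀ i, i < 688 → P i := stepQ 687 Q687 (allL N687 (tt N687 F3617) (tt N842 (iv F4267)) (tt N549 F3618) (tt N843 D906) (tt N548 (iv D758)) (tt N844 D907) (tt N605 F3619) (tt N687 F3620) (tt N839 (iv F4255)))
theorem Q689 : ∀ i, i < 689 → P i := stepQ 688 Q688 (allL N688 (tt N688 F3621) (tt N688 F3622) (tt N844 (iv F4276)) (tt N688 F3623) (tt N836 (iv F4239)) (tt N549 (iv D759)) (tt N845 D908) (tt N688 F3624) (tt N840 (iv F4261)))
theorem Q690 : ∀ i, i < 690 → P i := stepQ 689 Q689 (allL N689 (tt N689 F3662) (tt N573 F3663) (tt N689 F3664) (tt N846 D919) (tt N689 F3665) (tt N689 F3666) (tt N689 F3667) (tt N550 (iv D768)) (tt N689 F3668))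
theorem Q691 : ∀ i, i < 691 → P i := stepQ 690 Q690 (allL N690 (tt N690 F3669) (tt N574 F3670) (tt N847 D920) (tt N551 (iv D769)) (tt N848 D921) (tt N690 F3671) (tt N690 F3672) (tt N846 (iv F4334)) (tt N552 F3673))
theorem Q692 : ∀ i, i < 692 → P i := stepQ 691 Q691 (allL N691 (tt N691 F3674) (tt N849 D922) (tt N552 (iv D770)) (tt N829 (iv F4206)) (tt N850 D923) (tt N691 F3675) (tt N691 F3676) (tt N691 F3677) (tt N847 (iv F4339)))
theorem Q693 : ∀ i, i < 693 → P i := stepQ 692 Q692 (allL N692 (tt N692 F3678) (tt N576 F3679) (tt N850 (iv F4350)) (tt N555 F3680) (tt N552 (iv D771)) (tt N851 D924) (tt N692 F3681) (tt N692 F3682) (tt N848 (iv F4344)))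
theorem Q694 : ∀ i, i < 694 → P i := stepQ 693 Q693 (allL N693 (tt N693 F3683) (tt N852 D925) (tt N553 (iv D772)) (tt N832 (iv F4220)) (tt N853 D926) (tt N556 F3684) (tt N693 F3685) (tt N693 F3686) (tt N554 F3687))
theorem Q695 : ∀ i, i < 695 → P i := stepQ 694 Q694 (allL N694 (tt N694 F3688) (tt N578 F3689) (tt N853 (iv F4364)) (tt N848 (iv F4342)) (tt N553 (iv D773)) (tt N854 D927) (tt N694 F3690) (tt N694 F3691) (tt N555 F3692))
theorem Q696 : ∀ i, i < 696 → P i := stepQ 695 Q695 (allL N695 (tt N855 D928) (tt N554 (iv D774)) (tt N579 F3693) (tt N834 (iv F4229)) (tt N856 D929) (tt N558 F3694) (tt N695 F3695) (tt N561 F3696) (tt N852 (iv F4362)))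
theorem Q697 : ∀ i, i < 697 → P i := stepQ 696 Q696 (allL N696 (tt N696 F3697) (tt N856 (iv F4378)) (tt N555 F3698) (tt N857 D930) (tt N554 (iv D775)) (tt N858 D931) (tt N696 F3699) (tt N562 F3700) (tt N853 (iv F4367)))
theorem Q698 : ∀ i, i < 698 → P i := stepQ 697 Q697 (allL N697 (tt N697 F3701) (tt N581 F3702) (tt N858 (iv F4385)) (tt N851 (iv F4355)) (tt N560 F3703) (tt N555 (iv D776)) (tt N859 D932) (tt N563 F3704) (tt N854 (iv F4372)))
theorem Q699 : ∀ i, i < 699 → P i := stepQ 698 Q698 (allL N698 (tt N860 D933) (tt N556 (iv D777)) (tt N582 F3705) (tt N838 (iv F4248)) (tt N861 D934) (tt N852 (iv F4359)) (tt N607 F3706) (tt N698 F3707) (tt N558 F3708))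
theorem Q700 : ∀ i, i < 700 → P i := stepQ 699 Q699 (allL N699 (tt N699 F3709) (tt N861 (iv F4398)) (tt N557 F3710) (tt N862 D935) (tt N556 (iv D778)) (tt N863 D936) (tt N608 F3711) (tt N699 F3712) (tt N559 F3713))
theorem Q701 : ∀ i, i < 701 → P i := stepQ 700 Q700 (allL N700 (tt N700 F3714) (tt N584 F3715) (tt N863 (iv F4408)) (tt N700 F3716) (tt N854 (iv F4370)) (tt N557 (iv D779)) (tt N864 D937) (tt N700 F3717) (tt N560 F3718))
theorem Q702 : ∀ i, i < 702 → P i := stepQ 701 Q701 (allL N701 (tt N558 (iv D780)) (tt N701 F3719) (tt N585 F3720) (tt N841 (iv F4264)) (tt N865 D938) (tt N855 (iv F4375)) (tt N610 F3721) (tt N564 F3722) (tt N860 (iv F4397)))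
theorem Q703 : ∀ i, i < 703 → P i := stepQ 702 Q702 (allL N702 (tt N865 (iv F4417)) (tt N559 F3723) (tt N586 F3724) (tt N866 D939) (tt N558 (iv D781)) (tt N867 D940) (tt N611 F3725) (tt N565 F3726) (tt N861 (iv F4402)))
theorem Q704 : ∀ i, i < 704 → P i := stepQ 703 Q703 (allL N703 (tt N703 F3727) (tt N866 (iv F4422)) (tt N703 F3728) (tt N559 (iv D782)) (tt N843 (iv F4273)) (tt N868 D941) (tt N612 F3729) (tt N869 D942) (tt N862 (iv F4406)))
theorem Q705 : ∀ i, i < 705 → P i := stepQ 704 Q704 (allL N704 (tt N704 F3730) (tt N867 (iv F4424)) (tt N560 F3731) (tt N868 (iv F4429)) (tt N858 (iv F4386)) (tt N559 (iv D783)) (tt N870 D943) (tt N567 F3732) (tt N863 (iv F4410)))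
theorem Q706 : ∀ i, i < 706 → P i := stepQ 705 Q705 (allL N705 (tt N705 F3733) (tt N589 F3734) (tt N870 (iv F4435)) (tt N705 F3735) (tt N859 (iv F4390)) (tt N614 F3736) (tt N560 (iv D784)) (tt N568 F3737) (tt N864 (iv F4416)))
theorem Q707 : ∀ i, i < 707 → P i := stepQ 706 Q706 (allL N706 (tt N561 (iv D796)) (tt N706 F3780) (tt N590 F3781) (tt N706 F3782) (tt N871 D957) (tt N564 F3783) (tt N706 F3784) (tt N855 (iv F4377)) (tt N706 F3785))
theorem Q708 : ∀ i, i < 708 → P i := stepQ 707 Q707 (allL N707 (tt N871 (iv F4486)) (tt N562 F3786) (tt N591 F3787) (tt N872 D958) (tt N561 (iv D797)) (tt N873 D959) (tt N707 F3788) (tt N856 (iv F4381)) (tt N707 F3789))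
theorem Q709 : ∀ i, i < 709 → P i := stepQ 708 Q708 (allL N708 (tt N708 F3790) (tt N872 (iv F4491)) (tt N708 F3791) (tt N562 (iv D798)) (tt N708 F3792) (tt N874 D960) (tt N708 F3793) (tt N875 D961) (tt N708 F3794))
theorem Q710 : ∀ i, i < 710 → P i := stepQ 709 Q709 (allL N709 (tt N709 F3795) (tt N873 (iv F4495)) (tt N563 F3796) (tt N874 (iv F4501)) (tt N567 F3797) (tt N562 (iv D799)) (tt N876 D962) (tt N858 (iv F4387)) (tt N709 F3798))
theorem Q711 : ∀ i, i < 711 → P i := stepQ 710 Q710 (allL N710 (tt N710 F3799) (tt N594 F3800) (tt N876 (iv F4508)) (tt N710 F3801) (tt N568 F3802) (tt N710 F3803) (tt N563 (iv D800)) (tt N859 (iv F4392)) (tt N710 F3804))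
theorem Q712 : ∀ i, i < 712 → P i := stepQ 711 Q711 (allL N711 (tt N565 F3805) (tt N711 F3806) (tt N595 F3807) (tt N877 D963) (tt N564 (iv D801)) (tt N878 D964) (tt N615 F3808) (tt N865 (iv F4421)) (tt N711 F3809))
theorem Q713 : ∀ i, i < 713 → P i := stepQ 712 Q712 (allL N712 (tt N877 (iv F4512)) (tt N566 F3810) (tt N712 F3811) (tt N565 (iv D802)) (tt N712 F3812) (tt N879 D965) (tt N616 F3813) (tt N880 D966) (tt N712 F3814))
theorem Q714 : ∀ i, i < 714 → P i := stepQ 713 Q713 (allL N713 (tt N878 (iv F4518)) (tt N567 F3815) (tt N596 F3816) (tt N879 (iv F4524)) (tt N873 (iv F4497)) (tt N565 (iv D803)) (tt N881 D967) (tt N867 (iv F4426)) (tt N713 F3817))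
theorem Q715 : ∀ i, i < 715 → P i := stepQ 714 Q714 (allL N714 (tt N714 F3818) (tt N879 (iv F4522)) (tt N569 F3819) (tt N567 F3820) (tt N882 D968) (tt N566 (iv D804)) (tt N883 D969) (tt N884 D970) (tt N714 F3821))
theorem Q716 : ∀ i, i < 716 → P i := stepQ 715 Q715 (allL N715 (tt N715 F3822) (tt N880 (iv F4526)) (tt N570 F3823) (tt N869 (iv F4432)) (tt N715 F3824) (tt N884 (iv F4545)) (tt N619 F3825) (tt N566 (iv D805)) (tt N885 (iv F4329)))
theorem Q717 : ∀ i, i < 717 → P i := stepQ 716 Q716 (allL N716 (tt N716 F3826) (tt N881 (iv F4530)) (tt N568 F3827) (tt N883 (iv F4540)) (tt N876 (iv F4509)) (tt N620 F3828) (tt N567 (iv D806)) (tt N870 (iv F4437)) (tt N716 F3829))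
theorem Q718 : ∀ i, i < 718 → P i := stepQ 717 Q717 (allL N717 (tt N717 F3855) (tt N717 F3856) (tt N882 (iv F4535)) (tt N717 F3857) (tt N569 (iv D813)) (tt N717 F3858) (tt N886 D975) (tt N887 D976) (tt N717 F3859))
theorem Q719 : ∀ i, i < 719 → P i := stepQ 718 Q718 (allL N718 (tt N718 F3860) (tt N718 F3861) (tt N883 (iv F4539)) (tt N571 F3862) (tt N886 (iv F4567)) (tt N621 F3863) (tt N569 (iv D814)) (tt N840 (iv F4260)) (tt N718 F3864))
theorem Q720 : ∀ i, i < 720 → P i := stepQ 719 Q719 (allL N719 (tt N719 F3865) (tt N719 F3866) (tt N884 (iv F4544)) (tt N719 F3867) (tt N887 (iv F4571)) (tt N570 F3868) (tt N840 (iv F4259)) (tt N569 (iv D815)) (tt N845 (iv F4283)))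
theorem Q721 : ∀ i, i < 721 → P i := stepQ 720 Q720 (allL N720 (tt N720 F3656) (tt N720 F3657) (tt N885 (iv F4326)) (tt N720 F3658) (tt N720 F3659) (tt N845 (iv F4281)) (tt N606 (iv D767)) (tt N720 F3660) (tt N570 F3661))
theorem Q722 : ∀ i, i < 722 → P i := stepQ 721 Q721 (allL N721 (tt N791 F3371) (tt N721 F3372) (tt N573 (iv F3479)) (tt N790 (iv D707)) (tt N721 F3373) (tt N721 F3374) (tt N721 F3375) (tt N572 F3478) (tt N721 F3376))
theorem Q723 : ∀ i, i < 723 → P i := stepQ 722 Q722 (allL N722 (tt N793 F3869) (tt N846 (iv F4331)) (tt N825 F3870) (tt N573 (iv D816)) (tt N888 D977) (tt N722 F3871) (tt N722 F3872) (tt N574 F3873) (tt N722 F3874))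
theorem Q724 : ∀ i, i < 724 → P i := stepQ 723 Q723 (allL N723 (tt N794 F3875) (tt N889 D978) (tt N574 (iv D817)) (tt N723 F3876) (tt N890 D979) (tt N723 F3877) (tt N723 F3878) (tt N825 F3879) (tt N575 F3880))
theorem Q725 : ∀ i, i < 725 → P i := stepQ 724 Q724 (allL N724 (tt N795 F3881) (tt N848 (iv F4341)) (tt N890 (iv F4586)) (tt N578 F3882) (tt N574 (iv D818)) (tt N891 D980) (tt N724 F3883) (tt N888 (iv F4577)) (tt N576 F3884))
theorem Q726 : ∀ i, i < 726 → P i := stepQ 725 Q725 (allL N725 (tt N892 D981) (tt N575 (iv D819)) (tt N849 (iv F4345)) (tt N725 F3885) (tt N893 D982) (tt N725 F3886) (tt N725 F3887) (tt N725 F3888) (tt N889 (iv F4584)))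
theorem Q727 : ∀ i, i < 727 → P i := stepQ 726 Q726 (allL N726 (tt N797 F3889) (tt N893 (iv F4600)) (tt N576 F3890) (tt N894 D983) (tt N575 (iv D820)) (tt N895 D984) (tt N726 F3891) (tt N726 F3892) (tt N890 (iv F4589)))
theorem Q728 : ∀ i, i < 728 → P i := stepQ 727 Q727 (allL N727 (tt N798 F3893) (tt N851 (iv F4354)) (tt N895 (iv F4608)) (tt N581 F3894) (tt N727 F3895) (tt N576 (iv D821)) (tt N896 D985) (tt N727 F3896) (tt N891 (iv F4593)))
theorem Q729 : ∀ i, i < 729 → P i := stepQ 728 Q728 (allL N728 (tt N897 D986) (tt N577 (iv D822)) (tt N852 (iv F4358)) (tt N728 F3897) (tt N898 D987) (tt N582 F3898) (tt N728 F3899) (tt N728 F3900) (tt N579 F3901))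
theorem Q730 : ∀ i, i < 730 → P i := stepQ 729 Q729 (allL N729 (tt N800 F3902) (tt N898 (iv F4622)) (tt N578 F3903) (tt N899 D988) (tt N577 (iv D823)) (tt N900 D989) (tt N729 F3904) (tt N729 F3905) (tt N580 F3906))
theorem Q731 : ∀ i, i < 731 → P i := stepQ 730 Q730 (allL N730 (tt N801 F3907) (tt N854 (iv F4369)) (tt N900 (iv F4631)) (tt N891 (iv F4591)) (tt N584 F3908) (tt N578 (iv D824)) (tt N901 D990) (tt N730 F3909) (tt N581 F3910))
theorem Q732 : ∀ i, i < 732 → P i := stepQ 731 Q731 (allL N731 (tt N579 (iv D825)) (tt N802 F3911) (tt N855 (iv F4374)) (tt N731 F3912) (tt N902 D991) (tt N585 F3913) (tt N731 F3914) (tt N590 F3915) (tt N897 (iv F4621)))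
theorem Q733 : ∀ i, i < 733 → P i := stepQ 732 Q732 (allL N732 (tt N902 (iv F4640)) (tt N580 F3916) (tt N856 (iv F4379)) (tt N903 D992) (tt N579 (iv D826)) (tt N904 D993) (tt N732 F3917) (tt N591 F3918) (tt N898 (iv F4625)))
theorem Q734 : ∀ i, i < 734 → P i := stepQ 733 Q733 (allL N733 (tt N804 F3919) (tt N903 (iv F4644)) (tt N894 (iv F4604)) (tt N580 (iv D827)) (tt N733 F3920) (tt N905 D994) (tt N733 F3921) (tt N906 D995) (tt N899 (iv F4629)))
theorem Q735 : ∀ i, i < 735 → P i := stepQ 734 Q734 (allL N734 (tt N805 F3922) (tt N904 (iv F4647)) (tt N581 F3923) (tt N905 (iv F4651)) (tt N588 F3924) (tt N580 (iv D828)) (tt N907 D996) (tt N593 F3925) (tt N900 (iv F4634)))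
theorem Q736 : ∀ i, i < 736 → P i := stepQ 735 Q735 (allL N735 (tt N806 F3926) (tt N859 (iv F4389)) (tt N907 (iv F4657)) (tt N896 (iv F4612)) (tt N589 F3927) (tt N735 F3928) (tt N581 (iv D829)) (tt N594 F3929) (tt N901 (iv F4639)))
theorem Q737 : ∀ i, i < 737 → P i := stepQ 736 Q736 (allL N736 (tt N582 (iv D830)) (tt N807 F3930) (tt N860 (iv F4394)) (tt N736 F3931) (tt N908 D997) (tt N897 (iv F4618)) (tt N622 F3932) (tt N736 F3933) (tt N585 F3934))
theorem Q738 : ∀ i, i < 738 → P i := stepQ 737 Q737 (allL N737 (tt N908 (iv F4661)) (tt N583 F3935) (tt N861 (iv F4399)) (tt N909 D998) (tt N582 (iv D831)) (tt N910 D999) (tt N623 F3936) (tt N737 F3937) (tt N586 F3938))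
theorem Q739 : ∀ i, i < 739 → P i := stepQ 738 Q738 (allL N738 (tt N809 F3939) (tt N909 (iv F4668)) (tt N738 F3940) (tt N583 (iv D832)) (tt N738 F3941) (tt N911 D1000) (tt N624 F3942) (tt N826 (iv F3944)) (tt N587 F3943))
theorem Q740 : ∀ i, i < 740 → P i := stepQ 739 Q739 (allL N739 (tt N810 F3945) (tt N910 (iv F4673)) (tt N584 F3946) (tt N911 (iv F4678)) (tt N900 (iv F4632)) (tt N583 (iv D833)) (tt N912 D1001) (tt N739 F3947) (tt N588 F3948))
theorem Q741 : ∀ i, i < 741 → P i := stepQ 740 Q740 (allL N740 (tt N811 F3949) (tt N864 (iv F4412)) (tt N912 (iv F4683)) (tt N740 F3950) (tt N901 (iv F4636)) (tt N626 F3951) (tt N584 (iv D834)) (tt N740 F3952) (tt N589 F3953))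
theorem Q742 : ∀ i, i < 742 → P i := stepQ 741 Q741 (allL N741 (tt N586 F3954) (tt N812 F3955) (tt N865 (iv F4419)) (tt N913 D1002) (tt N585 (iv D835)) (tt N914 D1003) (tt N627 F3956) (tt N595 F3957) (tt N908 (iv F4665)))
theorem Q743 : ∀ i, i < 743 → P i := stepQ 742 Q742 (allL N742 (tt N913 (iv F4688)) (tt N587 F3958) (tt N915 D1004) (tt N586 (iv D836)) (tt N742 F3959) (tt N916 D1005) (tt N628 F3960) (tt N742 F3961) (tt N909 (iv F4671)))
theorem Q744 : ∀ i, i < 744 → P i := stepQ 743 Q743 (allL N743 (tt N914 (iv F4694)) (tt N588 F3962) (tt N867 (iv F4425)) (tt N916 (iv F4702)) (tt N904 (iv F4648)) (tt N586 (iv D837)) (tt N917 D1006) (tt N596 F3963) (tt N910 (iv F4675)))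
theorem Q745 : ∀ i, i < 745 → P i := stepQ 744 Q744 (allL N744 (tt N815 F3964) (tt N916 (iv F4701)) (tt N744 F3965) (tt N588 F3966) (tt N918 D1007) (tt N587 (iv D838)) (tt N919 D1008) (tt N744 F3967) (tt N911 (iv F4681)))
theorem Q746 : ∀ i, i < 746 → P i := stepQ 745 Q745 (allL N745 (tt N816 F3968) (tt N917 (iv F4704)) (tt N589 F3969) (tt N919 (iv F4713)) (tt N907 (iv F4658)) (tt N631 F3970) (tt N588 (iv D839)) (tt N597 F3971) (tt N912 (iv F4687)))
theorem Q747 : ∀ i, i < 747 → P i := stepQ 746 Q746 (allL N746 (tt N591 F4008) (tt N817 F4009) (tt N871 (iv F4488)) (tt N920 D1009) (tt N590 (iv D847)) (tt N921 D1010) (tt N746 F4010) (tt N902 (iv F4643)) (tt N746 F4011))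
theorem Q748 : ∀ i, i < 748 → P i := stepQ 747 Q747 (allL N747 (tt N920 (iv F4717)) (tt N592 F4012) (tt N922 D1011) (tt N591 (iv D848)) (tt N599 F4013) (tt N923 D1012) (tt N747 F4014) (tt N924 D1013) (tt N747 F4015))
theorem Q749 : ∀ i, i < 749 → P i := stepQ 748 Q748 (allL N748 (tt N921 (iv F4722)) (tt N593 F4016) (tt N873 (iv F4496)) (tt N923 (iv F4731)) (tt N596 F4017) (tt N591 (iv D849)) (tt N925 D1014) (tt N904 (iv F4649)) (tt N748 F4018))
theorem Q750 : ∀ i, i < 750 → P i := stepQ 749 Q749 (allL N749 (tt N820 F4019) (tt N923 (iv F4730)) (tt N749 F4020) (tt N593 F4021) (tt N749 F4022) (tt N592 (iv D850)) (tt N926 D1015) (tt N927 D1016) (tt N749 F4023))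
theorem Q751 : ∀ i, i < 751 → P i := stepQ 750 Q750 (allL N750 (tt N821 F4024) (tt N924 (iv F4734)) (tt N750 F4025) (tt N906 (iv F4653)) (tt N600 F4026) (tt N927 (iv F4750)) (tt N750 F4027) (tt N592 (iv D851)) (tt N928 D1017))
theorem Q752 : ∀ i, i < 752 → P i := stepQ 751 Q751 (allL N751 (tt N822 F4028) (tt N925 (iv F4737)) (tt N594 F4029) (tt N926 (iv F4743)) (tt N597 F4030) (tt N751 F4031) (tt N593 (iv D852)) (tt N907 (iv F4660)) (tt N751 F4032))
theorem Q753 : ∀ i, i < 753 → P i := stepQ 752 Q752 (allL N752 (tt N596 F4033) (tt N823 F4034) (tt N878 (iv F4520)) (tt N752 F4035) (tt N921 (iv F4724)) (tt N595 (iv D853)) (tt N929 D1018) (tt N914 (iv F4696)) (tt N752 F4036))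
theorem Q754 : ∀ i, i < 754 → P i := stepQ 753 Q753 (allL N753 (tt N929 (iv F4756)) (tt N597 F4037) (tt N881 (iv F4531)) (tt N753 F4038) (tt N925 (iv F4738)) (tt N633 F4039) (tt N596 (iv D854)) (tt N917 (iv F4706)) (tt N753 F4040))
theorem Q755 : ∀ i, i < 755 → P i := stepQ 754 Q754 (allL N754 (tt N599 F4046) (tt N825 F4047) (tt N930 D1019) (tt N598 (iv D856)) (tt N920 (iv F4719)) (tt N754 F4048) (tt N754 F4049) (tt N889 (iv F4583)) (tt N754 F4050))
theorem Q756 : ∀ i, i < 756 → P i := stepQ 755 Q755 (allL N755 (tt N930 (iv F4761)) (tt N755 F4051) (tt N599 (iv D857)) (tt N755 F4052) (tt N922 (iv F4727)) (tt N755 F4053) (tt N755 F4054) (tt N931 D1020) (tt N755 F4055))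
theorem Q757 : ∀ i, i < 757 → P i := stepQ 756 Q756 (allL N756 (tt N889 (iv F4579)) (tt N600 F4056) (tt N931 (iv F4767)) (tt N756 F4057) (tt N924 (iv F4735)) (tt N756 F4058) (tt N756 F4059) (tt N599 (iv D858)) (tt N892 (iv F4599)))
theorem Q758 : ∀ i, i < 758 → P i := stepQ 757 Q757 (allL N757 (tt N796 F4060) (tt N892 (iv F4594)) (tt N757 F4061) (tt N757 F4062) (tt N928 (iv F4753)) (tt N757 F4063) (tt N757 F4064) (tt N757 F4065) (tt N600 (iv D859)))
theorem Q759 : ∀ i, i < 759 → P i := stepQ 758 Q758 (allL N758 (tt N758 F3625) (tt N932 D909) (tt N601 (iv D760)) (tt N758 F3626) (tt N618 F3627) (tt N758 F3628) (tt N837 (iv F4244)) (tt N602 F3629) (tt N758 F3630))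
theorem Q760 : ∀ i, i < 760 → P i := stepQ 759 Q759 (allL N759 (tt N933 D910) (tt N602 (iv D761)) (tt N759 F3631) (tt N607 F3632) (tt N934 D911) (tt N759 F3633) (tt N838 (iv F4249)) (tt N932 (iv F4288)) (tt N604 F3634))
theorem Q761 : ∀ i, i < 761 → P i := stepQ 760 Q760 (allL N760 (tt N760 F3635) (tt N934 (iv F4295)) (tt N603 F3636) (tt N935 D912) (tt N602 (iv D762)) (tt N619 (iv F3639)) (tt N839 (iv F4253)) (tt N618 F3637) (tt N605 F3638))
theorem Q762 : ∀ i, i < 762 → P i := stepQ 761 Q761 (allL N761 (tt N604 (iv D763)) (tt N761 F3640) (tt N761 F3641) (tt N610 F3642) (tt N936 D913) (tt N761 F3643) (tt N841 (iv F4265)) (tt N761 F3644) (tt N933 (iv F4294)))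
theorem Q763 : ∀ i, i < 763 → P i := stepQ 762 Q762 (allL N762 (tt N936 (iv F4306)) (tt N605 F3645) (tt N762 F3646) (tt N937 D914) (tt N604 (iv D764)) (tt N938 D915) (tt N842 (iv F4269)) (tt N762 F3647) (tt N934 (iv F4298)))
theorem Q764 : ∀ i, i < 764 → P i := stepQ 763 Q763 (allL N763 (tt N763 F3648) (tt N937 (iv F4310)) (tt N763 F3649) (tt N605 (iv D765)) (tt N612 F3650) (tt N939 D916) (tt N843 (iv F4274)) (tt N940 D917) (tt N935 (iv F4305)))
theorem Q765 : ∀ i, i < 765 → P i := stepQ 764 Q764 (allL N764 (tt N764 F3651) (tt N938 (iv F4312)) (tt N606 F3652) (tt N939 (iv F4319)) (tt N764 F3653) (tt N605 (iv D766)) (tt N885 D918) (tt N764 F3654) (tt N619 F3655))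
theorem Q766 : ∀ i, i < 766 → P i := stepQ 765 Q765 (allL N765 (tt N607 (iv D785)) (tt N765 F3738) (tt N622 F3739) (tt N933 (iv F4292)) (tt N941 D944) (tt N765 F3740) (tt N860 (iv F4395)) (tt N765 F3741) (tt N610 F3742))
theorem Q767 : ∀ i, i < 767 → P i := stepQ 766 Q766 (allL N766 (tt N941 (iv F4438)) (tt N608 F3743) (tt N623 F3744) (tt N942 D945) (tt N607 (iv D786)) (tt N943 D946) (tt N861 (iv F4400)) (tt N766 F3745) (tt N611 F3746))
theorem Q768 : ∀ i, i < 768 → P i := stepQ 767 Q767 (allL N767 (tt N767 F3747) (tt N942 (iv F4444)) (tt N767 F3748) (tt N608 (iv D787)) (tt N935 (iv F4302)) (tt N944 D947) (tt N862 (iv F4405)) (tt N945 D948) (tt N612 F3749))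
theorem Q769 : ∀ i, i < 769 → P i := stepQ 768 Q768 (allL N768 (tt N768 F3750) (tt N943 (iv F4447)) (tt N609 F3751) (tt N944 (iv F4454)) (tt N768 F3752) (tt N608 (iv D788)) (tt N946 D949) (tt N768 F3753) (tt N613 F3754))
theorem Q770 : ∀ i, i < 770 → P i := stepQ 769 Q769 (allL N769 (tt N769 F3755) (tt N626 F3756) (tt N946 (iv F4461)) (tt N769 F3757) (tt N769 F3758) (tt N864 (iv F4414)) (tt N609 (iv D789)) (tt N769 F3759) (tt N614 F3760))
theorem Q771 : ∀ i, i < 771 → P i := stepQ 770 Q770 (allL N770 (tt N611 F3761) (tt N770 F3762) (tt N627 F3763) (tt N947 D950) (tt N610 (iv D790)) (tt N948 D951) (tt N865 (iv F4420)) (tt N615 F3764) (tt N941 (iv F4442)))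
theorem Q772 : ∀ i, i < 772 → P i := stepQ 771 Q771 (allL N771 (tt N947 (iv F4465)) (tt N612 F3765) (tt N949 D952) (tt N611 (iv D791)) (tt N937 (iv F4311)) (tt N950 D953) (tt N866 (iv F4423)) (tt N951 D954) (tt N942 (iv F4445)))
theorem Q773 : ∀ i, i < 773 → P i := stepQ 772 Q772 (allL N772 (tt N948 (iv F4467)) (tt N613 F3766) (tt N629 F3767) (tt N950 (iv F4476)) (tt N772 F3768) (tt N611 (iv D792)) (tt N952 D955) (tt N617 F3769) (tt N943 (iv F4451)))
theorem Q774 : ∀ i, i < 774 → P i := stepQ 773 Q773 (allL N773 (tt N773 F3770) (tt N950 (iv F4475)) (tt N773 F3771) (tt N613 F3772) (tt N945 (iv F4459)) (tt N612 (iv D793)) (tt N953 D956) (tt N935 (iv F4304)) (tt N944 (iv F4455)))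
theorem Q775 : ∀ i, i < 775 → P i := stepQ 774 Q774 (allL N774 (tt N774 F3773) (tt N951 (iv F4477)) (tt N774 F3774) (tt N619 F3775) (tt N940 (iv F4324)) (tt N935 (iv F4303)) (tt N869 (iv F4433)) (tt N612 (iv D794)) (tt N939 (iv F4320)))
theorem Q776 : ∀ i, i < 776 → P i := stepQ 775 Q775 (allL N775 (tt N775 F3776) (tt N952 (iv F4479)) (tt N614 F3777) (tt N953 (iv F4485)) (tt N775 F3778) (tt N870 (iv F4436)) (tt N613 (iv D795)) (tt N620 F3779) (tt N946 (iv F4464)))
theorem Q777 : ∀ i, i < 777 → P i := stepQ 776 Q776 (allL N776 (tt N616 F3830) (tt N776 F3831) (tt N776 F3832) (tt N615 (iv D807)) (tt N776 F3833) (tt N954 D971) (tt N877 (iv F4516)) (tt N955 D972) (tt N776 F3834))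
theorem Q778 : ∀ i, i < 778 → P i := stepQ 777 Q777 (allL N777 (tt N617 F3835) (tt N777 F3836) (tt N632 F3837) (tt N954 (iv F4549)) (tt N777 F3838) (tt N615 (iv D808)) (tt N956 D973) (tt N948 (iv F4471)) (tt N777 F3839))
theorem Q779 : ∀ i, i < 779 → P i := stepQ 778 Q778 (allL N778 (tt N954 (iv F4546)) (tt N618 F3840) (tt N778 F3841) (tt N617 F3842) (tt N932 (iv F4286)) (tt N616 (iv D809)) (tt N957 D974) (tt N934 (iv F4297)) (tt N778 F3843))
theorem Q780 : ∀ i, i < 780 → P i := stepQ 779 Q779 (allL N779 (tt N955 (iv F4551)) (tt N619 F3844) (tt N779 F3845) (tt N951 (iv F4478)) (tt N779 F3846) (tt N934 F4299) (tt N880 (iv F4529)) (tt N616 (iv D810)) (tt N938 (iv F4316)))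
theorem Q781 : ∀ i, i < 781 → P i := stepQ 780 Q780 (allL N780 (tt N956 (iv F4555)) (tt N620 F3847) (tt N633 F3848) (tt N957 (iv F4562)) (tt N780 F3849) (tt N881 (iv F4532)) (tt N617 (iv D811)) (tt N952 (iv F4482)) (tt N780 F3850))
theorem Q782 : ∀ i, i < 782 → P i := stepQ 781 Q781 (allL N781 (tt N781 F3851) (tt N957 (iv F4560)) (tt N621 F3852) (tt N620 F3853) (tt N837 (iv F4243)) (tt N883 (iv F4541)) (tt N618 (iv D812)) (tt N839 (iv F4254)) (tt N781 F3854))
theorem Q783 : ∀ i, i < 783 → P i := stepQ 782 Q782 (allL N782 (tt N623 F3972) (tt N630 F3973) (tt N941 (iv F4440)) (tt N629 F3976) (tt N622 (iv D840)) (tt N628 (iv F3977)) (tt N908 (iv F4663)) (tt N782 F3974) (tt N627 F3975))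
theorem Q784 : ∀ i, i < 784 → P i := stepQ 783 Q783 (allL N783 (tt N629 F3978) (tt N624 F3979) (tt N948 (iv F4469)) (tt N623 (iv D841)) (tt N783 F3980) (tt N627 (iv F3982)) (tt N909 (iv F4670)) (tt N632 F3983) (tt N628 F3981))
theorem Q785 : ∀ i, i < 785 → P i := stepQ 784 Q784 (allL N784 (tt N628 F3984) (tt N625 F3985) (tt N943 (iv F4448)) (tt N627 F3986) (tt N784 F3987) (tt N623 (iv D842)) (tt N913 (iv F4691)) (tt N784 F3988) (tt N629 F3989))
theorem Q786 : ∀ i, i < 786 → P i := stepQ 785 Q785 (allL N785 (tt N813 F3990) (tt N913 (iv F4689)) (tt N626 F3991) (tt N812 F3992) (tt N785 F3993) (tt N912 (iv F4685)) (tt N625 (iv D843)) (tt N785 F3994) (tt N631 F3995))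
theorem Q787 : ∀ i, i < 787 → P i := stepQ 786 Q786 (allL N786 (tt N943 (iv F4446)) (tt N786 F3996) (tt N628 (iv D844)) (tt N949 (iv F4474)) (tt N786 F3997) (tt N941 F4443) (tt N915 (iv F4699)) (tt N786 F3998) (tt N948 (iv F4472)))
theorem Q788 : ∀ i, i < 788 → P i := stepQ 787 Q787 (allL N787 (tt N909 (iv F4667)) (tt N631 F3999) (tt N952 (iv F4480)) (tt N908 F4666) (tt N787 F4000) (tt N917 (iv F4705)) (tt N629 (iv D845)) (tt N633 F4001) (tt N913 (iv F4693)))
theorem Q789 : ∀ i, i < 789 → P i := stepQ 788 Q788 (allL N788 (tt N808 F4002) (tt N908 (iv F4662)) (tt N788 F4003) (tt N631 F4004) (tt N807 F4005) (tt N919 (iv F4714)) (tt N630 (iv D846)) (tt N788 F4006) (tt N812 F4007))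
theorem Q790 : ∀ i, i < 790 → P i := stepQ 789 Q789 (allL N789 (tt N633 F4041) (tt N826 F4042) (tt N956 (iv F4557)) (tt N789 F4043) (tt N789 F4044) (tt N929 (iv F4759)) (tt N632 (iv D855)) (tt N909 F4672) (tt N789 F4045))
theorem Q791 : ∀ i, i < 791 → P i := stepQ 790 Q790 (allL N790 (tt N635 F2690) (tt N790 F2691) (tt N664 (iv F2866)) (tt N721 D707) (tt N634 (iv D561)) (tt N790 F2692) (tt N790 F2693) (tt N790 F2694) (tt N790 F2695))
theorem Q792 : ∀ i, i < 792 → P i := stepQ 791 Q791 (allL N791 (tt N721 (iv F3371)) (tt N636 F2696) (tt N639 F3474) (tt N635 (iv D562)) (tt N791 F2697) (tt N791 F2698) (tt N791 F2699) (tt N638 (iv F3475)) (tt N791 F2700))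
theorem Q793 : ∀ i, i < 793 → P i := stepQ 792 Q792 (allL N792 (tt N792 F2701) (tt N638 F3476) (tt N792 F2702) (tt N792 F2703) (tt N792 F2704) (tt N792 F2705) (tt N792 F2706) (tt N636 (iv D563)) (tt N637 (iv F3477)))
theorem Q794 : ∀ i, i < 794 → P i := stepQ 793 Q793 (allL N793 (tt N722 (iv F3869)) (tt N793 F3406) (tt N665 F3480) (tt N639 (iv D713)) (tt N958 D860) (tt N793 F3407) (tt N793 F3408) (tt N640 F3409) (tt N793 F3410))
theorem Q795 : ∀ i, i < 795 → P i := stepQ 794 Q794 (allL N794 (tt N723 (iv F3875)) (tt N666 F3482) (tt N640 (iv D714)) (tt N794 F3411) (tt N959 D861) (tt N794 F3412) (tt N794 F3413) (tt N665 (iv F3481)) (tt N641 F3414))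
theorem Q796 : ∀ i, i < 796 → P i := stepQ 795 Q795 (allL N795 (tt N724 (iv F3881)) (tt N795 F3415) (tt N959 (iv F4073)) (tt N644 F3416) (tt N640 (iv D715)) (tt N960 D862) (tt N795 F3417) (tt N958 (iv F4070)) (tt N642 F3418))
theorem Q797 : ∀ i, i < 797 → P i := stepQ 796 Q796 (allL N796 (tt N757 (iv F4060)) (tt N641 (iv D716)) (tt N796 F3419) (tt N796 F3420) (tt N961 D863) (tt N796 F3421) (tt N796 F3422) (tt N796 F3423) (tt N666 (iv F3483)))
theorem Q798 : ∀ i, i < 798 → P i := stepQ 797 Q797 (allL N797 (tt N726 (iv F3889)) (tt N961 (iv F4081)) (tt N642 F3424) (tt N962 D864) (tt N641 (iv D717)) (tt N963 D865) (tt N797 F3425) (tt N797 F3426) (tt N959 (iv F4076)))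
theorem Q799 : ∀ i, i < 799 → P i := stepQ 798 Q798 (allL N798 (tt N727 (iv F3893)) (tt N798 F3427) (tt N963 (iv F4089)) (tt N647 F3428) (tt N798 F3429) (tt N642 (iv D718)) (tt N964 D866) (tt N798 F3430) (tt N960 (iv F4080)))
theorem Q800 : ∀ i, i < 800 → P i := stepQ 799 Q799 (allL N799 (tt N965 D867) (tt N643 (iv D719)) (tt N799 F3431) (tt N799 F3432) (tt N966 D868) (tt N648 F3433) (tt N799 F3434) (tt N799 F3435) (tt N645 F3436))
theorem Q801 : ∀ i, i < 801 → P i := stepQ 800 Q800 (allL N800 (tt N729 (iv F3902)) (tt N966 (iv F4103)) (tt N644 F3437) (tt N967 D869) (tt N643 (iv D720)) (tt N968 D870) (tt N800 F3438) (tt N800 F3439) (tt N646 F3440))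
theorem Q802 : ∀ i, i < 802 → P i := stepQ 801 Q801 (allL N801 (tt N730 (iv F3907)) (tt N801 F3441) (tt N968 (iv F4111)) (tt N960 (iv F4078)) (tt N650 F3442) (tt N644 (iv D721)) (tt N969 D871) (tt N801 F3443) (tt N647 F3444))
theorem Q803 : ∀ i, i < 803 → P i := stepQ 802 Q802 (allL N802 (tt N645 (iv D722)) (tt N731 (iv F3911)) (tt N802 F3445) (tt N802 F3446) (tt N970 D872) (tt N651 F3447) (tt N802 F3448) (tt N656 F3449) (tt N965 (iv F4102)))
theorem Q804 : ∀ i, i < 804 → P i := stepQ 803 Q803 (allL N803 (tt N970 (iv F4120)) (tt N646 F3450) (tt N803 F3451) (tt N971 D873) (tt N645 (iv D723)) (tt N972 D874) (tt N803 F3452) (tt N657 F3453) (tt N966 (iv F4107)))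
theorem Q805 : ∀ i, i < 805 → P i := stepQ 804 Q804 (allL N804 (tt N733 (iv F3919)) (tt N971 (iv F4124)) (tt N962 (iv F4086)) (tt N646 (iv D724)) (tt N804 F3454) (tt N973 D875) (tt N804 F3455) (tt N974 D876) (tt N967 (iv F4110)))
theorem Q806 : ∀ i, i < 806 → P i := stepQ 805 Q805 (allL N805 (tt N734 (iv F3922)) (tt N972 (iv F4127)) (tt N647 F3456) (tt N973 (iv F4131)) (tt N654 F3457) (tt N646 (iv D725)) (tt N975 D877) (tt N659 F3458) (tt N968 (iv F4114)))
theorem Q807 : ∀ i, i < 807 → P i := stepQ 806 Q806 (allL N806 (tt N735 (iv F3926)) (tt N806 F3459) (tt N975 (iv F4135)) (tt N964 (iv F4093)) (tt N655 F3460) (tt N806 F3461) (tt N647 (iv D726)) (tt N660 F3462) (tt N969 (iv F4119)))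
theorem Q808 : ∀ i, i < 808 → P i := stepQ 807 Q807 (allL N807 (tt N648 (iv D727)) (tt N736 (iv F3930)) (tt N807 F3463) (tt N807 F3464) (tt N788 (iv F4005)) (tt N965 (iv F4099)) (tt N667 F3465) (tt N807 F3466) (tt N651 F3467))
theorem Q809 : ∀ i, i < 809 → P i := stepQ 808 Q808 (allL N808 (tt N788 (iv F4002)) (tt N649 F3468) (tt N808 F3469) (tt N673 (iv F3473)) (tt N648 (iv D728)) (tt N976 D878) (tt N668 F3470) (tt N808 F3471) (tt N652 F3472))
theorem Q810 : ∀ i, i < 810 → P i := stepQ 809 Q809 (allL N809 (tt N738 (iv F3939)) (tt N673 F3484) (tt N809 F3485) (tt N649 (iv D729)) (tt N809 F3486) (tt N977 D879) (tt N669 F3487) (tt N675 (iv F3489)) (tt N653 F3488))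
theorem Q811 : ∀ i, i < 811 → P i := stepQ 810 Q810 (allL N810 (tt N739 (iv F3945)) (tt N976 (iv F4139)) (tt N650 F3490) (tt N977 (iv F4147)) (tt N968 (iv F4112)) (tt N649 (iv D730)) (tt N978 D880) (tt N810 F3491) (tt N654 F3492))
theorem Q812 : ∀ i, i < 812 → P i := stepQ 811 Q811 (allL N811 (tt N740 (iv F3949)) (tt N811 F3493) (tt N978 (iv F4152)) (tt N811 F3494) (tt N969 (iv F4116)) (tt N671 F3495) (tt N650 (iv D731)) (tt N811 F3496) (tt N655 F3497))
theorem Q813 : ∀ i, i < 813 → P i := stepQ 812 Q812 (allL N812 (tt N652 F3498) (tt N741 (iv F3955)) (tt N812 F3499) (tt N785 (iv F3992)) (tt N651 (iv D732)) (tt N979 D881) (tt N672 F3500) (tt N661 F3501) (tt N788 (iv F4007)))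
theorem Q814 : ∀ i, i < 814 → P i := stepQ 813 Q813 (allL N813 (tt N785 (iv F3990)) (tt N653 F3502) (tt N671 F3507) (tt N652 (iv D733)) (tt N813 F3503) (tt N978 (iv F4154)) (tt N670 F3504) (tt N813 F3505) (tt N673 F3506))
theorem Q815 : ∀ i, i < 815 → P i := stepQ 814 Q814 (allL N814 (tt N979 (iv F4157)) (tt N654 F3508) (tt N814 F3509) (tt N978 (iv F4153)) (tt N972 (iv F4129)) (tt N652 (iv D734)) (tt N977 (iv F4148)) (tt N662 F3510) (tt N976 (iv F4144)))
theorem Q816 : ∀ i, i < 816 → P i := stepQ 815 Q815 (allL N815 (tt N744 (iv F3964)) (tt N978 (iv F4151)) (tt N815 F3511) (tt N654 F3512) (tt N980 D882) (tt N653 (iv D735)) (tt N976 (iv F4142)) (tt N815 F3513) (tt N977 (iv F4150)))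
theorem Q817 : ∀ i, i < 817 → P i := stepQ 816 Q816 (allL N816 (tt N745 (iv F3968)) (tt N977 (iv F4145)) (tt N655 F3514) (tt N976 (iv F4141)) (tt N975 (iv F4136)) (tt N673 F3515) (tt N654 (iv D736)) (tt N663 F3516) (tt N978 (iv F4156)))
theorem Q818 : ∀ i, i < 818 → P i := stepQ 817 Q817 (allL N817 (tt N657 F3517) (tt N746 (iv F4009)) (tt N817 F3518) (tt N981 D883) (tt N656 (iv D737)) (tt N982 D884) (tt N817 F3519) (tt N970 (iv F4123)) (tt N817 F3520))
theorem Q819 : ∀ i, i < 819 → P i := stepQ 818 Q818 (allL N818 (tt N981 (iv F4163)) (tt N658 F3521) (tt N958 (iv F4067)) (tt N657 (iv D738)) (tt N665 F3522) (tt N983 D885) (tt N818 F3523) (tt N959 (iv F4075)) (tt N818 F3524))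
theorem Q820 : ∀ i, i < 820 → P i := stepQ 819 Q819 (allL N819 (tt N982 (iv F4167)) (tt N659 F3525) (tt N819 F3526) (tt N983 (iv F4172)) (tt N662 F3527) (tt N657 (iv D739)) (tt N984 D886) (tt N972 (iv F4130)) (tt N819 F3528))
theorem Q821 : ∀ i, i < 821 → P i := stepQ 820 Q820 (allL N820 (tt N749 (iv F4019)) (tt N983 (iv F4171)) (tt N820 F3529) (tt N659 F3530) (tt N820 F3531) (tt N658 (iv D740)) (tt N985 D887) (tt N986 D888) (tt N820 F3532))
theorem Q822 : ∀ i, i < 822 → P i := stepQ 821 Q821 (allL N821 (tt N750 (iv F4024)) (tt N959 (iv F4072)) (tt N821 F3533) (tt N974 (iv F4132)) (tt N666 F3534) (tt N986 (iv F4187)) (tt N821 F3535) (tt N658 (iv D741)) (tt N961 (iv F4085)))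
theorem Q823 : ∀ i, i < 823 → P i := stepQ 822 Q822 (allL N822 (tt N751 (iv F4028)) (tt N984 (iv F4175)) (tt N660 F3536) (tt N985 (iv F4181)) (tt N663 F3537) (tt N822 F3538) (tt N659 (iv D742)) (tt N975 (iv F4138)) (tt N822 F3539))
theorem Q824 : ∀ i, i < 824 → P i := stepQ 823 Q823 (allL N823 (tt N662 F3540) (tt N752 (iv F4034)) (tt N823 F3541) (tt N823 F3542) (tt N982 (iv F4169)) (tt N661 (iv D743)) (tt N987 D889) (tt N979 (iv F4159)) (tt N823 F3543))
theorem Q825 : ∀ i, i < 825 → P i := stepQ 824 Q824 (allL N824 (tt N987 (iv F4188)) (tt N663 F3544) (tt N824 F3545) (tt N824 F3546) (tt N984 (iv F4177)) (tt N675 F3547) (tt N662 (iv D744)) (tt N977 (iv F4149)) (tt N824 F3548))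
theorem Q826 : ∀ i, i < 826 → P i := stepQ 825 Q825 (allL N825 (tt N665 F3554) (tt N754 (iv F4047)) (tt N722 (iv F3870)) (tt N664 (iv D746)) (tt N981 (iv F4164)) (tt N825 F3555) (tt N825 F3556) (tt N723 (iv F3879)) (tt N825 F3557))
theorem Q827 : ∀ i, i < 827 → P i := stepQ 826 Q826 (allL N826 (tt N675 F3549) (tt N789 (iv F4042)) (tt N826 F3550) (tt N826 F3551) (tt N826 F3552) (tt N987 (iv F4191)) (tt N674 (iv D745)) (tt N738 F3944) (tt N826 F3553))
theorem Q828 : ∀ i, i < 828 → P i := stepQ 827 Q827 (allL N827 (tt N827 F4193) (tt N827 F4194) (tt N988 D1047) (tt N676 (iv D890)) (tt N989 D1048) (tt N827 F4195) (tt N827 F4196) (tt N678 F4197) (tt N827 F4198))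
theorem Q829 : ∀ i, i < 829 → P i := stepQ 828 Q828 (allL N828 (tt N828 F4199) (tt N828 F4200) (tt N990 D1049) (tt N677 (iv D891)) (tt N991 D1050) (tt N828 F4201) (tt N828 F4202) (tt N828 F4203) (tt N678 F4204))
theorem Q830 : ∀ i, i < 830 → P i := stepQ 829 Q829 (allL N829 (tt N829 F4205) (tt N992 D1051) (tt N678 (iv D892)) (tt N691 F4206) (tt N993 D1052) (tt N829 F4207) (tt N829 F4208) (tt N988 (iv F4881)) (tt N990 (iv F4894)))
theorem Q831 : ∀ i, i < 831 → P i := stepQ 830 Q830 (allL N830 (tt N830 F4209) (tt N830 F4210) (tt N993 (iv F4906)) (tt N682 F4211) (tt N678 (iv D893)) (tt N994 D1053) (tt N830 F4212) (tt N989 (iv F4887)) (tt N991 (iv F4900)))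
theorem Q832 : ∀ i, i < 832 → P i := stepQ 831 Q831 (allL N831 (tt N831 F4213) (tt N831 F4214) (tt N995 D1054) (tt N679 (iv D894)) (tt N996 D1055) (tt N683 F4215) (tt N831 F4216) (tt N680 F4217) (tt N831 F4218))
theorem Q833 : ∀ i, i < 833 → P i := stepQ 832 Q832 (allL N832 (tt N832 F4219) (tt N997 D1056) (tt N680 (iv D895)) (tt N693 F4220) (tt N998 D1057) (tt N684 F4221) (tt N832 F4222) (tt N995 (iv F4916)) (tt N681 F4223))
theorem Q834 : ∀ i, i < 834 → P i := stepQ 833 Q833 (allL N833 (tt N833 F4224) (tt N833 F4225) (tt N998 (iv F4931)) (tt N991 (iv F4897)) (tt N680 (iv D896)) (tt N999 D1058) (tt N833 F4226) (tt N996 (iv F4923)) (tt N682 F4227))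
theorem Q835 : ∀ i, i < 835 → P i := stepQ 834 Q834 (allL N834 (tt N1000 D1059) (tt N681 (iv D897)) (tt N834 F4228) (tt N695 F4229) (tt N1001 D1060) (tt N686 F4230) (tt N834 F4231) (tt N834 F4232) (tt N997 (iv F4929)))
theorem Q836 : ∀ i, i < 836 → P i := stepQ 835 Q835 (allL N835 (tt N835 F4233) (tt N1001 (iv F4946)) (tt N682 F4234) (tt N1002 D1061) (tt N681 (iv D898)) (tt N1003 D1062) (tt N835 F4235) (tt N835 F4236) (tt N998 (iv F4933)))
theorem Q837 : ∀ i, i < 837 → P i := stepQ 836 Q836 (allL N836 (tt N836 F4237) (tt N836 F4238) (tt N1003 (iv F4954)) (tt N994 (iv F4910)) (tt N688 F4239) (tt N682 (iv D899)) (tt N1004 D1063) (tt N836 F4240) (tt N999 (iv F4938)))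
theorem Q838 : ∀ i, i < 838 → P i := stepQ 837 Q837 (allL N837 (tt N837 F4241) (tt N1005 D1064) (tt N683 (iv D900)) (tt N837 F4242) (tt N781 F4243) (tt N995 (iv F4914)) (tt N758 F4244) (tt N684 F4245) (tt N837 F4246))
theorem Q839 : ∀ i, i < 839 → P i := stepQ 838 Q838 (allL N838 (tt N1006 D1065) (tt N684 (iv D901)) (tt N838 F4247) (tt N698 F4248) (tt N1007 D1066) (tt N997 (iv F4927)) (tt N759 F4249) (tt N1005 (iv F4967)) (tt N686 F4250))
theorem Q840 : ∀ i, i < 840 → P i := stepQ 839 Q839 (allL N839 (tt N839 F4251) (tt N1007 (iv F4974)) (tt N685 F4252) (tt N1008 D1067) (tt N684 (iv D902)) (tt N1009 D1068) (tt N760 F4253) (tt N781 F4254) (tt N687 F4255))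
theorem Q841 : ∀ i, i < 841 → P i := stepQ 840 Q840 (allL N840 (tt N840 F4256) (tt N840 F4257) (tt N1009 (iv F4986)) (tt N840 F4258) (tt N999 (iv F4936)) (tt N685 (iv D903)) (tt N719 F4259) (tt N718 F4260) (tt N688 F4261))
theorem Q842 : ∀ i, i < 842 → P i := stepQ 841 Q841 (allL N841 (tt N686 (iv D904)) (tt N841 F4262) (tt N841 F4263) (tt N701 F4264) (tt N1010 D1069) (tt N1000 (iv F4943)) (tt N761 F4265) (tt N841 F4266) (tt N1006 (iv F4973)))
theorem Q843 : ∀ i, i < 843 → P i := stepQ 842 Q842 (allL N842 (tt N1010 (iv F4990)) (tt N687 F4267) (tt N842 F4268) (tt N1011 D1070) (tt N686 (iv D905)) (tt N1012 D1071) (tt N762 F4269) (tt N842 F4270) (tt N1007 (iv F4978)))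
theorem Q844 : ∀ i, i < 844 → P i := stepQ 843 Q843 (allL N843 (tt N843 F4271) (tt N1011 (iv F4995)) (tt N843 F4272) (tt N687 (iv D906)) (tt N703 F4273) (tt N1013 D1072) (tt N763 F4274) (tt N1014 D1073) (tt N1008 (iv F4984)))
theorem Q845 : ∀ i, i < 845 → P i := stepQ 844 Q844 (allL N844 (tt N844 F4275) (tt N1012 (iv F4998)) (tt N688 F4276) (tt N1013 (iv F5003)) (tt N1003 (iv F4955)) (tt N687 (iv D907)) (tt N1015 D1074) (tt N844 F4277) (tt N1009 (iv F4989)))
theorem Q846 : ∀ i, i < 846 → P i := stepQ 845 Q845 (allL N845 (tt N845 F4278) (tt N845 F4279) (tt N1015 (iv F5010)) (tt N845 F4280) (tt N1004 (iv F4959)) (tt N720 F4281) (tt N688 (iv D908)) (tt N845 F4282) (tt N719 F4283))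
theorem Q847 : ∀ i, i < 847 → P i := stepQ 846 Q846 (allL N846 (tt N846 F4330) (tt N722 F4331) (tt N1016 D1087) (tt N689 (iv D919)) (tt N1017 D1088) (tt N846 F4332) (tt N846 F4333) (tt N690 F4334) (tt N846 F4335))
theorem Q848 : ∀ i, i < 848 → P i := stepQ 847 Q847 (allL N847 (tt N847 F4336) (tt N1018 D1089) (tt N690 (iv D920)) (tt N990 (iv F4890)) (tt N1019 D1090) (tt N847 F4337) (tt N847 F4338) (tt N1016 (iv F5076)) (tt N691 F4339))
theorem Q849 : ∀ i, i < 849 → P i := stepQ 848 Q848 (allL N848 (tt N848 F4340) (tt N724 F4341) (tt N1019 (iv F5091)) (tt N694 F4342) (tt N690 (iv D921)) (tt N1020 D1091) (tt N848 F4343) (tt N1017 (iv F5082)) (tt N692 F4344))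
theorem Q850 : ∀ i, i < 850 → P i := stepQ 849 Q849 (allL N849 (tt N1021 D1092) (tt N691 (iv D922)) (tt N725 F4345) (tt N992 (iv F4902)) (tt N1022 D1093) (tt N849 F4346) (tt N849 F4347) (tt N849 F4348) (tt N1018 (iv F5088)))
theorem Q851 : ∀ i, i < 851 → P i := stepQ 850 Q850 (allL N850 (tt N850 F4349) (tt N1022 (iv F5105)) (tt N692 F4350) (tt N1023 D1094) (tt N691 (iv D923)) (tt N1024 D1095) (tt N850 F4351) (tt N850 F4352) (tt N1019 (iv F5093)))
theorem Q852 : ∀ i, i < 852 → P i := stepQ 851 Q851 (allL N851 (tt N851 F4353) (tt N727 F4354) (tt N1024 (iv F5113)) (tt N697 F4355) (tt N851 F4356) (tt N692 (iv D924)) (tt N1025 D1096) (tt N851 F4357) (tt N1020 (iv F5098)))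
theorem Q853 : ∀ i, i < 853 → P i := stepQ 852 Q852 (allL N852 (tt N1026 D1097) (tt N693 (iv D925)) (tt N728 F4358) (tt N997 (iv F4926)) (tt N1027 D1098) (tt N698 F4359) (tt N852 F4360) (tt N852 F4361) (tt N695 F4362))
theorem Q854 : ∀ i, i < 854 → P i := stepQ 853 Q853 (allL N853 (tt N853 F4363) (tt N1027 (iv F5128)) (tt N694 F4364) (tt N1028 D1099) (tt N693 (iv D926)) (tt N1029 D1100) (tt N853 F4365) (tt N853 F4366) (tt N696 F4367))
theorem Q855 : ∀ i, i < 855 → P i := stepQ 854 Q854 (allL N854 (tt N854 F4368) (tt N730 F4369) (tt N1029 (iv F5137)) (tt N1020 (iv F5096)) (tt N700 F4370) (tt N694 (iv D927)) (tt N1030 D1101) (tt N854 F4371) (tt N697 F4372))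
theorem Q856 : ∀ i, i < 856 → P i := stepQ 855 Q855 (allL N855 (tt N695 (iv D928)) (tt N855 F4373) (tt N731 F4374) (tt N1000 (iv F4942)) (tt N1031 D1102) (tt N701 F4375) (tt N855 F4376) (tt N706 F4377) (tt N1026 (iv F5127)))
theorem Q857 : ∀ i, i < 857 → P i := stepQ 856 Q856 (allL N856 (tt N1031 (iv F5147)) (tt N696 F4378) (tt N732 F4379) (tt N1032 D1103) (tt N695 (iv D929)) (tt N1033 D1104) (tt N856 F4380) (tt N707 F4381) (tt N1027 (iv F5132)))
theorem Q858 : ∀ i, i < 858 → P i := stepQ 857 Q857 (allL N857 (tt N857 F4382) (tt N1032 (iv F5152)) (tt N1023 (iv F5110)) (tt N696 (iv D930)) (tt N1002 (iv F4951)) (tt N1034 D1105) (tt N857 F4383) (tt N1035 D1106) (tt N1028 (iv F5135)))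
theorem Q859 : ∀ i, i < 859 → P i := stepQ 858 Q858 (allL N858 (tt N858 F4384) (tt N1033 (iv F5154)) (tt N697 F4385) (tt N1034 (iv F5159)) (tt N704 F4386) (tt N696 (iv D931)) (tt N1036 D1107) (tt N709 F4387) (tt N1029 (iv F5140)))
theorem Q860 : ∀ i, i < 860 → P i := stepQ 859 Q859 (allL N859 (tt N859 F4388) (tt N735 F4389) (tt N1036 (iv F5164)) (tt N1025 (iv F5118)) (tt N705 F4390) (tt N859 F4391) (tt N697 (iv D932)) (tt N710 F4392) (tt N1030 (iv F5146)))
theorem Q861 : ∀ i, i < 861 → P i := stepQ 860 Q860 (allL N860 (tt N698 (iv D933)) (tt N860 F4393) (tt N736 F4394) (tt N1006 (iv F4971)) (tt N1037 D1108) (tt N1026 (iv F5124)) (tt N765 F4395) (tt N860 F4396) (tt N701 F4397))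
theorem Q862 : ∀ i, i < 862 → P i := stepQ 861 Q861 (allL N861 (tt N1037 (iv F5168)) (tt N699 F4398) (tt N737 F4399) (tt N1038 D1109) (tt N698 (iv D934)) (tt N1039 D1110) (tt N766 F4400) (tt N861 F4401) (tt N702 F4402))
theorem Q863 : ∀ i, i < 863 → P i := stepQ 862 Q862 (allL N862 (tt N862 F4403) (tt N1038 (iv F5174)) (tt N862 F4404) (tt N699 (iv D935)) (tt N1008 (iv F4981)) (tt N1040 D1111) (tt N767 F4405) (tt N1041 D1112) (tt N703 F4406))
theorem Q864 : ∀ i, i < 864 → P i := stepQ 863 Q863 (allL N863 (tt N863 F4407) (tt N1039 (iv F5177)) (tt N700 F4408) (tt N1040 (iv F5183)) (tt N1029 (iv F5138)) (tt N699 (iv D936)) (tt N1042 D1113) (tt N863 F4409) (tt N704 F4410))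
theorem Q865 : ∀ i, i < 865 → P i := stepQ 864 Q864 (allL N864 (tt N864 F4411) (tt N740 F4412) (tt N1042 (iv F5191)) (tt N864 F4413) (tt N1030 (iv F5143)) (tt N769 F4414) (tt N700 (iv D937)) (tt N864 F4415) (tt N705 F4416))
theorem Q866 : ∀ i, i < 866 → P i := stepQ 865 Q865 (allL N865 (tt N702 F4417) (tt N865 F4418) (tt N741 F4419) (tt N1043 D1114) (tt N701 (iv D938)) (tt N1044 D1115) (tt N770 F4420) (tt N711 F4421) (tt N1037 (iv F5173)))
theorem Q867 : ∀ i, i < 867 → P i := stepQ 866 Q866 (allL N866 (tt N1043 (iv F5195)) (tt N703 F4422) (tt N1045 D1116) (tt N702 (iv D939)) (tt N1011 (iv F4996)) (tt N1046 D1117) (tt N771 F4423) (tt N1047 D1118) (tt N1038 (iv F5176)))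
theorem Q868 : ∀ i, i < 868 → P i := stepQ 867 Q867 (allL N867 (tt N1044 (iv F5198)) (tt N704 F4424) (tt N743 F4425) (tt N1046 (iv F5206)) (tt N1033 (iv F5156)) (tt N702 (iv D940)) (tt N1048 D1119) (tt N713 F4426) (tt N1039 (iv F5180)))
theorem Q869 : ∀ i, i < 869 → P i := stepQ 868 Q868 (allL N868 (tt N868 F4427) (tt N1046 (iv F5205)) (tt N868 F4428) (tt N704 F4429) (tt N1049 D1120) (tt N703 (iv D941)) (tt N1050 D1121) (tt N1051 D1122) (tt N1040 (iv F5184)))
theorem Q870 : ∀ i, i < 870 → P i := stepQ 869 Q869 (allL N869 (tt N869 F4430) (tt N1047 (iv F5207)) (tt N869 F4431) (tt N715 F4432) (tt N1014 (iv F5007)) (tt N1051 (iv F5223)) (tt N774 F4433) (tt N703 (iv D942)) (tt N1052 (iv F5064)))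
theorem Q871 : ∀ i, i < 871 → P i := stepQ 870 Q870 (allL N870 (tt N870 F4434) (tt N1048 (iv F5210)) (tt N705 F4435) (tt N1050 (iv F5218)) (tt N1036 (iv F5165)) (tt N775 F4436) (tt N704 (iv D943)) (tt N716 F4437) (tt N1042 (iv F5194)))
theorem Q872 : ∀ i, i < 872 → P i := stepQ 871 Q871 (allL N871 (tt N707 F4486) (tt N871 F4487) (tt N746 F4488) (tt N1053 D1133) (tt N706 (iv D957)) (tt N1054 D1134) (tt N871 F4489) (tt N1031 (iv F5151)) (tt N871 F4490))
theorem Q873 : ∀ i, i < 873 → P i := stepQ 872 Q872 (allL N872 (tt N1053 (iv F5266)) (tt N708 F4491) (tt N1055 D1135) (tt N707 (iv D958)) (tt N872 F4492) (tt N1056 D1136) (tt N872 F4493) (tt N1057 D1137) (tt N872 F4494))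
theorem Q874 : ∀ i, i < 874 → P i := stepQ 873 Q873 (allL N873 (tt N1054 (iv F5271)) (tt N709 F4495) (tt N748 F4496) (tt N1056 (iv F5282)) (tt N713 F4497) (tt N707 (iv D959)) (tt N1058 D1138) (tt N1033 (iv F5157)) (tt N873 F4498))
theorem Q875 : ∀ i, i < 875 → P i := stepQ 874 Q874 (allL N874 (tt N874 F4499) (tt N1056 (iv F5281)) (tt N874 F4500) (tt N709 F4501) (tt N1059 D1139) (tt N708 (iv D960)) (tt N1060 D1140) (tt N1061 D1141) (tt N874 F4502))
theorem Q876 : ∀ i, i < 876 → P i := stepQ 875 Q875 (allL N875 (tt N875 F4503) (tt N1057 (iv F5284)) (tt N875 F4504) (tt N1035 (iv F5161)) (tt N875 F4505) (tt N1061 (iv F5304)) (tt N875 F4506) (tt N708 (iv D961)) (tt N1062 D1142))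
theorem Q877 : ∀ i, i < 877 → P i := stepQ 876 Q876 (allL N876 (tt N876 F4507) (tt N1058 (iv F5287)) (tt N710 F4508) (tt N1060 (iv F5299)) (tt N716 F4509) (tt N876 F4510) (tt N709 (iv D962)) (tt N1036 (iv F5167)) (tt N876 F4511))
theorem Q878 : ∀ i, i < 878 → P i := stepQ 877 Q877 (allL N877 (tt N712 F4512) (tt N877 F4513) (tt N877 F4514) (tt N711 (iv D963)) (tt N877 F4515) (tt N1063 D1143) (tt N776 F4516) (tt N1064 D1144) (tt N877 F4517))
theorem Q879 : ∀ i, i < 879 → P i := stepQ 878 Q878 (allL N878 (tt N713 F4518) (tt N878 F4519) (tt N752 F4520) (tt N1063 (iv F5313)) (tt N1054 (iv F5274)) (tt N711 (iv D964)) (tt N1065 D1145) (tt N1044 (iv F5201)) (tt N878 F4521))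
theorem Q880 : ∀ i, i < 880 → P i := stepQ 879 Q879 (allL N879 (tt N1063 (iv F5310)) (tt N714 F4522) (tt N879 F4523) (tt N713 F4524) (tt N1066 D1146) (tt N712 (iv D965)) (tt N1067 D1147) (tt N1068 D1148) (tt N879 F4525))
theorem Q881 : ∀ i, i < 881 → P i := stepQ 880 Q880 (allL N880 (tt N1064 (iv F5315)) (tt N715 F4526) (tt N880 F4527) (tt N1047 (iv F5208)) (tt N880 F4528) (tt N1068 (iv F5336)) (tt N779 F4529) (tt N712 (iv D966)) (tt N1069 (iv F5054)))
theorem Q882 : ∀ i, i < 882 → P i := stepQ 881 Q881 (allL N881 (tt N1065 (iv F5320)) (tt N716 F4530) (tt N753 F4531) (tt N1067 (iv F5331)) (tt N1058 (iv F5289)) (tt N780 F4532) (tt N713 (iv D967)) (tt N1048 (iv F5213)) (tt N881 F4533))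
theorem Q883 : ∀ i, i < 883 → P i := stepQ 882 Q882 (allL N882 (tt N882 F4534) (tt N1066 (iv F5325)) (tt N717 F4535) (tt N1059 (iv F5294)) (tt N714 (iv D968)) (tt N882 F4536) (tt N1070 D1149) (tt N1071 D1150) (tt N882 F4537))
theorem Q884 : ∀ i, i < 884 → P i := stepQ 883 Q883 (allL N883 (tt N883 F4538) (tt N1067 (iv F5329)) (tt N718 F4539) (tt N716 F4540) (tt N1070 (iv F5339)) (tt N781 F4541) (tt N714 (iv D969)) (tt N1009 (iv F4988)) (tt N883 F4542))
theorem Q885 : ∀ i, i < 885 → P i := stepQ 884 Q884 (allL N884 (tt N884 F4543) (tt N1068 (iv F5334)) (tt N719 F4544) (tt N1051 (iv F5222)) (tt N1071 (iv F5343)) (tt N715 F4545) (tt N1009 (iv F4987)) (tt N714 (iv D970)) (tt N1015 (iv F5013)))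
theorem Q886 : ∀ i, i < 886 → P i := stepQ 885 Q885 (allL N885 (tt N885 F4325) (tt N1069 (iv F5050)) (tt N720 F4326) (tt N1052 (iv F5063)) (tt N885 F4327) (tt N1015 (iv F5011)) (tt N764 (iv D918)) (tt N885 F4328) (tt N715 F4329))
theorem Q887 : ∀ i, i < 887 → P i := stepQ 886 Q886 (allL N886 (tt N886 F4564) (tt N886 F4565) (tt N1070 (iv F5338)) (tt N886 F4566) (tt N718 F4567) (tt N996 (iv F4921)) (tt N717 (iv D975)) (tt N999 (iv F4937)) (tt N886 F4568))
theorem Q888 : ∀ i, i < 888 → P i := stepQ 887 Q887 (allL N887 (tt N887 F4569) (tt N887 F4570) (tt N1071 (iv F5342)) (tt N1072 D1152) (tt N719 F4571) (tt N887 F4572) (tt N999 F4939) (tt N717 (iv D976)) (tt N1004 (iv F4962)))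
theorem Q889 : ∀ i, i < 889 → P i := stepQ 888 Q888 (allL N888 (tt N958 F4573) (tt N1017 (iv F5079)) (tt N981 F4574) (tt N888 F4575) (tt N722 (iv D977)) (tt N1073 D1153) (tt N888 F4576) (tt N724 F4577) (tt N888 F4578))
theorem Q890 : ∀ i, i < 890 → P i := stepQ 889 Q889 (allL N889 (tt N756 F4579) (tt N723 (iv D978)) (tt N1018 (iv F5084)) (tt N889 F4580) (tt N1074 D1154) (tt N889 F4581) (tt N889 F4582) (tt N754 F4583) (tt N725 F4584))
theorem Q891 : ∀ i, i < 891 → P i := stepQ 890 Q890 (allL N890 (tt N959 F4585) (tt N1074 (iv F5362)) (tt N724 F4586) (tt N1075 D1155) (tt N723 (iv D979)) (tt N1076 D1156) (tt N890 F4587) (tt N981 F4588) (tt N726 F4589))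
theorem Q892 : ∀ i, i < 892 → P i := stepQ 891 Q891 (allL N891 (tt N960 F4590) (tt N1020 (iv F5095)) (tt N1076 (iv F5373)) (tt N730 F4591) (tt N891 F4592) (tt N724 (iv D980)) (tt N1077 D1157) (tt N1073 (iv F5359)) (tt N727 F4593))
theorem Q893 : ∀ i, i < 893 → P i := stepQ 892 Q892 (allL N892 (tt N725 (iv D981)) (tt N757 F4594) (tt N1021 (iv F5100)) (tt N892 F4595) (tt N1078 D1158) (tt N892 F4596) (tt N892 F4597) (tt N892 F4598) (tt N756 F4599))
theorem Q894 : ∀ i, i < 894 → P i := stepQ 893 Q893 (allL N893 (tt N1078 (iv F5382)) (tt N726 F4600) (tt N1022 (iv F5106)) (tt N1079 D1159) (tt N725 (iv D982)) (tt N1080 D1160) (tt N893 F4601) (tt N893 F4602) (tt N1074 (iv F5365)))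
theorem Q895 : ∀ i, i < 895 → P i := stepQ 894 Q894 (allL N894 (tt N962 F4603) (tt N1079 (iv F5387)) (tt N733 F4604) (tt N726 (iv D983)) (tt N894 F4605) (tt N1081 D1161) (tt N894 F4606) (tt N1082 D1162) (tt N1075 (iv F5371)))
theorem Q896 : ∀ i, i < 896 → P i := stepQ 895 Q895 (allL N895 (tt N963 F4607) (tt N1080 (iv F5390)) (tt N727 F4608) (tt N1081 (iv F5395)) (tt N895 F4609) (tt N726 (iv D984)) (tt N1083 D1163) (tt N895 F4610) (tt N1076 (iv F5376)))
theorem Q897 : ∀ i, i < 897 → P i := stepQ 896 Q896 (allL N896 (tt N964 F4611) (tt N1025 (iv F5117)) (tt N1083 (iv F5402)) (tt N735 F4612) (tt N896 F4613) (tt N896 F4614) (tt N727 (iv D985)) (tt N896 F4615) (tt N1077 (iv F5381)))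
theorem Q898 : ∀ i, i < 898 → P i := stepQ 897 Q897 (allL N897 (tt N728 (iv D986)) (tt N965 F4616) (tt N1026 (iv F5123)) (tt N897 F4617) (tt N1084 D1164) (tt N736 F4618) (tt N897 F4619) (tt N897 F4620) (tt N731 F4621))
theorem Q899 : ∀ i, i < 899 → P i := stepQ 898 Q898 (allL N898 (tt N1084 (iv F5406)) (tt N729 F4622) (tt N1027 (iv F5129)) (tt N1085 D1165) (tt N728 (iv D987)) (tt N1086 D1166) (tt N898 F4623) (tt N898 F4624) (tt N732 F4625))
theorem Q900 : ∀ i, i < 900 → P i := stepQ 899 Q899 (allL N899 (tt N967 F4626) (tt N1085 (iv F5411)) (tt N1075 (iv F5367)) (tt N729 (iv D988)) (tt N899 F4627) (tt N1087 D1167) (tt N899 F4628) (tt N1088 D1168) (tt N733 F4629))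
theorem Q901 : ∀ i, i < 901 → P i := stepQ 900 Q900 (allL N900 (tt N968 F4630) (tt N1086 (iv F5415)) (tt N730 F4631) (tt N1087 (iv F5420)) (tt N739 F4632) (tt N729 (iv D989)) (tt N1089 D1169) (tt N900 F4633) (tt N734 F4634))
theorem Q902 : ∀ i, i < 902 → P i := stepQ 901 Q901 (allL N901 (tt N969 F4635) (tt N1030 (iv F5142)) (tt N1089 (iv F5428)) (tt N1077 (iv F5378)) (tt N740 F4636) (tt N901 F4637) (tt N730 (iv D990)) (tt N901 F4638) (tt N735 F4639))
theorem Q903 : ∀ i, i < 903 → P i := stepQ 902 Q902 (allL N902 (tt N732 F4640) (tt N970 F4641) (tt N1031 (iv F5149)) (tt N1090 D1170) (tt N731 (iv D991)) (tt N1091 D1171) (tt N902 F4642) (tt N746 F4643) (tt N1084 (iv F5410)))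
theorem Q904 : ∀ i, i < 904 → P i := stepQ 903 Q903 (allL N903 (tt N1090 (iv F5433)) (tt N733 F4644) (tt N1092 D1172) (tt N732 (iv D992)) (tt N903 F4645) (tt N1093 D1173) (tt N903 F4646) (tt N1094 D1174) (tt N1085 (iv F5414)))
theorem Q905 : ∀ i, i < 905 → P i := stepQ 904 Q904 (allL N904 (tt N1091 (iv F5437)) (tt N734 F4647) (tt N1033 (iv F5155)) (tt N1093 (iv F5444)) (tt N743 F4648) (tt N732 (iv D993)) (tt N1095 D1175) (tt N748 F4649) (tt N1086 (iv F5418)))
theorem Q906 : ∀ i, i < 906 → P i := stepQ 905 Q905 (allL N905 (tt N973 F4650) (tt N1093 (iv F5443)) (tt N1081 (iv F5394)) (tt N734 F4651) (tt N1096 D1176) (tt N733 (iv D994)) (tt N1097 D1177) (tt N1098 D1178) (tt N1087 (iv F5421)))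
theorem Q907 : ∀ i, i < 907 → P i := stepQ 906 Q906 (allL N906 (tt N974 F4652) (tt N1094 (iv F5445)) (tt N1082 (iv F5397)) (tt N750 F4653) (tt N906 F4654) (tt N1098 (iv F5461)) (tt N906 F4655) (tt N733 (iv D995)) (tt N1099 D1179))
theorem Q908 : ∀ i, i < 908 → P i := stepQ 907 Q907 (allL N907 (tt N975 F4656) (tt N1095 (iv F5449)) (tt N735 F4657) (tt N1097 (iv F5457)) (tt N745 F4658) (tt N907 F4659) (tt N734 (iv D996)) (tt N751 F4660) (tt N1089 (iv F5432)))
theorem Q909 : ∀ i, i < 909 → P i := stepQ 908 Q908 (allL N908 (tt N737 F4661) (tt N788 F4662) (tt N1037 (iv F5170)) (tt N787 (iv F4666)) (tt N736 (iv D997)) (tt N1100 D1180) (tt N782 F4663) (tt N908 F4664) (tt N741 F4665))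
theorem Q910 : ∀ i, i < 910 → P i := stepQ 909 Q909 (allL N909 (tt N787 F4667) (tt N738 F4668) (tt N1101 (iv F5257)) (tt N737 (iv D998)) (tt N909 F4669) (tt N1102 D1181) (tt N783 F4670) (tt N789 (iv F4672)) (tt N742 F4671))
theorem Q911 : ∀ i, i < 911 → P i := stepQ 910 Q910 (allL N910 (tt N1100 (iv F5466)) (tt N739 F4673) (tt N1039 (iv F5178)) (tt N1102 (iv F5474)) (tt N1086 (iv F5416)) (tt N737 (iv D999)) (tt N1103 D1182) (tt N910 F4674) (tt N743 F4675))
theorem Q912 : ∀ i, i < 912 → P i := stepQ 911 Q911 (allL N911 (tt N977 F4676) (tt N1102 (iv F5473)) (tt N911 F4677) (tt N739 F4678) (tt N1104 D1183) (tt N738 (iv D1000)) (tt N979 F4679) (tt N987 F4680) (tt N744 F4681))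
theorem Q913 : ∀ i, i < 913 → P i := stepQ 912 Q912 (allL N912 (tt N978 F4682) (tt N1103 (iv F5479)) (tt N740 F4683) (tt N979 F4684) (tt N1089 (iv F5429)) (tt N785 F4685) (tt N739 (iv D1001)) (tt N912 F4686) (tt N745 F4687))
theorem Q914 : ∀ i, i < 914 → P i := stepQ 913 Q913 (allL N913 (tt N742 F4688) (tt N785 F4689) (tt N1105 (iv F5244)) (tt N741 (iv D1002)) (tt N913 F4690) (tt N1103 (iv F5481)) (tt N784 F4691) (tt N913 F4692) (tt N787 F4693))
theorem Q915 : ∀ i, i < 915 → P i := stepQ 914 Q914 (allL N914 (tt N743 F4694) (tt N979 F4695) (tt N1044 (iv F5200)) (tt N1103 (iv F5480)) (tt N1091 (iv F5439)) (tt N741 (iv D1003)) (tt N1102 (iv F5475)) (tt N752 F4696) (tt N1100 (iv F5471)))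
theorem Q916 : ∀ i, i < 916 → P i := stepQ 915 Q915 (allL N915 (tt N1105 (iv F5242)) (tt N915 F4697) (tt N742 (iv D1004)) (tt N1045 (iv F5203)) (tt N915 F4698) (tt N1106 D1184) (tt N786 F4699) (tt N915 F4700) (tt N1101 (iv F5260)))
theorem Q917 : ∀ i, i < 917 → P i := stepQ 916 Q916 (allL N916 (tt N1103 (iv F5478)) (tt N744 F4701) (tt N1106 (iv F5491)) (tt N743 F4702) (tt N1107 D1185) (tt N742 (iv D1005)) (tt N1100 (iv F5469)) (tt N916 F4703) (tt N1102 (iv F5477)))
theorem Q918 : ∀ i, i < 918 → P i := stepQ 917 Q917 (allL N917 (tt N1102 (iv F5472)) (tt N745 F4704) (tt N1048 (iv F5211)) (tt N1100 (iv F5468)) (tt N1095 (iv F5450)) (tt N787 F4705) (tt N743 (iv D1006)) (tt N753 F4706) (tt N1103 (iv F5483)))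
theorem Q919 : ∀ i, i < 919 → P i := stepQ 918 Q918 (allL N918 (tt N980 F4707) (tt N1107 (iv F5493)) (tt N918 F4708) (tt N1096 (iv F5454)) (tt N744 (iv D1007)) (tt N918 F4709) (tt N1108 D1186) (tt N918 F4710) (tt N1104 (iv F5489)))
theorem Q920 : ∀ i, i < 920 → P i := stepQ 919 Q919 (allL N919 (tt N976 F4711) (tt N1100 (iv F5467)) (tt N919 F4712) (tt N745 F4713) (tt N1108 (iv F5498)) (tt N788 F4714) (tt N744 (iv D1008)) (tt N919 F4715) (tt N979 F4716))
theorem Q921 : ∀ i, i < 921 → P i := stepQ 920 Q920 (allL N920 (tt N747 F4717) (tt N981 F4718) (tt N1109 D1187) (tt N746 (iv D1009)) (tt N754 F4719) (tt N1110 D1188) (tt N920 F4720) (tt N1074 (iv F5364)) (tt N920 F4721))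
theorem Q922 : ∀ i, i < 922 → P i := stepQ 921 Q921 (allL N921 (tt N748 F4722) (tt N982 F4723) (tt N1054 (iv F5273)) (tt N1110 (iv F5508)) (tt N752 F4724) (tt N746 (iv D1010)) (tt N1111 D1189) (tt N1091 (iv F5440)) (tt N921 F4725))
theorem Q923 : ∀ i, i < 923 → P i := stepQ 922 Q922 (allL N922 (tt N1109 (iv F5502)) (tt N922 F4726) (tt N747 (iv D1011)) (tt N1055 (iv F5277)) (tt N755 F4727) (tt N1112 D1190) (tt N922 F4728) (tt N1113 D1191) (tt N922 F4729))
theorem Q924 : ∀ i, i < 924 → P i := stepQ 923 Q923 (allL N923 (tt N1110 (iv F5506)) (tt N749 F4730) (tt N1112 (iv F5517)) (tt N748 F4731) (tt N923 F4732) (tt N747 (iv D1012)) (tt N1114 D1192) (tt N1115 D1193) (tt N923 F4733))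
theorem Q925 : ∀ i, i < 925 → P i := stepQ 924 Q924 (allL N924 (tt N1074 (iv F5361)) (tt N750 F4734) (tt N1113 (iv F5521)) (tt N1094 (iv F5446)) (tt N756 F4735) (tt N1115 (iv F5531)) (tt N924 F4736) (tt N747 (iv D1013)) (tt N1078 (iv F5386)))
theorem Q926 : ∀ i, i < 926 → P i := stepQ 925 Q925 (allL N925 (tt N1111 (iv F5511)) (tt N751 F4737) (tt N1058 (iv F5288)) (tt N1114 (iv F5525)) (tt N753 F4738) (tt N925 F4739) (tt N748 (iv D1014)) (tt N1095 (iv F5452)) (tt N925 F4740))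
theorem Q927 : ∀ i, i < 927 → P i := stepQ 926 Q926 (allL N926 (tt N985 F4741) (tt N1114 (iv F5524)) (tt N926 F4742) (tt N751 F4743) (tt N926 F4744) (tt N926 F4745) (tt N749 (iv D1015)) (tt N1116 D1194) (tt N926 F4746))
theorem Q928 : ∀ i, i < 928 → P i := stepQ 927 Q927 (allL N927 (tt N986 F4747) (tt N1115 (iv F5529)) (tt N927 F4748) (tt N1098 (iv F5460)) (tt N927 F4749) (tt N750 F4750) (tt N1116 (iv F5536)) (tt N749 (iv D1016)) (tt N1117 D1195))
theorem Q929 : ∀ i, i < 929 → P i := stepQ 928 Q928 (allL N928 (tt N961 F4751) (tt N1078 (iv F5383)) (tt N928 F4752) (tt N1099 (iv F5463)) (tt N757 F4753) (tt N1117 (iv F5540)) (tt N928 F4754) (tt N928 F4755) (tt N750 (iv D1017)))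
theorem Q930 : ∀ i, i < 930 → P i := stepQ 929 Q929 (allL N929 (tt N753 F4756) (tt N987 F4757) (tt N1065 (iv F5322)) (tt N929 F4758) (tt N1111 (iv F5513)) (tt N789 F4759) (tt N752 (iv D1018)) (tt N1102 (iv F5476)) (tt N929 F4760))
theorem Q931 : ∀ i, i < 931 → P i := stepQ 930 Q930 (allL N930 (tt N755 F4761) (tt N1016 (iv F5072)) (tt N754 (iv D1019)) (tt N930 F4762) (tt N1109 (iv F5503)) (tt N930 F4763) (tt N930 F4764) (tt N1018 (iv F5087)) (tt N930 F4765))
theorem Q932 : ∀ i, i < 932 → P i := stepQ 931 Q931 (allL N931 (tt N1018 F5089) (tt N931 F4766) (tt N756 F4767) (tt N1118 D1196) (tt N1113 (iv F5522)) (tt N931 F4768) (tt N931 F4769) (tt N755 (iv D1020)) (tt N1021 (iv F5104)))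
theorem Q933 : ∀ i, i < 933 → P i := stepQ 932 Q932 (allL N932 (tt N1119 D1075) (tt N758 (iv D909)) (tt N932 F4284) (tt N932 F4285) (tt N778 F4286) (tt N932 F4287) (tt N1005 (iv F4966)) (tt N759 F4288) (tt N932 F4289))
theorem Q934 : ∀ i, i < 934 → P i := stepQ 933 Q933 (allL N933 (tt N759 (iv D910)) (tt N933 F4290) (tt N933 F4291) (tt N765 F4292) (tt N1120 D1076) (tt N933 F4293) (tt N1006 (iv F4972)) (tt N1119 (iv F5019)) (tt N761 F4294))
theorem Q935 : ∀ i, i < 935 → P i := stepQ 934 Q934 (allL N934 (tt N1120 (iv F5021)) (tt N760 F4295) (tt N934 F4296) (tt N1121 D1077) (tt N759 (iv D911)) (tt N779 (iv F4299)) (tt N1007 (iv F4976)) (tt N778 F4297) (tt N762 F4298))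
theorem Q936 : ∀ i, i < 936 → P i := stepQ 935 Q935 (allL N935 (tt N935 F4300) (tt N1121 (iv F5027)) (tt N935 F4301) (tt N760 (iv D912)) (tt N767 F4302) (tt N774 F4303) (tt N1008 (iv F4982)) (tt N773 F4304) (tt N763 F4305))
theorem Q937 : ∀ i, i < 937 → P i := stepQ 936 Q936 (allL N936 (tt N762 F4306) (tt N936 F4307) (tt N936 F4308) (tt N1122 D1078) (tt N761 (iv D913)) (tt N1123 D1079) (tt N1010 (iv F4993)) (tt N936 F4309) (tt N1120 (iv F5025)))
theorem Q938 : ∀ i, i < 938 → P i := stepQ 937 Q937 (allL N937 (tt N1122 (iv F5032)) (tt N763 F4310) (tt N1124 D1080) (tt N762 (iv D914)) (tt N771 F4311) (tt N1125 D1081) (tt N1011 (iv F4997)) (tt N1126 D1082) (tt N1121 (iv F5031)))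
theorem Q939 : ∀ i, i < 939 → P i := stepQ 938 Q938 (allL N938 (tt N1123 (iv F5035)) (tt N764 F4312) (tt N938 F4313) (tt N1125 (iv F5045)) (tt N938 F4314) (tt N762 (iv D915)) (tt N1069 D1083) (tt N938 F4315) (tt N779 F4316))
theorem Q940 : ∀ i, i < 940 → P i := stepQ 939 Q939 (allL N939 (tt N939 F4317) (tt N1125 (iv F5044)) (tt N939 F4318) (tt N764 F4319) (tt N1127 D1084) (tt N763 (iv D916)) (tt N1052 D1085) (tt N1128 D1086) (tt N774 F4320))
theorem Q941 : ∀ i, i < 941 → P i := stepQ 940 Q940 (allL N940 (tt N940 F4321) (tt N1126 (iv F5047)) (tt N940 F4322) (tt N940 F4323) (tt N774 F4324) (tt N1128 (iv F5069)) (tt N1014 (iv F5008)) (tt N763 (iv D917)) (tt N1127 (iv F5059)))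
theorem Q942 : ∀ i, i < 942 → P i := stepQ 941 Q941 (allL N941 (tt N766 F4438) (tt N941 F4439) (tt N782 F4440) (tt N1129 D1123) (tt N765 (iv D944)) (tt N786 (iv F4443)) (tt N1037 (iv F5171)) (tt N941 F4441) (tt N770 F4442))
theorem Q943 : ∀ i, i < 943 → P i := stepQ 942 Q942 (allL N942 (tt N1129 (iv F5224)) (tt N767 F4444) (tt N1130 D1124) (tt N766 (iv D945)) (tt N1121 (iv F5028)) (tt N1131 D1125) (tt N1038 (iv F5175)) (tt N1132 D1126) (tt N771 F4445))
theorem Q944 : ∀ i, i < 944 → P i := stepQ 943 Q943 (allL N943 (tt N786 F4446) (tt N768 F4447) (tt N784 F4448) (tt N1131 (iv F5237)) (tt N943 F4449) (tt N766 (iv D946)) (tt N1105 D1127) (tt N943 F4450) (tt N772 F4451))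
theorem Q945 : ∀ i, i < 945 → P i := stepQ 944 Q944 (allL N944 (tt N944 F4452) (tt N1131 (iv F5235)) (tt N944 F4453) (tt N768 F4454) (tt N1128 (iv F5068)) (tt N767 (iv D947)) (tt N1133 D1128) (tt N1127 F5060) (tt N773 F4455))
theorem Q946 : ∀ i, i < 946 → P i := stepQ 945 Q945 (allL N945 (tt N945 F4456) (tt N1132 (iv F5239)) (tt N945 F4457) (tt N945 F4458) (tt N773 F4459) (tt N1127 (iv F5058)) (tt N1041 (iv F5189)) (tt N767 (iv D948)) (tt N1128 (iv F5070)))
theorem Q947 : ∀ i, i < 947 → P i := stepQ 946 Q946 (allL N946 (tt N946 F4460) (tt N1105 (iv F5243)) (tt N769 F4461) (tt N1133 (iv F5250)) (tt N946 F4462) (tt N1042 (iv F5192)) (tt N768 (iv D949)) (tt N946 F4463) (tt N775 F4464))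
theorem Q948 : ∀ i, i < 948 → P i := stepQ 947 Q947 (allL N947 (tt N771 F4465) (tt N947 F4466) (tt N1131 (iv F5236)) (tt N770 (iv D950)) (tt N1122 (iv F5034)) (tt N1130 F5233) (tt N1043 (iv F5197)) (tt N1134 D1129) (tt N1129 (iv F5228)))
theorem Q949 : ∀ i, i < 949 → P i := stepQ 948 Q948 (allL N948 (tt N772 F4467) (tt N948 F4468) (tt N783 F4469) (tt N1130 (iv F5231)) (tt N948 F4470) (tt N770 (iv D951)) (tt N1101 D1130) (tt N777 F4471) (tt N786 F4472))
theorem Q950 : ∀ i, i < 950 → P i := stepQ 949 Q949 (allL N949 (tt N1131 (iv F5234)) (tt N949 F4473) (tt N771 (iv D952)) (tt N786 F4474) (tt N1124 (iv F5043)) (tt N1129 (iv F5227)) (tt N1045 (iv F5204)) (tt N1135 D1131) (tt N1130 (iv F5232)))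
theorem Q951 : ∀ i, i < 951 → P i := stepQ 950 Q950 (allL N950 (tt N1130 (iv F5229)) (tt N773 F4475) (tt N1129 (iv F5226)) (tt N772 F4476) (tt N1132 (iv F5241)) (tt N771 (iv D953)) (tt N1136 D1132) (tt N1121 (iv F5030)) (tt N1131 (iv F5238)))
theorem Q952 : ∀ i, i < 952 → P i := stepQ 951 Q951 (allL N951 (tt N1134 (iv F5252)) (tt N774 F4477) (tt N1135 (iv F5262)) (tt N779 F4478) (tt N1126 (iv F5049)) (tt N1121 (iv F5029)) (tt N1047 (iv F5209)) (tt N771 (iv D954)) (tt N1125 (iv F5046)))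
theorem Q953 : ∀ i, i < 953 → P i := stepQ 952 Q952 (allL N952 (tt N1101 (iv F5255)) (tt N775 F4479) (tt N787 F4480) (tt N1136 (iv F5265)) (tt N952 F4481) (tt N1048 (iv F5212)) (tt N772 (iv D955)) (tt N780 F4482) (tt N1105 (iv F5247)))
theorem Q954 : ∀ i, i < 954 → P i := stepQ 953 Q953 (allL N953 (tt N953 F4483) (tt N1136 (iv F5264)) (tt N953 F4484) (tt N775 F4485) (tt N1041 (iv F5188)) (tt N1050 (iv F5219)) (tt N773 (iv D956)) (tt N1008 (iv F4983)) (tt N1133 (iv F5251)))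
theorem Q955 : ∀ i, i < 955 → P i := stepQ 954 Q954 (allL N954 (tt N778 F4546) (tt N954 F4547) (tt N954 F4548) (tt N777 F4549) (tt N1119 (iv F5017)) (tt N776 (iv D971)) (tt N1137 D1151) (tt N1120 (iv F5024)) (tt N954 F4550))
theorem Q956 : ∀ i, i < 956 → P i := stepQ 955 Q955 (allL N955 (tt N779 F4551) (tt N955 F4552) (tt N955 F4553) (tt N1134 (iv F5254)) (tt N955 F4554) (tt N1120 F5026) (tt N1064 (iv F5319)) (tt N776 (iv D972)) (tt N1123 (iv F5040)))
theorem Q957 : ∀ i, i < 957 → P i := stepQ 956 Q956 (allL N956 (tt N780 F4555) (tt N956 F4556) (tt N789 F4557) (tt N1137 (iv F5348)) (tt N956 F4558) (tt N1065 (iv F5323)) (tt N777 (iv D973)) (tt N1101 (iv F5259)) (tt N956 F4559))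
theorem Q958 : ∀ i, i < 958 → P i := stepQ 957 Q957 (allL N957 (tt N1137 (iv F5345)) (tt N781 F4560) (tt N957 F4561) (tt N780 F4562) (tt N1005 (iv F4965)) (tt N1067 (iv F5332)) (tt N778 (iv D974)) (tt N1007 (iv F4977)) (tt N957 F4563))
theorem Q959 : ∀ i, i < 959 → P i := stepQ 958 Q958 (allL N958 (tt N888 (iv F4573)) (tt N958 F4066) (tt N818 F4067) (tt N958 F4068) (tt N793 (iv D860)) (tt N1138 D1021) (tt N958 F4069) (tt N795 F4070) (tt N958 F4071))
theorem Q960 : ∀ i, i < 960 → P i := stepQ 959 Q959 (allL N959 (tt N890 (iv F4585)) (tt N821 F4072) (tt N795 F4073) (tt N1139 D1022) (tt N794 (iv D861)) (tt N1140 D1023) (tt N959 F4074) (tt N818 F4075) (tt N797 F4076))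
theorem Q961 : ∀ i, i < 961 → P i := stepQ 960 Q960 (allL N960 (tt N891 (iv F4590)) (tt N960 F4077) (tt N1140 (iv F4783)) (tt N801 F4078) (tt N960 F4079) (tt N795 (iv D862)) (tt N1141 D1024) (tt N1138 (iv F4774)) (tt N798 F4080))
theorem Q962 : ∀ i, i < 962 → P i := stepQ 961 Q961 (allL N961 (tt N928 (iv F4751)) (tt N797 F4081) (tt N961 F4082) (tt N1142 D1025) (tt N796 (iv D863)) (tt N1143 D1026) (tt N961 F4083) (tt N961 F4084) (tt N821 F4085))
theorem Q963 : ∀ i, i < 963 → P i := stepQ 962 Q962 (allL N962 (tt N894 (iv F4603)) (tt N1142 (iv F4792)) (tt N804 F4086) (tt N797 (iv D864)) (tt N962 F4087) (tt N1144 D1027) (tt N962 F4088) (tt N1145 D1028) (tt N1139 (iv F4781)))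
theorem Q964 : ∀ i, i < 964 → P i := stepQ 963 Q963 (allL N963 (tt N895 (iv F4607)) (tt N1143 (iv F4796)) (tt N798 F4089) (tt N1144 (iv F4802)) (tt N963 F4090) (tt N797 (iv D865)) (tt N1146 D1029) (tt N963 F4091) (tt N1140 (iv F4786)))
theorem Q965 : ∀ i, i < 965 → P i := stepQ 964 Q964 (allL N964 (tt N896 (iv F4611)) (tt N964 F4092) (tt N1146 (iv F4807)) (tt N806 F4093) (tt N964 F4094) (tt N964 F4095) (tt N798 (iv D866)) (tt N964 F4096) (tt N1141 (iv F4791)))
theorem Q966 : ∀ i, i < 966 → P i := stepQ 965 Q965 (allL N965 (tt N799 (iv D867)) (tt N897 (iv F4616)) (tt N965 F4097) (tt N965 F4098) (tt N1147 D1030) (tt N807 F4099) (tt N965 F4100) (tt N965 F4101) (tt N802 F4102))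
theorem Q967 : ∀ i, i < 967 → P i := stepQ 966 Q966 (allL N966 (tt N1147 (iv F4811)) (tt N800 F4103) (tt N966 F4104) (tt N1148 D1031) (tt N799 (iv D868)) (tt N1149 D1032) (tt N966 F4105) (tt N966 F4106) (tt N803 F4107))
theorem Q968 : ∀ i, i < 968 → P i := stepQ 967 Q967 (allL N967 (tt N899 (iv F4626)) (tt N1148 (iv F4816)) (tt N1139 (iv F4777)) (tt N800 (iv D869)) (tt N967 F4108) (tt N1150 D1033) (tt N967 F4109) (tt N1151 D1034) (tt N804 F4110))
theorem Q969 : ∀ i, i < 969 → P i := stepQ 968 Q968 (allL N968 (tt N900 (iv F4630)) (tt N1149 (iv F4820)) (tt N801 F4111) (tt N1150 (iv F4826)) (tt N810 F4112) (tt N800 (iv D870)) (tt N1152 D1035) (tt N968 F4113) (tt N805 F4114))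
theorem Q970 : ∀ i, i < 970 → P i := stepQ 969 Q969 (allL N969 (tt N901 (iv F4635)) (tt N969 F4115) (tt N1152 (iv F4833)) (tt N1141 (iv F4788)) (tt N811 F4116) (tt N969 F4117) (tt N801 (iv D871)) (tt N969 F4118) (tt N806 F4119))
theorem Q971 : ∀ i, i < 971 → P i := stepQ 970 Q970 (allL N970 (tt N803 F4120) (tt N902 (iv F4641)) (tt N970 F4121) (tt N1153 D1036) (tt N802 (iv D872)) (tt N1154 D1037) (tt N970 F4122) (tt N817 F4123) (tt N1147 (iv F4815)))
theorem Q972 : ∀ i, i < 972 → P i := stepQ 971 Q971 (allL N971 (tt N1153 (iv F4838)) (tt N804 F4124) (tt N1151 (iv F4828)) (tt N803 (iv D873)) (tt N971 F4125) (tt N1155 D1038) (tt N971 F4126) (tt N1139 (iv F4780)) (tt N1148 (iv F4819)))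
theorem Q973 : ∀ i, i < 973 → P i := stepQ 972 Q972 (allL N972 (tt N1154 (iv F4841)) (tt N805 F4127) (tt N972 F4128) (tt N1155 (iv F4846)) (tt N814 F4129) (tt N803 (iv D874)) (tt N1156 D1039) (tt N819 F4130) (tt N1149 (iv F4824)))
theorem Q974 : ∀ i, i < 974 → P i := stepQ 973 Q973 (allL N973 (tt N905 (iv F4650)) (tt N1155 (iv F4845)) (tt N1144 (iv F4801)) (tt N805 F4131) (tt N1157 D1040) (tt N804 (iv D875)) (tt N1158 D1041) (tt N1159 D1042) (tt N1150 (iv F4827)))
theorem Q975 : ∀ i, i < 975 → P i := stepQ 974 Q974 (allL N974 (tt N906 (iv F4652)) (tt N1139 (iv F4776)) (tt N1145 (iv F4803)) (tt N821 F4132) (tt N974 F4133) (tt N1159 (iv F4858)) (tt N974 F4134) (tt N804 (iv D876)) (tt N1142 (iv F4795)))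
theorem Q976 : ∀ i, i < 976 → P i := stepQ 975 Q975 (allL N975 (tt N907 (iv F4656)) (tt N1156 (iv F4847)) (tt N806 F4135) (tt N1158 (iv F4855)) (tt N816 F4136) (tt N975 F4137) (tt N805 (iv D877)) (tt N822 F4138) (tt N1152 (iv F4837)))
theorem Q977 : ∀ i, i < 977 → P i := stepQ 976 Q976 (allL N976 (tt N919 (iv F4711)) (tt N810 F4139) (tt N976 F4140) (tt N816 F4141) (tt N1149 (iv F4822)) (tt N808 (iv D878)) (tt N815 F4142) (tt N976 F4143) (tt N814 F4144))
theorem Q978 : ∀ i, i < 978 → P i := stepQ 977 Q977 (allL N977 (tt N911 (iv F4676)) (tt N816 F4145) (tt N977 F4146) (tt N810 F4147) (tt N1156 (iv F4849)) (tt N809 (iv D879)) (tt N814 F4148) (tt N824 F4149) (tt N815 F4150))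
theorem Q979 : ∀ i, i < 979 → P i := stepQ 978 Q978 (allL N978 (tt N912 (iv F4682)) (tt N815 F4151) (tt N811 F4152) (tt N814 F4153) (tt N1152 (iv F4834)) (tt N813 F4154) (tt N810 (iv D880)) (tt N978 F4155) (tt N816 F4156))
theorem Q980 : ∀ i, i < 980 → P i := stepQ 979 Q979 (allL N979 (tt N814 F4157) (tt N914 (iv F4695)) (tt N979 F4158) (tt N912 (iv F4684)) (tt N1154 (iv F4843)) (tt N812 (iv D881)) (tt N911 (iv F4679)) (tt N823 F4159) (tt N919 (iv F4716)))
theorem Q981 : ∀ i, i < 981 → P i := stepQ 980 Q980 (allL N980 (tt N918 (iv F4707)) (tt N1152 (iv F4832)) (tt N980 F4160) (tt N1157 (iv F4853)) (tt N815 (iv D882)) (tt N980 F4161) (tt N1149 (iv F4825)) (tt N980 F4162) (tt N1156 (iv F4852)))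
theorem Q982 : ∀ i, i < 982 → P i := stepQ 981 Q981 (allL N981 (tt N818 F4163) (tt N920 (iv F4718)) (tt N888 (iv F4574)) (tt N817 (iv D883)) (tt N825 F4164) (tt N1160 D1043) (tt N981 F4165) (tt N890 (iv F4588)) (tt N981 F4166))
theorem Q983 : ∀ i, i < 983 → P i := stepQ 982 Q982 (allL N982 (tt N819 F4167) (tt N921 (iv F4723)) (tt N982 F4168) (tt N1160 (iv F4860)) (tt N823 F4169) (tt N817 (iv D884)) (tt N1161 D1044) (tt N1154 (iv F4844)) (tt N982 F4170))
theorem Q984 : ∀ i, i < 984 → P i := stepQ 983 Q983 (allL N983 (tt N1160 (iv F4859)) (tt N820 F4171) (tt N1138 (iv F4771)) (tt N819 F4172) (tt N983 F4173) (tt N818 (iv D885)) (tt N1162 D1045) (tt N1140 (iv F4785)) (tt N983 F4174))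
theorem Q985 : ∀ i, i < 985 → P i := stepQ 984 Q984 (allL N984 (tt N1161 (iv F4863)) (tt N822 F4175) (tt N984 F4176) (tt N1162 (iv F4869)) (tt N824 F4177) (tt N984 F4178) (tt N819 (iv D886)) (tt N1156 (iv F4851)) (tt N984 F4179))
theorem Q986 : ∀ i, i < 986 → P i := stepQ 985 Q985 (allL N985 (tt N926 (iv F4741)) (tt N1162 (iv F4868)) (tt N985 F4180) (tt N822 F4181) (tt N985 F4182) (tt N985 F4183) (tt N820 (iv D887)) (tt N1163 D1046) (tt N985 F4184))
theorem Q987 : ∀ i, i < 987 → P i := stepQ 986 Q986 (allL N986 (tt N927 (iv F4747)) (tt N1140 (iv F4782)) (tt N986 F4185) (tt N1159 (iv F4857)) (tt N986 F4186) (tt N821 F4187) (tt N1163 (iv F4876)) (tt N820 (iv D888)) (tt N1143 (iv F4800)))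
theorem Q988 : ∀ i, i < 988 → P i := stepQ 987 Q987 (allL N987 (tt N824 F4188) (tt N929 (iv F4757)) (tt N987 F4189) (tt N987 F4190) (tt N1161 (iv F4865)) (tt N826 F4191) (tt N823 (iv D889)) (tt N911 (iv F4680)) (tt N987 F4192))
theorem Q989 : ∀ i, i < 989 → P i := stepQ 988 Q988 (allL N988 (tt N988 F4877) (tt N1164 D1216) (tt N827 (iv D1047)) (tt N988 F4878) (tt N1165 D1217) (tt N988 F4879) (tt N988 F4880) (tt N829 F4881) (tt N988 F4882))
theorem Q990 : ∀ i, i < 990 → P i := stepQ 989 Q989 (allL N989 (tt N989 F4883) (tt N989 F4884) (tt N1165 (iv F5637)) (tt N989 F4885) (tt N827 (iv D1048)) (tt N1166 D1218) (tt N989 F4886) (tt N830 F4887) (tt N989 F4888))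
theorem Q991 : ∀ i, i < 991 → P i := stepQ 990 Q990 (allL N990 (tt N990 F4889) (tt N1167 D1219) (tt N828 (iv D1049)) (tt N847 F4890) (tt N1168 D1220) (tt N990 F4891) (tt N990 F4892) (tt N990 F4893) (tt N829 F4894))
theorem Q992 : ∀ i, i < 992 → P i := stepQ 991 Q991 (allL N991 (tt N991 F4895) (tt N991 F4896) (tt N1168 (iv F5655)) (tt N833 F4897) (tt N828 (iv D1050)) (tt N1169 D1221) (tt N991 F4898) (tt N991 F4899) (tt N830 F4900))
theorem Q993 : ∀ i, i < 993 → P i := stepQ 992 Q992 (allL N992 (tt N1170 D1222) (tt N829 (iv D1051)) (tt N992 F4901) (tt N849 F4902) (tt N1171 D1223) (tt N992 F4903) (tt N992 F4904) (tt N1164 (iv F5634)) (tt N1167 (iv F5652)))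
theorem Q994 : ∀ i, i < 994 → P i := stepQ 993 Q993 (allL N993 (tt N993 F4905) (tt N1171 (iv F5672)) (tt N830 F4906) (tt N1172 D1224) (tt N829 (iv D1052)) (tt N1173 D1225) (tt N993 F4907) (tt N1165 (iv F5639)) (tt N1168 (iv F5658)))
theorem Q995 : ∀ i, i < 995 → P i := stepQ 994 Q994 (allL N994 (tt N994 F4908) (tt N994 F4909) (tt N1173 (iv F5680)) (tt N836 F4910) (tt N994 F4911) (tt N830 (iv D1053)) (tt N1174 D1226) (tt N1166 (iv F5645)) (tt N1169 (iv F5664)))
theorem Q996 : ∀ i, i < 996 → P i := stepQ 995 Q995 (allL N995 (tt N995 F4912) (tt N1175 D1227) (tt N831 (iv D1054)) (tt N995 F4913) (tt N1176 D1228) (tt N837 F4914) (tt N995 F4915) (tt N832 F4916) (tt N995 F4917))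
theorem Q997 : ∀ i, i < 997 → P i := stepQ 996 Q996 (allL N996 (tt N996 F4918) (tt N996 F4919) (tt N1176 (iv F5695)) (tt N996 F4920) (tt N831 (iv D1055)) (tt N886 F4921) (tt N996 F4922) (tt N833 F4923) (tt N996 F4924))
theorem Q998 : ∀ i, i < 998 → P i := stepQ 997 Q997 (allL N997 (tt N1177 D1229) (tt N832 (iv D1056)) (tt N997 F4925) (tt N852 F4926) (tt N1178 D1230) (tt N838 F4927) (tt N997 F4928) (tt N1175 (iv F5692)) (tt N834 F4929))
theorem Q999 : ∀ i, i < 999 → P i := stepQ 998 Q998 (allL N998 (tt N998 F4930) (tt N1178 (iv F5706)) (tt N833 F4931) (tt N1179 D1231) (tt N832 (iv D1057)) (tt N1180 D1232) (tt N998 F4932) (tt N1176 (iv F5698)) (tt N835 F4933))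
theorem Q1000 : ∀ i, i < 1000 → P i := stepQ 999 Q999 (allL N999 (tt N999 F4934) (tt N999 F4935) (tt N1180 (iv F5715)) (tt N1169 (iv F5661)) (tt N840 F4936) (tt N833 (iv D1058)) (tt N887 (iv F4939)) (tt N886 F4937) (tt N836 F4938))
theorem Q1001 : ∀ i, i < 1001 → P i := stepQ 1000 Q1000 (allL N1000 (tt N834 (iv D1059)) (tt N1000 F4940) (tt N1000 F4941) (tt N855 F4942) (tt N1181 D1233) (tt N841 F4943) (tt N1000 F4944) (tt N1000 F4945) (tt N1177 (iv F5705)))
theorem Q1002 : ∀ i, i < 1002 → P i := stepQ 1001 Q1001 (allL N1001 (tt N1181 (iv F5720)) (tt N835 F4946) (tt N1001 F4947) (tt N1182 D1234) (tt N834 (iv D1060)) (tt N1183 D1235) (tt N1001 F4948) (tt N1001 F4949) (tt N1178 (iv F5709)))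
theorem Q1003 : ∀ i, i < 1003 → P i := stepQ 1002 Q1002 (allL N1002 (tt N1002 F4950) (tt N1182 (iv F5725)) (tt N1172 (iv F5676)) (tt N835 (iv D1061)) (tt N857 F4951) (tt N1184 D1236) (tt N1002 F4952) (tt N1185 D1237) (tt N1179 (iv F5713)))
theorem Q1004 : ∀ i, i < 1004 → P i := stepQ 1003 Q1003 (allL N1003 (tt N1003 F4953) (tt N1183 (iv F5728)) (tt N836 F4954) (tt N1184 (iv F5733)) (tt N844 F4955) (tt N835 (iv D1062)) (tt N1186 D1238) (tt N1003 F4956) (tt N1180 (iv F5718)))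
theorem Q1005 : ∀ i, i < 1005 → P i := stepQ 1004 Q1004 (allL N1004 (tt N1004 F4957) (tt N1004 F4958) (tt N1186 (iv F5739)) (tt N1174 (iv F5684)) (tt N845 F4959) (tt N1004 F4960) (tt N836 (iv D1063)) (tt N1004 F4961) (tt N887 F4962))
theorem Q1006 : ∀ i, i < 1006 → P i := stepQ 1005 Q1005 (allL N1005 (tt N1187 D1239) (tt N837 (iv D1064)) (tt N1005 F4963) (tt N1005 F4964) (tt N957 F4965) (tt N1175 (iv F5690)) (tt N932 F4966) (tt N838 F4967) (tt N1005 F4968))
theorem Q1007 : ∀ i, i < 1007 → P i := stepQ 1006 Q1006 (allL N1006 (tt N838 (iv D1065)) (tt N1006 F4969) (tt N1006 F4970) (tt N860 F4971) (tt N1188 D1240) (tt N1177 (iv F5703)) (tt N933 F4972) (tt N1187 (iv F5749)) (tt N841 F4973))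
theorem Q1008 : ∀ i, i < 1008 → P i := stepQ 1007 Q1007 (allL N1007 (tt N1188 (iv F5751)) (tt N839 F4974) (tt N1007 F4975) (tt N1189 D1241) (tt N838 (iv D1066)) (tt N1190 D1242) (tt N934 F4976) (tt N957 F4977) (tt N842 F4978))
theorem Q1009 : ∀ i, i < 1009 → P i := stepQ 1008 Q1008 (allL N1008 (tt N1008 F4979) (tt N1189 (iv F5757)) (tt N1008 F4980) (tt N839 (iv D1067)) (tt N862 F4981) (tt N1191 D1243) (tt N935 F4982) (tt N953 F4983) (tt N843 F4984))
theorem Q1010 : ∀ i, i < 1010 → P i := stepQ 1009 Q1009 (allL N1009 (tt N1009 F4985) (tt N1190 (iv F5762)) (tt N840 F4986) (tt N1191 (iv F5769)) (tt N1180 (iv F5716)) (tt N839 (iv D1068)) (tt N884 F4987) (tt N883 F4988) (tt N844 F4989))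
theorem Q1011 : ∀ i, i < 1011 → P i := stepQ 1010 Q1010 (allL N1010 (tt N842 F4990) (tt N1010 F4991) (tt N1010 F4992) (tt N1192 D1244) (tt N841 (iv D1069)) (tt N1193 D1245) (tt N936 F4993) (tt N1010 F4994) (tt N1188 (iv F5756)))
theorem Q1012 : ∀ i, i < 1012 → P i := stepQ 1011 Q1011 (allL N1011 (tt N1192 (iv F5773)) (tt N843 F4995) (tt N1194 D1246) (tt N842 (iv D1070)) (tt N866 F4996) (tt N1195 D1247) (tt N937 F4997) (tt N1196 D1248) (tt N1189 (iv F5761)))
theorem Q1013 : ∀ i, i < 1013 → P i := stepQ 1012 Q1012 (allL N1012 (tt N1193 (iv F5777)) (tt N844 F4998) (tt N1012 F4999) (tt N1195 (iv F5786)) (tt N1183 (iv F5730)) (tt N842 (iv D1071)) (tt N1197 D1249) (tt N1012 F5000) (tt N1190 (iv F5766)))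
theorem Q1014 : ∀ i, i < 1014 → P i := stepQ 1013 Q1013 (allL N1013 (tt N1013 F5001) (tt N1195 (iv F5785)) (tt N1013 F5002) (tt N844 F5003) (tt N1198 D1250) (tt N843 (iv D1072)) (tt N1199 D1251) (tt N1200 D1252) (tt N1191 (iv F5772)))
theorem Q1015 : ∀ i, i < 1015 → P i := stepQ 1014 Q1014 (allL N1014 (tt N1014 F5004) (tt N1196 (iv F5787)) (tt N1014 F5005) (tt N1014 F5006) (tt N869 F5007) (tt N1200 (iv F5807)) (tt N940 F5008) (tt N843 (iv D1073)) (tt N1201 D1253))
theorem Q1016 : ∀ i, i < 1016 → P i := stepQ 1015 Q1015 (allL N1015 (tt N1015 F5009) (tt N1197 (iv F5791)) (tt N845 F5010) (tt N1199 (iv F5801)) (tt N1186 (iv F5740)) (tt N885 F5011) (tt N844 (iv D1074)) (tt N1015 F5012) (tt N884 F5013))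
theorem Q1017 : ∀ i, i < 1017 → P i := stepQ 1016 Q1016 (allL N1016 (tt N1016 F5071) (tt N930 F5072) (tt N846 (iv D1087)) (tt N1016 F5073) (tt N1202 D1263) (tt N1016 F5074) (tt N1016 F5075) (tt N847 F5076) (tt N1016 F5077))
theorem Q1018 : ∀ i, i < 1018 → P i := stepQ 1017 Q1017 (allL N1017 (tt N1017 F5078) (tt N888 F5079) (tt N1202 (iv F5873)) (tt N1017 F5080) (tt N846 (iv D1088)) (tt N1203 D1264) (tt N1017 F5081) (tt N848 F5082) (tt N1017 F5083))
theorem Q1019 : ∀ i, i < 1019 → P i := stepQ 1018 Q1018 (allL N1018 (tt N931 (iv F5089)) (tt N847 (iv D1089)) (tt N889 F5084) (tt N1167 (iv F5648)) (tt N1204 D1265) (tt N1018 F5085) (tt N1018 F5086) (tt N930 F5087) (tt N849 F5088))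
theorem Q1020 : ∀ i, i < 1020 → P i := stepQ 1019 Q1019 (allL N1019 (tt N1019 F5090) (tt N1204 (iv F5884)) (tt N848 F5091) (tt N1205 D1266) (tt N847 (iv D1090)) (tt N1206 D1267) (tt N1019 F5092) (tt N1202 (iv F5875)) (tt N850 F5093))
theorem Q1021 : ∀ i, i < 1021 → P i := stepQ 1020 Q1020 (allL N1020 (tt N1020 F5094) (tt N891 F5095) (tt N1206 (iv F5894)) (tt N854 F5096) (tt N1020 F5097) (tt N848 (iv D1091)) (tt N1207 D1268) (tt N1203 (iv F5881)) (tt N851 F5098))
theorem Q1022 : ∀ i, i < 1022 → P i := stepQ 1021 Q1021 (allL N1021 (tt N849 (iv D1092)) (tt N1021 F5099) (tt N892 F5100) (tt N1170 (iv F5668)) (tt N1208 D1269) (tt N1021 F5101) (tt N1021 F5102) (tt N1021 F5103) (tt N931 F5104))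
theorem Q1023 : ∀ i, i < 1023 → P i := stepQ 1022 Q1022 (allL N1022 (tt N1208 (iv F5903)) (tt N850 F5105) (tt N893 F5106) (tt N1209 D1270) (tt N849 (iv D1093)) (tt N1210 D1271) (tt N1022 F5107) (tt N1022 F5108) (tt N1204 (iv F5888)))
theorem Q1024 : ∀ i, i < 1024 → P i := stepQ 1023 Q1023 (allL N1023 (tt N1023 F5109) (tt N1209 (iv F5909)) (tt N857 F5110) (tt N850 (iv D1094)) (tt N1172 (iv F5677)) (tt N1211 D1272) (tt N1023 F5111) (tt N1212 D1273) (tt N1205 (iv F5892)))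
theorem Q1025 : ∀ i, i < 1025 → P i := stepQ 1024 Q1024 (allL N1024 (tt N1024 F5112) (tt N1210 (iv F5911)) (tt N851 F5113) (tt N1211 (iv F5917)) (tt N1024 F5114) (tt N850 (iv D1095)) (tt N1213 D1274) (tt N1024 F5115) (tt N1206 (iv F5896)))
theorem Q1026 : ∀ i, i < 1026 → P i := stepQ 1025 Q1025 (allL N1025 (tt N1025 F5116) (tt N896 F5117) (tt N1213 (iv F5923)) (tt N859 F5118) (tt N1025 F5119) (tt N1025 F5120) (tt N851 (iv D1096)) (tt N1025 F5121) (tt N1207 (iv F5902)))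
theorem Q1027 : ∀ i, i < 1027 → P i := stepQ 1026 Q1026 (allL N1026 (tt N852 (iv D1097)) (tt N1026 F5122) (tt N897 F5123) (tt N1177 (iv F5702)) (tt N1214 D1275) (tt N860 F5124) (tt N1026 F5125) (tt N1026 F5126) (tt N855 F5127))
theorem Q1028 : ∀ i, i < 1028 → P i := stepQ 1027 Q1027 (allL N1027 (tt N1214 (iv F5927)) (tt N853 F5128) (tt N898 F5129) (tt N1215 D1276) (tt N852 (iv D1098)) (tt N1216 D1277) (tt N1027 F5130) (tt N1027 F5131) (tt N856 F5132))
theorem Q1029 : ∀ i, i < 1029 → P i := stepQ 1028 Q1028 (allL N1028 (tt N1028 F5133) (tt N1215 (iv F5933)) (tt N1205 (iv F5890)) (tt N853 (iv D1099)) (tt N1179 (iv F5711)) (tt N1217 D1278) (tt N1028 F5134) (tt N1218 D1279) (tt N857 F5135))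
theorem Q1030 : ∀ i, i < 1030 → P i := stepQ 1029 Q1029 (allL N1029 (tt N1029 F5136) (tt N1216 (iv F5936)) (tt N854 F5137) (tt N1217 (iv F5942)) (tt N863 F5138) (tt N853 (iv D1100)) (tt N1219 D1280) (tt N1029 F5139) (tt N858 F5140))
theorem Q1031 : ∀ i, i < 1031 → P i := stepQ 1030 Q1030 (allL N1030 (tt N1030 F5141) (tt N901 F5142) (tt N1219 (iv F5948)) (tt N1207 (iv F5899)) (tt N864 F5143) (tt N1030 F5144) (tt N854 (iv D1101)) (tt N1030 F5145) (tt N859 F5146))
theorem Q1032 : ∀ i, i < 1032 → P i := stepQ 1031 Q1031 (allL N1031 (tt N856 F5147) (tt N1031 F5148) (tt N902 F5149) (tt N1220 D1281) (tt N855 (iv D1102)) (tt N1221 D1282) (tt N1031 F5150) (tt N871 F5151) (tt N1214 (iv F5932)))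
theorem Q1033 : ∀ i, i < 1033 → P i := stepQ 1032 Q1032 (allL N1032 (tt N1220 (iv F5953)) (tt N857 F5152) (tt N1222 D1283) (tt N856 (iv D1103)) (tt N1182 (iv F5726)) (tt N1223 D1284) (tt N1032 F5153) (tt N1224 D1285) (tt N1215 (iv F5935)))
theorem Q1034 : ∀ i, i < 1034 → P i := stepQ 1033 Q1033 (allL N1033 (tt N1221 (iv F5956)) (tt N858 F5154) (tt N904 F5155) (tt N1223 (iv F5964)) (tt N867 F5156) (tt N856 (iv D1104)) (tt N1225 D1286) (tt N873 F5157) (tt N1216 (iv F5940)))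
theorem Q1035 : ∀ i, i < 1035 → P i := stepQ 1034 Q1034 (allL N1034 (tt N1034 F5158) (tt N1223 (iv F5963)) (tt N1211 (iv F5916)) (tt N858 F5159) (tt N1226 D1287) (tt N857 (iv D1105)) (tt N1227 D1288) (tt N1228 D1289) (tt N1217 (iv F5943)))
theorem Q1036 : ∀ i, i < 1036 → P i := stepQ 1035 Q1035 (allL N1035 (tt N1035 F5160) (tt N1224 (iv F5965)) (tt N1212 (iv F5919)) (tt N875 F5161) (tt N1185 (iv F5736)) (tt N1228 (iv F5980)) (tt N1035 F5162) (tt N857 (iv D1106)) (tt N1229 D1290))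
theorem Q1037 : ∀ i, i < 1037 → P i := stepQ 1036 Q1036 (allL N1036 (tt N1036 F5163) (tt N1225 (iv F5968)) (tt N859 F5164) (tt N1227 (iv F5976)) (tt N870 F5165) (tt N1036 F5166) (tt N858 (iv D1107)) (tt N876 F5167) (tt N1219 (iv F5952)))
theorem Q1038 : ∀ i, i < 1038 → P i := stepQ 1037 Q1037 (allL N1037 (tt N861 F5168) (tt N1037 F5169) (tt N908 F5170) (tt N1230 D1291) (tt N860 (iv D1108)) (tt N1231 D1292) (tt N941 F5171) (tt N1037 F5172) (tt N865 F5173))
theorem Q1039 : ∀ i, i < 1039 → P i := stepQ 1038 Q1038 (allL N1038 (tt N1230 (iv F5984)) (tt N862 F5174) (tt N1232 D1293) (tt N861 (iv D1109)) (tt N1189 (iv F5758)) (tt N1233 D1294) (tt N942 F5175) (tt N1234 D1295) (tt N866 F5176))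
theorem Q1040 : ∀ i, i < 1040 → P i := stepQ 1039 Q1039 (allL N1039 (tt N1231 (iv F5989)) (tt N863 F5177) (tt N910 F5178) (tt N1233 (iv F6001)) (tt N1216 (iv F5938)) (tt N861 (iv D1110)) (tt N1235 D1296) (tt N1039 F5179) (tt N867 F5180))
theorem Q1041 : ∀ i, i < 1041 → P i := stepQ 1040 Q1040 (allL N1040 (tt N1040 F5181) (tt N1233 (iv F6000)) (tt N1040 F5182) (tt N863 F5183) (tt N1236 D1297) (tt N862 (iv D1111)) (tt N1237 D1298) (tt N1238 D1299) (tt N868 F5184))
theorem Q1042 : ∀ i, i < 1042 → P i := stepQ 1041 Q1041 (allL N1041 (tt N1041 F5185) (tt N1234 (iv F6003)) (tt N1041 F5186) (tt N1041 F5187) (tt N953 F5188) (tt N1238 (iv F6024)) (tt N945 F5189) (tt N862 (iv D1112)) (tt N1239 (iv F5870)))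
theorem Q1043 : ∀ i, i < 1043 → P i := stepQ 1042 Q1042 (allL N1042 (tt N1042 F5190) (tt N1235 (iv F6008)) (tt N864 F5191) (tt N1237 (iv F6018)) (tt N1219 (iv F5949)) (tt N946 F5192) (tt N863 (iv D1113)) (tt N1042 F5193) (tt N870 F5194))
theorem Q1044 : ∀ i, i < 1044 → P i := stepQ 1043 Q1043 (allL N1043 (tt N866 F5195) (tt N1043 F5196) (tt N1240 D1300) (tt N865 (iv D1114)) (tt N1192 (iv F5775)) (tt N1241 D1301) (tt N947 F5197) (tt N1242 D1302) (tt N1230 (iv F5988)))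
theorem Q1045 : ∀ i, i < 1045 → P i := stepQ 1044 Q1044 (allL N1044 (tt N867 F5198) (tt N1044 F5199) (tt N914 F5200) (tt N1241 (iv F6032)) (tt N1221 (iv F5959)) (tt N865 (iv D1115)) (tt N1243 D1303) (tt N878 F5201) (tt N1231 (iv F5994)))
theorem Q1046 : ∀ i, i < 1046 → P i := stepQ 1045 Q1045 (allL N1045 (tt N1240 (iv F6025)) (tt N1045 F5202) (tt N866 (iv D1116)) (tt N915 F5203) (tt N1194 (iv F5783)) (tt N1244 D1304) (tt N949 F5204) (tt N1245 D1305) (tt N1232 (iv F5999)))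
theorem Q1047 : ∀ i, i < 1047 → P i := stepQ 1046 Q1046 (allL N1046 (tt N1241 (iv F6030)) (tt N868 F5205) (tt N1244 (iv F6044)) (tt N867 F5206) (tt N1246 D1306) (tt N866 (iv D1117)) (tt N1247 D1307) (tt N1248 D1308) (tt N1233 (iv F6002)))
theorem Q1048 : ∀ i, i < 1048 → P i := stepQ 1047 Q1047 (allL N1047 (tt N1242 (iv F6033)) (tt N869 F5207) (tt N1245 (iv F6047)) (tt N880 F5208) (tt N1196 (iv F5789)) (tt N1248 (iv F6056)) (tt N951 F5209) (tt N866 (iv D1118)) (tt N1249 (iv F5864)))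
theorem Q1049 : ∀ i, i < 1049 → P i := stepQ 1048 Q1048 (allL N1048 (tt N1243 (iv F6037)) (tt N870 F5210) (tt N917 F5211) (tt N1247 (iv F6052)) (tt N1225 (iv F5970)) (tt N952 F5212) (tt N867 (iv D1119)) (tt N881 F5213) (tt N1235 (iv F6012)))
theorem Q1050 : ∀ i, i < 1050 → P i := stepQ 1049 Q1049 (allL N1049 (tt N1049 F5214) (tt N1246 (iv F6050)) (tt N1049 F5215) (tt N1226 (iv F5974)) (tt N868 (iv D1120)) (tt N1198 (iv F5798)) (tt N1250 D1309) (tt N1251 D1310) (tt N1236 (iv F6015)))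
theorem Q1051 : ∀ i, i < 1051 → P i := stepQ 1050 Q1050 (allL N1050 (tt N1050 F5216) (tt N1247 (iv F6051)) (tt N1050 F5217) (tt N870 F5218) (tt N1250 (iv F6059)) (tt N953 F5219) (tt N868 (iv D1121)) (tt N1191 (iv F5771)) (tt N1237 (iv F6020)))
theorem Q1052 : ∀ i, i < 1052 → P i := stepQ 1051 Q1051 (allL N1051 (tt N1051 F5220) (tt N1248 (iv F6054)) (tt N1051 F5221) (tt N884 F5222) (tt N1251 (iv F6062)) (tt N869 F5223) (tt N1191 (iv F5770)) (tt N868 (iv D1122)) (tt N1199 (iv F5803)))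
theorem Q1053 : ∀ i, i < 1053 → P i := stepQ 1052 Q1052 (allL N1052 (tt N1052 F5061) (tt N1249 (iv F5862)) (tt N1052 F5062) (tt N885 F5063) (tt N1201 (iv F5811)) (tt N1199 (iv F5802)) (tt N939 (iv D1085)) (tt N1239 D1262) (tt N869 F5064))
theorem Q1054 : ∀ i, i < 1054 → P i := stepQ 1053 Q1053 (allL N1053 (tt N872 F5266) (tt N1053 F5267) (tt N1252 D1311) (tt N871 (iv D1133)) (tt N1053 F5268) (tt N1253 D1312) (tt N1053 F5269) (tt N1254 D1313) (tt N1053 F5270))
theorem Q1055 : ∀ i, i < 1055 → P i := stepQ 1054 Q1054 (allL N1054 (tt N873 F5271) (tt N1054 F5272) (tt N921 F5273) (tt N1253 (iv F6070)) (tt N878 F5274) (tt N871 (iv D1134)) (tt N1255 D1314) (tt N1221 (iv F5960)) (tt N1054 F5275))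
theorem Q1056 : ∀ i, i < 1056 → P i := stepQ 1055 Q1055 (allL N1055 (tt N1252 (iv F6063)) (tt N1055 F5276) (tt N872 (iv D1135)) (tt N922 F5277) (tt N1055 F5278) (tt N1256 D1315) (tt N1055 F5279) (tt N1257 D1316) (tt N1055 F5280))
theorem Q1057 : ∀ i, i < 1057 → P i := stepQ 1056 Q1056 (allL N1056 (tt N1253 (iv F6068)) (tt N874 F5281) (tt N1256 (iv F6083)) (tt N873 F5282) (tt N1258 D1317) (tt N872 (iv D1136)) (tt N1259 D1318) (tt N1260 D1319) (tt N1056 F5283))
theorem Q1058 : ∀ i, i < 1058 → P i := stepQ 1057 Q1057 (allL N1057 (tt N1254 (iv F6072)) (tt N875 F5284) (tt N1257 (iv F6087)) (tt N1224 (iv F5966)) (tt N1057 F5285) (tt N1260 (iv F6099)) (tt N1057 F5286) (tt N872 (iv D1137)) (tt N1261 D1320))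
theorem Q1059 : ∀ i, i < 1059 → P i := stepQ 1058 Q1058 (allL N1058 (tt N1255 (iv F6076)) (tt N876 F5287) (tt N925 F5288) (tt N1259 (iv F6095)) (tt N881 F5289) (tt N1058 F5290) (tt N873 (iv D1138)) (tt N1225 (iv F5972)) (tt N1058 F5291))
theorem Q1060 : ∀ i, i < 1060 → P i := stepQ 1059 Q1059 (allL N1059 (tt N1059 F5292) (tt N1258 (iv F6090)) (tt N1059 F5293) (tt N882 F5294) (tt N874 (iv D1139)) (tt N1059 F5295) (tt N1262 D1321) (tt N1263 D1322) (tt N1059 F5296))
theorem Q1061 : ∀ i, i < 1061 → P i := stepQ 1060 Q1060 (allL N1060 (tt N1060 F5297) (tt N1259 (iv F6094)) (tt N1060 F5298) (tt N876 F5299) (tt N1262 (iv F6107)) (tt N1060 F5300) (tt N874 (iv D1140)) (tt N1264 D1323) (tt N1060 F5301))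
theorem Q1062 : ∀ i, i < 1062 → P i := stepQ 1061 Q1061 (allL N1061 (tt N1061 F5302) (tt N1260 (iv F6098)) (tt N1061 F5303) (tt N1228 (iv F5979)) (tt N1263 (iv F6111)) (tt N875 F5304) (tt N1264 (iv F6116)) (tt N874 (iv D1141)) (tt N1265 D1324))
theorem Q1063 : ∀ i, i < 1063 → P i := stepQ 1062 Q1062 (allL N1062 (tt N1062 F5305) (tt N1261 (iv F6100)) (tt N1062 F5306) (tt N1229 (iv F5982)) (tt N1062 F5307) (tt N1265 (iv F6119)) (tt N1062 F5308) (tt N1062 F5309) (tt N875 (iv D1142)))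
theorem Q1064 : ∀ i, i < 1064 → P i := stepQ 1063 Q1063 (allL N1063 (tt N879 F5310) (tt N1063 F5311) (tt N1063 F5312) (tt N878 F5313) (tt N1266 D1325) (tt N877 (iv D1143)) (tt N1267 D1326) (tt N1268 D1327) (tt N1063 F5314))
theorem Q1065 : ∀ i, i < 1065 → P i := stepQ 1064 Q1064 (allL N1064 (tt N880 F5315) (tt N1064 F5316) (tt N1064 F5317) (tt N1242 (iv F6035)) (tt N1064 F5318) (tt N1268 (iv F6135)) (tt N955 F5319) (tt N877 (iv D1144)) (tt N1269 (iv F5854)))
theorem Q1066 : ∀ i, i < 1066 → P i := stepQ 1065 Q1065 (allL N1065 (tt N881 F5320) (tt N1065 F5321) (tt N929 F5322) (tt N1267 (iv F6129)) (tt N1255 (iv F6079)) (tt N956 F5323) (tt N878 (iv D1145)) (tt N1243 (iv F6041)) (tt N1065 F5324))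
theorem Q1067 : ∀ i, i < 1067 → P i := stepQ 1066 Q1066 (allL N1066 (tt N1266 (iv F6121)) (tt N882 F5325) (tt N1066 F5326) (tt N1258 (iv F6091)) (tt N879 (iv D1146)) (tt N1066 F5327) (tt N1270 D1328) (tt N1271 D1329) (tt N1066 F5328))
theorem Q1068 : ∀ i, i < 1068 → P i := stepQ 1067 Q1067 (allL N1067 (tt N1267 (iv F6126)) (tt N883 F5329) (tt N1067 F5330) (tt N881 F5331) (tt N1270 (iv F6138)) (tt N957 F5332) (tt N879 (iv D1147)) (tt N1190 (iv F5765)) (tt N1067 F5333))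
theorem Q1069 : ∀ i, i < 1069 → P i := stepQ 1068 Q1068 (allL N1068 (tt N1268 (iv F6132)) (tt N884 F5334) (tt N1068 F5335) (tt N1248 (iv F6055)) (tt N1271 (iv F6142)) (tt N880 F5336) (tt N1190 (iv F5764)) (tt N879 (iv D1148)) (tt N1197 (iv F5795)))
theorem Q1070 : ∀ i, i < 1070 → P i := stepQ 1069 Q1069 (allL N1069 (tt N1269 (iv F5849)) (tt N885 F5050) (tt N1069 F5051) (tt N1249 (iv F5863)) (tt N1069 F5052) (tt N1197 (iv F5793)) (tt N938 (iv D1083)) (tt N1069 F5053) (tt N880 F5054))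
theorem Q1071 : ∀ i, i < 1071 → P i := stepQ 1070 Q1070 (allL N1070 (tt N1070 F5337) (tt N1270 (iv F6136)) (tt N886 F5338) (tt N1262 (iv F6106)) (tt N883 F5339) (tt N1176 (iv F5696)) (tt N882 (iv D1149)) (tt N1180 (iv F5717)) (tt N1070 F5340))
theorem Q1072 : ∀ i, i < 1072 → P i := stepQ 1071 Q1071 (allL N1071 (tt N1071 F5341) (tt N1271 (iv F6140)) (tt N887 F5342) (tt N1272 D1330) (tt N884 F5343) (tt N1071 F5344) (tt N1180 F5719) (tt N882 (iv D1150)) (tt N1186 (iv F5743)))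
theorem Q1073 : ∀ i, i < 1073 → P i := stepQ 1072 Q1072 (allL N1072 (tt N1072 F5350) (tt N1072 F5351) (tt N1273 D1331) (tt N887 (iv D1152)) (tt N1072 F5352) (tt N1072 F5353) (tt N1169 F5665) (tt N1072 F5354) (tt N1174 (iv F5687)))
theorem Q1074 : ∀ i, i < 1074 → P i := stepQ 1073 Q1073 (allL N1073 (tt N1138 F5355) (tt N1203 (iv F5878)) (tt N1160 F5356) (tt N1073 F5357) (tt N1073 F5358) (tt N888 (iv D1153)) (tt N1274 D1332) (tt N891 F5359) (tt N1073 F5360))
theorem Q1075 : ∀ i, i < 1075 → P i := stepQ 1074 Q1074 (allL N1074 (tt N924 F5361) (tt N890 F5362) (tt N1204 (iv F5885)) (tt N1275 D1333) (tt N889 (iv D1154)) (tt N1276 D1334) (tt N1074 F5363) (tt N920 F5364) (tt N893 F5365))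
theorem Q1076 : ∀ i, i < 1076 → P i := stepQ 1075 Q1075 (allL N1075 (tt N1139 F5366) (tt N1275 (iv F6158)) (tt N899 F5367) (tt N890 (iv D1155)) (tt N1075 F5368) (tt N1277 D1335) (tt N1075 F5369) (tt N1153 F5370) (tt N894 F5371))
theorem Q1077 : ∀ i, i < 1077 → P i := stepQ 1076 Q1076 (allL N1076 (tt N1140 F5372) (tt N1276 (iv F6164)) (tt N891 F5373) (tt N1277 (iv F6170)) (tt N1076 F5374) (tt N890 (iv D1156)) (tt N1278 D1336) (tt N1160 F5375) (tt N895 F5376))
theorem Q1078 : ∀ i, i < 1078 → P i := stepQ 1077 Q1077 (allL N1077 (tt N1141 F5377) (tt N1207 (iv F5898)) (tt N1278 (iv F6174)) (tt N901 F5378) (tt N1077 F5379) (tt N1077 F5380) (tt N891 (iv D1157)) (tt N1274 (iv F6155)) (tt N896 F5381))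
theorem Q1079 : ∀ i, i < 1079 → P i := stepQ 1078 Q1078 (allL N1078 (tt N893 F5382) (tt N928 F5383) (tt N1208 (iv F5905)) (tt N1279 D1337) (tt N892 (iv D1158)) (tt N1280 D1338) (tt N1078 F5384) (tt N1078 F5385) (tt N924 F5386))
theorem Q1080 : ∀ i, i < 1080 → P i := stepQ 1079 Q1079 (allL N1079 (tt N1279 (iv F6179)) (tt N894 F5387) (tt N1281 D1339) (tt N893 (iv D1159)) (tt N1079 F5388) (tt N1282 D1340) (tt N1079 F5389) (tt N1283 D1341) (tt N1275 (iv F6162)))
theorem Q1081 : ∀ i, i < 1081 → P i := stepQ 1080 Q1080 (allL N1080 (tt N1280 (iv F6184)) (tt N895 F5390) (tt N1210 (iv F5912)) (tt N1282 (iv F6193)) (tt N1080 F5391) (tt N893 (iv D1160)) (tt N1284 D1342) (tt N1080 F5392) (tt N1276 (iv F6167)))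
theorem Q1082 : ∀ i, i < 1082 → P i := stepQ 1081 Q1081 (allL N1081 (tt N1144 F5393) (tt N1282 (iv F6192)) (tt N905 F5394) (tt N895 F5395) (tt N1285 D1343) (tt N894 (iv D1161)) (tt N1286 D1344) (tt N1287 D1345) (tt N1277 (iv F6172)))
theorem Q1083 : ∀ i, i < 1083 → P i := stepQ 1082 Q1082 (allL N1082 (tt N1145 F5396) (tt N1283 (iv F6194)) (tt N906 F5397) (tt N1082 F5398) (tt N1082 F5399) (tt N1287 (iv F6213)) (tt N1082 F5400) (tt N894 (iv D1162)) (tt N1288 D1346))
theorem Q1084 : ∀ i, i < 1084 → P i := stepQ 1083 Q1083 (allL N1083 (tt N1146 F5401) (tt N1284 (iv F6198)) (tt N896 F5402) (tt N1286 (iv F6208)) (tt N1083 F5403) (tt N1083 F5404) (tt N895 (iv D1163)) (tt N1083 F5405) (tt N1278 (iv F6178)))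
theorem Q1085 : ∀ i, i < 1085 → P i := stepQ 1084 Q1084 (allL N1084 (tt N898 F5406) (tt N1147 F5407) (tt N1214 (iv F5929)) (tt N1289 D1347) (tt N897 (iv D1164)) (tt N1290 D1348) (tt N1084 F5408) (tt N1084 F5409) (tt N902 F5410))
theorem Q1086 : ∀ i, i < 1086 → P i := stepQ 1085 Q1085 (allL N1085 (tt N1289 (iv F6220)) (tt N899 F5411) (tt N1291 D1349) (tt N898 (iv D1165)) (tt N1085 F5412) (tt N1292 D1350) (tt N1085 F5413) (tt N1293 D1351) (tt N903 F5414))
theorem Q1087 : ∀ i, i < 1087 → P i := stepQ 1086 Q1086 (allL N1086 (tt N1290 (iv F6225)) (tt N900 F5415) (tt N1216 (iv F5937)) (tt N1292 (iv F6235)) (tt N910 F5416) (tt N898 (iv D1166)) (tt N1294 D1352) (tt N1086 F5417) (tt N904 F5418))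
theorem Q1088 : ∀ i, i < 1088 → P i := stepQ 1087 Q1087 (allL N1087 (tt N1150 F5419) (tt N1292 (iv F6234)) (tt N1277 (iv F6169)) (tt N900 F5420) (tt N1295 D1353) (tt N899 (iv D1167)) (tt N1296 D1354) (tt N1297 D1355) (tt N905 F5421))
theorem Q1089 : ∀ i, i < 1089 → P i := stepQ 1088 Q1088 (allL N1088 (tt N1151 F5422) (tt N1293 (iv F6237)) (tt N1153 F5423) (tt N1088 F5424) (tt N1088 F5425) (tt N1297 (iv F6260)) (tt N1088 F5426) (tt N899 (iv D1168)) (tt N1298 D1356))
theorem Q1090 : ∀ i, i < 1090 → P i := stepQ 1089 Q1089 (allL N1089 (tt N1152 F5427) (tt N1294 (iv F6242)) (tt N901 F5428) (tt N1296 (iv F6253)) (tt N912 F5429) (tt N1089 F5430) (tt N900 (iv D1169)) (tt N1089 F5431) (tt N907 F5432))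
theorem Q1091 : ∀ i, i < 1091 → P i := stepQ 1090 Q1090 (allL N1090 (tt N903 F5433) (tt N1153 F5434) (tt N1299 D1357) (tt N902 (iv D1170)) (tt N1090 F5435) (tt N1300 D1358) (tt N1090 F5436) (tt N1275 (iv F6161)) (tt N1289 (iv F6224)))
theorem Q1092 : ∀ i, i < 1092 → P i := stepQ 1091 Q1091 (allL N1091 (tt N904 F5437) (tt N1154 F5438) (tt N1221 (iv F5958)) (tt N1300 (iv F6272)) (tt N914 F5439) (tt N902 (iv D1171)) (tt N1301 D1359) (tt N921 F5440) (tt N1290 (iv F6229)))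
theorem Q1093 : ∀ i, i < 1093 → P i := stepQ 1092 Q1092 (allL N1092 (tt N1299 (iv F6267)) (tt N1281 (iv F6189)) (tt N903 (iv D1172)) (tt N1222 (iv F5961)) (tt N1092 F5441) (tt N1302 D1360) (tt N1092 F5442) (tt N1303 D1361) (tt N1291 (iv F6233)))
theorem Q1094 : ∀ i, i < 1094 → P i := stepQ 1093 Q1093 (allL N1093 (tt N1300 (iv F6270)) (tt N905 F5443) (tt N1302 (iv F6279)) (tt N904 F5444) (tt N1304 D1362) (tt N903 (iv D1173)) (tt N1305 D1363) (tt N1306 D1364) (tt N1292 (iv F6236)))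
theorem Q1095 : ∀ i, i < 1095 → P i := stepQ 1094 Q1094 (allL N1094 (tt N1275 (iv F6157)) (tt N906 F5445) (tt N1303 (iv F6280)) (tt N924 F5446) (tt N1094 F5447) (tt N1306 (iv F6291)) (tt N1094 F5448) (tt N903 (iv D1174)) (tt N1279 (iv F6183)))
theorem Q1096 : ∀ i, i < 1096 → P i := stepQ 1095 Q1095 (allL N1095 (tt N1301 (iv F6273)) (tt N907 F5449) (tt N1225 (iv F5969)) (tt N1305 (iv F6287)) (tt N917 F5450) (tt N1095 F5451) (tt N904 (iv D1175)) (tt N925 F5452) (tt N1294 (iv F6246)))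
theorem Q1097 : ∀ i, i < 1097 → P i := stepQ 1096 Q1096 (allL N1096 (tt N1157 F5453) (tt N1304 (iv F6283)) (tt N1285 (iv F6203)) (tt N918 F5454) (tt N905 (iv D1176)) (tt N1096 F5455) (tt N1307 D1365) (tt N1308 D1366) (tt N1295 (iv F6250)))
theorem Q1098 : ∀ i, i < 1098 → P i := stepQ 1097 Q1097 (allL N1097 (tt N1158 F5456) (tt N1305 (iv F6286)) (tt N1286 (iv F6207)) (tt N907 F5457) (tt N1307 (iv F6294)) (tt N1097 F5458) (tt N905 (iv D1177)) (tt N1309 D1367) (tt N1296 (iv F6256)))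
theorem Q1099 : ∀ i, i < 1099 → P i := stepQ 1098 Q1098 (allL N1098 (tt N1159 F5459) (tt N1306 (iv F6289)) (tt N1287 (iv F6211)) (tt N927 F5460) (tt N1308 (iv F6299)) (tt N906 F5461) (tt N1309 (iv F6304)) (tt N905 (iv D1178)) (tt N1310 D1368))
theorem Q1100 : ∀ i, i < 1100 → P i := stepQ 1099 Q1099 (allL N1099 (tt N1142 F5462) (tt N1279 (iv F6180)) (tt N1288 (iv F6215)) (tt N928 F5463) (tt N1099 F5464) (tt N1310 (iv F6307)) (tt N1099 F5465) (tt N1298 (iv F6266)) (tt N906 (iv D1179)))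
theorem Q1101 : ∀ i, i < 1101 → P i := stepQ 1100 Q1100 (allL N1100 (tt N910 F5466) (tt N919 F5467) (tt N1231 (iv F5991)) (tt N917 F5468) (tt N1290 (iv F6227)) (tt N908 (iv D1180)) (tt N916 F5469) (tt N1100 F5470) (tt N914 F5471))
theorem Q1102 : ∀ i, i < 1102 → P i := stepQ 1101 Q1101 (allL N1101 (tt N952 F5255) (tt N1101 F5256) (tt N909 F5257) (tt N1232 (iv F5997)) (tt N1101 F5258) (tt N1243 (iv F6040)) (tt N948 (iv D1130)) (tt N956 F5259) (tt N915 F5260))
theorem Q1103 : ∀ i, i < 1103 → P i := stepQ 1102 Q1102 (allL N1102 (tt N917 F5472) (tt N911 F5473) (tt N1243 (iv F6039)) (tt N910 F5474) (tt N1301 (iv F6275)) (tt N909 (iv D1181)) (tt N914 F5475) (tt N929 F5476) (tt N916 F5477))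
theorem Q1104 : ∀ i, i < 1104 → P i := stepQ 1103 Q1103 (allL N1103 (tt N916 F5478) (tt N912 F5479) (tt N1235 (iv F6009)) (tt N914 F5480) (tt N1294 (iv F6243)) (tt N913 F5481) (tt N910 (iv D1182)) (tt N1103 F5482) (tt N917 F5483))
theorem Q1105 : ∀ i, i < 1105 → P i := stepQ 1104 Q1104 (allL N1104 (tt N1156 F5484) (tt N1301 (iv F6274)) (tt N1104 F5485) (tt N1295 (iv F6248)) (tt N911 (iv D1183)) (tt N1104 F5486) (tt N1154 F5487) (tt N1161 F5488) (tt N918 F5489))
theorem Q1106 : ∀ i, i < 1106 → P i := stepQ 1105 Q1105 (allL N1105 (tt N915 F5242) (tt N946 F5243) (tt N913 F5244) (tt N1240 (iv F6026)) (tt N1105 F5245) (tt N1235 (iv F6010)) (tt N943 (iv D1127)) (tt N1105 F5246) (tt N952 F5247))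
theorem Q1107 : ∀ i, i < 1107 → P i := stepQ 1106 Q1106 (allL N1106 (tt N1235 (iv F6007)) (tt N1106 F5490) (tt N916 F5491) (tt N1244 (iv F6045)) (tt N1311 D1369) (tt N915 (iv D1184)) (tt N1231 (iv F5992)) (tt N1106 F5492) (tt N1243 (iv F6042)))
theorem Q1108 : ∀ i, i < 1108 → P i := stepQ 1107 Q1107 (allL N1107 (tt N1294 (iv F6241)) (tt N918 F5493) (tt N1311 (iv F6309)) (tt N1304 (iv F6284)) (tt N916 (iv D1185)) (tt N1107 F5494) (tt N1290 F6230) (tt N1107 F5495) (tt N1301 (iv F6278)))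
theorem Q1109 : ∀ i, i < 1109 → P i := stepQ 1108 Q1108 (allL N1108 (tt N1149 F5496) (tt N1290 (iv F6226)) (tt N1108 F5497) (tt N1307 (iv F6293)) (tt N919 F5498) (tt N1147 (iv F5501)) (tt N918 (iv D1186)) (tt N1108 F5499) (tt N1154 F5500))
theorem Q1110 : ∀ i, i < 1110 → P i := stepQ 1109 Q1109 (allL N1109 (tt N922 F5502) (tt N1202 (iv F5872)) (tt N920 (iv D1187)) (tt N1252 (iv F6064)) (tt N930 F5503) (tt N1312 D1370) (tt N1109 F5504) (tt N1204 (iv F5887)) (tt N1109 F5505))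
theorem Q1111 : ∀ i, i < 1111 → P i := stepQ 1110 Q1110 (allL N1110 (tt N923 F5506) (tt N1160 F5507) (tt N1312 (iv F6313)) (tt N921 F5508) (tt N1110 F5509) (tt N920 (iv D1188)) (tt N1313 D1371) (tt N1276 (iv F6166)) (tt N1110 F5510))
theorem Q1112 : ∀ i, i < 1112 → P i := stepQ 1111 Q1111 (allL N1111 (tt N925 F5511) (tt N1161 F5512) (tt N1255 (iv F6078)) (tt N1313 (iv F6318)) (tt N929 F5513) (tt N1111 F5514) (tt N921 (iv D1189)) (tt N1301 (iv F6277)) (tt N1111 F5515))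
theorem Q1113 : ∀ i, i < 1113 → P i := stepQ 1112 Q1112 (allL N1112 (tt N1312 (iv F6312)) (tt N1112 F5516) (tt N923 F5517) (tt N1256 (iv F6084)) (tt N1112 F5518) (tt N922 (iv D1190)) (tt N1314 D1372) (tt N1315 D1373) (tt N1112 F5519))
theorem Q1114 : ∀ i, i < 1114 → P i := stepQ 1113 Q1113 (allL N1113 (tt N1204 (iv F5883)) (tt N1113 F5520) (tt N924 F5521) (tt N1316 D1374) (tt N931 F5522) (tt N1315 (iv F6330)) (tt N1113 F5523) (tt N922 (iv D1191)) (tt N1208 (iv F5908)))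
theorem Q1115 : ∀ i, i < 1115 → P i := stepQ 1114 Q1114 (allL N1114 (tt N1313 (iv F6316)) (tt N926 F5524) (tt N1314 (iv F6323)) (tt N925 F5525) (tt N1114 F5526) (tt N1114 F5527) (tt N923 (iv D1192)) (tt N1317 D1375) (tt N1114 F5528))
theorem Q1116 : ∀ i, i < 1116 → P i := stepQ 1115 Q1115 (allL N1115 (tt N1276 (iv F6163)) (tt N927 F5529) (tt N1315 (iv F6328)) (tt N1306 (iv F6290)) (tt N1115 F5530) (tt N924 F5531) (tt N1317 (iv F6336)) (tt N923 (iv D1193)) (tt N1280 (iv F6188)))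
theorem Q1117 : ∀ i, i < 1117 → P i := stepQ 1116 Q1116 (allL N1116 (tt N1163 F5532) (tt N1317 (iv F6333)) (tt N1116 F5533) (tt N1309 (iv F6302)) (tt N1116 F5534) (tt N1116 F5535) (tt N927 F5536) (tt N926 (iv D1194)) (tt N1318 D1376))
theorem Q1118 : ∀ i, i < 1118 → P i := stepQ 1117 Q1117 (allL N1117 (tt N1143 F5537) (tt N1280 (iv F6185)) (tt N1117 F5538) (tt N1310 (iv F6306)) (tt N1117 F5539) (tt N928 F5540) (tt N1318 (iv F6341)) (tt N1117 F5541) (tt N927 (iv D1195)))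
theorem Q1119 : ∀ i, i < 1119 → P i := stepQ 1118 Q1118 (allL N1118 (tt N1167 F5653) (tt N1118 F5542) (tt N1118 F5543) (tt N931 (iv D1196)) (tt N1319 D1377) (tt N1118 F5544) (tt N1118 F5545) (tt N1118 F5546) (tt N1170 (iv F5671)))
theorem Q1120 : ∀ i, i < 1120 → P i := stepQ 1119 Q1119 (allL N1119 (tt N932 (iv D1075)) (tt N1119 F5014) (tt N1119 F5015) (tt N1119 F5016) (tt N954 F5017) (tt N1119 F5018) (tt N1187 (iv F5748)) (tt N933 F5019) (tt N1119 F5020))
theorem Q1121 : ∀ i, i < 1121 → P i := stepQ 1120 Q1120 (allL N1120 (tt N934 F5021) (tt N1120 F5022) (tt N1120 F5023) (tt N1320 D1254) (tt N933 (iv D1076)) (tt N955 (iv F5026)) (tt N1188 (iv F5754)) (tt N954 F5024) (tt N936 F5025))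
theorem Q1122 : ∀ i, i < 1122 → P i := stepQ 1121 Q1121 (allL N1121 (tt N1320 (iv F5814)) (tt N935 F5027) (tt N1321 D1255) (tt N934 (iv D1077)) (tt N942 F5028) (tt N951 F5029) (tt N1189 (iv F5759)) (tt N950 F5030) (tt N937 F5031))
theorem Q1123 : ∀ i, i < 1123 → P i := stepQ 1122 Q1122 (allL N1122 (tt N937 F5032) (tt N1122 F5033) (tt N1322 D1256) (tt N936 (iv D1078)) (tt N947 F5034) (tt N1323 D1257) (tt N1192 (iv F5776)) (tt N1324 D1258) (tt N1320 (iv F5819)))
theorem Q1124 : ∀ i, i < 1124 → P i := stepQ 1123 Q1123 (allL N1123 (tt N938 F5035) (tt N1123 F5036) (tt N1123 F5037) (tt N1323 (iv F5838)) (tt N1123 F5038) (tt N936 (iv D1079)) (tt N1269 D1259) (tt N1123 F5039) (tt N955 F5040))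
theorem Q1125 : ∀ i, i < 1125 → P i := stepQ 1124 Q1124 (allL N1124 (tt N1322 (iv F5828)) (tt N1124 F5041) (tt N937 (iv D1080)) (tt N1124 F5042) (tt N949 F5043) (tt N1324 (iv F5847)) (tt N1194 (iv F5784)) (tt N1323 F5841) (tt N1321 (iv F5827)))
theorem Q1126 : ∀ i, i < 1126 → P i := stepQ 1125 Q1125 (allL N1125 (tt N1323 (iv F5835)) (tt N939 F5044) (tt N1324 (iv F5844)) (tt N938 F5045) (tt N1325 D1260) (tt N937 (iv D1081)) (tt N1249 D1261) (tt N1322 (iv F5834)) (tt N951 F5046))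
theorem Q1127 : ∀ i, i < 1127 → P i := stepQ 1126 Q1126 (allL N1126 (tt N1324 (iv F5842)) (tt N940 F5047) (tt N1323 (iv F5837)) (tt N1126 F5048) (tt N951 F5049) (tt N1322 F5833) (tt N1196 (iv F5790)) (tt N937 (iv D1082)) (tt N1325 (iv F5861)))
theorem Q1128 : ∀ i, i < 1128 → P i := stepQ 1127 Q1127 (allL N1127 (tt N1127 F5055) (tt N1325 (iv F5856)) (tt N1127 F5056) (tt N1127 F5057) (tt N939 (iv D1084)) (tt N945 F5058) (tt N1201 (iv F5812)) (tt N944 (iv F5060)) (tt N940 F5059))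
theorem Q1129 : ∀ i, i < 1129 → P i := stepQ 1128 Q1128 (allL N1128 (tt N1128 F5065) (tt N1322 (iv F5832)) (tt N1128 F5066) (tt N1128 F5067) (tt N944 F5068) (tt N940 F5069) (tt N1239 (iv F5869)) (tt N939 (iv D1086)) (tt N945 F5070))
theorem Q1130 : ∀ i, i < 1130 → P i := stepQ 1129 Q1129 (allL N1129 (tt N942 F5224) (tt N1129 F5225) (tt N950 F5226) (tt N941 (iv D1123)) (tt N1320 (iv F5816)) (tt N949 F5227) (tt N1230 (iv F5987)) (tt N1321 (iv F5826)) (tt N947 F5228))
theorem Q1131 : ∀ i, i < 1131 → P i := stepQ 1130 Q1130 (allL N1130 (tt N950 F5229) (tt N1130 F5230) (tt N942 (iv D1124)) (tt N948 F5231) (tt N1321 (iv F5824)) (tt N947 (iv F5233)) (tt N1232 (iv F5998)) (tt N1320 (iv F5818)) (tt N949 F5232))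
theorem Q1132 : ∀ i, i < 1132 → P i := stepQ 1131 Q1131 (allL N1131 (tt N949 F5234) (tt N944 F5235) (tt N947 F5236) (tt N943 F5237) (tt N1322 (iv F5830)) (tt N942 (iv D1125)) (tt N1240 (iv F6027)) (tt N1325 (iv F5860)) (tt N950 F5238))
theorem Q1133 : ∀ i, i < 1133 → P i := stepQ 1132 Q1132 (allL N1132 (tt N1321 (iv F5821)) (tt N945 F5239) (tt N1320 F5820) (tt N1132 F5240) (tt N950 F5241) (tt N1325 (iv F5859)) (tt N1234 (iv F6006)) (tt N942 (iv D1126)) (tt N1322 (iv F5831)))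
theorem Q1134 : ∀ i, i < 1134 → P i := stepQ 1133 Q1133 (allL N1133 (tt N1133 F5248) (tt N1240 (iv F6029)) (tt N1133 F5249) (tt N946 F5250) (tt N1239 (iv F5868)) (tt N1237 (iv F6019)) (tt N944 (iv D1128)) (tt N1201 (iv F5813)) (tt N953 F5251))
theorem Q1135 : ∀ i, i < 1135 → P i := stepQ 1134 Q1134 (allL N1134 (tt N951 F5252) (tt N1134 F5253) (tt N1325 (iv F5857)) (tt N955 F5254) (tt N1324 (iv F5846)) (tt N1320 (iv F5817)) (tt N1242 (iv F6036)) (tt N947 (iv D1129)) (tt N1323 (iv F5840)))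
theorem Q1136 : ∀ i, i < 1136 → P i := stepQ 1135 Q1135 (allL N1135 (tt N1325 (iv F5855)) (tt N1135 F5261) (tt N951 F5262) (tt N1135 F5263) (tt N1323 (iv F5839)) (tt N1321 (iv F5825)) (tt N1245 (iv F6049)) (tt N949 (iv D1131)) (tt N1324 (iv F5848)))
theorem Q1137 : ∀ i, i < 1137 → P i := stepQ 1136 Q1136 (allL N1136 (tt N1232 (iv F5995)) (tt N953 F5264) (tt N1230 (iv F5986)) (tt N952 F5265) (tt N1234 (iv F6005)) (tt N1247 (iv F6053)) (tt N950 (iv D1132)) (tt N1189 (iv F5760)) (tt N1240 (iv F6028)))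
theorem Q1138 : ∀ i, i < 1138 → P i := stepQ 1137 Q1137 (allL N1137 (tt N957 F5345) (tt N1137 F5346) (tt N1137 F5347) (tt N956 F5348) (tt N1187 (iv F5747)) (tt N1267 (iv F6130)) (tt N954 (iv D1151)) (tt N1188 (iv F5755)) (tt N1137 F5349))
theorem Q1139 : ∀ i, i < 1139 → P i := stepQ 1138 Q1138 (allL N1138 (tt N1073 (iv F5355)) (tt N1138 F4770) (tt N983 F4771) (tt N1138 F4772) (tt N1138 F4773) (tt N958 (iv D1021)) (tt N1326 D1197) (tt N960 F4774) (tt N1138 F4775))
theorem Q1140 : ∀ i, i < 1140 → P i := stepQ 1139 Q1139 (allL N1139 (tt N1075 (iv F5366)) (tt N974 F4776) (tt N967 F4777) (tt N959 (iv D1022)) (tt N1139 F4778) (tt N1327 D1198) (tt N1139 F4779) (tt N971 F4780) (tt N962 F4781))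
theorem Q1141 : ∀ i, i < 1141 → P i := stepQ 1140 Q1140 (allL N1140 (tt N1076 (iv F5372)) (tt N986 F4782) (tt N960 F4783) (tt N1327 (iv F5556)) (tt N1140 F4784) (tt N959 (iv D1023)) (tt N1328 D1199) (tt N983 F4785) (tt N963 F4786))
theorem Q1142 : ∀ i, i < 1142 → P i := stepQ 1141 Q1141 (allL N1141 (tt N1077 (iv F5377)) (tt N1141 F4787) (tt N1328 (iv F5560)) (tt N969 F4788) (tt N1141 F4789) (tt N1141 F4790) (tt N960 (iv D1024)) (tt N1326 (iv F5552)) (tt N964 F4791))
theorem Q1143 : ∀ i, i < 1143 → P i := stepQ 1142 Q1142 (allL N1142 (tt N1099 (iv F5462)) (tt N962 F4792) (tt N1329 D1200) (tt N961 (iv D1025)) (tt N1142 F4793) (tt N1330 D1201) (tt N1142 F4794) (tt N1331 D1202) (tt N974 F4795))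
theorem Q1144 : ∀ i, i < 1144 → P i := stepQ 1143 Q1143 (allL N1143 (tt N1117 (iv F5537)) (tt N963 F4796) (tt N1143 F4797) (tt N1330 (iv F5572)) (tt N1143 F4798) (tt N961 (iv D1026)) (tt N1332 D1203) (tt N1143 F4799) (tt N986 F4800))
theorem Q1145 : ∀ i, i < 1145 → P i := stepQ 1144 Q1144 (allL N1144 (tt N1081 (iv F5393)) (tt N1330 (iv F5571)) (tt N973 F4801) (tt N963 F4802) (tt N1333 D1204) (tt N962 (iv D1027)) (tt N1334 D1205) (tt N1335 D1206) (tt N1327 (iv F5558)))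
theorem Q1146 : ∀ i, i < 1146 → P i := stepQ 1145 Q1145 (allL N1145 (tt N1082 (iv F5396)) (tt N1331 (iv F5574)) (tt N974 F4803) (tt N1145 F4804) (tt N1145 F4805) (tt N1335 (iv F5594)) (tt N1145 F4806) (tt N962 (iv D1028)) (tt N1329 (iv F5569)))
theorem Q1147 : ∀ i, i < 1147 → P i := stepQ 1146 Q1146 (allL N1146 (tt N1083 (iv F5401)) (tt N1332 (iv F5580)) (tt N964 F4807) (tt N1334 (iv F5590)) (tt N1146 F4808) (tt N1146 F4809) (tt N963 (iv D1029)) (tt N1146 F4810) (tt N1328 (iv F5564)))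
theorem Q1148 : ∀ i, i < 1148 → P i := stepQ 1147 Q1147 (allL N1147 (tt N966 F4811) (tt N1084 (iv F5407)) (tt N1147 F4812) (tt N1336 D1207) (tt N965 (iv D1030)) (tt N1108 F5501) (tt N1147 F4813) (tt N1147 F4814) (tt N970 F4815))
theorem Q1149 : ∀ i, i < 1149 → P i := stepQ 1148 Q1148 (allL N1148 (tt N1336 (iv F5595)) (tt N967 F4816) (tt N1331 (iv F5575)) (tt N966 (iv D1031)) (tt N1148 F4817) (tt N1337 D1208) (tt N1148 F4818) (tt N1329 F5570) (tt N971 F4819))
theorem Q1150 : ∀ i, i < 1150 → P i := stepQ 1149 Q1149 (allL N1149 (tt N1108 (iv F5496)) (tt N968 F4820) (tt N1149 F4821) (tt N1337 (iv F5600)) (tt N976 F4822) (tt N966 (iv D1032)) (tt N980 F4825) (tt N1149 F4823) (tt N972 F4824))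
theorem Q1151 : ∀ i, i < 1151 → P i := stepQ 1150 Q1150 (allL N1150 (tt N1087 (iv F5419)) (tt N1337 (iv F5599)) (tt N1327 (iv F5555)) (tt N968 F4826) (tt N1338 D1209) (tt N967 (iv D1033)) (tt N1339 D1210) (tt N1340 D1211) (tt N973 F4827))
theorem Q1152 : ∀ i, i < 1152 → P i := stepQ 1151 Q1151 (allL N1151 (tt N1088 (iv F5422)) (tt N1329 (iv F5565)) (tt N971 F4828) (tt N1151 F4829) (tt N1151 F4830) (tt N1340 (iv F5616)) (tt N1151 F4831) (tt N967 (iv D1034)) (tt N1331 (iv F5579)))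
theorem Q1153 : ∀ i, i < 1153 → P i := stepQ 1152 Q1152 (allL N1152 (tt N1089 (iv F5427)) (tt N980 F4832) (tt N969 F4833) (tt N1339 (iv F5610)) (tt N978 F4834) (tt N1152 F4835) (tt N968 (iv D1035)) (tt N1152 F4836) (tt N975 F4837))
theorem Q1154 : ∀ i, i < 1154 → P i := stepQ 1153 Q1153 (allL N1153 (tt N971 F4838) (tt N1090 (iv F5434)) (tt N1088 (iv F5423)) (tt N970 (iv D1036)) (tt N1153 F4839) (tt N1341 D1212) (tt N1153 F4840) (tt N1075 (iv F5370)) (tt N1336 (iv F5598)))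
theorem Q1155 : ∀ i, i < 1155 → P i := stepQ 1154 Q1154 (allL N1154 (tt N972 F4841) (tt N1091 (iv F5438)) (tt N1154 F4842) (tt N1341 (iv F5618)) (tt N979 F4843) (tt N970 (iv D1037)) (tt N1104 (iv F5487)) (tt N982 F4844) (tt N1108 (iv F5500)))
theorem Q1156 : ∀ i, i < 1156 → P i := stepQ 1155 Q1155 (allL N1155 (tt N1341 (iv F5617)) (tt N973 F4845) (tt N1340 (iv F5614)) (tt N972 F4846) (tt N1339 (iv F5611)) (tt N971 (iv D1038)) (tt N1338 F5608) (tt N1327 (iv F5557)) (tt N1337 (iv F5601)))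
theorem Q1157 : ∀ i, i < 1157 → P i := stepQ 1156 Q1156 (allL N1156 (tt N1104 (iv F5484)) (tt N975 F4847) (tt N1156 F4848) (tt N1338 (iv F5605)) (tt N977 F4849) (tt N1156 F4850) (tt N972 (iv D1039)) (tt N984 F4851) (tt N980 F4852))
theorem Q1158 : ∀ i, i < 1158 → P i := stepQ 1157 Q1157 (allL N1157 (tt N1096 (iv F5453)) (tt N1339 (iv F5609)) (tt N1333 (iv F5586)) (tt N980 F4853) (tt N973 (iv D1040)) (tt N1157 F4854) (tt N1337 F5603) (tt N1342 D1213) (tt N1338 (iv F5607)))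
theorem Q1159 : ∀ i, i < 1159 → P i := stepQ 1158 Q1158 (allL N1158 (tt N1097 (iv F5456)) (tt N1338 (iv F5604)) (tt N1334 (iv F5589)) (tt N975 F4855) (tt N1337 (iv F5602)) (tt N1158 F4856) (tt N973 (iv D1041)) (tt N1343 D1214) (tt N1339 (iv F5613)))
theorem Q1160 : ∀ i, i < 1160 → P i := stepQ 1159 Q1159 (allL N1159 (tt N1098 (iv F5459)) (tt N1327 (iv F5554)) (tt N1335 (iv F5592)) (tt N986 F4857) (tt N1342 (iv F5620)) (tt N974 F4858) (tt N1343 (iv F5624)) (tt N973 (iv D1042)) (tt N1330 (iv F5573)))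
theorem Q1161 : ∀ i, i < 1161 → P i := stepQ 1160 Q1160 (allL N1160 (tt N983 F4859) (tt N1110 (iv F5507)) (tt N1073 (iv F5356)) (tt N982 F4860) (tt N1160 F4861) (tt N981 (iv D1043)) (tt N1344 D1215) (tt N1076 (iv F5375)) (tt N1160 F4862))
theorem Q1162 : ∀ i, i < 1162 → P i := stepQ 1161 Q1161 (allL N1161 (tt N984 F4863) (tt N1111 (iv F5512)) (tt N1161 F4864) (tt N1344 (iv F5626)) (tt N987 F4865) (tt N1161 F4866) (tt N982 (iv D1044)) (tt N1104 (iv F5488)) (tt N1161 F4867))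
theorem Q1163 : ∀ i, i < 1163 → P i := stepQ 1162 Q1162 (allL N1162 (tt N1344 (iv F5625)) (tt N985 F4868) (tt N1326 (iv F5548)) (tt N984 F4869) (tt N1162 F4870) (tt N1162 F4871) (tt N983 (iv D1045)) (tt N1328 (iv F5563)) (tt N1162 F4872))
theorem Q1164 : ∀ i, i < 1164 → P i := stepQ 1163 Q1163 (allL N1163 (tt N1116 (iv F5532)) (tt N1328 (iv F5559)) (tt N1163 F4873) (tt N1343 (iv F5622)) (tt N1163 F4874) (tt N1163 F4875) (tt N986 F4876) (tt N985 (iv D1046)) (tt N1332 (iv F5585)))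
theorem Q1165 : ∀ i, i < 1165 → P i := stepQ 1164 Q1164 (allL N1164 (tt N1345 D1384) (tt N988 (iv D1216)) (tt N1164 F5630) (tt N1164 F5631) (tt N1346 D1385) (tt N1164 F5632) (tt N1164 F5633) (tt N992 F5634) (tt N1164 F5635))
theorem Q1166 : ∀ i, i < 1166 → P i := stepQ 1165 Q1165 (allL N1165 (tt N1165 F5636) (tt N1346 (iv F6396)) (tt N989 F5637) (tt N1347 D1386) (tt N988 (iv D1217)) (tt N1348 D1387) (tt N1165 F5638) (tt N993 F5639) (tt N1165 F5640))
theorem Q1167 : ∀ i, i < 1167 → P i := stepQ 1166 Q1166 (allL N1166 (tt N1166 F5641) (tt N1166 F5642) (tt N1348 (iv F6407)) (tt N1166 F5643) (tt N1166 F5644) (tt N989 (iv D1218)) (tt N1349 D1388) (tt N994 F5645) (tt N1166 F5646))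
theorem Q1168 : ∀ i, i < 1168 → P i := stepQ 1167 Q1167 (allL N1167 (tt N1118 (iv F5653)) (tt N990 (iv D1219)) (tt N1167 F5647) (tt N1018 F5648) (tt N1350 D1389) (tt N1167 F5649) (tt N1167 F5650) (tt N1167 F5651) (tt N992 F5652))
theorem Q1169 : ∀ i, i < 1169 → P i := stepQ 1168 Q1168 (allL N1168 (tt N1168 F5654) (tt N1350 (iv F6419)) (tt N991 F5655) (tt N1351 D1390) (tt N990 (iv D1220)) (tt N1352 D1391) (tt N1168 F5656) (tt N1168 F5657) (tt N993 F5658))
theorem Q1170 : ∀ i, i < 1170 → P i := stepQ 1169 Q1169 (allL N1169 (tt N1169 F5659) (tt N1169 F5660) (tt N1352 (iv F6430)) (tt N999 F5661) (tt N1169 F5662) (tt N991 (iv D1221)) (tt N1072 (iv F5665)) (tt N1169 F5663) (tt N994 F5664))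
theorem Q1171 : ∀ i, i < 1171 → P i := stepQ 1170 Q1170 (allL N1170 (tt N992 (iv D1222)) (tt N1170 F5666) (tt N1170 F5667) (tt N1021 F5668) (tt N1353 D1392) (tt N1170 F5669) (tt N1170 F5670) (tt N1345 (iv F6394)) (tt N1118 F5671))
theorem Q1172 : ∀ i, i < 1172 → P i := stepQ 1171 Q1171 (allL N1171 (tt N1353 (iv F6435)) (tt N993 F5672) (tt N1171 F5673) (tt N1354 D1393) (tt N992 (iv D1223)) (tt N1355 D1394) (tt N1171 F5674) (tt N1346 (iv F6399)) (tt N1350 (iv F6423)))
theorem Q1173 : ∀ i, i < 1173 → P i := stepQ 1172 Q1172 (allL N1172 (tt N1172 F5675) (tt N1354 (iv F6440)) (tt N1002 F5676) (tt N993 (iv D1224)) (tt N1023 F5677) (tt N1356 D1395) (tt N1172 F5678) (tt N1357 D1396) (tt N1351 (iv F6428)))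
theorem Q1174 : ∀ i, i < 1174 → P i := stepQ 1173 Q1173 (allL N1173 (tt N1173 F5679) (tt N1355 (iv F6443)) (tt N994 F5680) (tt N1356 (iv F6448)) (tt N1173 F5681) (tt N993 (iv D1225)) (tt N1358 D1397) (tt N1348 (iv F6409)) (tt N1352 (iv F6433)))
theorem Q1175 : ∀ i, i < 1175 → P i := stepQ 1174 Q1174 (allL N1174 (tt N1174 F5682) (tt N1174 F5683) (tt N1358 (iv F6454)) (tt N1004 F5684) (tt N1174 F5685) (tt N1174 F5686) (tt N994 (iv D1226)) (tt N1349 (iv F6416)) (tt N1072 F5687))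
theorem Q1176 : ∀ i, i < 1176 → P i := stepQ 1175 Q1175 (allL N1175 (tt N1359 D1398) (tt N995 (iv D1227)) (tt N1175 F5688) (tt N1175 F5689) (tt N1360 D1399) (tt N1005 F5690) (tt N1175 F5691) (tt N997 F5692) (tt N1175 F5693))
theorem Q1177 : ∀ i, i < 1177 → P i := stepQ 1176 Q1176 (allL N1176 (tt N1176 F5694) (tt N1360 (iv F6465)) (tt N996 F5695) (tt N1361 D1400) (tt N995 (iv D1228)) (tt N1070 F5696) (tt N1176 F5697) (tt N998 F5698) (tt N1176 F5699))
theorem Q1178 : ∀ i, i < 1178 → P i := stepQ 1177 Q1177 (allL N1177 (tt N997 (iv D1229)) (tt N1177 F5700) (tt N1177 F5701) (tt N1026 F5702) (tt N1362 D1401) (tt N1006 F5703) (tt N1177 F5704) (tt N1359 (iv F6463)) (tt N1000 F5705))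
theorem Q1179 : ∀ i, i < 1179 → P i := stepQ 1178 Q1178 (allL N1178 (tt N1362 (iv F6477)) (tt N998 F5706) (tt N1178 F5707) (tt N1363 D1402) (tt N997 (iv D1230)) (tt N1364 D1403) (tt N1178 F5708) (tt N1360 (iv F6469)) (tt N1001 F5709))
theorem Q1180 : ∀ i, i < 1180 → P i := stepQ 1179 Q1179 (allL N1179 (tt N1179 F5710) (tt N1363 (iv F6482)) (tt N1351 (iv F6425)) (tt N998 (iv D1231)) (tt N1028 F5711) (tt N1365 D1404) (tt N1179 F5712) (tt N1366 D1405) (tt N1002 F5713))
theorem Q1181 : ∀ i, i < 1181 → P i := stepQ 1180 Q1180 (allL N1180 (tt N1180 F5714) (tt N1364 (iv F6486)) (tt N999 F5715) (tt N1365 (iv F6493)) (tt N1009 F5716) (tt N998 (iv D1232)) (tt N1071 (iv F5719)) (tt N1070 F5717) (tt N1003 F5718))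
theorem Q1182 : ∀ i, i < 1182 → P i := stepQ 1181 Q1181 (allL N1181 (tt N1001 F5720) (tt N1181 F5721) (tt N1181 F5722) (tt N1367 D1406) (tt N1000 (iv D1233)) (tt N1368 D1407) (tt N1181 F5723) (tt N1181 F5724) (tt N1362 (iv F6481)))
theorem Q1183 : ∀ i, i < 1183 → P i := stepQ 1182 Q1182 (allL N1182 (tt N1367 (iv F6499)) (tt N1002 F5725) (tt N1369 D1408) (tt N1001 (iv D1234)) (tt N1032 F5726) (tt N1370 D1409) (tt N1182 F5727) (tt N1371 D1410) (tt N1363 (iv F6485)))
theorem Q1184 : ∀ i, i < 1184 → P i := stepQ 1183 Q1183 (allL N1183 (tt N1368 (iv F6503)) (tt N1003 F5728) (tt N1183 F5729) (tt N1370 (iv F6512)) (tt N1012 F5730) (tt N1001 (iv D1235)) (tt N1372 D1411) (tt N1183 F5731) (tt N1364 (iv F6490)))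
theorem Q1185 : ∀ i, i < 1185 → P i := stepQ 1184 Q1184 (allL N1184 (tt N1184 F5732) (tt N1370 (iv F6511)) (tt N1356 (iv F6447)) (tt N1003 F5733) (tt N1373 D1412) (tt N1002 (iv D1236)) (tt N1374 D1413) (tt N1375 D1414) (tt N1365 (iv F6494)))
theorem Q1186 : ∀ i, i < 1186 → P i := stepQ 1185 Q1185 (allL N1185 (tt N1185 F5734) (tt N1371 (iv F6513)) (tt N1357 (iv F6450)) (tt N1185 F5735) (tt N1035 F5736) (tt N1375 (iv F6532)) (tt N1185 F5737) (tt N1002 (iv D1237)) (tt N1376 D1415))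
theorem Q1187 : ∀ i, i < 1187 → P i := stepQ 1186 Q1186 (allL N1186 (tt N1186 F5738) (tt N1372 (iv F6517)) (tt N1004 F5739) (tt N1374 (iv F6527)) (tt N1015 F5740) (tt N1186 F5741) (tt N1003 (iv D1238)) (tt N1186 F5742) (tt N1071 F5743))
theorem Q1188 : ∀ i, i < 1188 → P i := stepQ 1187 Q1187 (allL N1187 (tt N1005 (iv D1239)) (tt N1187 F5744) (tt N1187 F5745) (tt N1187 F5746) (tt N1137 F5747) (tt N1359 (iv F6461)) (tt N1119 F5748) (tt N1006 F5749) (tt N1187 F5750))
theorem Q1189 : ∀ i, i < 1189 → P i := stepQ 1188 Q1188 (allL N1188 (tt N1007 F5751) (tt N1188 F5752) (tt N1188 F5753) (tt N1377 D1416) (tt N1006 (iv D1240)) (tt N1378 D1417) (tt N1120 F5754) (tt N1137 F5755) (tt N1010 F5756))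
theorem Q1190 : ∀ i, i < 1190 → P i := stepQ 1189 Q1189 (allL N1189 (tt N1377 (iv F6537)) (tt N1008 F5757) (tt N1379 D1418) (tt N1007 (iv D1241)) (tt N1038 F5758) (tt N1380 D1419) (tt N1121 F5759) (tt N1136 F5760) (tt N1011 F5761))
theorem Q1191 : ∀ i, i < 1191 → P i := stepQ 1190 Q1190 (allL N1190 (tt N1378 (iv F6544)) (tt N1009 F5762) (tt N1190 F5763) (tt N1380 (iv F6558)) (tt N1364 (iv F6488)) (tt N1007 (iv D1242)) (tt N1068 F5764) (tt N1067 F5765) (tt N1012 F5766))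
theorem Q1192 : ∀ i, i < 1192 → P i := stepQ 1191 Q1191 (allL N1191 (tt N1191 F5767) (tt N1380 (iv F6557)) (tt N1191 F5768) (tt N1009 F5769) (tt N1381 D1420) (tt N1008 (iv D1243)) (tt N1051 F5770) (tt N1050 F5771) (tt N1013 F5772))
theorem Q1193 : ∀ i, i < 1193 → P i := stepQ 1192 Q1192 (allL N1192 (tt N1011 F5773) (tt N1192 F5774) (tt N1382 D1421) (tt N1010 (iv D1244)) (tt N1043 F5775) (tt N1383 D1422) (tt N1122 F5776) (tt N1384 D1423) (tt N1377 (iv F6542)))
theorem Q1194 : ∀ i, i < 1194 → P i := stepQ 1193 Q1193 (allL N1193 (tt N1012 F5777) (tt N1193 F5778) (tt N1193 F5779) (tt N1383 (iv F6577)) (tt N1368 (iv F6506)) (tt N1010 (iv D1245)) (tt N1385 D1424) (tt N1193 F5780) (tt N1378 (iv F6549)))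
theorem Q1195 : ∀ i, i < 1195 → P i := stepQ 1194 Q1194 (allL N1194 (tt N1382 (iv F6568)) (tt N1194 F5781) (tt N1011 (iv D1246)) (tt N1194 F5782) (tt N1045 F5783) (tt N1386 D1425) (tt N1124 F5784) (tt N1387 D1426) (tt N1379 (iv F6556)))
theorem Q1196 : ∀ i, i < 1196 → P i := stepQ 1195 Q1195 (allL N1195 (tt N1383 (iv F6575)) (tt N1013 F5785) (tt N1386 (iv F6592)) (tt N1012 F5786) (tt N1388 D1427) (tt N1011 (iv D1247)) (tt N1389 D1428) (tt N1390 D1429) (tt N1380 (iv F6561)))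
theorem Q1197 : ∀ i, i < 1197 → P i := stepQ 1196 Q1196 (allL N1196 (tt N1384 (iv F6578)) (tt N1014 F5787) (tt N1387 (iv F6596)) (tt N1196 F5788) (tt N1047 F5789) (tt N1390 (iv F6609)) (tt N1126 F5790) (tt N1011 (iv D1248)) (tt N1391 D1430))
theorem Q1198 : ∀ i, i < 1198 → P i := stepQ 1197 Q1197 (allL N1197 (tt N1385 (iv F6585)) (tt N1015 F5791) (tt N1197 F5792) (tt N1389 (iv F6604)) (tt N1372 (iv F6519)) (tt N1069 F5793) (tt N1012 (iv D1249)) (tt N1197 F5794) (tt N1068 F5795))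
theorem Q1199 : ∀ i, i < 1199 → P i := stepQ 1198 Q1198 (allL N1198 (tt N1198 F5796) (tt N1388 (iv F6601)) (tt N1198 F5797) (tt N1373 (iv F6524)) (tt N1013 (iv D1250)) (tt N1049 F5798) (tt N1392 D1431) (tt N1393 D1432) (tt N1381 (iv F6567)))
theorem Q1200 : ∀ i, i < 1200 → P i := stepQ 1199 Q1199 (allL N1199 (tt N1199 F5799) (tt N1389 (iv F6603)) (tt N1199 F5800) (tt N1015 F5801) (tt N1392 (iv F6619)) (tt N1052 F5802) (tt N1013 (iv D1251)) (tt N1394 D1433) (tt N1051 F5803))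
theorem Q1201 : ∀ i, i < 1201 → P i := stepQ 1200 Q1200 (allL N1200 (tt N1200 F5804) (tt N1390 (iv F6607)) (tt N1200 F5805) (tt N1200 F5806) (tt N1393 (iv F6623)) (tt N1014 F5807) (tt N1394 (iv F6629)) (tt N1013 (iv D1252)) (tt N1395 D1434))
theorem Q1202 : ∀ i, i < 1202 → P i := stepQ 1201 Q1201 (allL N1201 (tt N1201 F5808) (tt N1391 (iv F6611)) (tt N1201 F5809) (tt N1201 F5810) (tt N1052 F5811) (tt N1395 (iv F6634)) (tt N1127 F5812) (tt N1133 F5813) (tt N1014 (iv D1253)))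
theorem Q1203 : ∀ i, i < 1203 → P i := stepQ 1202 Q1202 (allL N1202 (tt N1202 F5871) (tt N1109 F5872) (tt N1017 F5873) (tt N1396 D1435) (tt N1016 (iv D1263)) (tt N1397 D1436) (tt N1202 F5874) (tt N1019 F5875) (tt N1202 F5876))
theorem Q1204 : ∀ i, i < 1204 → P i := stepQ 1203 Q1203 (allL N1203 (tt N1203 F5877) (tt N1073 F5878) (tt N1397 (iv F6645)) (tt N1203 F5879) (tt N1203 F5880) (tt N1017 (iv D1264)) (tt N1398 D1437) (tt N1020 F5881) (tt N1203 F5882))
theorem Q1205 : ∀ i, i < 1205 → P i := stepQ 1204 Q1204 (allL N1204 (tt N1113 F5883) (tt N1019 F5884) (tt N1074 F5885) (tt N1399 D1438) (tt N1018 (iv D1265)) (tt N1400 D1439) (tt N1204 F5886) (tt N1109 F5887) (tt N1022 F5888))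
theorem Q1206 : ∀ i, i < 1206 → P i := stepQ 1205 Q1205 (allL N1205 (tt N1205 F5889) (tt N1399 (iv F6657)) (tt N1028 F5890) (tt N1019 (iv D1266)) (tt N1351 (iv F6426)) (tt N1401 D1440) (tt N1205 F5891) (tt N1402 D1441) (tt N1023 F5892))
theorem Q1207 : ∀ i, i < 1207 → P i := stepQ 1206 Q1206 (allL N1206 (tt N1206 F5893) (tt N1400 (iv F6661)) (tt N1020 F5894) (tt N1401 (iv F6668)) (tt N1206 F5895) (tt N1019 (iv D1267)) (tt N1403 D1442) (tt N1397 (iv F6647)) (tt N1024 F5896))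
theorem Q1208 : ∀ i, i < 1208 → P i := stepQ 1207 Q1207 (allL N1207 (tt N1207 F5897) (tt N1077 F5898) (tt N1403 (iv F6674)) (tt N1030 F5899) (tt N1207 F5900) (tt N1207 F5901) (tt N1020 (iv D1268)) (tt N1398 (iv F6654)) (tt N1025 F5902))
theorem Q1209 : ∀ i, i < 1209 → P i := stepQ 1208 Q1208 (allL N1208 (tt N1022 F5903) (tt N1208 F5904) (tt N1078 F5905) (tt N1404 D1443) (tt N1021 (iv D1269)) (tt N1405 D1444) (tt N1208 F5906) (tt N1208 F5907) (tt N1113 F5908))
theorem Q1210 : ∀ i, i < 1210 → P i := stepQ 1209 Q1209 (allL N1209 (tt N1404 (iv F6678)) (tt N1023 F5909) (tt N1406 D1445) (tt N1022 (iv D1270)) (tt N1354 (iv F6441)) (tt N1407 D1446) (tt N1209 F5910) (tt N1408 D1447) (tt N1399 (iv F6659)))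
theorem Q1211 : ∀ i, i < 1211 → P i := stepQ 1210 Q1210 (allL N1210 (tt N1405 (iv F6682)) (tt N1024 F5911) (tt N1080 F5912) (tt N1407 (iv F6692)) (tt N1210 F5913) (tt N1022 (iv D1271)) (tt N1409 D1448) (tt N1210 F5914) (tt N1400 (iv F6665)))
theorem Q1212 : ∀ i, i < 1212 → P i := stepQ 1211 Q1211 (allL N1211 (tt N1211 F5915) (tt N1407 (iv F6691)) (tt N1034 F5916) (tt N1024 F5917) (tt N1410 D1449) (tt N1023 (iv D1272)) (tt N1411 D1450) (tt N1412 D1451) (tt N1401 (iv F6669)))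
theorem Q1213 : ∀ i, i < 1213 → P i := stepQ 1212 Q1212 (allL N1212 (tt N1212 F5918) (tt N1408 (iv F6693)) (tt N1035 F5919) (tt N1212 F5920) (tt N1357 (iv F6451)) (tt N1412 (iv F6711)) (tt N1212 F5921) (tt N1023 (iv D1273)) (tt N1413 D1452))
theorem Q1214 : ∀ i, i < 1214 → P i := stepQ 1213 Q1213 (allL N1213 (tt N1213 F5922) (tt N1409 (iv F6696)) (tt N1025 F5923) (tt N1411 (iv F6706)) (tt N1213 F5924) (tt N1213 F5925) (tt N1024 (iv D1274)) (tt N1213 F5926) (tt N1403 (iv F6677)))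
theorem Q1215 : ∀ i, i < 1215 → P i := stepQ 1214 Q1214 (allL N1214 (tt N1027 F5927) (tt N1214 F5928) (tt N1084 F5929) (tt N1414 D1453) (tt N1026 (iv D1275)) (tt N1415 D1454) (tt N1214 F5930) (tt N1214 F5931) (tt N1031 F5932))
theorem Q1216 : ∀ i, i < 1216 → P i := stepQ 1215 Q1215 (allL N1215 (tt N1414 (iv F6716)) (tt N1028 F5933) (tt N1416 D1455) (tt N1027 (iv D1276)) (tt N1363 (iv F6483)) (tt N1417 D1456) (tt N1215 F5934) (tt N1418 D1457) (tt N1032 F5935))
theorem Q1217 : ∀ i, i < 1217 → P i := stepQ 1216 Q1216 (allL N1216 (tt N1415 (iv F6720)) (tt N1029 F5936) (tt N1086 F5937) (tt N1417 (iv F6731)) (tt N1039 F5938) (tt N1027 (iv D1277)) (tt N1419 D1458) (tt N1216 F5939) (tt N1033 F5940))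
theorem Q1218 : ∀ i, i < 1218 → P i := stepQ 1217 Q1217 (allL N1217 (tt N1217 F5941) (tt N1417 (iv F6730)) (tt N1401 (iv F6667)) (tt N1029 F5942) (tt N1420 D1459) (tt N1028 (iv D1278)) (tt N1421 D1460) (tt N1422 D1461) (tt N1034 F5943))
theorem Q1219 : ∀ i, i < 1219 → P i := stepQ 1218 Q1218 (allL N1218 (tt N1218 F5944) (tt N1418 (iv F6733)) (tt N1402 (iv F6671)) (tt N1218 F5945) (tt N1366 (iv F6497)) (tt N1422 (iv F6752)) (tt N1218 F5946) (tt N1028 (iv D1279)) (tt N1423 D1462))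
theorem Q1220 : ∀ i, i < 1220 → P i := stepQ 1219 Q1219 (allL N1219 (tt N1219 F5947) (tt N1419 (iv F6737)) (tt N1030 F5948) (tt N1421 (iv F6747)) (tt N1042 F5949) (tt N1219 F5950) (tt N1029 (iv D1280)) (tt N1219 F5951) (tt N1036 F5952))
theorem Q1221 : ∀ i, i < 1221 → P i := stepQ 1220 Q1220 (allL N1220 (tt N1032 F5953) (tt N1220 F5954) (tt N1424 D1463) (tt N1031 (iv D1281)) (tt N1367 (iv F6501)) (tt N1425 D1464) (tt N1220 F5955) (tt N1426 D1465) (tt N1414 (iv F6719)))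
theorem Q1222 : ∀ i, i < 1222 → P i := stepQ 1221 Q1221 (allL N1221 (tt N1033 F5956) (tt N1221 F5957) (tt N1091 F5958) (tt N1425 (iv F6762)) (tt N1044 F5959) (tt N1031 (iv D1282)) (tt N1427 D1466) (tt N1054 F5960) (tt N1415 (iv F6725)))
theorem Q1223 : ∀ i, i < 1223 → P i := stepQ 1222 Q1222 (allL N1222 (tt N1424 (iv F6757)) (tt N1406 (iv F6688)) (tt N1032 (iv D1283)) (tt N1092 F5961) (tt N1369 (iv F6509)) (tt N1428 D1467) (tt N1222 F5962) (tt N1429 D1468) (tt N1416 (iv F6729)))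
theorem Q1224 : ∀ i, i < 1224 → P i := stepQ 1223 Q1223 (allL N1223 (tt N1425 (iv F6760)) (tt N1034 F5963) (tt N1428 (iv F6774)) (tt N1033 F5964) (tt N1430 D1469) (tt N1032 (iv D1284)) (tt N1431 D1470) (tt N1432 D1471) (tt N1417 (iv F6732)))
theorem Q1225 : ∀ i, i < 1225 → P i := stepQ 1224 Q1224 (allL N1224 (tt N1426 (iv F6763)) (tt N1035 F5965) (tt N1429 (iv F6776)) (tt N1057 F5966) (tt N1371 (iv F6515)) (tt N1432 (iv F6785)) (tt N1224 F5967) (tt N1032 (iv D1285)) (tt N1433 D1472))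
theorem Q1226 : ∀ i, i < 1226 → P i := stepQ 1225 Q1225 (allL N1225 (tt N1427 (iv F6767)) (tt N1036 F5968) (tt N1095 F5969) (tt N1431 (iv F6781)) (tt N1048 F5970) (tt N1225 F5971) (tt N1033 (iv D1286)) (tt N1058 F5972) (tt N1419 (iv F6742)))
theorem Q1227 : ∀ i, i < 1227 → P i := stepQ 1226 Q1226 (allL N1226 (tt N1226 F5973) (tt N1430 (iv F6778)) (tt N1410 (iv F6702)) (tt N1049 F5974) (tt N1034 (iv D1287)) (tt N1373 (iv F6525)) (tt N1434 D1473) (tt N1435 D1474) (tt N1420 (iv F6745)))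
theorem Q1228 : ∀ i, i < 1228 → P i := stepQ 1227 Q1227 (allL N1227 (tt N1227 F5975) (tt N1431 (iv F6780)) (tt N1411 (iv F6705)) (tt N1036 F5976) (tt N1434 (iv F6791)) (tt N1227 F5977) (tt N1034 (iv D1288)) (tt N1436 D1475) (tt N1421 (iv F6749)))
theorem Q1229 : ∀ i, i < 1229 → P i := stepQ 1228 Q1228 (allL N1228 (tt N1228 F5978) (tt N1432 (iv F6783)) (tt N1412 (iv F6709)) (tt N1061 F5979) (tt N1435 (iv F6793)) (tt N1035 F5980) (tt N1436 (iv F6797)) (tt N1034 (iv D1289)) (tt N1437 D1476))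
theorem Q1230 : ∀ i, i < 1230 → P i := stepQ 1229 Q1229 (allL N1229 (tt N1229 F5981) (tt N1433 (iv F6786)) (tt N1413 (iv F6713)) (tt N1062 F5982) (tt N1376 (iv F6535)) (tt N1437 (iv F6800)) (tt N1229 F5983) (tt N1423 (iv F6756)) (tt N1035 (iv D1290)))
theorem Q1231 : ∀ i, i < 1231 → P i := stepQ 1230 Q1230 (allL N1230 (tt N1038 F5984) (tt N1230 F5985) (tt N1136 F5986) (tt N1037 (iv D1291)) (tt N1377 (iv F6539)) (tt N1438 D1477) (tt N1129 F5987) (tt N1379 (iv F6555)) (tt N1043 F5988))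
theorem Q1232 : ∀ i, i < 1232 → P i := stepQ 1231 Q1231 (allL N1231 (tt N1039 F5989) (tt N1231 F5990) (tt N1100 F5991) (tt N1438 (iv F6804)) (tt N1415 (iv F6723)) (tt N1037 (iv D1292)) (tt N1106 F5992) (tt N1231 F5993) (tt N1044 F5994))
theorem Q1233 : ∀ i, i < 1233 → P i := stepQ 1232 Q1232 (allL N1232 (tt N1136 F5995) (tt N1232 F5996) (tt N1038 (iv D1293)) (tt N1101 F5997) (tt N1379 (iv F6553)) (tt N1439 D1478) (tt N1130 F5998) (tt N1377 (iv F6541)) (tt N1045 F5999))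
theorem Q1234 : ∀ i, i < 1234 → P i := stepQ 1233 Q1233 (allL N1233 (tt N1438 (iv F6801)) (tt N1040 F6000) (tt N1439 (iv F6809)) (tt N1039 F6001) (tt N1440 D1479) (tt N1038 (iv D1294)) (tt N1441 D1480) (tt N1442 D1481) (tt N1046 F6002))
theorem Q1235 : ∀ i, i < 1235 → P i := stepQ 1234 Q1234 (allL N1234 (tt N1379 (iv F6550)) (tt N1041 F6003) (tt N1377 F6543) (tt N1234 F6004) (tt N1136 F6005) (tt N1442 (iv F6823)) (tt N1132 F6006) (tt N1038 (iv D1295)) (tt N1382 (iv F6572)))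
theorem Q1236 : ∀ i, i < 1236 → P i := stepQ 1235 Q1235 (allL N1235 (tt N1106 F6007) (tt N1042 F6008) (tt N1103 F6009) (tt N1441 (iv F6818)) (tt N1419 (iv F6739)) (tt N1105 F6010) (tt N1039 (iv D1296)) (tt N1235 F6011) (tt N1048 F6012))
theorem Q1237 : ∀ i, i < 1237 → P i := stepQ 1236 Q1236 (allL N1236 (tt N1236 F6013) (tt N1440 (iv F6813)) (tt N1236 F6014) (tt N1420 (iv F6744)) (tt N1040 (iv D1297)) (tt N1381 (iv F6564)) (tt N1443 D1482) (tt N1444 D1483) (tt N1049 F6015))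
theorem Q1238 : ∀ i, i < 1238 → P i := stepQ 1237 Q1237 (allL N1237 (tt N1237 F6016) (tt N1441 (iv F6816)) (tt N1237 F6017) (tt N1042 F6018) (tt N1443 (iv F6826)) (tt N1133 F6019) (tt N1040 (iv D1298)) (tt N1395 (iv F6636)) (tt N1050 F6020))
theorem Q1239 : ∀ i, i < 1239 → P i := stepQ 1238 Q1238 (allL N1238 (tt N1238 F6021) (tt N1442 (iv F6821)) (tt N1238 F6022) (tt N1238 F6023) (tt N1444 (iv F6830)) (tt N1041 F6024) (tt N1395 (iv F6635)) (tt N1040 (iv D1299)) (tt N1394 (iv F6630)))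
theorem Q1240 : ∀ i, i < 1240 → P i := stepQ 1239 Q1239 (allL N1239 (tt N1239 F5865) (tt N1382 F6573) (tt N1239 F5866) (tt N1239 F5867) (tt N1133 F5868) (tt N1394 (iv F6628)) (tt N1128 F5869) (tt N1052 (iv D1262)) (tt N1041 F5870))
theorem Q1241 : ∀ i, i < 1241 → P i := stepQ 1240 Q1240 (allL N1240 (tt N1045 F6025) (tt N1133 F6029) (tt N1043 (iv D1300)) (tt N1105 F6026) (tt N1382 (iv F6570)) (tt N1441 (iv F6819)) (tt N1131 F6027) (tt N1391 (iv F6616)) (tt N1136 F6028))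
theorem Q1242 : ∀ i, i < 1242 → P i := stepQ 1241 Q1241 (allL N1241 (tt N1046 F6030) (tt N1241 F6031) (tt N1441 (iv F6817)) (tt N1044 F6032) (tt N1445 D1484) (tt N1043 (iv D1301)) (tt N1439 (iv F6811)) (tt N1446 D1485) (tt N1438 (iv F6806)))
theorem Q1243 : ∀ i, i < 1243 → P i := stepQ 1242 Q1242 (allL N1242 (tt N1047 F6033) (tt N1242 F6034) (tt N1391 (iv F6612)) (tt N1064 F6035) (tt N1384 (iv F6582)) (tt N1446 (iv F6837)) (tt N1134 F6036) (tt N1043 (iv D1302)) (tt N1387 (iv F6599)))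
theorem Q1244 : ∀ i, i < 1244 → P i := stepQ 1243 Q1243 (allL N1243 (tt N1048 F6037) (tt N1243 F6038) (tt N1102 F6039) (tt N1439 (iv F6810)) (tt N1427 (iv F6770)) (tt N1101 F6040) (tt N1044 (iv D1303)) (tt N1065 F6041) (tt N1106 F6042))
theorem Q1245 : ∀ i, i < 1245 → P i := stepQ 1244 Q1244 (allL N1244 (tt N1441 (iv F6815)) (tt N1244 F6043) (tt N1046 F6044) (tt N1106 F6045) (tt N1447 D1486) (tt N1045 (iv D1304)) (tt N1438 (iv F6805)) (tt N1448 D1487) (tt N1439 (iv F6812)))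
theorem Q1246 : ∀ i, i < 1246 → P i := stepQ 1245 Q1245 (allL N1245 (tt N1391 (iv F6610)) (tt N1245 F6046) (tt N1047 F6047) (tt N1245 F6048) (tt N1387 (iv F6597)) (tt N1448 (iv F6843)) (tt N1135 F6049) (tt N1045 (iv D1305)) (tt N1384 (iv F6584)))
theorem Q1247 : ∀ i, i < 1247 → P i := stepQ 1246 Q1246 (allL N1246 (tt N1445 (iv F6832)) (tt N1049 F6050) (tt N1447 (iv F6839)) (tt N1430 (iv F6779)) (tt N1046 (iv D1306)) (tt N1388 (iv F6602)) (tt N1449 D1488) (tt N1450 D1489) (tt N1440 (iv F6814)))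
theorem Q1248 : ∀ i, i < 1248 → P i := stepQ 1247 Q1247 (allL N1247 (tt N1439 (iv F6807)) (tt N1050 F6051) (tt N1438 (iv F6803)) (tt N1048 F6052) (tt N1449 (iv F6845)) (tt N1136 F6053) (tt N1046 (iv D1307)) (tt N1380 (iv F6560)) (tt N1441 (iv F6820)))
theorem Q1249 : ∀ i, i < 1249 → P i := stepQ 1248 Q1248 (allL N1248 (tt N1446 (iv F6834)) (tt N1051 F6054) (tt N1448 (iv F6841)) (tt N1068 F6055) (tt N1450 (iv F6847)) (tt N1047 F6056) (tt N1380 (iv F6559)) (tt N1046 (iv D1308)) (tt N1389 (iv F6606)))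
theorem Q1250 : ∀ i, i < 1250 → P i := stepQ 1249 Q1249 (allL N1249 (tt N1387 (iv F6594)) (tt N1052 F5862) (tt N1384 (iv F6580)) (tt N1069 F5863) (tt N1391 (iv F6614)) (tt N1389 (iv F6605)) (tt N1125 (iv D1261)) (tt N1382 F6574) (tt N1047 F5864))
theorem Q1251 : ∀ i, i < 1251 → P i := stepQ 1250 Q1250 (allL N1250 (tt N1250 F6057) (tt N1449 (iv F6844)) (tt N1250 F6058) (tt N1434 (iv F6790)) (tt N1050 F6059) (tt N1444 (iv F6831)) (tt N1049 (iv D1309)) (tt N1381 (iv F6566)) (tt N1443 (iv F6827)))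
theorem Q1252 : ∀ i, i < 1252 → P i := stepQ 1251 Q1251 (allL N1251 (tt N1251 F6060) (tt N1450 (iv F6846)) (tt N1251 F6061) (tt N1451 D1490) (tt N1051 F6062) (tt N1393 (iv F6624)) (tt N1381 (iv F6565)) (tt N1049 (iv D1310)) (tt N1392 (iv F6620)))
theorem Q1253 : ∀ i, i < 1253 → P i := stepQ 1252 Q1252 (allL N1252 (tt N1055 F6063) (tt N1396 (iv F6638)) (tt N1053 (iv D1311)) (tt N1109 F6064) (tt N1252 F6065) (tt N1452 D1491) (tt N1252 F6066) (tt N1453 D1492) (tt N1252 F6067))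
theorem Q1254 : ∀ i, i < 1254 → P i := stepQ 1253 Q1253 (allL N1253 (tt N1056 F6068) (tt N1253 F6069) (tt N1452 (iv F6851)) (tt N1054 F6070) (tt N1454 D1493) (tt N1053 (iv D1312)) (tt N1455 D1494) (tt N1456 D1495) (tt N1253 F6071))
theorem Q1255 : ∀ i, i < 1255 → P i := stepQ 1254 Q1254 (allL N1254 (tt N1057 F6072) (tt N1254 F6073) (tt N1453 (iv F6855)) (tt N1426 (iv F6765)) (tt N1254 F6074) (tt N1456 (iv F6870)) (tt N1254 F6075) (tt N1053 (iv D1313)) (tt N1457 D1496))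
theorem Q1256 : ∀ i, i < 1256 → P i := stepQ 1255 Q1255 (allL N1255 (tt N1058 F6076) (tt N1255 F6077) (tt N1111 F6078) (tt N1455 (iv F6865)) (tt N1065 F6079) (tt N1255 F6080) (tt N1054 (iv D1314)) (tt N1427 (iv F6772)) (tt N1255 F6081))
theorem Q1257 : ∀ i, i < 1257 → P i := stepQ 1256 Q1256 (allL N1256 (tt N1452 (iv F6850)) (tt N1256 F6082) (tt N1056 F6083) (tt N1112 F6084) (tt N1458 D1497) (tt N1055 (iv D1315)) (tt N1459 D1498) (tt N1460 D1499) (tt N1256 F6085))
theorem Q1258 : ∀ i, i < 1258 → P i := stepQ 1257 Q1257 (allL N1257 (tt N1453 (iv F6854)) (tt N1257 F6086) (tt N1057 F6087) (tt N1461 D1500) (tt N1257 F6088) (tt N1460 (iv F6888)) (tt N1257 F6089) (tt N1055 (iv D1316)) (tt N1462 D1501))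
theorem Q1259 : ∀ i, i < 1259 → P i := stepQ 1258 Q1258 (allL N1258 (tt N1454 (iv F6858)) (tt N1059 F6090) (tt N1458 (iv F6877)) (tt N1066 F6091) (tt N1056 (iv D1317)) (tt N1258 F6092) (tt N1463 D1502) (tt N1464 D1503) (tt N1258 F6093))
theorem Q1260 : ∀ i, i < 1260 → P i := stepQ 1259 Q1259 (allL N1259 (tt N1455 (iv F6863)) (tt N1060 F6094) (tt N1459 (iv F6882)) (tt N1058 F6095) (tt N1463 (iv F6899)) (tt N1259 F6096) (tt N1056 (iv D1318)) (tt N1465 D1504) (tt N1259 F6097))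
theorem Q1261 : ∀ i, i < 1261 → P i := stepQ 1260 Q1260 (allL N1260 (tt N1456 (iv F6868)) (tt N1061 F6098) (tt N1460 (iv F6887)) (tt N1432 (iv F6784)) (tt N1464 (iv F6902)) (tt N1057 F6099) (tt N1465 (iv F6906)) (tt N1056 (iv D1319)) (tt N1466 D1505))
theorem Q1262 : ∀ i, i < 1262 → P i := stepQ 1261 Q1261 (allL N1261 (tt N1457 (iv F6871)) (tt N1062 F6100) (tt N1462 (iv F6893)) (tt N1433 (iv F6787)) (tt N1261 F6101) (tt N1466 (iv F6908)) (tt N1261 F6102) (tt N1261 F6103) (tt N1057 (iv D1320)))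
theorem Q1263 : ∀ i, i < 1263 → P i := stepQ 1262 Q1262 (allL N1262 (tt N1262 F6104) (tt N1463 (iv F6897)) (tt N1262 F6105) (tt N1070 F6106) (tt N1060 F6107) (tt N1361 (iv F6474)) (tt N1059 (iv D1321)) (tt N1467 D1506) (tt N1262 F6108))
theorem Q1264 : ∀ i, i < 1264 → P i := stepQ 1263 Q1263 (allL N1263 (tt N1263 F6109) (tt N1464 (iv F6901)) (tt N1263 F6110) (tt N1468 D1507) (tt N1061 F6111) (tt N1263 F6112) (tt N1467 (iv F6913)) (tt N1059 (iv D1322)) (tt N1469 D1508))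
theorem Q1265 : ∀ i, i < 1265 → P i := stepQ 1264 Q1264 (allL N1264 (tt N1264 F6113) (tt N1465 (iv F6904)) (tt N1264 F6114) (tt N1436 (iv F6795)) (tt N1467 (iv F6912)) (tt N1264 F6115) (tt N1061 F6116) (tt N1060 (iv D1323)) (tt N1470 D1509))
theorem Q1266 : ∀ i, i < 1266 → P i := stepQ 1265 Q1265 (allL N1265 (tt N1265 F6117) (tt N1466 (iv F6907)) (tt N1265 F6118) (tt N1437 (iv F6799)) (tt N1469 (iv F6919)) (tt N1062 F6119) (tt N1470 (iv F6925)) (tt N1265 F6120) (tt N1061 (iv D1324)))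
theorem Q1267 : ∀ i, i < 1267 → P i := stepQ 1266 Q1266 (allL N1266 (tt N1066 F6121) (tt N1266 F6122) (tt N1266 F6123) (tt N1454 (iv F6860)) (tt N1063 (iv D1325)) (tt N1266 F6124) (tt N1471 D1510) (tt N1472 D1511) (tt N1266 F6125))
theorem Q1268 : ∀ i, i < 1268 → P i := stepQ 1267 Q1267 (allL N1267 (tt N1067 F6126) (tt N1267 F6127) (tt N1267 F6128) (tt N1065 F6129) (tt N1471 (iv F6930)) (tt N1137 F6130) (tt N1063 (iv D1326)) (tt N1378 (iv F6548)) (tt N1267 F6131))
theorem Q1269 : ∀ i, i < 1269 → P i := stepQ 1268 Q1268 (allL N1268 (tt N1068 F6132) (tt N1268 F6133) (tt N1268 F6134) (tt N1446 (iv F6836)) (tt N1472 (iv F6935)) (tt N1064 F6135) (tt N1378 (iv F6547)) (tt N1063 (iv D1327)) (tt N1385 (iv F6590)))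
theorem Q1270 : ∀ i, i < 1270 → P i := stepQ 1269 Q1269 (allL N1269 (tt N1069 F5849) (tt N1269 F5850) (tt N1269 F5851) (tt N1387 F6600) (tt N1269 F5852) (tt N1385 (iv F6588)) (tt N1123 (iv D1259)) (tt N1269 F5853) (tt N1064 F5854))
theorem Q1271 : ∀ i, i < 1271 → P i := stepQ 1270 Q1270 (allL N1270 (tt N1471 (iv F6927)) (tt N1070 F6136) (tt N1270 F6137) (tt N1463 (iv F6898)) (tt N1067 F6138) (tt N1360 (iv F6467)) (tt N1066 (iv D1328)) (tt N1364 (iv F6489)) (tt N1270 F6139))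
theorem Q1272 : ∀ i, i < 1272 → P i := stepQ 1271 Q1271 (allL N1271 (tt N1472 (iv F6932)) (tt N1071 F6140) (tt N1271 F6141) (tt N1473 D1512) (tt N1068 F6142) (tt N1271 F6143) (tt N1364 F6491) (tt N1066 (iv D1329)) (tt N1372 (iv F6522)))
theorem Q1273 : ∀ i, i < 1273 → P i := stepQ 1272 Q1272 (allL N1272 (tt N1272 F6144) (tt N1473 (iv F6937)) (tt N1474 D1513) (tt N1071 (iv D1330)) (tt N1451 (iv F6849)) (tt N1272 F6145) (tt N1365 F6495) (tt N1468 (iv F6916)) (tt N1374 (iv F6529)))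
theorem Q1274 : ∀ i, i < 1274 → P i := stepQ 1273 Q1273 (allL N1273 (tt N1273 F6146) (tt N1475 D1514) (tt N1072 (iv D1331)) (tt N1474 (iv F6940)) (tt N1273 F6147) (tt N1273 F6148) (tt N1352 F6434) (tt N1273 F6149) (tt N1358 (iv F6457)))
theorem Q1275 : ∀ i, i < 1275 → P i := stepQ 1274 Q1274 (allL N1274 (tt N1326 F6150) (tt N1398 (iv F6650)) (tt N1344 F6151) (tt N1274 F6152) (tt N1274 F6153) (tt N1274 F6154) (tt N1073 (iv D1332)) (tt N1077 F6155) (tt N1274 F6156))
theorem Q1276 : ∀ i, i < 1276 → P i := stepQ 1275 Q1275 (allL N1275 (tt N1094 F6157) (tt N1075 F6158) (tt N1476 D1515) (tt N1074 (iv D1333)) (tt N1275 F6159) (tt N1477 D1516) (tt N1275 F6160) (tt N1090 F6161) (tt N1079 F6162))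
theorem Q1277 : ∀ i, i < 1277 → P i := stepQ 1276 Q1276 (allL N1276 (tt N1115 F6163) (tt N1076 F6164) (tt N1400 (iv F6662)) (tt N1477 (iv F6954)) (tt N1276 F6165) (tt N1074 (iv D1334)) (tt N1478 D1517) (tt N1110 F6166) (tt N1080 F6167))
theorem Q1278 : ∀ i, i < 1278 → P i := stepQ 1277 Q1277 (allL N1277 (tt N1327 F6168) (tt N1477 (iv F6953)) (tt N1087 F6169) (tt N1076 F6170) (tt N1479 D1518) (tt N1075 (iv D1335)) (tt N1480 D1519) (tt N1341 F6171) (tt N1081 F6172))
theorem Q1279 : ∀ i, i < 1279 → P i := stepQ 1278 Q1278 (allL N1278 (tt N1328 F6173) (tt N1478 (iv F6958)) (tt N1077 F6174) (tt N1480 (iv F6972)) (tt N1278 F6175) (tt N1278 F6176) (tt N1076 (iv D1336)) (tt N1344 F6177) (tt N1083 F6178))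
theorem Q1280 : ∀ i, i < 1280 → P i := stepQ 1279 Q1279 (allL N1279 (tt N1079 F6179) (tt N1099 F6180) (tt N1481 D1520) (tt N1078 (iv D1337)) (tt N1279 F6181) (tt N1482 D1521) (tt N1279 F6182) (tt N1483 D1522) (tt N1094 F6183))
theorem Q1281 : ∀ i, i < 1281 → P i := stepQ 1280 Q1280 (allL N1280 (tt N1080 F6184) (tt N1117 F6185) (tt N1405 (iv F6684)) (tt N1482 (iv F6983)) (tt N1280 F6186) (tt N1078 (iv D1338)) (tt N1484 D1523) (tt N1280 F6187) (tt N1115 F6188))
theorem Q1282 : ∀ i, i < 1282 → P i := stepQ 1281 Q1281 (allL N1281 (tt N1481 (iv F6977)) (tt N1092 F6189) (tt N1079 (iv D1339)) (tt N1406 (iv F6689)) (tt N1281 F6190) (tt N1485 D1524) (tt N1281 F6191) (tt N1486 D1525) (tt N1476 (iv F6951)))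
theorem Q1283 : ∀ i, i < 1283 → P i := stepQ 1282 Q1282 (allL N1282 (tt N1482 (iv F6981)) (tt N1081 F6192) (tt N1485 (iv F6998)) (tt N1080 F6193) (tt N1487 D1526) (tt N1079 (iv D1340)) (tt N1488 D1527) (tt N1489 D1528) (tt N1477 (iv F6956)))
theorem Q1284 : ∀ i, i < 1284 → P i := stepQ 1283 Q1283 (allL N1283 (tt N1483 (iv F6985)) (tt N1082 F6194) (tt N1486 (iv F7000)) (tt N1283 F6195) (tt N1283 F6196) (tt N1489 (iv F7011)) (tt N1283 F6197) (tt N1079 (iv D1341)) (tt N1490 D1529))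
theorem Q1285 : ∀ i, i < 1285 → P i := stepQ 1284 Q1284 (allL N1284 (tt N1484 (iv F6991)) (tt N1083 F6198) (tt N1409 (iv F6697)) (tt N1488 (iv F7007)) (tt N1284 F6199) (tt N1284 F6200) (tt N1080 (iv D1342)) (tt N1284 F6201) (tt N1478 (iv F6962)))
theorem Q1286 : ∀ i, i < 1286 → P i := stepQ 1285 Q1285 (allL N1285 (tt N1333 F6202) (tt N1487 (iv F7003)) (tt N1096 F6203) (tt N1285 F6204) (tt N1081 (iv D1343)) (tt N1285 F6205) (tt N1491 D1530) (tt N1492 D1531) (tt N1479 (iv F6968)))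
theorem Q1287 : ∀ i, i < 1287 → P i := stepQ 1286 Q1286 (allL N1286 (tt N1334 F6206) (tt N1488 (iv F7006)) (tt N1097 F6207) (tt N1083 F6208) (tt N1491 (iv F7021)) (tt N1286 F6209) (tt N1081 (iv D1344)) (tt N1493 D1532) (tt N1480 (iv F6976)))
theorem Q1288 : ∀ i, i < 1288 → P i := stepQ 1287 Q1287 (allL N1287 (tt N1335 F6210) (tt N1489 (iv F7009)) (tt N1098 F6211) (tt N1287 F6212) (tt N1492 (iv F7027)) (tt N1082 F6213) (tt N1493 (iv F7037)) (tt N1081 (iv D1345)) (tt N1494 D1533))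
theorem Q1289 : ∀ i, i < 1289 → P i := stepQ 1288 Q1288 (allL N1288 (tt N1329 F6214) (tt N1490 (iv F7013)) (tt N1099 F6215) (tt N1288 F6216) (tt N1288 F6217) (tt N1494 (iv F7043)) (tt N1288 F6218) (tt N1336 F6219) (tt N1082 (iv D1346)))
theorem Q1290 : ∀ i, i < 1290 → P i := stepQ 1289 Q1289 (allL N1289 (tt N1085 F6220) (tt N1336 F6221) (tt N1495 D1534) (tt N1084 (iv D1347)) (tt N1289 F6222) (tt N1496 D1535) (tt N1289 F6223) (tt N1490 (iv F7017)) (tt N1090 F6224))
theorem Q1291 : ∀ i, i < 1291 → P i := stepQ 1290 Q1290 (allL N1290 (tt N1086 F6225) (tt N1108 F6226) (tt N1415 (iv F6722)) (tt N1496 (iv F7052)) (tt N1100 F6227) (tt N1084 (iv D1348)) (tt N1107 (iv F6230)) (tt N1290 F6228) (tt N1091 F6229))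
theorem Q1292 : ∀ i, i < 1292 → P i := stepQ 1291 Q1291 (allL N1291 (tt N1495 (iv F7046)) (tt N1476 (iv F6947)) (tt N1085 (iv D1349)) (tt N1416 (iv F6727)) (tt N1291 F6231) (tt N1497 D1536) (tt N1291 F6232) (tt N1498 D1537) (tt N1092 F6233))
theorem Q1293 : ∀ i, i < 1293 → P i := stepQ 1292 Q1292 (allL N1292 (tt N1496 (iv F7050)) (tt N1087 F6234) (tt N1497 (iv F7056)) (tt N1086 F6235) (tt N1499 D1538) (tt N1085 (iv D1350)) (tt N1500 D1539) (tt N1501 D1540) (tt N1093 F6236))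
theorem Q1294 : ∀ i, i < 1294 → P i := stepQ 1293 Q1293 (allL N1293 (tt N1490 (iv F7012)) (tt N1088 F6237) (tt N1498 (iv F7059)) (tt N1293 F6238) (tt N1293 F6239) (tt N1501 (iv F7076)) (tt N1293 F6240) (tt N1085 (iv D1351)) (tt N1483 (iv F6990)))
theorem Q1295 : ∀ i, i < 1295 → P i := stepQ 1294 Q1294 (allL N1294 (tt N1107 F6241) (tt N1089 F6242) (tt N1419 (iv F6738)) (tt N1500 (iv F7070)) (tt N1103 F6243) (tt N1294 F6244) (tt N1086 (iv D1352)) (tt N1294 F6245) (tt N1095 F6246))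
theorem Q1296 : ∀ i, i < 1296 → P i := stepQ 1295 Q1295 (allL N1295 (tt N1338 F6247) (tt N1499 (iv F7063)) (tt N1479 (iv F6964)) (tt N1104 F6248) (tt N1087 (iv D1353)) (tt N1295 F6249) (tt N1341 (iv F6251)) (tt N1480 (iv F6975)) (tt N1096 F6250))
theorem Q1297 : ∀ i, i < 1297 → P i := stepQ 1296 Q1296 (allL N1296 (tt N1339 F6252) (tt N1500 (iv F7069)) (tt N1480 (iv F6971)) (tt N1089 F6253) (tt N1341 F6254) (tt N1296 F6255) (tt N1087 (iv D1354)) (tt N1479 (iv F6967)) (tt N1097 F6256))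
theorem Q1298 : ∀ i, i < 1298 → P i := stepQ 1297 Q1297 (allL N1297 (tt N1340 F6257) (tt N1501 (iv F7074)) (tt N1341 F6258) (tt N1297 F6259) (tt N1480 (iv F6973)) (tt N1088 F6260) (tt N1479 F6969) (tt N1087 (iv D1355)) (tt N1491 (iv F7022)))
theorem Q1299 : ∀ i, i < 1299 → P i := stepQ 1298 Q1298 (allL N1298 (tt N1331 F6261) (tt N1483 (iv F6986)) (tt N1336 F6262) (tt N1298 F6263) (tt N1298 F6264) (tt N1491 F7023) (tt N1298 F6265) (tt N1099 F6266) (tt N1088 (iv D1356)))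
theorem Q1300 : ∀ i, i < 1300 → P i := stepQ 1299 Q1299 (allL N1299 (tt N1092 F6267) (tt N1498 (iv F7058)) (tt N1090 (iv D1357)) (tt N1424 (iv F6758)) (tt N1299 F6268) (tt N1502 D1541) (tt N1299 F6269) (tt N1476 (iv F6950)) (tt N1495 (iv F7049)))
theorem Q1301 : ∀ i, i < 1301 → P i := stepQ 1300 Q1300 (allL N1300 (tt N1093 F6270) (tt N1341 F6271) (tt N1502 (iv F7078)) (tt N1091 F6272) (tt N1500 (iv F7071)) (tt N1090 (iv D1358)) (tt N1499 F7067) (tt N1477 (iv F6955)) (tt N1496 (iv F7053)))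
theorem Q1302 : ∀ i, i < 1302 → P i := stepQ 1301 Q1301 (allL N1301 (tt N1095 F6273) (tt N1104 F6274) (tt N1427 (iv F6769)) (tt N1499 (iv F7064)) (tt N1102 F6275) (tt N1301 F6276) (tt N1091 (iv D1359)) (tt N1111 F6277) (tt N1107 F6278))
theorem Q1303 : ∀ i, i < 1303 → P i := stepQ 1302 Q1302 (allL N1302 (tt N1502 (iv F7077)) (tt N1485 (iv F6997)) (tt N1093 F6279) (tt N1428 (iv F6775)) (tt N1503 D1542) (tt N1092 (iv D1360)) (tt N1504 D1543) (tt N1505 D1544) (tt N1497 (iv F7057)))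
theorem Q1304 : ∀ i, i < 1304 → P i := stepQ 1303 Q1303 (allL N1303 (tt N1476 (iv F6946)) (tt N1486 (iv F6999)) (tt N1094 F6280) (tt N1506 D1545) (tt N1303 F6281) (tt N1505 (iv F7084)) (tt N1303 F6282) (tt N1092 (iv D1361)) (tt N1481 (iv F6980)))
theorem Q1305 : ∀ i, i < 1305 → P i := stepQ 1304 Q1304 (allL N1304 (tt N1500 (iv F7068)) (tt N1096 F6283) (tt N1503 (iv F7079)) (tt N1107 F6284) (tt N1093 (iv D1362)) (tt N1304 F6285) (tt N1496 F7055) (tt N1507 D1546) (tt N1499 (iv F7066)))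
theorem Q1306 : ∀ i, i < 1306 → P i := stepQ 1305 Q1305 (allL N1305 (tt N1499 (iv F7062)) (tt N1097 F6286) (tt N1504 (iv F7081)) (tt N1095 F6287) (tt N1496 (iv F7054)) (tt N1305 F6288) (tt N1093 (iv D1363)) (tt N1508 D1547) (tt N1500 (iv F7073)))
theorem Q1307 : ∀ i, i < 1307 → P i := stepQ 1306 Q1306 (allL N1306 (tt N1477 (iv F6952)) (tt N1098 F6289) (tt N1505 (iv F7083)) (tt N1115 F6290) (tt N1507 (iv F7089)) (tt N1094 F6291) (tt N1508 (iv F7094)) (tt N1093 (iv D1364)) (tt N1482 (iv F6984)))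
theorem Q1308 : ∀ i, i < 1308 → P i := stepQ 1307 Q1307 (allL N1307 (tt N1337 F6292) (tt N1496 (iv F7051)) (tt N1491 (iv F7019)) (tt N1108 F6293) (tt N1097 F6294) (tt N1336 (iv F6296)) (tt N1096 (iv D1365)) (tt N1494 (iv F7045)) (tt N1341 F6295))
theorem Q1309 : ∀ i, i < 1309 → P i := stepQ 1308 Q1308 (allL N1308 (tt N1342 F6297) (tt N1507 (iv F7087)) (tt N1492 (iv F7026)) (tt N1308 F6298) (tt N1098 F6299) (tt N1308 F6300) (tt N1494 (iv F7044)) (tt N1096 (iv D1366)) (tt N1493 (iv F7038)))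
theorem Q1310 : ∀ i, i < 1310 → P i := stepQ 1309 Q1309 (allL N1309 (tt N1343 F6301) (tt N1508 (iv F7091)) (tt N1493 (iv F7033)) (tt N1116 F6302) (tt N1494 (iv F7042)) (tt N1309 F6303) (tt N1098 F6304) (tt N1097 (iv D1367)) (tt N1492 (iv F7030)))
theorem Q1311 : ∀ i, i < 1311 → P i := stepQ 1310 Q1310 (allL N1310 (tt N1330 F6305) (tt N1482 (iv F6982)) (tt N1494 (iv F7040)) (tt N1117 F6306) (tt N1493 (iv F7035)) (tt N1099 F6307) (tt N1492 (iv F7029)) (tt N1491 F7024) (tt N1098 (iv D1368)))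
theorem Q1312 : ∀ i, i < 1312 → P i := stepQ 1311 Q1311 (allL N1311 (tt N1419 (iv F6736)) (tt N1311 F6308) (tt N1107 F6309) (tt N1509 D1548) (tt N1106 (iv D1369)) (tt N1311 F6310) (tt N1415 F6726) (tt N1311 F6311) (tt N1427 (iv F6773)))
theorem Q1313 : ∀ i, i < 1313 → P i := stepQ 1312 Q1312 (allL N1312 (tt N1112 F6312) (tt N1397 (iv F6644)) (tt N1110 F6313) (tt N1452 (iv F6852)) (tt N1312 F6314) (tt N1109 (iv D1370)) (tt N1510 D1549) (tt N1400 (iv F6664)) (tt N1312 F6315))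
theorem Q1314 : ∀ i, i < 1314 → P i := stepQ 1313 Q1313 (allL N1313 (tt N1114 F6316) (tt N1344 F6317) (tt N1510 (iv F7098)) (tt N1111 F6318) (tt N1313 F6319) (tt N1313 F6320) (tt N1110 (iv D1371)) (tt N1478 (iv F6961)) (tt N1313 F6321))
theorem Q1315 : ∀ i, i < 1315 → P i := stepQ 1314 Q1314 (allL N1314 (tt N1510 (iv F7097)) (tt N1314 F6322) (tt N1114 F6323) (tt N1459 (iv F6883)) (tt N1314 F6324) (tt N1314 F6325) (tt N1112 (iv D1372)) (tt N1511 D1550) (tt N1314 F6326))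
theorem Q1316 : ∀ i, i < 1316 → P i := stepQ 1315 Q1315 (allL N1315 (tt N1400 (iv F6660)) (tt N1315 F6327) (tt N1115 F6328) (tt N1512 D1551) (tt N1315 F6329) (tt N1113 F6330) (tt N1511 (iv F7106)) (tt N1112 (iv D1373)) (tt N1405 (iv F6687)))
theorem Q1317 : ∀ i, i < 1317 → P i := stepQ 1316 Q1316 (allL N1316 (tt N1399 (iv F6656)) (tt N1316 F6331) (tt N1506 (iv F7085)) (tt N1113 (iv D1374)) (tt N1513 D1552) (tt N1512 (iv F7108)) (tt N1316 F6332) (tt N1461 (iv F6891)) (tt N1404 (iv F6681)))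
theorem Q1318 : ∀ i, i < 1318 → P i := stepQ 1317 Q1317 (allL N1317 (tt N1478 (iv F6957)) (tt N1116 F6333) (tt N1511 (iv F7103)) (tt N1508 (iv F7092)) (tt N1317 F6334) (tt N1317 F6335) (tt N1115 F6336) (tt N1114 (iv D1375)) (tt N1484 (iv F6996)))
theorem Q1319 : ∀ i, i < 1319 → P i := stepQ 1318 Q1318 (allL N1318 (tt N1332 F6337) (tt N1484 (iv F6992)) (tt N1318 F6338) (tt N1492 F7031) (tt N1318 F6339) (tt N1318 F6340) (tt N1117 F6341) (tt N1318 F6342) (tt N1116 (iv D1376)))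
theorem Q1320 : ∀ i, i < 1320 → P i := stepQ 1319 Q1319 (allL N1319 (tt N1350 (iv F6418)) (tt N1319 F6343) (tt N1319 F6344) (tt N1513 (iv F7110)) (tt N1118 (iv D1377)) (tt N1514 D1553) (tt N1319 F6345) (tt N1319 F6346) (tt N1353 (iv F6439)))
theorem Q1321 : ∀ i, i < 1321 → P i := stepQ 1320 Q1320 (allL N1320 (tt N1121 F5814) (tt N1320 F5815) (tt N1132 (iv F5820)) (tt N1120 (iv D1254)) (tt N1129 F5816) (tt N1134 F5817) (tt N1377 (iv F6540)) (tt N1130 F5818) (tt N1122 F5819))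
theorem Q1322 : ∀ i, i < 1322 → P i := stepQ 1321 Q1321 (allL N1321 (tt N1132 F5821) (tt N1321 F5822) (tt N1121 (iv D1255)) (tt N1321 F5823) (tt N1130 F5824) (tt N1135 F5825) (tt N1379 (iv F6554)) (tt N1129 F5826) (tt N1124 F5827))
theorem Q1323 : ∀ i, i < 1323 → P i := stepQ 1322 Q1322 (allL N1322 (tt N1124 F5828) (tt N1128 F5832) (tt N1122 (iv D1256)) (tt N1322 F5829) (tt N1131 F5830) (tt N1126 (iv F5833)) (tt N1382 (iv F6571)) (tt N1125 F5834) (tt N1132 F5831))
theorem Q1324 : ∀ i, i < 1324 → P i := stepQ 1323 Q1323 (allL N1323 (tt N1125 F5835) (tt N1323 F5836) (tt N1126 F5837) (tt N1123 F5838) (tt N1135 F5839) (tt N1122 (iv D1257)) (tt N1387 (iv F6598)) (tt N1124 (iv F5841)) (tt N1134 F5840))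
theorem Q1325 : ∀ i, i < 1325 → P i := stepQ 1324 Q1324 (allL N1324 (tt N1126 F5842) (tt N1324 F5843) (tt N1125 F5844) (tt N1324 F5845) (tt N1134 F5846) (tt N1124 F5847) (tt N1384 (iv F6583)) (tt N1122 (iv D1258)) (tt N1135 F5848))
theorem Q1326 : ∀ i, i < 1326 → P i := stepQ 1325 Q1325 (allL N1325 (tt N1135 F5855) (tt N1127 F5856) (tt N1134 F5857) (tt N1325 F5858) (tt N1125 (iv D1260)) (tt N1132 F5859) (tt N1391 (iv F6615)) (tt N1131 F5860) (tt N1126 F5861))
theorem Q1327 : ∀ i, i < 1327 → P i := stepQ 1326 Q1326 (allL N1326 (tt N1274 (iv F6150)) (tt N1326 F5547) (tt N1162 F5548) (tt N1326 F5549) (tt N1326 F5550) (tt N1326 F5551) (tt N1138 (iv D1197)) (tt N1141 F5552) (tt N1326 F5553))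
theorem Q1328 : ∀ i, i < 1328 → P i := stepQ 1327 Q1327 (allL N1327 (tt N1277 (iv F6168)) (tt N1159 F5554) (tt N1150 F5555) (tt N1140 F5556) (tt N1515 D1378) (tt N1139 (iv D1198)) (tt N1516 D1379) (tt N1155 F5557) (tt N1144 F5558))
theorem Q1329 : ∀ i, i < 1329 → P i := stepQ 1328 Q1328 (allL N1328 (tt N1278 (iv F6173)) (tt N1163 F5559) (tt N1141 F5560) (tt N1516 (iv F6356)) (tt N1328 F5561) (tt N1328 F5562) (tt N1140 (iv D1199)) (tt N1162 F5563) (tt N1146 F5564))
theorem Q1330 : ∀ i, i < 1330 → P i := stepQ 1329 Q1329 (allL N1329 (tt N1288 (iv F6214)) (tt N1151 F5565) (tt N1142 (iv D1200)) (tt N1329 F5566) (tt N1329 F5567) (tt N1517 D1380) (tt N1329 F5568) (tt N1148 (iv F5570)) (tt N1145 F5569))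
theorem Q1331 : ∀ i, i < 1331 → P i := stepQ 1330 Q1330 (allL N1330 (tt N1310 (iv F6305)) (tt N1144 F5571) (tt N1517 (iv F6362)) (tt N1143 F5572) (tt N1518 D1381) (tt N1142 (iv D1201)) (tt N1519 D1382) (tt N1520 D1383) (tt N1159 F5573))
theorem Q1332 : ∀ i, i < 1332 → P i := stepQ 1331 Q1331 (allL N1331 (tt N1298 (iv F6261)) (tt N1145 F5574) (tt N1148 F5575) (tt N1331 F5576) (tt N1331 F5577) (tt N1520 (iv F6386)) (tt N1331 F5578) (tt N1142 (iv D1202)) (tt N1151 F5579))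
theorem Q1333 : ∀ i, i < 1333 → P i := stepQ 1332 Q1332 (allL N1332 (tt N1318 (iv F6337)) (tt N1146 F5580) (tt N1332 F5581) (tt N1519 (iv F6377)) (tt N1332 F5582) (tt N1332 F5583) (tt N1143 (iv D1203)) (tt N1332 F5584) (tt N1163 F5585))
theorem Q1334 : ∀ i, i < 1334 → P i := stepQ 1333 Q1333 (allL N1333 (tt N1285 (iv F6202)) (tt N1518 (iv F6368)) (tt N1157 F5586) (tt N1333 F5587) (tt N1144 (iv D1204)) (tt N1333 F5588) (tt N1520 (iv F6387)) (tt N1519 F6381) (tt N1515 (iv F6352)))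
theorem Q1335 : ∀ i, i < 1335 → P i := stepQ 1334 Q1334 (allL N1334 (tt N1286 (iv F6206)) (tt N1519 (iv F6375)) (tt N1158 F5589) (tt N1146 F5590) (tt N1520 (iv F6385)) (tt N1334 F5591) (tt N1144 (iv D1205)) (tt N1518 F6374) (tt N1516 (iv F6360)))
theorem Q1336 : ∀ i, i < 1336 → P i := stepQ 1335 Q1335 (allL N1335 (tt N1287 (iv F6210)) (tt N1520 (iv F6382)) (tt N1159 F5592) (tt N1335 F5593) (tt N1519 (iv F6378)) (tt N1145 F5594) (tt N1518 F6373) (tt N1144 (iv D1206)) (tt N1517 (iv F6365)))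
theorem Q1337 : ∀ i, i < 1337 → P i := stepQ 1336 Q1336 (allL N1336 (tt N1148 F5595) (tt N1289 (iv F6221)) (tt N1298 (iv F6262)) (tt N1147 (iv D1207)) (tt N1336 F5596) (tt N1307 F6296) (tt N1336 F5597) (tt N1288 (iv F6219)) (tt N1153 F5598))
theorem Q1338 : ∀ i, i < 1338 → P i := stepQ 1337 Q1337 (allL N1337 (tt N1307 (iv F6292)) (tt N1150 F5599) (tt N1520 (iv F6383)) (tt N1149 F5600) (tt N1158 F5602) (tt N1148 (iv D1208)) (tt N1157 (iv F5603)) (tt N1517 (iv F6364)) (tt N1155 F5601))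
theorem Q1339 : ∀ i, i < 1339 → P i := stepQ 1338 Q1338 (allL N1338 (tt N1295 (iv F6247)) (tt N1158 F5604) (tt N1515 (iv F6348)) (tt N1156 F5605) (tt N1150 (iv D1209)) (tt N1338 F5606) (tt N1155 (iv F5608)) (tt N1516 (iv F6359)) (tt N1157 F5607))
theorem Q1340 : ∀ i, i < 1340 → P i := stepQ 1339 Q1339 (allL N1339 (tt N1296 (iv F6252)) (tt N1157 F5609) (tt N1516 (iv F6355)) (tt N1152 F5610) (tt N1155 F5611) (tt N1339 F5612) (tt N1150 (iv D1210)) (tt N1515 (iv F6351)) (tt N1158 F5613))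
theorem Q1341 : ∀ i, i < 1341 → P i := stepQ 1340 Q1340 (allL N1340 (tt N1297 (iv F6257)) (tt N1517 (iv F6361)) (tt N1155 F5614) (tt N1340 F5615) (tt N1516 (iv F6357)) (tt N1151 F5616) (tt N1515 F6353) (tt N1150 (iv D1211)) (tt N1520 (iv F6388)))
theorem Q1342 : ∀ i, i < 1342 → P i := stepQ 1341 Q1341 (allL N1341 (tt N1155 F5617) (tt N1300 (iv F6271)) (tt N1297 (iv F6258)) (tt N1154 F5618) (tt N1296 (iv F6254)) (tt N1153 (iv D1212)) (tt N1295 F6251) (tt N1277 (iv F6171)) (tt N1307 (iv F6295)))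
theorem Q1343 : ∀ i, i < 1343 → P i := stepQ 1342 Q1342 (allL N1342 (tt N1308 (iv F6297)) (tt N1515 (iv F6347)) (tt N1519 (iv F6376)) (tt N1342 F5619) (tt N1159 F5620) (tt N1342 F5621) (tt N1517 F6367) (tt N1157 (iv D1213)) (tt N1518 (iv F6372)))
theorem Q1344 : ∀ i, i < 1344 → P i := stepQ 1343 Q1343 (allL N1343 (tt N1309 (iv F6301)) (tt N1516 (iv F6354)) (tt N1518 (iv F6369)) (tt N1163 F5622) (tt N1517 (iv F6366)) (tt N1343 F5623) (tt N1159 F5624) (tt N1158 (iv D1214)) (tt N1519 (iv F6380)))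
theorem Q1345 : ∀ i, i < 1345 → P i := stepQ 1344 Q1344 (allL N1344 (tt N1162 F5625) (tt N1313 (iv F6317)) (tt N1274 (iv F6151)) (tt N1161 F5626) (tt N1344 F5627) (tt N1344 F5628) (tt N1160 (iv D1215)) (tt N1278 (iv F6177)) (tt N1344 F5629))
theorem Q1346 : ∀ i, i < 1346 → P i := stepQ 1345 Q1345 (allL N1345 (tt N1164 (iv D1384)) (tt N1345 F6389) (tt N1345 F6390) (tt N1345 F6391) (tt N1521 D1554) (tt N1345 F6392) (tt N1345 F6393) (tt N1170 F6394) (tt N1345 F6395))
theorem Q1347 : ∀ i, i < 1347 → P i := stepQ 1346 Q1346 (allL N1346 (tt N1521 (iv F7116)) (tt N1165 F6396) (tt N1346 F6397) (tt N1522 D1555) (tt N1164 (iv D1385)) (tt N1523 D1556) (tt N1346 F6398) (tt N1171 F6399) (tt N1346 F6400))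
theorem Q1348 : ∀ i, i < 1348 → P i := stepQ 1347 Q1347 (allL N1347 (tt N1347 F6401) (tt N1522 (iv F7122)) (tt N1347 F6402) (tt N1165 (iv D1386)) (tt N1347 F6403) (tt N1524 D1557) (tt N1347 F6404) (tt N1525 D1558) (tt N1347 F6405))
theorem Q1349 : ∀ i, i < 1349 → P i := stepQ 1348 Q1348 (allL N1348 (tt N1348 F6406) (tt N1523 (iv F7126)) (tt N1166 F6407) (tt N1524 (iv F7133)) (tt N1348 F6408) (tt N1165 (iv D1387)) (tt N1526 D1559) (tt N1173 F6409) (tt N1348 F6410))
theorem Q1350 : ∀ i, i < 1350 → P i := stepQ 1349 Q1349 (allL N1349 (tt N1349 F6411) (tt N1349 F6412) (tt N1526 (iv F7141)) (tt N1349 F6413) (tt N1349 F6414) (tt N1349 F6415) (tt N1166 (iv D1388)) (tt N1174 F6416) (tt N1349 F6417))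
theorem Q1351 : ∀ i, i < 1351 → P i := stepQ 1350 Q1350 (allL N1350 (tt N1319 F6418) (tt N1168 F6419) (tt N1350 F6420) (tt N1527 D1560) (tt N1167 (iv D1389)) (tt N1528 D1561) (tt N1350 F6421) (tt N1350 F6422) (tt N1171 F6423))
theorem Q1352 : ∀ i, i < 1352 → P i := stepQ 1351 Q1351 (allL N1351 (tt N1351 F6424) (tt N1527 (iv F7147)) (tt N1179 F6425) (tt N1168 (iv D1390)) (tt N1205 F6426) (tt N1529 D1562) (tt N1351 F6427) (tt N1530 D1563) (tt N1172 F6428))
theorem Q1353 : ∀ i, i < 1353 → P i := stepQ 1352 Q1352 (allL N1352 (tt N1352 F6429) (tt N1528 (iv F7152)) (tt N1169 F6430) (tt N1529 (iv F7160)) (tt N1352 F6431) (tt N1168 (iv D1391)) (tt N1273 (iv F6434)) (tt N1352 F6432) (tt N1173 F6433))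
theorem Q1354 : ∀ i, i < 1354 → P i := stepQ 1353 Q1353 (allL N1353 (tt N1171 F6435) (tt N1353 F6436) (tt N1353 F6437) (tt N1531 D1564) (tt N1170 (iv D1392)) (tt N1532 D1565) (tt N1353 F6438) (tt N1521 (iv F7120)) (tt N1319 F6439))
theorem Q1355 : ∀ i, i < 1355 → P i := stepQ 1354 Q1354 (allL N1354 (tt N1531 (iv F7168)) (tt N1172 F6440) (tt N1533 D1566) (tt N1171 (iv D1393)) (tt N1209 F6441) (tt N1534 D1567) (tt N1354 F6442) (tt N1535 D1568) (tt N1527 (iv F7150)))
theorem Q1356 : ∀ i, i < 1356 → P i := stepQ 1355 Q1355 (allL N1355 (tt N1532 (iv F7173)) (tt N1173 F6443) (tt N1355 F6444) (tt N1534 (iv F7183)) (tt N1355 F6445) (tt N1171 (iv D1394)) (tt N1536 D1569) (tt N1523 (iv F7129)) (tt N1528 (iv F7156)))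
theorem Q1357 : ∀ i, i < 1357 → P i := stepQ 1356 Q1356 (allL N1356 (tt N1356 F6446) (tt N1534 (iv F7182)) (tt N1184 F6447) (tt N1173 F6448) (tt N1537 D1570) (tt N1172 (iv D1395)) (tt N1538 D1571) (tt N1539 D1572) (tt N1529 (iv F7161)))
theorem Q1358 : ∀ i, i < 1358 → P i := stepQ 1357 Q1357 (allL N1357 (tt N1357 F6449) (tt N1535 (iv F7184)) (tt N1185 F6450) (tt N1525 (iv F7137)) (tt N1212 F6451) (tt N1539 (iv F7203)) (tt N1357 F6452) (tt N1172 (iv D1396)) (tt N1540 D1573))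
theorem Q1359 : ∀ i, i < 1359 → P i := stepQ 1358 Q1358 (allL N1358 (tt N1358 F6453) (tt N1536 (iv F7187)) (tt N1174 F6454) (tt N1538 (iv F7198)) (tt N1358 F6455) (tt N1358 F6456) (tt N1173 (iv D1397)) (tt N1526 (iv F7144)) (tt N1273 F6457))
theorem Q1360 : ∀ i, i < 1360 → P i := stepQ 1359 Q1359 (allL N1359 (tt N1175 (iv D1398)) (tt N1359 F6458) (tt N1359 F6459) (tt N1359 F6460) (tt N1541 D1574) (tt N1187 F6461) (tt N1359 F6462) (tt N1177 F6463) (tt N1359 F6464))
theorem Q1361 : ∀ i, i < 1361 → P i := stepQ 1360 Q1360 (allL N1360 (tt N1541 (iv F7208)) (tt N1176 F6465) (tt N1360 F6466) (tt N1542 D1575) (tt N1175 (iv D1399)) (tt N1270 F6467) (tt N1360 F6468) (tt N1178 F6469) (tt N1360 F6470))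
theorem Q1362 : ∀ i, i < 1362 → P i := stepQ 1361 Q1361 (allL N1361 (tt N1361 F6471) (tt N1542 (iv F7215)) (tt N1361 F6472) (tt N1176 (iv D1400)) (tt N1361 F6473) (tt N1262 F6474) (tt N1361 F6475) (tt N1543 D1576) (tt N1361 F6476))
theorem Q1363 : ∀ i, i < 1363 → P i := stepQ 1362 Q1362 (allL N1362 (tt N1178 F6477) (tt N1362 F6478) (tt N1362 F6479) (tt N1544 D1577) (tt N1177 (iv D1401)) (tt N1545 D1578) (tt N1362 F6480) (tt N1541 (iv F7213)) (tt N1181 F6481))
theorem Q1364 : ∀ i, i < 1364 → P i := stepQ 1363 Q1363 (allL N1363 (tt N1544 (iv F7226)) (tt N1179 F6482) (tt N1546 D1579) (tt N1178 (iv D1402)) (tt N1215 F6483) (tt N1547 D1580) (tt N1363 F6484) (tt N1548 D1581) (tt N1182 F6485))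
theorem Q1365 : ∀ i, i < 1365 → P i := stepQ 1364 Q1364 (allL N1364 (tt N1545 (iv F7231)) (tt N1180 F6486) (tt N1364 F6487) (tt N1547 (iv F7243)) (tt N1190 F6488) (tt N1178 (iv D1403)) (tt N1271 (iv F6491)) (tt N1270 F6489) (tt N1183 F6490))
theorem Q1366 : ∀ i, i < 1366 → P i := stepQ 1365 Q1365 (allL N1365 (tt N1365 F6492) (tt N1547 (iv F7242)) (tt N1529 (iv F7159)) (tt N1180 F6493) (tt N1549 D1582) (tt N1179 (iv D1404)) (tt N1272 (iv F6495)) (tt N1550 D1583) (tt N1184 F6494))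
theorem Q1367 : ∀ i, i < 1367 → P i := stepQ 1366 Q1366 (allL N1366 (tt N1366 F6496) (tt N1548 (iv F7246)) (tt N1530 (iv F7164)) (tt N1543 (iv F7222)) (tt N1218 F6497) (tt N1550 (iv F7256)) (tt N1366 F6498) (tt N1179 (iv D1405)) (tt N1551 D1584))
theorem Q1368 : ∀ i, i < 1368 → P i := stepQ 1367 Q1367 (allL N1367 (tt N1182 F6499) (tt N1367 F6500) (tt N1552 D1585) (tt N1181 (iv D1406)) (tt N1220 F6501) (tt N1553 D1586) (tt N1367 F6502) (tt N1554 D1587) (tt N1544 (iv F7230)))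
theorem Q1369 : ∀ i, i < 1369 → P i := stepQ 1368 Q1368 (allL N1368 (tt N1183 F6503) (tt N1368 F6504) (tt N1368 F6505) (tt N1553 (iv F7268)) (tt N1193 F6506) (tt N1181 (iv D1407)) (tt N1555 D1588) (tt N1368 F6507) (tt N1545 (iv F7236)))
theorem Q1370 : ∀ i, i < 1370 → P i := stepQ 1369 Q1369 (allL N1369 (tt N1552 (iv F7262)) (tt N1533 (iv F7178)) (tt N1182 (iv D1408)) (tt N1369 F6508) (tt N1222 F6509) (tt N1556 D1589) (tt N1369 F6510) (tt N1557 D1590) (tt N1546 (iv F7241)))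
theorem Q1371 : ∀ i, i < 1371 → P i := stepQ 1370 Q1370 (allL N1370 (tt N1553 (iv F7266)) (tt N1184 F6511) (tt N1556 (iv F7281)) (tt N1183 F6512) (tt N1558 D1591) (tt N1182 (iv D1409)) (tt N1559 D1592) (tt N1560 D1593) (tt N1547 (iv F7244)))
theorem Q1372 : ∀ i, i < 1372 → P i := stepQ 1371 Q1371 (allL N1371 (tt N1554 (iv F7269)) (tt N1185 F6513) (tt N1557 (iv F7283)) (tt N1371 F6514) (tt N1224 F6515) (tt N1560 (iv F7295)) (tt N1371 F6516) (tt N1182 (iv D1410)) (tt N1561 D1594))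
theorem Q1373 : ∀ i, i < 1373 → P i := stepQ 1372 Q1372 (allL N1372 (tt N1555 (iv F7274)) (tt N1186 F6517) (tt N1372 F6518) (tt N1559 (iv F7290)) (tt N1197 F6519) (tt N1372 F6520) (tt N1183 (iv D1411)) (tt N1372 F6521) (tt N1271 F6522))
theorem Q1374 : ∀ i, i < 1374 → P i := stepQ 1373 Q1373 (allL N1373 (tt N1373 F6523) (tt N1558 (iv F7286)) (tt N1537 (iv F7193)) (tt N1198 F6524) (tt N1184 (iv D1412)) (tt N1226 F6525) (tt N1562 D1595) (tt N1563 D1596) (tt N1549 (iv F7253)))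
theorem Q1375 : ∀ i, i < 1375 → P i := stepQ 1374 Q1374 (allL N1374 (tt N1374 F6526) (tt N1559 (iv F7289)) (tt N1538 (iv F7197)) (tt N1186 F6527) (tt N1562 (iv F7302)) (tt N1374 F6528) (tt N1184 (iv D1413)) (tt N1564 D1597) (tt N1272 F6529))
theorem Q1376 : ∀ i, i < 1376 → P i := stepQ 1375 Q1375 (allL N1375 (tt N1375 F6530) (tt N1560 (iv F7293)) (tt N1539 (iv F7202)) (tt N1375 F6531) (tt N1563 (iv F7305)) (tt N1185 F6532) (tt N1564 (iv F7310)) (tt N1184 (iv D1414)) (tt N1565 D1598))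
theorem Q1377 : ∀ i, i < 1377 → P i := stepQ 1376 Q1376 (allL N1376 (tt N1376 F6533) (tt N1561 (iv F7296)) (tt N1540 (iv F7205)) (tt N1376 F6534) (tt N1229 F6535) (tt N1565 (iv F7313)) (tt N1376 F6536) (tt N1551 (iv F7261)) (tt N1185 (iv D1415)))
theorem Q1378 : ∀ i, i < 1378 → P i := stepQ 1377 Q1377 (allL N1377 (tt N1189 F6537) (tt N1377 F6538) (tt N1234 (iv F6543)) (tt N1188 (iv D1416)) (tt N1230 F6539) (tt N1566 D1599) (tt N1320 F6540) (tt N1232 F6541) (tt N1192 F6542))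
theorem Q1379 : ∀ i, i < 1379 → P i := stepQ 1378 Q1378 (allL N1378 (tt N1190 F6544) (tt N1378 F6545) (tt N1378 F6546) (tt N1566 (iv F7317)) (tt N1545 (iv F7234)) (tt N1188 (iv D1417)) (tt N1268 F6547) (tt N1267 F6548) (tt N1193 F6549))
theorem Q1380 : ∀ i, i < 1380 → P i := stepQ 1379 Q1379 (allL N1379 (tt N1234 F6550) (tt N1379 F6551) (tt N1189 (iv D1418)) (tt N1379 F6552) (tt N1232 F6553) (tt N1567 D1600) (tt N1321 F6554) (tt N1230 F6555) (tt N1194 F6556))
theorem Q1381 : ∀ i, i < 1381 → P i := stepQ 1380 Q1380 (allL N1380 (tt N1566 (iv F7314)) (tt N1191 F6557) (tt N1567 (iv F7323)) (tt N1190 F6558) (tt N1568 D1601) (tt N1189 (iv D1419)) (tt N1248 F6559) (tt N1247 F6560) (tt N1195 F6561))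
theorem Q1382 : ∀ i, i < 1382 → P i := stepQ 1381 Q1381 (allL N1381 (tt N1381 F6562) (tt N1568 (iv F7328)) (tt N1381 F6563) (tt N1549 (iv F7250)) (tt N1191 (iv D1420)) (tt N1236 F6564) (tt N1251 F6565) (tt N1250 F6566) (tt N1198 F6567))
theorem Q1383 : ∀ i, i < 1383 → P i := stepQ 1382 Q1382 (allL N1382 (tt N1194 F6568) (tt N1239 (iv F6573)) (tt N1192 (iv D1421)) (tt N1382 F6569) (tt N1240 F6570) (tt N1569 D1602) (tt N1322 F6571) (tt N1249 (iv F6574)) (tt N1234 F6572))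
theorem Q1384 : ∀ i, i < 1384 → P i := stepQ 1383 Q1383 (allL N1383 (tt N1195 F6575) (tt N1383 F6576) (tt N1569 (iv F7335)) (tt N1193 F6577) (tt N1570 D1603) (tt N1192 (iv D1422)) (tt N1571 D1604) (tt N1572 D1605) (tt N1566 (iv F7320)))
theorem Q1385 : ∀ i, i < 1385 → P i := stepQ 1384 Q1384 (allL N1384 (tt N1196 F6578) (tt N1384 F6579) (tt N1249 F6580) (tt N1384 F6581) (tt N1242 F6582) (tt N1572 (iv F7354)) (tt N1324 F6583) (tt N1192 (iv D1423)) (tt N1245 F6584))
theorem Q1386 : ∀ i, i < 1386 → P i := stepQ 1385 Q1385 (allL N1385 (tt N1197 F6585) (tt N1385 F6586) (tt N1385 F6587) (tt N1571 (iv F7346)) (tt N1555 (iv F7277)) (tt N1269 F6588) (tt N1193 (iv D1424)) (tt N1385 F6589) (tt N1268 F6590))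
theorem Q1387 : ∀ i, i < 1387 → P i := stepQ 1386 Q1386 (allL N1386 (tt N1569 (iv F7333)) (tt N1386 F6591) (tt N1195 F6592) (tt N1386 F6593) (tt N1573 D1606) (tt N1194 (iv D1425)) (tt N1572 (iv F7355)) (tt N1571 F7349) (tt N1567 (iv F7327)))
theorem Q1388 : ∀ i, i < 1388 → P i := stepQ 1387 Q1387 (allL N1387 (tt N1249 F6594) (tt N1387 F6595) (tt N1196 F6596) (tt N1269 (iv F6600)) (tt N1245 F6597) (tt N1571 (iv F7347)) (tt N1323 F6598) (tt N1194 (iv D1426)) (tt N1242 F6599))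
theorem Q1389 : ∀ i, i < 1389 → P i := stepQ 1388 Q1388 (allL N1388 (tt N1570 (iv F7340)) (tt N1198 F6601) (tt N1573 (iv F7358)) (tt N1558 (iv F7287)) (tt N1195 (iv D1427)) (tt N1246 F6602) (tt N1574 D1607) (tt N1575 D1608) (tt N1568 (iv F7332)))
theorem Q1390 : ∀ i, i < 1390 → P i := stepQ 1389 Q1389 (allL N1389 (tt N1571 (iv F7343)) (tt N1199 F6603) (tt N1572 (iv F7352)) (tt N1197 F6604) (tt N1574 (iv F7361)) (tt N1249 F6605) (tt N1195 (iv D1428)) (tt N1569 (iv F7338)) (tt N1248 F6606))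
theorem Q1391 : ∀ i, i < 1391 → P i := stepQ 1390 Q1390 (allL N1390 (tt N1572 (iv F7350)) (tt N1200 F6607) (tt N1571 (iv F7345)) (tt N1390 F6608) (tt N1575 (iv F7364)) (tt N1196 F6609) (tt N1569 (iv F7337)) (tt N1195 (iv D1429)) (tt N1576 D1609))
theorem Q1392 : ∀ i, i < 1392 → P i := stepQ 1391 Q1391 (allL N1391 (tt N1245 F6610) (tt N1201 F6611) (tt N1242 F6612) (tt N1391 F6613) (tt N1249 F6614) (tt N1576 (iv F7370)) (tt N1325 F6615) (tt N1240 F6616) (tt N1196 (iv D1430)))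
theorem Q1393 : ∀ i, i < 1393 → P i := stepQ 1392 Q1392 (allL N1392 (tt N1392 F6617) (tt N1574 (iv F7360)) (tt N1392 F6618) (tt N1562 (iv F7301)) (tt N1199 F6619) (tt N1577 D1610) (tt N1198 (iv D1431)) (tt N1578 D1611) (tt N1251 F6620))
theorem Q1394 : ∀ i, i < 1394 → P i := stepQ 1393 Q1393 (allL N1393 (tt N1393 F6621) (tt N1575 (iv F7363)) (tt N1393 F6622) (tt N1579 D1612) (tt N1200 F6623) (tt N1251 F6624) (tt N1578 (iv F7383)) (tt N1198 (iv D1432)) (tt N1577 (iv F7377)))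
theorem Q1395 : ∀ i, i < 1395 → P i := stepQ 1394 Q1394 (allL N1394 (tt N1394 F6625) (tt N1569 (iv F7334)) (tt N1394 F6626) (tt N1394 F6627) (tt N1578 (iv F7381)) (tt N1239 F6628) (tt N1200 F6629) (tt N1199 (iv D1433)) (tt N1238 F6630))
theorem Q1396 : ∀ i, i < 1396 → P i := stepQ 1395 Q1395 (allL N1395 (tt N1395 F6631) (tt N1576 (iv F7367)) (tt N1395 F6632) (tt N1395 F6633) (tt N1577 (iv F7375)) (tt N1201 F6634) (tt N1238 F6635) (tt N1237 F6636) (tt N1200 (iv D1434)))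
theorem Q1397 : ∀ i, i < 1397 → P i := stepQ 1396 Q1396 (allL N1396 (tt N1396 F6637) (tt N1252 F6638) (tt N1396 F6639) (tt N1202 (iv D1435)) (tt N1396 F6640) (tt N1580 D1613) (tt N1396 F6641) (tt N1581 D1614) (tt N1396 F6642))
theorem Q1398 : ∀ i, i < 1398 → P i := stepQ 1397 Q1397 (allL N1397 (tt N1397 F6643) (tt N1312 F6644) (tt N1203 F6645) (tt N1580 (iv F7391)) (tt N1397 F6646) (tt N1202 (iv D1436)) (tt N1582 D1615) (tt N1206 F6647) (tt N1397 F6648))
theorem Q1399 : ∀ i, i < 1399 → P i := stepQ 1398 Q1398 (allL N1398 (tt N1398 F6649) (tt N1274 F6650) (tt N1582 (iv F7401)) (tt N1398 F6651) (tt N1398 F6652) (tt N1398 F6653) (tt N1203 (iv D1437)) (tt N1207 F6654) (tt N1398 F6655))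
theorem Q1400 : ∀ i, i < 1400 → P i := stepQ 1399 Q1399 (allL N1399 (tt N1316 F6656) (tt N1205 F6657) (tt N1583 D1616) (tt N1204 (iv D1438)) (tt N1527 (iv F7148)) (tt N1584 D1617) (tt N1399 F6658) (tt N1585 D1618) (tt N1209 F6659))
theorem Q1401 : ∀ i, i < 1401 → P i := stepQ 1400 Q1400 (allL N1400 (tt N1315 F6660) (tt N1206 F6661) (tt N1276 F6662) (tt N1584 (iv F7413)) (tt N1400 F6663) (tt N1204 (iv D1439)) (tt N1586 D1619) (tt N1312 F6664) (tt N1210 F6665))
theorem Q1402 : ∀ i, i < 1402 → P i := stepQ 1401 Q1401 (allL N1401 (tt N1401 F6666) (tt N1584 (iv F7412)) (tt N1217 F6667) (tt N1206 F6668) (tt N1587 D1620) (tt N1205 (iv D1440)) (tt N1588 D1621) (tt N1589 D1622) (tt N1211 F6669))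
theorem Q1403 : ∀ i, i < 1403 → P i := stepQ 1402 Q1402 (allL N1402 (tt N1402 F6670) (tt N1585 (iv F7416)) (tt N1218 F6671) (tt N1581 (iv F7396)) (tt N1530 (iv F7166)) (tt N1589 (iv F7437)) (tt N1402 F6672) (tt N1205 (iv D1441)) (tt N1590 D1623))
theorem Q1404 : ∀ i, i < 1404 → P i := stepQ 1403 Q1403 (allL N1403 (tt N1403 F6673) (tt N1586 (iv F7420)) (tt N1207 F6674) (tt N1588 (iv F7432)) (tt N1403 F6675) (tt N1403 F6676) (tt N1206 (iv D1442)) (tt N1582 (iv F7404)) (tt N1213 F6677))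
theorem Q1405 : ∀ i, i < 1405 → P i := stepQ 1404 Q1404 (allL N1404 (tt N1209 F6678) (tt N1404 F6679) (tt N1591 D1624) (tt N1208 (iv D1443)) (tt N1531 (iv F7170)) (tt N1592 D1625) (tt N1404 F6680) (tt N1593 D1626) (tt N1316 F6681))
theorem Q1406 : ∀ i, i < 1406 → P i := stepQ 1405 Q1405 (allL N1405 (tt N1210 F6682) (tt N1405 F6683) (tt N1280 F6684) (tt N1592 (iv F7448)) (tt N1405 F6685) (tt N1208 (iv D1444)) (tt N1594 D1627) (tt N1405 F6686) (tt N1315 F6687))
theorem Q1407 : ∀ i, i < 1407 → P i := stepQ 1406 Q1406 (allL N1406 (tt N1591 (iv F7442)) (tt N1222 F6688) (tt N1209 (iv D1445)) (tt N1281 F6689) (tt N1533 (iv F7180)) (tt N1595 D1628) (tt N1406 F6690) (tt N1596 D1629) (tt N1583 (iv F7410)))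
theorem Q1408 : ∀ i, i < 1408 → P i := stepQ 1407 Q1407 (allL N1407 (tt N1592 (iv F7446)) (tt N1211 F6691) (tt N1595 (iv F7462)) (tt N1210 F6692) (tt N1597 D1630) (tt N1209 (iv D1446)) (tt N1598 D1631) (tt N1599 D1632) (tt N1584 (iv F7414)))
theorem Q1409 : ∀ i, i < 1409 → P i := stepQ 1408 Q1408 (allL N1408 (tt N1593 (iv F7450)) (tt N1212 F6693) (tt N1596 (iv F7465)) (tt N1408 F6694) (tt N1535 (iv F7185)) (tt N1599 (iv F7474)) (tt N1408 F6695) (tt N1209 (iv D1447)) (tt N1600 D1633))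
theorem Q1410 : ∀ i, i < 1410 → P i := stepQ 1409 Q1409 (allL N1409 (tt N1594 (iv F7454)) (tt N1213 F6696) (tt N1284 F6697) (tt N1598 (iv F7470)) (tt N1409 F6698) (tt N1409 F6699) (tt N1210 (iv D1448)) (tt N1409 F6700) (tt N1586 (iv F7425)))
theorem Q1411 : ∀ i, i < 1411 → P i := stepQ 1410 Q1410 (allL N1410 (tt N1410 F6701) (tt N1597 (iv F7467)) (tt N1226 F6702) (tt N1410 F6703) (tt N1211 (iv D1449)) (tt N1537 (iv F7195)) (tt N1601 D1634) (tt N1602 D1635) (tt N1587 (iv F7429)))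
theorem Q1412 : ∀ i, i < 1412 → P i := stepQ 1411 Q1411 (allL N1411 (tt N1411 F6704) (tt N1598 (iv F7469)) (tt N1227 F6705) (tt N1213 F6706) (tt N1601 (iv F7481)) (tt N1411 F6707) (tt N1211 (iv D1450)) (tt N1603 D1636) (tt N1588 (iv F7434)))
theorem Q1413 : ∀ i, i < 1413 → P i := stepQ 1412 Q1412 (allL N1412 (tt N1412 F6708) (tt N1599 (iv F7472)) (tt N1228 F6709) (tt N1412 F6710) (tt N1602 (iv F7484)) (tt N1212 F6711) (tt N1603 (iv F7489)) (tt N1211 (iv D1451)) (tt N1604 D1637))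
theorem Q1414 : ∀ i, i < 1414 → P i := stepQ 1413 Q1413 (allL N1413 (tt N1413 F6712) (tt N1600 (iv F7475)) (tt N1229 F6713) (tt N1413 F6714) (tt N1540 (iv F7206)) (tt N1604 (iv F7493)) (tt N1413 F6715) (tt N1590 (iv F7441)) (tt N1212 (iv D1452)))
theorem Q1415 : ∀ i, i < 1415 → P i := stepQ 1414 Q1414 (allL N1414 (tt N1215 F6716) (tt N1414 F6717) (tt N1605 D1638) (tt N1214 (iv D1453)) (tt N1544 (iv F7228)) (tt N1606 D1639) (tt N1414 F6718) (tt N1607 D1640) (tt N1220 F6719))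
theorem Q1416 : ∀ i, i < 1416 → P i := stepQ 1415 Q1415 (allL N1415 (tt N1216 F6720) (tt N1415 F6721) (tt N1290 F6722) (tt N1606 (iv F7500)) (tt N1231 F6723) (tt N1214 (iv D1454)) (tt N1311 (iv F6726)) (tt N1415 F6724) (tt N1221 F6725))
theorem Q1417 : ∀ i, i < 1417 → P i := stepQ 1416 Q1416 (allL N1416 (tt N1605 (iv F7494)) (tt N1583 (iv F7407)) (tt N1215 (iv D1455)) (tt N1291 F6727) (tt N1546 (iv F7239)) (tt N1608 D1641) (tt N1416 F6728) (tt N1609 D1642) (tt N1222 F6729))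
theorem Q1418 : ∀ i, i < 1418 → P i := stepQ 1417 Q1417 (allL N1417 (tt N1606 (iv F7498)) (tt N1217 F6730) (tt N1608 (iv F7507)) (tt N1216 F6731) (tt N1610 D1643) (tt N1215 (iv D1456)) (tt N1611 D1644) (tt N1612 D1645) (tt N1223 F6732))
theorem Q1419 : ∀ i, i < 1419 → P i := stepQ 1418 Q1418 (allL N1418 (tt N1607 (iv F7503)) (tt N1218 F6733) (tt N1609 (iv F7510)) (tt N1418 F6734) (tt N1548 (iv F7247)) (tt N1612 (iv F7522)) (tt N1418 F6735) (tt N1215 (iv D1457)) (tt N1613 D1646))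
theorem Q1420 : ∀ i, i < 1420 → P i := stepQ 1419 Q1419 (allL N1419 (tt N1311 F6736) (tt N1219 F6737) (tt N1294 F6738) (tt N1611 (iv F7517)) (tt N1235 F6739) (tt N1419 F6740) (tt N1216 (iv D1458)) (tt N1419 F6741) (tt N1225 F6742))
theorem Q1421 : ∀ i, i < 1421 → P i := stepQ 1420 Q1420 (allL N1420 (tt N1420 F6743) (tt N1610 (iv F7512)) (tt N1587 (iv F7427)) (tt N1236 F6744) (tt N1217 (iv D1459)) (tt N1549 (iv F7251)) (tt N1614 D1647) (tt N1615 D1648) (tt N1226 F6745))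
theorem Q1422 : ∀ i, i < 1422 → P i := stepQ 1421 Q1421 (allL N1421 (tt N1421 F6746) (tt N1611 (iv F7516)) (tt N1588 (iv F7431)) (tt N1219 F6747) (tt N1614 (iv F7529)) (tt N1421 F6748) (tt N1217 (iv D1460)) (tt N1616 D1649) (tt N1227 F6749))
theorem Q1423 : ∀ i, i < 1423 → P i := stepQ 1422 Q1422 (allL N1422 (tt N1422 F6750) (tt N1612 (iv F7520)) (tt N1589 (iv F7436)) (tt N1422 F6751) (tt N1615 (iv F7532)) (tt N1218 F6752) (tt N1616 (iv F7536)) (tt N1217 (iv D1461)) (tt N1617 D1650))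
theorem Q1424 : ∀ i, i < 1424 → P i := stepQ 1423 Q1423 (allL N1423 (tt N1423 F6753) (tt N1613 (iv F7523)) (tt N1590 (iv F7439)) (tt N1423 F6754) (tt N1551 (iv F7259)) (tt N1617 (iv F7539)) (tt N1423 F6755) (tt N1229 F6756) (tt N1218 (iv D1462)))
theorem Q1425 : ∀ i, i < 1425 → P i := stepQ 1424 Q1424 (allL N1424 (tt N1222 F6757) (tt N1618 D1651) (tt N1220 (iv D1463)) (tt N1299 F6758) (tt N1552 (iv F7264)) (tt N1619 D1652) (tt N1424 F6759) (tt N1620 D1653) (tt N1605 (iv F7497)))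
theorem Q1426 : ∀ i, i < 1426 → P i := stepQ 1425 Q1425 (allL N1425 (tt N1223 F6760) (tt N1425 F6761) (tt N1619 (iv F7545)) (tt N1221 F6762) (tt N1621 D1654) (tt N1220 (iv D1464)) (tt N1622 D1655) (tt N1623 D1656) (tt N1606 (iv F7501)))
theorem Q1427 : ∀ i, i < 1427 → P i := stepQ 1426 Q1426 (allL N1426 (tt N1224 F6763) (tt N1426 F6764) (tt N1620 (iv F7548)) (tt N1254 F6765) (tt N1554 (iv F7272)) (tt N1623 (iv F7561)) (tt N1426 F6766) (tt N1220 (iv D1465)) (tt N1624 D1657))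
theorem Q1428 : ∀ i, i < 1428 → P i := stepQ 1427 Q1427 (allL N1427 (tt N1225 F6767) (tt N1427 F6768) (tt N1301 F6769) (tt N1622 (iv F7555)) (tt N1243 F6770) (tt N1427 F6771) (tt N1221 (iv D1466)) (tt N1255 F6772) (tt N1311 F6773))
theorem Q1429 : ∀ i, i < 1429 → P i := stepQ 1428 Q1428 (allL N1428 (tt N1619 (iv F7544)) (tt N1595 (iv F7461)) (tt N1223 F6774) (tt N1302 F6775) (tt N1625 D1658) (tt N1222 (iv D1467)) (tt N1626 D1659) (tt N1627 D1660) (tt N1608 (iv F7509)))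
theorem Q1430 : ∀ i, i < 1430 → P i := stepQ 1429 Q1429 (allL N1429 (tt N1620 (iv F7547)) (tt N1596 (iv F7464)) (tt N1224 F6776) (tt N1628 D1661) (tt N1557 (iv F7284)) (tt N1627 (iv F7571)) (tt N1429 F6777) (tt N1222 (iv D1468)) (tt N1629 D1662))
theorem Q1431 : ∀ i, i < 1431 → P i := stepQ 1430 Q1430 (allL N1430 (tt N1621 (iv F7550)) (tt N1226 F6778) (tt N1625 (iv F7566)) (tt N1246 F6779) (tt N1223 (iv D1469)) (tt N1558 (iv F7288)) (tt N1630 D1663) (tt N1631 D1664) (tt N1610 (iv F7514)))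
theorem Q1432 : ∀ i, i < 1432 → P i := stepQ 1431 Q1431 (allL N1431 (tt N1622 (iv F7553)) (tt N1227 F6780) (tt N1626 (iv F7567)) (tt N1225 F6781) (tt N1630 (iv F7579)) (tt N1431 F6782) (tt N1223 (iv D1470)) (tt N1632 D1665) (tt N1611 (iv F7519)))
theorem Q1433 : ∀ i, i < 1433 → P i := stepQ 1432 Q1432 (allL N1432 (tt N1623 (iv F7558)) (tt N1228 F6783) (tt N1627 (iv F7570)) (tt N1260 F6784) (tt N1631 (iv F7581)) (tt N1224 F6785) (tt N1632 (iv F7585)) (tt N1223 (iv D1471)) (tt N1633 D1666))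
theorem Q1434 : ∀ i, i < 1434 → P i := stepQ 1433 Q1433 (allL N1433 (tt N1624 (iv F7562)) (tt N1229 F6786) (tt N1629 (iv F7575)) (tt N1261 F6787) (tt N1561 (iv F7298)) (tt N1633 (iv F7588)) (tt N1433 F6788) (tt N1613 (iv F7526)) (tt N1224 (iv D1472)))
theorem Q1435 : ∀ i, i < 1435 → P i := stepQ 1434 Q1434 (allL N1434 (tt N1434 F6789) (tt N1630 (iv F7577)) (tt N1601 (iv F7479)) (tt N1250 F6790) (tt N1227 F6791) (tt N1634 D1667) (tt N1226 (iv D1473)) (tt N1635 D1668) (tt N1614 (iv F7530)))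
theorem Q1436 : ∀ i, i < 1436 → P i := stepQ 1435 Q1435 (allL N1435 (tt N1435 F6792) (tt N1631 (iv F7580)) (tt N1602 (iv F7483)) (tt N1636 D1669) (tt N1228 F6793) (tt N1563 (iv F7306)) (tt N1635 (iv F7594)) (tt N1226 (iv D1474)) (tt N1637 D1670))
theorem Q1437 : ∀ i, i < 1437 → P i := stepQ 1436 Q1436 (allL N1436 (tt N1436 F6794) (tt N1632 (iv F7582)) (tt N1603 (iv F7486)) (tt N1264 F6795) (tt N1635 (iv F7593)) (tt N1436 F6796) (tt N1228 F6797) (tt N1227 (iv D1475)) (tt N1638 D1671))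
theorem Q1438 : ∀ i, i < 1438 → P i := stepQ 1437 Q1437 (allL N1437 (tt N1437 F6798) (tt N1633 (iv F7586)) (tt N1604 (iv F7491)) (tt N1265 F6799) (tt N1637 (iv F7599)) (tt N1229 F6800) (tt N1638 (iv F7603)) (tt N1617 (iv F7540)) (tt N1228 (iv D1476)))
theorem Q1439 : ∀ i, i < 1439 → P i := stepQ 1438 Q1438 (allL N1438 (tt N1233 F6801) (tt N1438 F6802) (tt N1247 F6803) (tt N1231 F6804) (tt N1639 D1672) (tt N1230 (iv D1477)) (tt N1244 F6805) (tt N1567 (iv F7326)) (tt N1241 F6806))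
theorem Q1440 : ∀ i, i < 1440 → P i := stepQ 1439 Q1439 (allL N1439 (tt N1247 F6807) (tt N1439 F6808) (tt N1233 F6809) (tt N1243 F6810) (tt N1640 D1673) (tt N1232 (iv D1478)) (tt N1241 F6811) (tt N1566 (iv F7319)) (tt N1244 F6812))
theorem Q1441 : ∀ i, i < 1441 → P i := stepQ 1440 Q1440 (allL N1440 (tt N1639 (iv F7604)) (tt N1236 F6813) (tt N1640 (iv F7611)) (tt N1610 (iv F7513)) (tt N1233 (iv D1479)) (tt N1568 (iv F7329)) (tt N1641 D1674) (tt N1642 D1675) (tt N1246 F6814))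
theorem Q1442 : ∀ i, i < 1442 → P i := stepQ 1441 Q1441 (allL N1441 (tt N1244 F6815) (tt N1237 F6816) (tt N1241 F6817) (tt N1235 F6818) (tt N1641 (iv F7617)) (tt N1240 F6819) (tt N1233 (iv D1480)) (tt N1576 (iv F7372)) (tt N1247 F6820))
theorem Q1443 : ∀ i, i < 1443 → P i := stepQ 1442 Q1442 (allL N1442 (tt N1567 (iv F7321)) (tt N1238 F6821) (tt N1566 (iv F7316)) (tt N1442 F6822) (tt N1642 (iv F7620)) (tt N1234 F6823) (tt N1576 (iv F7371)) (tt N1233 (iv D1481)) (tt N1569 (iv F7339)))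
theorem Q1444 : ∀ i, i < 1444 → P i := stepQ 1443 Q1443 (allL N1443 (tt N1443 F6824) (tt N1641 (iv F7615)) (tt N1443 F6825) (tt N1614 (iv F7528)) (tt N1237 F6826) (tt N1578 (iv F7382)) (tt N1236 (iv D1482)) (tt N1577 F7378) (tt N1250 F6827))
theorem Q1445 : ∀ i, i < 1445 → P i := stepQ 1444 Q1444 (allL N1444 (tt N1444 F6828) (tt N1642 (iv F7619)) (tt N1444 F6829) (tt N1634 (iv F7590)) (tt N1238 F6830) (tt N1250 F6831) (tt N1577 (iv F7376)) (tt N1236 (iv D1483)) (tt N1578 (iv F7384)))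
theorem Q1446 : ∀ i, i < 1446 → P i := stepQ 1445 Q1445 (allL N1445 (tt N1246 F6832) (tt N1445 F6833) (tt N1641 (iv F7616)) (tt N1621 (iv F7552)) (tt N1241 (iv D1484)) (tt N1570 (iv F7342)) (tt N1640 (iv F7612)) (tt N1643 D1676) (tt N1639 (iv F7608)))
theorem Q1447 : ∀ i, i < 1447 → P i := stepQ 1446 Q1446 (allL N1446 (tt N1248 F6834) (tt N1446 F6835) (tt N1576 (iv F7368)) (tt N1268 F6836) (tt N1643 (iv F7624)) (tt N1242 F6837) (tt N1566 (iv F7318)) (tt N1241 (iv D1485)) (tt N1571 (iv F7348)))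
theorem Q1448 : ∀ i, i < 1448 → P i := stepQ 1447 Q1447 (allL N1447 (tt N1641 (iv F7614)) (tt N1447 F6838) (tt N1246 F6839) (tt N1644 D1677) (tt N1244 (iv D1486)) (tt N1573 (iv F7359)) (tt N1639 (iv F7607)) (tt N1645 D1678) (tt N1640 (iv F7613)))
theorem Q1449 : ∀ i, i < 1449 → P i := stepQ 1448 Q1448 (allL N1448 (tt N1576 (iv F7366)) (tt N1448 F6840) (tt N1248 F6841) (tt N1448 F6842) (tt N1645 (iv F7629)) (tt N1245 F6843) (tt N1567 (iv F7325)) (tt N1244 (iv D1487)) (tt N1572 (iv F7356)))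
theorem Q1450 : ∀ i, i < 1450 → P i := stepQ 1449 Q1449 (allL N1449 (tt N1640 (iv F7609)) (tt N1250 F6844) (tt N1639 (iv F7606)) (tt N1630 (iv F7578)) (tt N1247 F6845) (tt N1642 (iv F7621)) (tt N1246 (iv D1488)) (tt N1568 (iv F7331)) (tt N1641 (iv F7618)))
theorem Q1451 : ∀ i, i < 1451 → P i := stepQ 1450 Q1450 (allL N1450 (tt N1643 (iv F7622)) (tt N1251 F6846) (tt N1645 (iv F7628)) (tt N1646 D1679) (tt N1248 F6847) (tt N1575 (iv F7365)) (tt N1568 (iv F7330)) (tt N1246 (iv D1489)) (tt N1574 (iv F7362)))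
theorem Q1452 : ∀ i, i < 1452 → P i := stepQ 1451 Q1451 (allL N1451 (tt N1451 F6848) (tt N1646 (iv F7630)) (tt N1647 D1680) (tt N1251 (iv D1490)) (tt N1272 F6849) (tt N1579 (iv F7387)) (tt N1549 (iv F7252)) (tt N1636 (iv F7597)) (tt N1562 (iv F7303)))
theorem Q1453 : ∀ i, i < 1453 → P i := stepQ 1452 Q1452 (allL N1452 (tt N1256 F6850) (tt N1580 (iv F7389)) (tt N1253 F6851) (tt N1312 F6852) (tt N1648 D1681) (tt N1252 (iv D1491)) (tt N1649 D1682) (tt N1650 D1683) (tt N1452 F6853))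
theorem Q1454 : ∀ i, i < 1454 → P i := stepQ 1453 Q1453 (allL N1453 (tt N1257 F6854) (tt N1581 (iv F7394)) (tt N1254 F6855) (tt N1585 (iv F7417)) (tt N1453 F6856) (tt N1650 (iv F7647)) (tt N1453 F6857) (tt N1252 (iv D1492)) (tt N1651 D1684))
theorem Q1455 : ∀ i, i < 1455 → P i := stepQ 1454 Q1454 (allL N1454 (tt N1258 F6858) (tt N1454 F6859) (tt N1648 (iv F7636)) (tt N1266 F6860) (tt N1253 (iv D1493)) (tt N1454 F6861) (tt N1652 D1685) (tt N1653 D1686) (tt N1454 F6862))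
theorem Q1456 : ∀ i, i < 1456 → P i := stepQ 1455 Q1455 (allL N1455 (tt N1259 F6863) (tt N1455 F6864) (tt N1649 (iv F7641)) (tt N1255 F6865) (tt N1652 (iv F7656)) (tt N1455 F6866) (tt N1253 (iv D1494)) (tt N1654 D1687) (tt N1455 F6867))
theorem Q1457 : ∀ i, i < 1457 → P i := stepQ 1456 Q1456 (allL N1456 (tt N1260 F6868) (tt N1456 F6869) (tt N1650 (iv F7646)) (tt N1623 (iv F7560)) (tt N1653 (iv F7660)) (tt N1254 F6870) (tt N1654 (iv F7665)) (tt N1253 (iv D1495)) (tt N1655 D1688))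
theorem Q1458 : ∀ i, i < 1458 → P i := stepQ 1457 Q1457 (allL N1457 (tt N1261 F6871) (tt N1457 F6872) (tt N1651 (iv F7649)) (tt N1624 (iv F7564)) (tt N1457 F6873) (tt N1655 (iv F7668)) (tt N1457 F6874) (tt N1457 F6875) (tt N1254 (iv D1496)))
theorem Q1459 : ∀ i, i < 1459 → P i := stepQ 1458 Q1458 (allL N1458 (tt N1648 (iv F7635)) (tt N1458 F6876) (tt N1258 F6877) (tt N1458 F6878) (tt N1256 (iv D1497)) (tt N1458 F6879) (tt N1656 D1689) (tt N1657 D1690) (tt N1458 F6880))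
theorem Q1460 : ∀ i, i < 1460 → P i := stepQ 1459 Q1459 (allL N1459 (tt N1649 (iv F7640)) (tt N1459 F6881) (tt N1259 F6882) (tt N1314 F6883) (tt N1656 (iv F7673)) (tt N1459 F6884) (tt N1256 (iv D1498)) (tt N1658 D1691) (tt N1459 F6885))
theorem Q1461 : ∀ i, i < 1461 → P i := stepQ 1460 Q1460 (allL N1460 (tt N1650 (iv F7645)) (tt N1460 F6886) (tt N1260 F6887) (tt N1659 D1692) (tt N1657 (iv F7677)) (tt N1257 F6888) (tt N1658 (iv F7682)) (tt N1256 (iv D1499)) (tt N1660 D1693))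
theorem Q1462 : ∀ i, i < 1462 → P i := stepQ 1461 Q1461 (allL N1461 (tt N1585 (iv F7415)) (tt N1461 F6889) (tt N1628 (iv F7572)) (tt N1257 (iv D1500)) (tt N1661 D1694) (tt N1659 (iv F7684)) (tt N1461 F6890) (tt N1316 F6891) (tt N1662 D1695))
theorem Q1463 : ∀ i, i < 1463 → P i := stepQ 1462 Q1462 (allL N1462 (tt N1651 (iv F7648)) (tt N1462 F6892) (tt N1261 F6893) (tt N1662 (iv F7695)) (tt N1462 F6894) (tt N1660 (iv F7688)) (tt N1462 F6895) (tt N1462 F6896) (tt N1257 (iv D1501)))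
theorem Q1464 : ∀ i, i < 1464 → P i := stepQ 1463 Q1463 (allL N1463 (tt N1652 (iv F7653)) (tt N1262 F6897) (tt N1656 (iv F7671)) (tt N1270 F6898) (tt N1259 F6899) (tt N1542 (iv F7217)) (tt N1258 (iv D1502)) (tt N1663 D1696) (tt N1463 F6900))
theorem Q1465 : ∀ i, i < 1465 → P i := stepQ 1464 Q1464 (allL N1464 (tt N1653 (iv F7658)) (tt N1263 F6901) (tt N1657 (iv F7676)) (tt N1664 D1697) (tt N1260 F6902) (tt N1464 F6903) (tt N1663 (iv F7699)) (tt N1258 (iv D1503)) (tt N1665 D1698))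
theorem Q1466 : ∀ i, i < 1466 → P i := stepQ 1465 Q1465 (allL N1465 (tt N1654 (iv F7662)) (tt N1264 F6904) (tt N1658 (iv F7680)) (tt N1632 (iv F7583)) (tt N1663 (iv F7698)) (tt N1465 F6905) (tt N1260 F6906) (tt N1259 (iv D1504)) (tt N1666 D1699))
theorem Q1467 : ∀ i, i < 1467 → P i := stepQ 1466 Q1466 (allL N1466 (tt N1655 (iv F7666)) (tt N1265 F6907) (tt N1660 (iv F7687)) (tt N1633 (iv F7587)) (tt N1665 (iv F7704)) (tt N1261 F6908) (tt N1666 (iv F7709)) (tt N1466 F6909) (tt N1260 (iv D1505)))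
theorem Q1468 : ∀ i, i < 1468 → P i := stepQ 1467 Q1467 (allL N1467 (tt N1467 F6910) (tt N1663 (iv F7697)) (tt N1467 F6911) (tt N1550 (iv F7255)) (tt N1264 F6912) (tt N1543 (iv F7224)) (tt N1263 F6913) (tt N1262 (iv D1506)) (tt N1667 D1700))
theorem Q1469 : ∀ i, i < 1469 → P i := stepQ 1468 Q1468 (allL N1468 (tt N1468 F6914) (tt N1664 (iv F7700)) (tt N1668 D1701) (tt N1263 (iv D1507)) (tt N1636 (iv F7596)) (tt N1468 F6915) (tt N1550 (iv F7257)) (tt N1272 F6916) (tt N1669 D1702))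
theorem Q1470 : ∀ i, i < 1470 → P i := stepQ 1469 Q1469 (allL N1469 (tt N1469 F6917) (tt N1665 (iv F7703)) (tt N1469 F6918) (tt N1669 (iv F7721)) (tt N1265 F6919) (tt N1469 F6920) (tt N1667 (iv F7714)) (tt N1469 F6921) (tt N1263 (iv D1508)))
theorem Q1471 : ∀ i, i < 1471 → P i := stepQ 1470 Q1470 (allL N1470 (tt N1470 F6922) (tt N1666 (iv F7707)) (tt N1470 F6923) (tt N1638 (iv F7601)) (tt N1667 (iv F7713)) (tt N1470 F6924) (tt N1265 F6925) (tt N1470 F6926) (tt N1264 (iv D1509)))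
theorem Q1472 : ∀ i, i < 1472 → P i := stepQ 1471 Q1471 (allL N1471 (tt N1270 F6927) (tt N1471 F6928) (tt N1471 F6929) (tt N1652 (iv F7655)) (tt N1267 F6930) (tt N1541 (iv F7211)) (tt N1266 (iv D1510)) (tt N1545 (iv F7235)) (tt N1471 F6931))
theorem Q1473 : ∀ i, i < 1473 → P i := stepQ 1472 Q1472 (allL N1472 (tt N1271 F6932) (tt N1472 F6933) (tt N1472 F6934) (tt N1670 D1703) (tt N1268 F6935) (tt N1472 F6936) (tt N1545 F7237) (tt N1266 (iv D1511)) (tt N1555 (iv F7280)))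
theorem Q1474 : ∀ i, i < 1474 → P i := stepQ 1473 Q1473 (allL N1473 (tt N1670 (iv F7723)) (tt N1272 F6937) (tt N1671 D1704) (tt N1271 (iv D1512)) (tt N1646 (iv F7631)) (tt N1473 F6938) (tt N1547 F7245) (tt N1664 (iv F7702)) (tt N1559 (iv F7292)))
theorem Q1475 : ∀ i, i < 1475 → P i := stepQ 1474 Q1474 (allL N1474 (tt N1474 F6939) (tt N1672 D1705) (tt N1272 (iv D1513)) (tt N1273 F6940) (tt N1647 (iv F7634)) (tt N1474 F6941) (tt N1529 F7162) (tt N1668 (iv F7719)) (tt N1538 (iv F7200)))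
theorem Q1476 : ∀ i, i < 1476 → P i := stepQ 1475 Q1475 (allL N1475 (tt N1673 D1706) (tt N1273 (iv D1514)) (tt N1475 F6942) (tt N1672 (iv F7728)) (tt N1475 F6943) (tt N1475 F6944) (tt N1528 F7157) (tt N1475 F6945) (tt N1536 (iv F7191)))
theorem Q1477 : ∀ i, i < 1477 → P i := stepQ 1476 Q1476 (allL N1476 (tt N1303 F6946) (tt N1291 F6947) (tt N1275 (iv D1515)) (tt N1583 (iv F7408)) (tt N1476 F6948) (tt N1674 D1707) (tt N1476 F6949) (tt N1299 F6950) (tt N1281 F6951))
theorem Q1478 : ∀ i, i < 1478 → P i := stepQ 1477 Q1477 (allL N1477 (tt N1306 F6952) (tt N1277 F6953) (tt N1674 (iv F7738)) (tt N1276 F6954) (tt N1675 D1708) (tt N1275 (iv D1516)) (tt N1676 D1709) (tt N1300 F6955) (tt N1282 F6956))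
theorem Q1479 : ∀ i, i < 1479 → P i := stepQ 1478 Q1478 (allL N1478 (tt N1317 F6957) (tt N1278 F6958) (tt N1586 (iv F7421)) (tt N1676 (iv F7750)) (tt N1478 F6959) (tt N1478 F6960) (tt N1276 (iv D1517)) (tt N1313 F6961) (tt N1284 F6962))
theorem Q1480 : ∀ i, i < 1480 → P i := stepQ 1479 Q1479 (allL N1479 (tt N1515 F6963) (tt N1675 (iv F7742)) (tt N1295 F6964) (tt N1479 F6965) (tt N1277 (iv D1518)) (tt N1479 F6966) (tt N1297 (iv F6969)) (tt N1296 F6967) (tt N1285 F6968))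
theorem Q1481 : ∀ i, i < 1481 → P i := stepQ 1480 Q1480 (allL N1480 (tt N1516 F6970) (tt N1676 (iv F7749)) (tt N1296 F6971) (tt N1278 F6972) (tt N1297 F6973) (tt N1480 F6974) (tt N1277 (iv D1519)) (tt N1295 F6975) (tt N1286 F6976))
theorem Q1482 : ∀ i, i < 1482 → P i := stepQ 1481 Q1481 (allL N1481 (tt N1281 F6977) (tt N1677 D1710) (tt N1279 (iv D1520)) (tt N1591 (iv F7443)) (tt N1481 F6978) (tt N1678 D1711) (tt N1481 F6979) (tt N1679 D1712) (tt N1303 F6980))
theorem Q1483 : ∀ i, i < 1483 → P i := stepQ 1482 Q1482 (allL N1482 (tt N1282 F6981) (tt N1310 F6982) (tt N1678 (iv F7762)) (tt N1280 F6983) (tt N1680 D1713) (tt N1279 (iv D1521)) (tt N1681 D1714) (tt N1682 D1715) (tt N1306 F6984))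
theorem Q1484 : ∀ i, i < 1484 → P i := stepQ 1483 Q1483 (allL N1483 (tt N1283 F6985) (tt N1298 F6986) (tt N1679 (iv F7766)) (tt N1483 F6987) (tt N1483 F6988) (tt N1682 (iv F7788)) (tt N1483 F6989) (tt N1279 (iv D1522)) (tt N1293 F6990))
theorem Q1485 : ∀ i, i < 1485 → P i := stepQ 1484 Q1484 (allL N1484 (tt N1284 F6991) (tt N1318 F6992) (tt N1594 (iv F7456)) (tt N1681 (iv F7779)) (tt N1484 F6993) (tt N1484 F6994) (tt N1280 (iv D1523)) (tt N1484 F6995) (tt N1317 F6996))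
theorem Q1486 : ∀ i, i < 1486 → P i := stepQ 1485 Q1485 (allL N1485 (tt N1678 (iv F7761)) (tt N1302 F6997) (tt N1282 F6998) (tt N1595 (iv F7463)) (tt N1683 D1716) (tt N1281 (iv D1524)) (tt N1684 D1717) (tt N1685 D1718) (tt N1674 (iv F7740)))
theorem Q1487 : ∀ i, i < 1487 → P i := stepQ 1486 Q1486 (allL N1486 (tt N1679 (iv F7764)) (tt N1303 F6999) (tt N1283 F7000) (tt N1686 D1719) (tt N1486 F7001) (tt N1685 (iv F7799)) (tt N1486 F7002) (tt N1281 (iv D1525)) (tt N1677 (iv F7759)))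
theorem Q1488 : ∀ i, i < 1488 → P i := stepQ 1487 Q1487 (allL N1487 (tt N1680 (iv F7770)) (tt N1285 F7003) (tt N1683 (iv F7792)) (tt N1487 F7004) (tt N1282 (iv D1526)) (tt N1487 F7005) (tt N1682 (iv F7789)) (tt N1681 F7783) (tt N1675 (iv F7746)))
theorem Q1489 : ∀ i, i < 1489 → P i := stepQ 1488 Q1488 (allL N1488 (tt N1681 (iv F7777)) (tt N1286 F7006) (tt N1684 (iv F7795)) (tt N1284 F7007) (tt N1682 (iv F7787)) (tt N1488 F7008) (tt N1282 (iv D1527)) (tt N1680 F7775) (tt N1676 (iv F7754)))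
theorem Q1490 : ∀ i, i < 1490 → P i := stepQ 1489 Q1489 (allL N1489 (tt N1682 (iv F7784)) (tt N1287 F7009) (tt N1685 (iv F7798)) (tt N1489 F7010) (tt N1681 (iv F7780)) (tt N1283 F7011) (tt N1680 (iv F7776)) (tt N1282 (iv D1528)) (tt N1687 D1720))
theorem Q1491 : ∀ i, i < 1491 → P i := stepQ 1490 Q1490 (allL N1490 (tt N1293 F7012) (tt N1288 F7013) (tt N1677 (iv F7756)) (tt N1490 F7014) (tt N1490 F7015) (tt N1687 (iv F7807)) (tt N1490 F7016) (tt N1289 F7017) (tt N1283 (iv D1529)))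
theorem Q1492 : ∀ i, i < 1492 → P i := stepQ 1491 Q1491 (allL N1491 (tt N1520 F7018) (tt N1682 (iv F7785)) (tt N1307 F7019) (tt N1491 F7020) (tt N1286 F7021) (tt N1298 (iv F7023)) (tt N1285 (iv D1530)) (tt N1310 (iv F7024)) (tt N1297 F7022))
theorem Q1493 : ∀ i, i < 1493 → P i := stepQ 1492 Q1492 (allL N1492 (tt N1519 F7025) (tt N1681 (iv F7778)) (tt N1308 F7026) (tt N1318 (iv F7031)) (tt N1287 F7027) (tt N1492 F7028) (tt N1310 F7029) (tt N1285 (iv D1531)) (tt N1309 F7030))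
theorem Q1494 : ∀ i, i < 1494 → P i := stepQ 1493 Q1493 (allL N1493 (tt N1518 F7032) (tt N1680 (iv F7771)) (tt N1309 F7033) (tt N1493 F7034) (tt N1310 F7035) (tt N1493 F7036) (tt N1287 F7037) (tt N1286 (iv D1532)) (tt N1308 F7038))
theorem Q1495 : ∀ i, i < 1495 → P i := stepQ 1494 Q1494 (allL N1494 (tt N1517 F7039) (tt N1687 (iv F7804)) (tt N1310 F7040) (tt N1494 F7041) (tt N1309 F7042) (tt N1288 F7043) (tt N1308 F7044) (tt N1307 F7045) (tt N1287 (iv D1533)))
theorem Q1496 : ∀ i, i < 1496 → P i := stepQ 1495 Q1495 (allL N1495 (tt N1291 F7046) (tt N1679 (iv F7765)) (tt N1289 (iv D1534)) (tt N1605 (iv F7495)) (tt N1495 F7047) (tt N1688 D1721) (tt N1495 F7048) (tt N1677 F7760) (tt N1299 F7049))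
theorem Q1497 : ∀ i, i < 1497 → P i := stepQ 1496 Q1496 (allL N1496 (tt N1292 F7050) (tt N1307 F7051) (tt N1688 (iv F7811)) (tt N1290 F7052) (tt N1305 F7054) (tt N1289 (iv D1535)) (tt N1304 (iv F7055)) (tt N1687 (iv F7809)) (tt N1300 F7053))
theorem Q1498 : ∀ i, i < 1498 → P i := stepQ 1497 Q1497 (allL N1497 (tt N1688 (iv F7810)) (tt N1674 (iv F7737)) (tt N1292 F7056) (tt N1608 (iv F7508)) (tt N1689 D1722) (tt N1291 (iv D1536)) (tt N1690 D1723) (tt N1691 D1724) (tt N1302 F7057))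
theorem Q1499 : ∀ i, i < 1499 → P i := stepQ 1498 Q1498 (allL N1498 (tt N1677 (iv F7755)) (tt N1299 F7058) (tt N1293 F7059) (tt N1618 (iv F7542)) (tt N1498 F7060) (tt N1691 (iv F7827)) (tt N1498 F7061) (tt N1291 (iv D1537)) (tt N1679 (iv F7769)))
theorem Q1500 : ∀ i, i < 1500 → P i := stepQ 1499 Q1499 (allL N1499 (tt N1305 F7062) (tt N1295 F7063) (tt N1689 (iv F7816)) (tt N1301 F7064) (tt N1292 (iv D1538)) (tt N1499 F7065) (tt N1300 (iv F7067)) (tt N1676 (iv F7753)) (tt N1304 F7066))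
theorem Q1501 : ∀ i, i < 1501 → P i := stepQ 1500 Q1500 (allL N1500 (tt N1304 F7068) (tt N1296 F7069) (tt N1690 (iv F7821)) (tt N1294 F7070) (tt N1300 F7071) (tt N1500 F7072) (tt N1292 (iv D1539)) (tt N1675 (iv F7745)) (tt N1305 F7073))
theorem Q1502 : ∀ i, i < 1502 → P i := stepQ 1501 Q1501 (allL N1501 (tt N1687 (iv F7803)) (tt N1297 F7074) (tt N1691 (iv F7826)) (tt N1501 F7075) (tt N1676 (iv F7751)) (tt N1293 F7076) (tt N1675 F7747) (tt N1292 (iv D1540)) (tt N1682 (iv F7790)))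
theorem Q1503 : ∀ i, i < 1503 → P i := stepQ 1502 Q1502 (allL N1502 (tt N1302 F7077) (tt N1691 (iv F7825)) (tt N1300 F7078) (tt N1619 (iv F7546)) (tt N1690 (iv F7822)) (tt N1299 (iv D1541)) (tt N1689 F7819) (tt N1674 (iv F7739)) (tt N1688 (iv F7812)))
theorem Q1504 : ∀ i, i < 1504 → P i := stepQ 1503 Q1503 (allL N1503 (tt N1690 (iv F7820)) (tt N1683 (iv F7791)) (tt N1304 F7079) (tt N1692 D1725) (tt N1302 (iv D1542)) (tt N1503 F7080) (tt N1688 F7814) (tt N1693 D1726) (tt N1689 (iv F7818)))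
theorem Q1505 : ∀ i, i < 1505 → P i := stepQ 1504 Q1504 (allL N1504 (tt N1689 (iv F7815)) (tt N1684 (iv F7794)) (tt N1305 F7081) (tt N1626 (iv F7568)) (tt N1688 F7813) (tt N1504 F7082) (tt N1302 (iv D1543)) (tt N1694 D1727) (tt N1690 (iv F7824)))
theorem Q1506 : ∀ i, i < 1506 → P i := stepQ 1505 Q1505 (allL N1505 (tt N1674 (iv F7736)) (tt N1685 (iv F7797)) (tt N1306 F7083) (tt N1695 D1728) (tt N1693 (iv F7831)) (tt N1303 F7084) (tt N1694 (iv F7835)) (tt N1302 (iv D1544)) (tt N1678 (iv F7763)))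
theorem Q1507 : ∀ i, i < 1507 → P i := stepQ 1506 Q1506 (allL N1506 (tt N1583 (iv F7406)) (tt N1686 (iv F7800)) (tt N1316 F7085) (tt N1303 (iv D1545)) (tt N1696 D1729) (tt N1695 (iv F7837)) (tt N1506 F7086) (tt N1628 (iv F7574)) (tt N1591 (iv F7445)))
theorem Q1508 : ∀ i, i < 1508 → P i := stepQ 1507 Q1507 (allL N1507 (tt N1675 (iv F7741)) (tt N1308 F7087) (tt N1693 (iv F7830)) (tt N1507 F7088) (tt N1306 F7089) (tt N1507 F7090) (tt N1687 (iv F7808)) (tt N1304 (iv D1546)) (tt N1680 (iv F7774)))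
theorem Q1509 : ∀ i, i < 1509 → P i := stepQ 1508 Q1508 (allL N1508 (tt N1676 (iv F7748)) (tt N1309 F7091) (tt N1694 (iv F7833)) (tt N1317 F7092) (tt N1687 (iv F7806)) (tt N1508 F7093) (tt N1306 F7094) (tt N1305 (iv D1547)) (tt N1681 (iv F7782)))
theorem Q1510 : ∀ i, i < 1510 → P i := stepQ 1509 Q1509 (allL N1509 (tt N1611 (iv F7515)) (tt N1509 F7095) (tt N1692 (iv F7828)) (tt N1311 (iv D1548)) (tt N1644 (iv F7626)) (tt N1509 F7096) (tt N1606 F7502) (tt N1697 D1730) (tt N1622 (iv F7557)))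
theorem Q1511 : ∀ i, i < 1511 → P i := stepQ 1510 Q1510 (allL N1510 (tt N1314 F7097) (tt N1582 (iv F7400)) (tt N1313 F7098) (tt N1649 (iv F7642)) (tt N1510 F7099) (tt N1510 F7100) (tt N1312 (iv D1549)) (tt N1586 (iv F7424)) (tt N1510 F7101))
theorem Q1512 : ∀ i, i < 1512 → P i := stepQ 1511 Q1511 (allL N1511 (tt N1586 (iv F7419)) (tt N1511 F7102) (tt N1317 F7103) (tt N1698 D1731) (tt N1511 F7104) (tt N1511 F7105) (tt N1315 F7106) (tt N1314 (iv D1550)) (tt N1594 (iv F7460)))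
theorem Q1513 : ∀ i, i < 1513 → P i := stepQ 1512 Q1512 (allL N1512 (tt N1584 (iv F7411)) (tt N1512 F7107) (tt N1695 (iv F7836)) (tt N1315 (iv D1551)) (tt N1699 D1732) (tt N1316 F7108) (tt N1698 (iv F7846)) (tt N1659 (iv F7685)) (tt N1592 (iv F7449)))
theorem Q1514 : ∀ i, i < 1514 → P i := stepQ 1513 Q1513 (allL N1513 (tt N1527 (iv F7146)) (tt N1513 F7109) (tt N1696 (iv F7838)) (tt N1319 F7110) (tt N1316 (iv D1552)) (tt N1700 D1733) (tt N1513 F7111) (tt N1661 (iv F7693)) (tt N1531 (iv F7172)))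
theorem Q1515 : ∀ i, i < 1515 → P i := stepQ 1514 Q1514 (allL N1514 (tt N1528 (iv F7151)) (tt N1514 F7112) (tt N1514 F7113) (tt N1700 (iv F7850)) (tt N1514 F7114) (tt N1319 (iv D1553)) (tt N1673 (iv F7734)) (tt N1514 F7115) (tt N1532 (iv F7177)))
theorem Q1516 : ∀ i, i < 1516 → P i := stepQ 1515 Q1515 (allL N1515 (tt N1479 (iv F6963)) (tt N1342 F6347) (tt N1338 F6348) (tt N1515 F6349) (tt N1327 (iv D1378)) (tt N1515 F6350) (tt N1340 (iv F6353)) (tt N1339 F6351) (tt N1333 F6352))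
theorem Q1517 : ∀ i, i < 1517 → P i := stepQ 1516 Q1516 (allL N1516 (tt N1480 (iv F6970)) (tt N1343 F6354) (tt N1339 F6355) (tt N1328 F6356) (tt N1340 F6357) (tt N1516 F6358) (tt N1327 (iv D1379)) (tt N1338 F6359) (tt N1334 F6360))
theorem Q1518 : ∀ i, i < 1518 → P i := stepQ 1517 Q1517 (allL N1517 (tt N1494 (iv F7039)) (tt N1340 F6361) (tt N1330 F6362) (tt N1517 F6363) (tt N1343 F6366) (tt N1329 (iv D1380)) (tt N1342 (iv F6367)) (tt N1337 F6364) (tt N1335 F6365))
theorem Q1519 : ∀ i, i < 1519 → P i := stepQ 1518 Q1518 (allL N1518 (tt N1493 (iv F7032)) (tt N1333 F6368) (tt N1343 F6369) (tt N1518 F6370) (tt N1330 (iv D1381)) (tt N1518 F6371) (tt N1335 (iv F6373)) (tt N1334 (iv F6374)) (tt N1342 F6372))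
theorem Q1520 : ∀ i, i < 1520 → P i := stepQ 1519 Q1519 (allL N1519 (tt N1492 (iv F7025)) (tt N1334 F6375) (tt N1342 F6376) (tt N1332 F6377) (tt N1335 F6378) (tt N1519 F6379) (tt N1330 (iv D1382)) (tt N1333 (iv F6381)) (tt N1343 F6380))
theorem Q1521 : ∀ i, i < 1521 → P i := stepQ 1520 Q1520 (allL N1520 (tt N1491 (iv F7018)) (tt N1335 F6382) (tt N1337 F6383) (tt N1520 F6384) (tt N1334 F6385) (tt N1331 F6386) (tt N1333 F6387) (tt N1330 (iv D1383)) (tt N1340 F6388))
theorem Q1522 : ∀ i, i < 1522 → P i := stepQ 1521 Q1521 (allL N1521 (tt N1346 F7116) (tt N1521 F7117) (tt N1521 F7118) (tt N1701 D1734) (tt N1345 (iv D1554)) (tt N1702 D1735) (tt N1521 F7119) (tt N1353 F7120) (tt N1521 F7121))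
theorem Q1523 : ∀ i, i < 1523 → P i := stepQ 1522 Q1522 (allL N1522 (tt N1701 (iv F7851)) (tt N1347 F7122) (tt N1703 D1736) (tt N1346 (iv D1555)) (tt N1522 F7123) (tt N1704 D1737) (tt N1522 F7124) (tt N1705 D1738) (tt N1522 F7125))
theorem Q1524 : ∀ i, i < 1524 → P i := stepQ 1523 Q1523 (allL N1523 (tt N1702 (iv F7856)) (tt N1348 F7126) (tt N1523 F7127) (tt N1704 (iv F7868)) (tt N1523 F7128) (tt N1346 (iv D1556)) (tt N1706 D1739) (tt N1355 F7129) (tt N1523 F7130))
theorem Q1525 : ∀ i, i < 1525 → P i := stepQ 1524 Q1524 (allL N1524 (tt N1524 F7131) (tt N1704 (iv F7867)) (tt N1524 F7132) (tt N1348 F7133) (tt N1707 D1740) (tt N1347 (iv D1557)) (tt N1708 D1741) (tt N1709 D1742) (tt N1524 F7134))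
theorem Q1526 : ∀ i, i < 1526 → P i := stepQ 1525 Q1525 (allL N1525 (tt N1525 F7135) (tt N1705 (iv F7870)) (tt N1525 F7136) (tt N1357 F7137) (tt N1525 F7138) (tt N1709 (iv F7893)) (tt N1525 F7139) (tt N1347 (iv D1558)) (tt N1710 D1743))
theorem Q1527 : ∀ i, i < 1527 → P i := stepQ 1526 Q1526 (allL N1526 (tt N1526 F7140) (tt N1706 (iv F7874)) (tt N1349 F7141) (tt N1708 (iv F7887)) (tt N1526 F7142) (tt N1526 F7143) (tt N1348 (iv D1559)) (tt N1358 F7144) (tt N1526 F7145))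
theorem Q1528 : ∀ i, i < 1528 → P i := stepQ 1527 Q1527 (allL N1527 (tt N1513 F7146) (tt N1351 F7147) (tt N1711 D1744) (tt N1350 (iv D1560)) (tt N1399 F7148) (tt N1712 D1745) (tt N1527 F7149) (tt N1713 D1746) (tt N1354 F7150))
theorem Q1529 : ∀ i, i < 1529 → P i := stepQ 1528 Q1528 (allL N1528 (tt N1514 F7151) (tt N1352 F7152) (tt N1528 F7153) (tt N1712 (iv F7908)) (tt N1528 F7154) (tt N1350 (iv D1561)) (tt N1475 (iv F7157)) (tt N1528 F7155) (tt N1355 F7156))
theorem Q1530 : ∀ i, i < 1530 → P i := stepQ 1529 Q1529 (allL N1529 (tt N1529 F7158) (tt N1712 (iv F7907)) (tt N1365 F7159) (tt N1352 F7160) (tt N1714 D1747) (tt N1351 (iv D1562)) (tt N1474 (iv F7162)) (tt N1715 D1748) (tt N1356 F7161))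
theorem Q1531 : ∀ i, i < 1531 → P i := stepQ 1530 Q1530 (allL N1530 (tt N1530 F7163) (tt N1713 (iv F7912)) (tt N1366 F7164) (tt N1530 F7165) (tt N1402 F7166) (tt N1715 (iv F7925)) (tt N1530 F7167) (tt N1351 (iv D1563)) (tt N1716 D1749))
theorem Q1532 : ∀ i, i < 1532 → P i := stepQ 1531 Q1531 (allL N1531 (tt N1354 F7168) (tt N1531 F7169) (tt N1717 D1750) (tt N1353 (iv D1564)) (tt N1404 F7170) (tt N1718 D1751) (tt N1531 F7171) (tt N1719 D1752) (tt N1513 F7172))
theorem Q1533 : ∀ i, i < 1533 → P i := stepQ 1532 Q1532 (allL N1532 (tt N1355 F7173) (tt N1532 F7174) (tt N1532 F7175) (tt N1718 (iv F7940)) (tt N1532 F7176) (tt N1353 (iv D1565)) (tt N1720 D1753) (tt N1702 (iv F7860)) (tt N1514 F7177))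
theorem Q1534 : ∀ i, i < 1534 → P i := stepQ 1533 Q1533 (allL N1533 (tt N1717 (iv F7933)) (tt N1369 F7178) (tt N1354 (iv D1566)) (tt N1533 F7179) (tt N1406 F7180) (tt N1721 D1754) (tt N1533 F7181) (tt N1722 D1755) (tt N1711 (iv F7905)))
theorem Q1535 : ∀ i, i < 1535 → P i := stepQ 1534 Q1534 (allL N1534 (tt N1718 (iv F7938)) (tt N1356 F7182) (tt N1721 (iv F7953)) (tt N1355 F7183) (tt N1723 D1756) (tt N1354 (iv D1567)) (tt N1724 D1757) (tt N1725 D1758) (tt N1712 (iv F7909)))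
theorem Q1536 : ∀ i, i < 1536 → P i := stepQ 1535 Q1535 (allL N1535 (tt N1719 (iv F7942)) (tt N1357 F7184) (tt N1722 (iv F7956)) (tt N1705 (iv F7871)) (tt N1408 F7185) (tt N1725 (iv F7967)) (tt N1535 F7186) (tt N1354 (iv D1568)) (tt N1726 D1759))
theorem Q1537 : ∀ i, i < 1537 → P i := stepQ 1536 Q1536 (allL N1536 (tt N1720 (iv F7946)) (tt N1358 F7187) (tt N1536 F7188) (tt N1724 (iv F7963)) (tt N1536 F7189) (tt N1536 F7190) (tt N1355 (iv D1569)) (tt N1706 (iv F7878)) (tt N1475 F7191))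
theorem Q1538 : ∀ i, i < 1538 → P i := stepQ 1537 Q1537 (allL N1537 (tt N1537 F7192) (tt N1723 (iv F7959)) (tt N1373 F7193) (tt N1537 F7194) (tt N1356 (iv D1570)) (tt N1410 F7195) (tt N1727 D1760) (tt N1728 D1761) (tt N1714 (iv F7921)))
theorem Q1539 : ∀ i, i < 1539 → P i := stepQ 1538 Q1538 (allL N1538 (tt N1538 F7196) (tt N1724 (iv F7962)) (tt N1374 F7197) (tt N1358 F7198) (tt N1727 (iv F7974)) (tt N1538 F7199) (tt N1356 (iv D1571)) (tt N1729 D1762) (tt N1474 F7200))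
theorem Q1540 : ∀ i, i < 1540 → P i := stepQ 1539 Q1539 (allL N1539 (tt N1539 F7201) (tt N1725 (iv F7966)) (tt N1375 F7202) (tt N1709 (iv F7892)) (tt N1728 (iv F7978)) (tt N1357 F7203) (tt N1729 (iv F7983)) (tt N1356 (iv D1572)) (tt N1730 D1763))
theorem Q1541 : ∀ i, i < 1541 → P i := stepQ 1540 Q1540 (allL N1540 (tt N1540 F7204) (tt N1726 (iv F7968)) (tt N1376 F7205) (tt N1710 (iv F7896)) (tt N1413 F7206) (tt N1730 (iv F7986)) (tt N1540 F7207) (tt N1716 (iv F7932)) (tt N1357 (iv D1573)))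
theorem Q1542 : ∀ i, i < 1542 → P i := stepQ 1541 Q1541 (allL N1541 (tt N1360 F7208) (tt N1541 F7209) (tt N1541 F7210) (tt N1731 D1764) (tt N1359 (iv D1574)) (tt N1471 F7211) (tt N1541 F7212) (tt N1362 F7213) (tt N1541 F7214))
theorem Q1543 : ∀ i, i < 1543 → P i := stepQ 1542 Q1542 (allL N1542 (tt N1731 (iv F7987)) (tt N1361 F7215) (tt N1732 D1765) (tt N1360 (iv D1575)) (tt N1542 F7216) (tt N1463 F7217) (tt N1542 F7218) (tt N1733 D1766) (tt N1542 F7219))
theorem Q1544 : ∀ i, i < 1544 → P i := stepQ 1543 Q1543 (allL N1543 (tt N1543 F7220) (tt N1733 (iv F7999)) (tt N1543 F7221) (tt N1366 F7222) (tt N1543 F7223) (tt N1467 F7224) (tt N1543 F7225) (tt N1361 (iv D1576)) (tt N1734 D1767))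
theorem Q1545 : ∀ i, i < 1545 → P i := stepQ 1544 Q1544 (allL N1544 (tt N1363 F7226) (tt N1544 F7227) (tt N1735 D1768) (tt N1362 (iv D1577)) (tt N1414 F7228) (tt N1736 D1769) (tt N1544 F7229) (tt N1737 D1770) (tt N1367 F7230))
theorem Q1546 : ∀ i, i < 1546 → P i := stepQ 1545 Q1545 (allL N1545 (tt N1364 F7231) (tt N1545 F7232) (tt N1545 F7233) (tt N1736 (iv F8018)) (tt N1378 F7234) (tt N1362 (iv D1578)) (tt N1472 (iv F7237)) (tt N1471 F7235) (tt N1368 F7236))
theorem Q1547 : ∀ i, i < 1547 → P i := stepQ 1546 Q1546 (allL N1546 (tt N1735 (iv F8011)) (tt N1711 (iv F7901)) (tt N1363 (iv D1579)) (tt N1546 F7238) (tt N1416 F7239) (tt N1738 D1771) (tt N1546 F7240) (tt N1739 D1772) (tt N1369 F7241))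
theorem Q1548 : ∀ i, i < 1548 → P i := stepQ 1547 Q1547 (allL N1547 (tt N1736 (iv F8016)) (tt N1365 F7242) (tt N1738 (iv F8025)) (tt N1364 F7243) (tt N1740 D1773) (tt N1363 (iv D1580)) (tt N1473 (iv F7245)) (tt N1741 D1774) (tt N1370 F7244))
theorem Q1549 : ∀ i, i < 1549 → P i := stepQ 1548 Q1548 (allL N1548 (tt N1737 (iv F8021)) (tt N1366 F7246) (tt N1739 (iv F8029)) (tt N1733 (iv F8000)) (tt N1418 F7247) (tt N1741 (iv F8039)) (tt N1548 F7248) (tt N1363 (iv D1581)) (tt N1742 D1775))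
theorem Q1550 : ∀ i, i < 1550 → P i := stepQ 1549 Q1549 (allL N1549 (tt N1549 F7249) (tt N1740 (iv F8032)) (tt N1714 (iv F7917)) (tt N1381 F7250) (tt N1365 (iv D1582)) (tt N1420 F7251) (tt N1451 F7252) (tt N1743 D1776) (tt N1373 F7253))
theorem Q1551 : ∀ i, i < 1551 → P i := stepQ 1550 Q1550 (allL N1550 (tt N1550 F7254) (tt N1741 (iv F8037)) (tt N1715 (iv F7923)) (tt N1467 F7255) (tt N1743 (iv F8047)) (tt N1366 F7256) (tt N1468 F7257) (tt N1365 (iv D1583)) (tt N1744 D1777))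
theorem Q1552 : ∀ i, i < 1552 → P i := stepQ 1551 Q1551 (allL N1551 (tt N1551 F7258) (tt N1742 (iv F8041)) (tt N1716 (iv F7928)) (tt N1734 (iv F8006)) (tt N1423 F7259) (tt N1744 (iv F8052)) (tt N1551 F7260) (tt N1376 F7261) (tt N1366 (iv D1584)))
theorem Q1553 : ∀ i, i < 1553 → P i := stepQ 1552 Q1552 (allL N1552 (tt N1369 F7262) (tt N1745 D1778) (tt N1367 (iv D1585)) (tt N1552 F7263) (tt N1424 F7264) (tt N1746 D1779) (tt N1552 F7265) (tt N1747 D1780) (tt N1735 (iv F8015)))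
theorem Q1554 : ∀ i, i < 1554 → P i := stepQ 1553 Q1553 (allL N1553 (tt N1370 F7266) (tt N1553 F7267) (tt N1746 (iv F8060)) (tt N1368 F7268) (tt N1748 D1781) (tt N1367 (iv D1586)) (tt N1749 D1782) (tt N1750 D1783) (tt N1736 (iv F8019)))
theorem Q1555 : ∀ i, i < 1555 → P i := stepQ 1554 Q1554 (allL N1554 (tt N1371 F7269) (tt N1554 F7270) (tt N1747 (iv F8063)) (tt N1554 F7271) (tt N1426 F7272) (tt N1750 (iv F8078)) (tt N1554 F7273) (tt N1367 (iv D1587)) (tt N1751 D1784))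
theorem Q1556 : ∀ i, i < 1556 → P i := stepQ 1555 Q1555 (allL N1555 (tt N1372 F7274) (tt N1555 F7275) (tt N1555 F7276) (tt N1749 (iv F8072)) (tt N1385 F7277) (tt N1555 F7278) (tt N1368 (iv D1588)) (tt N1555 F7279) (tt N1472 F7280))
theorem Q1557 : ∀ i, i < 1557 → P i := stepQ 1556 Q1556 (allL N1556 (tt N1746 (iv F8059)) (tt N1721 (iv F7952)) (tt N1370 F7281) (tt N1556 F7282) (tt N1752 D1785) (tt N1369 (iv D1589)) (tt N1753 D1786) (tt N1754 D1787) (tt N1738 (iv F8027)))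
theorem Q1558 : ∀ i, i < 1558 → P i := stepQ 1557 Q1557 (allL N1557 (tt N1747 (iv F8062)) (tt N1722 (iv F7955)) (tt N1371 F7283) (tt N1755 D1788) (tt N1429 F7284) (tt N1754 (iv F8091)) (tt N1557 F7285) (tt N1369 (iv D1590)) (tt N1756 D1789))
theorem Q1559 : ∀ i, i < 1559 → P i := stepQ 1558 Q1558 (allL N1558 (tt N1748 (iv F8066)) (tt N1373 F7286) (tt N1752 (iv F8084)) (tt N1388 F7287) (tt N1370 (iv D1591)) (tt N1430 F7288) (tt N1757 D1790) (tt N1758 D1791) (tt N1740 (iv F8036)))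
theorem Q1560 : ∀ i, i < 1560 → P i := stepQ 1559 Q1559 (allL N1559 (tt N1749 (iv F8070)) (tt N1374 F7289) (tt N1753 (iv F8086)) (tt N1372 F7290) (tt N1757 (iv F8100)) (tt N1559 F7291) (tt N1370 (iv D1592)) (tt N1759 D1792) (tt N1473 F7292))
theorem Q1561 : ∀ i, i < 1561 → P i := stepQ 1560 Q1560 (allL N1560 (tt N1750 (iv F8075)) (tt N1375 F7293) (tt N1754 (iv F8090)) (tt N1560 F7294) (tt N1758 (iv F8103)) (tt N1371 F7295) (tt N1759 (iv F8108)) (tt N1370 (iv D1593)) (tt N1760 D1793))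
theorem Q1562 : ∀ i, i < 1562 → P i := stepQ 1561 Q1561 (allL N1561 (tt N1751 (iv F8079)) (tt N1376 F7296) (tt N1756 (iv F8095)) (tt N1561 F7297) (tt N1433 F7298) (tt N1760 (iv F8111)) (tt N1561 F7299) (tt N1742 (iv F8044)) (tt N1371 (iv D1594)))
theorem Q1563 : ∀ i, i < 1563 → P i := stepQ 1562 Q1562 (allL N1562 (tt N1562 F7300) (tt N1757 (iv F8098)) (tt N1727 (iv F7972)) (tt N1392 F7301) (tt N1374 F7302) (tt N1761 D1794) (tt N1373 (iv D1595)) (tt N1762 D1795) (tt N1451 F7303))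
theorem Q1564 : ∀ i, i < 1564 → P i := stepQ 1563 Q1563 (allL N1563 (tt N1563 F7304) (tt N1758 (iv F8102)) (tt N1728 (iv F7977)) (tt N1763 D1796) (tt N1375 F7305) (tt N1435 F7306) (tt N1762 (iv F8119)) (tt N1373 (iv D1596)) (tt N1764 D1797))
theorem Q1565 : ∀ i, i < 1565 → P i := stepQ 1564 Q1564 (allL N1564 (tt N1564 F7307) (tt N1759 (iv F8105)) (tt N1729 (iv F7981)) (tt N1564 F7308) (tt N1762 (iv F8118)) (tt N1564 F7309) (tt N1375 F7310) (tt N1374 (iv D1597)) (tt N1765 D1798))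
theorem Q1566 : ∀ i, i < 1566 → P i := stepQ 1565 Q1565 (allL N1565 (tt N1565 F7311) (tt N1760 (iv F8109)) (tt N1730 (iv F7985)) (tt N1565 F7312) (tt N1764 (iv F8125)) (tt N1376 F7313) (tt N1765 (iv F8130)) (tt N1744 (iv F8054)) (tt N1375 (iv D1598)))
theorem Q1567 : ∀ i, i < 1567 → P i := stepQ 1566 Q1566 (allL N1566 (tt N1380 F7314) (tt N1566 F7315) (tt N1442 F7316) (tt N1378 F7317) (tt N1766 D1799) (tt N1377 (iv D1599)) (tt N1446 F7318) (tt N1439 F7319) (tt N1383 F7320))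
theorem Q1568 : ∀ i, i < 1568 → P i := stepQ 1567 Q1567 (allL N1567 (tt N1442 F7321) (tt N1567 F7322) (tt N1380 F7323) (tt N1567 F7324) (tt N1767 D1800) (tt N1379 (iv D1600)) (tt N1448 F7325) (tt N1438 F7326) (tt N1386 F7327))
theorem Q1569 : ∀ i, i < 1569 → P i := stepQ 1568 Q1568 (allL N1568 (tt N1766 (iv F8132)) (tt N1381 F7328) (tt N1767 (iv F8141)) (tt N1740 (iv F8033)) (tt N1380 (iv D1601)) (tt N1440 F7329) (tt N1450 F7330) (tt N1449 F7331) (tt N1388 F7332))
theorem Q1570 : ∀ i, i < 1570 → P i := stepQ 1569 Q1569 (allL N1569 (tt N1386 F7333) (tt N1394 F7334) (tt N1383 F7335) (tt N1569 F7336) (tt N1768 D1801) (tt N1382 (iv D1602)) (tt N1390 F7337) (tt N1389 F7338) (tt N1442 F7339))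
theorem Q1571 : ∀ i, i < 1571 → P i := stepQ 1570 Q1570 (allL N1570 (tt N1388 F7340) (tt N1570 F7341) (tt N1768 (iv F8148)) (tt N1748 (iv F8068)) (tt N1383 (iv D1603)) (tt N1445 F7342) (tt N1769 D1802) (tt N1770 D1803) (tt N1766 (iv F8138)))
theorem Q1572 : ∀ i, i < 1572 → P i := stepQ 1571 Q1571 (allL N1571 (tt N1389 F7343) (tt N1571 F7344) (tt N1390 F7345) (tt N1385 F7346) (tt N1769 (iv F8156)) (tt N1387 F7347) (tt N1383 (iv D1604)) (tt N1386 (iv F7349)) (tt N1446 F7348))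
theorem Q1573 : ∀ i, i < 1573 → P i := stepQ 1572 Q1572 (allL N1572 (tt N1390 F7350) (tt N1572 F7351) (tt N1389 F7352) (tt N1572 F7353) (tt N1770 (iv F8163)) (tt N1384 F7354) (tt N1386 F7355) (tt N1383 (iv D1605)) (tt N1448 F7356))
theorem Q1574 : ∀ i, i < 1574 → P i := stepQ 1573 Q1573 (allL N1573 (tt N1768 (iv F8146)) (tt N1573 F7357) (tt N1388 F7358) (tt N1771 D1804) (tt N1386 (iv D1606)) (tt N1447 F7359) (tt N1770 (iv F8165)) (tt N1769 F8159) (tt N1767 (iv F8145)))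
theorem Q1575 : ∀ i, i < 1575 → P i := stepQ 1574 Q1574 (allL N1574 (tt N1769 (iv F8153)) (tt N1392 F7360) (tt N1770 (iv F8162)) (tt N1757 (iv F8099)) (tt N1389 F7361) (tt N1772 D1805) (tt N1388 (iv D1607)) (tt N1768 (iv F8151)) (tt N1450 F7362))
theorem Q1576 : ∀ i, i < 1576 → P i := stepQ 1575 Q1575 (allL N1575 (tt N1770 (iv F8160)) (tt N1393 F7363) (tt N1769 (iv F8155)) (tt N1773 D1806) (tt N1390 F7364) (tt N1450 F7365) (tt N1768 (iv F8150)) (tt N1388 (iv D1608)) (tt N1772 (iv F8176)))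
theorem Q1577 : ∀ i, i < 1577 → P i := stepQ 1576 Q1576 (allL N1576 (tt N1448 F7366) (tt N1395 F7367) (tt N1446 F7368) (tt N1576 F7369) (tt N1772 (iv F8173)) (tt N1391 F7370) (tt N1442 F7371) (tt N1441 F7372) (tt N1390 (iv D1609)))
theorem Q1578 : ∀ i, i < 1578 → P i := stepQ 1577 Q1577 (allL N1577 (tt N1577 F7373) (tt N1772 (iv F8171)) (tt N1577 F7374) (tt N1761 (iv F8113)) (tt N1395 F7375) (tt N1392 (iv D1610)) (tt N1444 F7376) (tt N1443 (iv F7378)) (tt N1393 F7377))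
theorem Q1579 : ∀ i, i < 1579 → P i := stepQ 1578 Q1578 (allL N1578 (tt N1578 F7379) (tt N1768 (iv F8147)) (tt N1578 F7380) (tt N1774 D1807) (tt N1394 F7381) (tt N1443 F7382) (tt N1393 F7383) (tt N1392 (iv D1611)) (tt N1444 F7384))
theorem Q1580 : ∀ i, i < 1580 → P i := stepQ 1579 Q1579 (allL N1579 (tt N1579 F7385) (tt N1773 (iv F8177)) (tt N1775 D1808) (tt N1393 (iv D1612)) (tt N1579 F7386) (tt N1451 F7387) (tt N1774 (iv F8183)) (tt N1763 (iv F8123)) (tt N1761 (iv F8116)))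
theorem Q1581 : ∀ i, i < 1581 → P i := stepQ 1580 Q1580 (allL N1580 (tt N1580 F7388) (tt N1452 F7389) (tt N1580 F7390) (tt N1397 F7391) (tt N1776 D1809) (tt N1396 (iv D1613)) (tt N1777 D1810) (tt N1778 D1811) (tt N1580 F7392))
theorem Q1582 : ∀ i, i < 1582 → P i := stepQ 1581 Q1581 (allL N1581 (tt N1581 F7393) (tt N1453 F7394) (tt N1581 F7395) (tt N1402 F7396) (tt N1581 F7397) (tt N1778 (iv F8205)) (tt N1581 F7398) (tt N1396 (iv D1614)) (tt N1779 D1812))
theorem Q1583 : ∀ i, i < 1583 → P i := stepQ 1582 Q1582 (allL N1582 (tt N1582 F7399) (tt N1510 F7400) (tt N1398 F7401) (tt N1777 (iv F8198)) (tt N1582 F7402) (tt N1582 F7403) (tt N1397 (iv D1615)) (tt N1403 F7404) (tt N1582 F7405))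
theorem Q1584 : ∀ i, i < 1584 → P i := stepQ 1583 Q1583 (allL N1583 (tt N1506 F7406) (tt N1416 F7407) (tt N1399 (iv D1616)) (tt N1476 F7408) (tt N1711 (iv F7903)) (tt N1780 D1813) (tt N1583 F7409) (tt N1781 D1814) (tt N1406 F7410))
theorem Q1585 : ∀ i, i < 1585 → P i := stepQ 1584 Q1584 (allL N1584 (tt N1512 F7411) (tt N1401 F7412) (tt N1780 (iv F8215)) (tt N1400 F7413) (tt N1782 D1815) (tt N1399 (iv D1617)) (tt N1783 D1816) (tt N1784 D1817) (tt N1407 F7414))
theorem Q1586 : ∀ i, i < 1586 → P i := stepQ 1585 Q1585 (allL N1585 (tt N1461 F7415) (tt N1402 F7416) (tt N1781 (iv F8220)) (tt N1453 F7417) (tt N1713 (iv F7914)) (tt N1784 (iv F8235)) (tt N1585 F7418) (tt N1399 (iv D1618)) (tt N1785 D1818))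
theorem Q1587 : ∀ i, i < 1587 → P i := stepQ 1586 Q1586 (allL N1586 (tt N1511 F7419) (tt N1403 F7420) (tt N1478 F7421) (tt N1783 (iv F8229)) (tt N1586 F7422) (tt N1586 F7423) (tt N1400 (iv D1619)) (tt N1510 F7424) (tt N1409 F7425))
theorem Q1588 : ∀ i, i < 1588 → P i := stepQ 1587 Q1587 (allL N1587 (tt N1587 F7426) (tt N1782 (iv F8224)) (tt N1420 F7427) (tt N1587 F7428) (tt N1401 (iv D1620)) (tt N1714 (iv F7919)) (tt N1786 D1819) (tt N1787 D1820) (tt N1410 F7429))
theorem Q1589 : ∀ i, i < 1589 → P i := stepQ 1588 Q1588 (allL N1588 (tt N1588 F7430) (tt N1783 (iv F8228)) (tt N1421 F7431) (tt N1403 F7432) (tt N1786 (iv F8244)) (tt N1588 F7433) (tt N1401 (iv D1621)) (tt N1788 D1821) (tt N1411 F7434))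
theorem Q1590 : ∀ i, i < 1590 → P i := stepQ 1589 Q1589 (allL N1589 (tt N1589 F7435) (tt N1784 (iv F8233)) (tt N1422 F7436) (tt N1778 (iv F8204)) (tt N1787 (iv F8248)) (tt N1402 F7437) (tt N1788 (iv F8252)) (tt N1401 (iv D1622)) (tt N1789 D1822))
theorem Q1591 : ∀ i, i < 1591 → P i := stepQ 1590 Q1590 (allL N1590 (tt N1590 F7438) (tt N1785 (iv F8237)) (tt N1423 F7439) (tt N1779 (iv F8209)) (tt N1716 (iv F7930)) (tt N1789 (iv F8255)) (tt N1590 F7440) (tt N1413 F7441) (tt N1402 (iv D1623)))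
theorem Q1592 : ∀ i, i < 1592 → P i := stepQ 1591 Q1591 (allL N1591 (tt N1406 F7442) (tt N1790 D1823) (tt N1404 (iv D1624)) (tt N1481 F7443) (tt N1717 (iv F7935)) (tt N1791 D1824) (tt N1591 F7444) (tt N1792 D1825) (tt N1506 F7445))
theorem Q1593 : ∀ i, i < 1593 → P i := stepQ 1592 Q1592 (allL N1592 (tt N1407 F7446) (tt N1592 F7447) (tt N1791 (iv F8263)) (tt N1405 F7448) (tt N1793 D1826) (tt N1404 (iv D1625)) (tt N1794 D1827) (tt N1795 D1828) (tt N1512 F7449))
theorem Q1594 : ∀ i, i < 1594 → P i := stepQ 1593 Q1593 (allL N1593 (tt N1408 F7450) (tt N1593 F7451) (tt N1792 (iv F8267)) (tt N1593 F7452) (tt N1719 (iv F7944)) (tt N1795 (iv F8281)) (tt N1593 F7453) (tt N1404 (iv D1626)) (tt N1796 D1829))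
theorem Q1595 : ∀ i, i < 1595 → P i := stepQ 1594 Q1594 (allL N1594 (tt N1409 F7454) (tt N1594 F7455) (tt N1484 F7456) (tt N1794 (iv F8275)) (tt N1594 F7457) (tt N1594 F7458) (tt N1405 (iv D1627)) (tt N1594 F7459) (tt N1511 F7460))
theorem Q1596 : ∀ i, i < 1596 → P i := stepQ 1595 Q1595 (allL N1595 (tt N1791 (iv F8262)) (tt N1428 F7461) (tt N1407 F7462) (tt N1485 F7463) (tt N1797 D1830) (tt N1406 (iv D1628)) (tt N1798 D1831) (tt N1799 D1832) (tt N1780 (iv F8217)))
theorem Q1597 : ∀ i, i < 1597 → P i := stepQ 1596 Q1596 (allL N1596 (tt N1792 (iv F8266)) (tt N1429 F7464) (tt N1408 F7465) (tt N1800 D1833) (tt N1722 (iv F7957)) (tt N1799 (iv F8295)) (tt N1596 F7466) (tt N1406 (iv D1629)) (tt N1801 D1834))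
theorem Q1598 : ∀ i, i < 1598 → P i := stepQ 1597 Q1597 (allL N1597 (tt N1793 (iv F8269)) (tt N1410 F7467) (tt N1797 (iv F8288)) (tt N1597 F7468) (tt N1407 (iv D1630)) (tt N1723 (iv F7961)) (tt N1802 D1835) (tt N1803 D1836) (tt N1782 (iv F8226)))
theorem Q1599 : ∀ i, i < 1599 → P i := stepQ 1598 Q1598 (allL N1598 (tt N1794 (iv F8273)) (tt N1411 F7469) (tt N1798 (iv F8290)) (tt N1409 F7470) (tt N1802 (iv F8305)) (tt N1598 F7471) (tt N1407 (iv D1631)) (tt N1804 D1837) (tt N1783 (iv F8231)))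
theorem Q1600 : ∀ i, i < 1600 → P i := stepQ 1599 Q1599 (allL N1599 (tt N1795 (iv F8278)) (tt N1412 F7472) (tt N1799 (iv F8294)) (tt N1599 F7473) (tt N1803 (iv F8307)) (tt N1408 F7474) (tt N1804 (iv F8311)) (tt N1407 (iv D1632)) (tt N1805 D1838))
theorem Q1601 : ∀ i, i < 1601 → P i := stepQ 1600 Q1600 (allL N1600 (tt N1796 (iv F8282)) (tt N1413 F7475) (tt N1801 (iv F8301)) (tt N1600 F7476) (tt N1726 (iv F7969)) (tt N1805 (iv F8314)) (tt N1600 F7477) (tt N1785 (iv F8240)) (tt N1408 (iv D1633)))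
theorem Q1602 : ∀ i, i < 1602 → P i := stepQ 1601 Q1601 (allL N1601 (tt N1601 F7478) (tt N1802 (iv F8303)) (tt N1434 F7479) (tt N1601 F7480) (tt N1411 F7481) (tt N1806 D1839) (tt N1410 (iv D1634)) (tt N1807 D1840) (tt N1786 (iv F8245)))
theorem Q1603 : ∀ i, i < 1603 → P i := stepQ 1602 Q1602 (allL N1602 (tt N1602 F7482) (tt N1803 (iv F8306)) (tt N1435 F7483) (tt N1808 D1841) (tt N1412 F7484) (tt N1728 (iv F7979)) (tt N1807 (iv F8322)) (tt N1410 (iv D1635)) (tt N1809 D1842))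
theorem Q1604 : ∀ i, i < 1604 → P i := stepQ 1603 Q1603 (allL N1603 (tt N1603 F7485) (tt N1804 (iv F8308)) (tt N1436 F7486) (tt N1603 F7487) (tt N1807 (iv F8321)) (tt N1603 F7488) (tt N1412 F7489) (tt N1411 (iv D1636)) (tt N1810 D1843))
theorem Q1605 : ∀ i, i < 1605 → P i := stepQ 1604 Q1604 (allL N1604 (tt N1604 F7490) (tt N1805 (iv F8312)) (tt N1437 F7491) (tt N1604 F7492) (tt N1809 (iv F8328)) (tt N1413 F7493) (tt N1810 (iv F8333)) (tt N1789 (iv F8256)) (tt N1412 (iv D1637)))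
theorem Q1606 : ∀ i, i < 1606 → P i := stepQ 1605 Q1605 (allL N1605 (tt N1416 F7494) (tt N1811 D1844) (tt N1414 (iv D1638)) (tt N1495 F7495) (tt N1735 (iv F8013)) (tt N1812 D1845) (tt N1605 F7496) (tt N1813 D1846) (tt N1424 F7497))
theorem Q1607 : ∀ i, i < 1607 → P i := stepQ 1606 Q1606 (allL N1606 (tt N1417 F7498) (tt N1606 F7499) (tt N1812 (iv F8340)) (tt N1415 F7500) (tt N1814 D1847) (tt N1414 (iv D1639)) (tt N1509 (iv F7502)) (tt N1815 D1848) (tt N1425 F7501))
theorem Q1608 : ∀ i, i < 1608 → P i := stepQ 1607 Q1607 (allL N1607 (tt N1418 F7503) (tt N1607 F7504) (tt N1813 (iv F8345)) (tt N1607 F7505) (tt N1737 (iv F8023)) (tt N1815 (iv F8355)) (tt N1607 F7506) (tt N1414 (iv D1640)) (tt N1816 D1849))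
theorem Q1609 : ∀ i, i < 1609 → P i := stepQ 1608 Q1608 (allL N1608 (tt N1812 (iv F8339)) (tt N1780 (iv F8214)) (tt N1417 F7507) (tt N1497 F7508) (tt N1817 D1850) (tt N1416 (iv D1641)) (tt N1818 D1851) (tt N1819 D1852) (tt N1428 F7509))
theorem Q1610 : ∀ i, i < 1610 → P i := stepQ 1609 Q1609 (allL N1609 (tt N1813 (iv F8344)) (tt N1781 (iv F8219)) (tt N1418 F7510) (tt N1820 D1853) (tt N1739 (iv F8030)) (tt N1819 (iv F8370)) (tt N1609 F7511) (tt N1416 (iv D1642)) (tt N1821 D1854))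
theorem Q1611 : ∀ i, i < 1611 → P i := stepQ 1610 Q1610 (allL N1610 (tt N1814 (iv F8347)) (tt N1420 F7512) (tt N1817 (iv F8362)) (tt N1440 F7513) (tt N1417 (iv D1643)) (tt N1740 (iv F8034)) (tt N1822 D1855) (tt N1823 D1856) (tt N1430 F7514))
theorem Q1612 : ∀ i, i < 1612 → P i := stepQ 1611 Q1611 (allL N1611 (tt N1509 F7515) (tt N1421 F7516) (tt N1818 (iv F8365)) (tt N1419 F7517) (tt N1822 (iv F8381)) (tt N1611 F7518) (tt N1417 (iv D1644)) (tt N1824 D1857) (tt N1431 F7519))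
theorem Q1613 : ∀ i, i < 1613 → P i := stepQ 1612 Q1612 (allL N1612 (tt N1815 (iv F8352)) (tt N1422 F7520) (tt N1819 (iv F8369)) (tt N1612 F7521) (tt N1823 (iv F8384)) (tt N1418 F7522) (tt N1824 (iv F8389)) (tt N1417 (iv D1645)) (tt N1825 D1858))
theorem Q1614 : ∀ i, i < 1614 → P i := stepQ 1613 Q1613 (allL N1613 (tt N1816 (iv F8357)) (tt N1423 F7523) (tt N1821 (iv F8375)) (tt N1613 F7524) (tt N1742 (iv F8042)) (tt N1825 (iv F8392)) (tt N1613 F7525) (tt N1433 F7526) (tt N1418 (iv D1646)))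
theorem Q1615 : ∀ i, i < 1615 → P i := stepQ 1614 Q1614 (allL N1614 (tt N1614 F7527) (tt N1822 (iv F8379)) (tt N1786 (iv F8242)) (tt N1443 F7528) (tt N1421 F7529) (tt N1774 (iv F8182)) (tt N1420 (iv D1647)) (tt N1826 D1859) (tt N1434 F7530))
theorem Q1616 : ∀ i, i < 1616 → P i := stepQ 1615 Q1615 (allL N1615 (tt N1615 F7531) (tt N1823 (iv F8383)) (tt N1787 (iv F8247)) (tt N1827 D1860) (tt N1422 F7532) (tt N1743 (iv F8048)) (tt N1826 (iv F8396)) (tt N1420 (iv D1648)) (tt N1828 D1861))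
theorem Q1617 : ∀ i, i < 1617 → P i := stepQ 1616 Q1616 (allL N1616 (tt N1616 F7533) (tt N1824 (iv F8386)) (tt N1788 (iv F8250)) (tt N1616 F7534) (tt N1826 (iv F8395)) (tt N1616 F7535) (tt N1422 F7536) (tt N1421 (iv D1649)) (tt N1829 D1862))
theorem Q1618 : ∀ i, i < 1618 → P i := stepQ 1617 Q1617 (allL N1617 (tt N1617 F7537) (tt N1825 (iv F8390)) (tt N1789 (iv F8254)) (tt N1617 F7538) (tt N1828 (iv F8402)) (tt N1423 F7539) (tt N1829 (iv F8407)) (tt N1437 F7540) (tt N1422 (iv D1650)))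
theorem Q1619 : ∀ i, i < 1619 → P i := stepQ 1618 Q1618 (allL N1618 (tt N1790 (iv F8257)) (tt N1424 (iv D1651)) (tt N1618 F7541) (tt N1498 F7542) (tt N1745 (iv F8057)) (tt N1830 D1863) (tt N1618 F7543) (tt N1820 (iv F8374)) (tt N1811 (iv F8338)))
theorem Q1620 : ∀ i, i < 1620 → P i := stepQ 1619 Q1619 (allL N1619 (tt N1428 F7544) (tt N1830 (iv F8409)) (tt N1425 F7545) (tt N1502 F7546) (tt N1831 D1864) (tt N1424 (iv D1652)) (tt N1832 D1865) (tt N1833 D1866) (tt N1812 (iv F8342)))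
theorem Q1621 : ∀ i, i < 1621 → P i := stepQ 1620 Q1620 (allL N1620 (tt N1429 F7547) (tt N1820 (iv F8371)) (tt N1426 F7548) (tt N1781 (iv F8221)) (tt N1747 (iv F8064)) (tt N1833 (iv F8421)) (tt N1620 F7549) (tt N1424 (iv D1653)) (tt N1834 D1867))
theorem Q1622 : ∀ i, i < 1622 → P i := stepQ 1621 Q1621 (allL N1621 (tt N1430 F7550) (tt N1621 F7551) (tt N1831 (iv F8413)) (tt N1445 F7552) (tt N1425 (iv D1654)) (tt N1748 (iv F8069)) (tt N1835 D1868) (tt N1836 D1869) (tt N1814 (iv F8351)))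
theorem Q1623 : ∀ i, i < 1623 → P i := stepQ 1622 Q1622 (allL N1622 (tt N1431 F7553) (tt N1622 F7554) (tt N1832 (iv F8415)) (tt N1427 F7555) (tt N1835 (iv F8428)) (tt N1622 F7556) (tt N1425 (iv D1655)) (tt N1837 D1870) (tt N1509 F7557))
theorem Q1624 : ∀ i, i < 1624 → P i := stepQ 1623 Q1623 (allL N1623 (tt N1432 F7558) (tt N1623 F7559) (tt N1833 (iv F8420)) (tt N1456 F7560) (tt N1836 (iv F8432)) (tt N1426 F7561) (tt N1837 (iv F8437)) (tt N1425 (iv D1656)) (tt N1838 D1871))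
theorem Q1625 : ∀ i, i < 1625 → P i := stepQ 1624 Q1624 (allL N1624 (tt N1433 F7562) (tt N1624 F7563) (tt N1834 (iv F8423)) (tt N1457 F7564) (tt N1751 (iv F8082)) (tt N1838 (iv F8441)) (tt N1624 F7565) (tt N1816 (iv F8361)) (tt N1426 (iv D1657)))
theorem Q1626 : ∀ i, i < 1626 → P i := stepQ 1625 Q1625 (allL N1625 (tt N1831 (iv F8412)) (tt N1797 (iv F8287)) (tt N1430 F7566) (tt N1839 D1872) (tt N1428 (iv D1658)) (tt N1752 (iv F8085)) (tt N1840 D1873) (tt N1841 D1874) (tt N1817 (iv F8363)))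
theorem Q1627 : ∀ i, i < 1627 → P i := stepQ 1626 Q1626 (allL N1626 (tt N1832 (iv F8414)) (tt N1798 (iv F8289)) (tt N1431 F7567) (tt N1504 F7568) (tt N1840 (iv F8445)) (tt N1626 F7569) (tt N1428 (iv D1659)) (tt N1842 D1875) (tt N1818 (iv F8368)))
theorem Q1628 : ∀ i, i < 1628 → P i := stepQ 1627 Q1627 (allL N1627 (tt N1833 (iv F8419)) (tt N1799 (iv F8293)) (tt N1432 F7570) (tt N1843 D1876) (tt N1841 (iv F8447)) (tt N1429 F7571) (tt N1842 (iv F8450)) (tt N1428 (iv D1660)) (tt N1844 D1877))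
theorem Q1629 : ∀ i, i < 1629 → P i := stepQ 1628 Q1628 (allL N1628 (tt N1781 (iv F8218)) (tt N1800 (iv F8296)) (tt N1461 F7572) (tt N1429 (iv D1661)) (tt N1845 D1878) (tt N1843 (iv F8452)) (tt N1628 F7573) (tt N1506 F7574) (tt N1846 D1879))
theorem Q1630 : ∀ i, i < 1630 → P i := stepQ 1629 Q1629 (allL N1629 (tt N1834 (iv F8422)) (tt N1801 (iv F8300)) (tt N1433 F7575) (tt N1846 (iv F8460)) (tt N1756 (iv F8096)) (tt N1844 (iv F8455)) (tt N1629 F7576) (tt N1821 (iv F8377)) (tt N1429 (iv D1662)))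
theorem Q1631 : ∀ i, i < 1631 → P i := stepQ 1630 Q1630 (allL N1630 (tt N1835 (iv F8425)) (tt N1434 F7577) (tt N1840 (iv F8444)) (tt N1449 F7578) (tt N1431 F7579) (tt N1847 D1880) (tt N1430 (iv D1663)) (tt N1848 D1881) (tt N1822 (iv F8382)))
theorem Q1632 : ∀ i, i < 1632 → P i := stepQ 1631 Q1631 (allL N1631 (tt N1836 (iv F8430)) (tt N1435 F7580) (tt N1841 (iv F8446)) (tt N1849 D1882) (tt N1432 F7581) (tt N1758 (iv F8104)) (tt N1848 (iv F8467)) (tt N1430 (iv D1664)) (tt N1850 D1883))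
theorem Q1633 : ∀ i, i < 1633 → P i := stepQ 1632 Q1632 (allL N1632 (tt N1837 (iv F8433)) (tt N1436 F7582) (tt N1842 (iv F8448)) (tt N1465 F7583) (tt N1848 (iv F8466)) (tt N1632 F7584) (tt N1432 F7585) (tt N1431 (iv D1665)) (tt N1851 D1884))
theorem Q1634 : ∀ i, i < 1634 → P i := stepQ 1633 Q1633 (allL N1633 (tt N1838 (iv F8438)) (tt N1437 F7586) (tt N1844 (iv F8454)) (tt N1466 F7587) (tt N1850 (iv F8472)) (tt N1433 F7588) (tt N1851 (iv F8476)) (tt N1825 (iv F8393)) (tt N1432 (iv D1666)))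
theorem Q1635 : ∀ i, i < 1635 → P i := stepQ 1634 Q1634 (allL N1634 (tt N1634 F7589) (tt N1847 (iv F8462)) (tt N1806 (iv F8316)) (tt N1444 F7590) (tt N1634 F7591) (tt N1434 (iv D1667)) (tt N1761 (iv F8115)) (tt N1827 (iv F8400)) (tt N1774 (iv F8184)))
theorem Q1636 : ∀ i, i < 1636 → P i := stepQ 1635 Q1635 (allL N1635 (tt N1635 F7592) (tt N1848 (iv F8465)) (tt N1807 (iv F8320)) (tt N1743 (iv F8046)) (tt N1436 F7593) (tt N1827 (iv F8399)) (tt N1435 F7594) (tt N1434 (iv D1668)) (tt N1852 D1885))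
theorem Q1637 : ∀ i, i < 1637 → P i := stepQ 1636 Q1636 (allL N1636 (tt N1636 F7595) (tt N1849 (iv F8468)) (tt N1853 D1886) (tt N1435 (iv D1669)) (tt N1468 F7596) (tt N1763 (iv F8122)) (tt N1743 (iv F8049)) (tt N1451 F7597) (tt N1854 D1887))
theorem Q1638 : ∀ i, i < 1638 → P i := stepQ 1637 Q1637 (allL N1637 (tt N1637 F7598) (tt N1850 (iv F8471)) (tt N1809 (iv F8327)) (tt N1854 (iv F8484)) (tt N1437 F7599) (tt N1764 (iv F8126)) (tt N1852 (iv F8479)) (tt N1828 (iv F8403)) (tt N1435 (iv D1670)))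
theorem Q1639 : ∀ i, i < 1639 → P i := stepQ 1638 Q1638 (allL N1638 (tt N1638 F7600) (tt N1851 (iv F8473)) (tt N1810 (iv F8330)) (tt N1470 F7601) (tt N1852 (iv F8478)) (tt N1638 F7602) (tt N1437 F7603) (tt N1829 (iv F8408)) (tt N1436 (iv D1671)))
theorem Q1640 : ∀ i, i < 1640 → P i := stepQ 1639 Q1639 (allL N1639 (tt N1440 F7604) (tt N1639 F7605) (tt N1449 F7606) (tt N1814 (iv F8349)) (tt N1438 (iv D1672)) (tt N1766 (iv F8135)) (tt N1447 F7607) (tt N1767 (iv F8144)) (tt N1445 F7608))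
theorem Q1641 : ∀ i, i < 1641 → P i := stepQ 1640 Q1640 (allL N1640 (tt N1449 F7609) (tt N1640 F7610) (tt N1440 F7611) (tt N1835 (iv F8427)) (tt N1439 (iv D1673)) (tt N1767 (iv F8142)) (tt N1445 F7612) (tt N1766 (iv F8137)) (tt N1447 F7613))
theorem Q1642 : ∀ i, i < 1642 → P i := stepQ 1641 Q1641 (allL N1641 (tt N1447 F7614) (tt N1443 F7615) (tt N1445 F7616) (tt N1822 (iv F8380)) (tt N1441 F7617) (tt N1768 (iv F8149)) (tt N1440 (iv D1674)) (tt N1772 (iv F8175)) (tt N1449 F7618))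
theorem Q1643 : ∀ i, i < 1643 → P i := stepQ 1642 Q1642 (allL N1642 (tt N1767 (iv F8139)) (tt N1444 F7619) (tt N1766 (iv F8134)) (tt N1847 (iv F8463)) (tt N1442 F7620) (tt N1449 F7621) (tt N1772 (iv F8174)) (tt N1440 (iv D1675)) (tt N1768 (iv F8152)))
theorem Q1644 : ∀ i, i < 1644 → P i := stepQ 1643 Q1643 (allL N1643 (tt N1450 F7622) (tt N1643 F7623) (tt N1772 (iv F8172)) (tt N1855 D1888) (tt N1446 F7624) (tt N1770 (iv F8164)) (tt N1766 (iv F8136)) (tt N1445 (iv D1676)) (tt N1769 (iv F8158)))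
theorem Q1645 : ∀ i, i < 1645 → P i := stepQ 1644 Q1644 (allL N1644 (tt N1822 (iv F8378)) (tt N1644 F7625) (tt N1839 (iv F8442)) (tt N1447 (iv D1677)) (tt N1509 F7626) (tt N1771 (iv F8169)) (tt N1814 (iv F8350)) (tt N1856 D1889) (tt N1835 (iv F8429)))
theorem Q1646 : ∀ i, i < 1646 → P i := stepQ 1645 Q1645 (allL N1645 (tt N1772 (iv F8170)) (tt N1645 F7627) (tt N1450 F7628) (tt N1857 D1890) (tt N1448 F7629) (tt N1769 (iv F8157)) (tt N1767 (iv F8143)) (tt N1447 (iv D1678)) (tt N1770 (iv F8166)))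
theorem Q1647 : ∀ i, i < 1647 → P i := stepQ 1646 Q1646 (allL N1646 (tt N1855 (iv F8486)) (tt N1451 F7630) (tt N1858 D1891) (tt N1450 (iv D1679)) (tt N1473 F7631) (tt N1773 (iv F8179)) (tt N1740 (iv F8035)) (tt N1849 (iv F8470)) (tt N1757 (iv F8101)))
theorem Q1648 : ∀ i, i < 1648 → P i := stepQ 1647 Q1647 (allL N1647 (tt N1647 F7632) (tt N1859 D1892) (tt N1451 (iv D1680)) (tt N1647 F7633) (tt N1474 F7634) (tt N1775 (iv F8188)) (tt N1714 (iv F7920)) (tt N1853 (iv F8482)) (tt N1727 (iv F7975)))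
theorem Q1649 : ∀ i, i < 1649 → P i := stepQ 1648 Q1648 (allL N1648 (tt N1458 F7635) (tt N1776 (iv F8190)) (tt N1454 F7636) (tt N1648 F7637) (tt N1452 (iv D1681)) (tt N1648 F7638) (tt N1860 D1893) (tt N1861 D1894) (tt N1648 F7639))
theorem Q1650 : ∀ i, i < 1650 → P i := stepQ 1649 Q1649 (allL N1649 (tt N1459 F7640) (tt N1777 (iv F8196)) (tt N1455 F7641) (tt N1510 F7642) (tt N1860 (iv F8499)) (tt N1649 F7643) (tt N1452 (iv D1682)) (tt N1862 D1895) (tt N1649 F7644))
theorem Q1651 : ∀ i, i < 1651 → P i := stepQ 1650 Q1650 (allL N1650 (tt N1460 F7645) (tt N1778 (iv F8202)) (tt N1456 F7646) (tt N1784 (iv F8234)) (tt N1861 (iv F8503)) (tt N1453 F7647) (tt N1862 (iv F8508)) (tt N1452 (iv D1683)) (tt N1863 D1896))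
theorem Q1652 : ∀ i, i < 1652 → P i := stepQ 1651 Q1651 (allL N1651 (tt N1462 F7648) (tt N1779 (iv F8207)) (tt N1457 F7649) (tt N1785 (iv F8238)) (tt N1651 F7650) (tt N1863 (iv F8511)) (tt N1651 F7651) (tt N1651 F7652) (tt N1453 (iv D1684)))
theorem Q1653 : ∀ i, i < 1653 → P i := stepQ 1652 Q1652 (allL N1652 (tt N1463 F7653) (tt N1652 F7654) (tt N1860 (iv F8497)) (tt N1471 F7655) (tt N1455 F7656) (tt N1731 (iv F7990)) (tt N1454 (iv D1685)) (tt N1864 D1897) (tt N1652 F7657))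
theorem Q1654 : ∀ i, i < 1654 → P i := stepQ 1653 Q1653 (allL N1653 (tt N1464 F7658) (tt N1653 F7659) (tt N1861 (iv F8502)) (tt N1865 D1898) (tt N1456 F7660) (tt N1653 F7661) (tt N1864 (iv F8516)) (tt N1454 (iv D1686)) (tt N1866 D1899))
theorem Q1655 : ∀ i, i < 1655 → P i := stepQ 1654 Q1654 (allL N1654 (tt N1465 F7662) (tt N1654 F7663) (tt N1862 (iv F8506)) (tt N1837 (iv F8435)) (tt N1864 (iv F8515)) (tt N1654 F7664) (tt N1456 F7665) (tt N1455 (iv D1687)) (tt N1867 D1900))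
theorem Q1656 : ∀ i, i < 1656 → P i := stepQ 1655 Q1655 (allL N1655 (tt N1466 F7666) (tt N1655 F7667) (tt N1863 (iv F8510)) (tt N1838 (iv F8440)) (tt N1866 (iv F8523)) (tt N1457 F7668) (tt N1867 (iv F8529)) (tt N1655 F7669) (tt N1456 (iv D1688)))
theorem Q1657 : ∀ i, i < 1657 → P i := stepQ 1656 Q1656 (allL N1656 (tt N1860 (iv F8496)) (tt N1656 F7670) (tt N1463 F7671) (tt N1656 F7672) (tt N1459 F7673) (tt N1732 (iv F7996)) (tt N1458 (iv D1689)) (tt N1868 D1901) (tt N1656 F7674))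
theorem Q1658 : ∀ i, i < 1658 → P i := stepQ 1657 Q1657 (allL N1657 (tt N1861 (iv F8501)) (tt N1657 F7675) (tt N1464 F7676) (tt N1869 D1902) (tt N1460 F7677) (tt N1657 F7678) (tt N1868 (iv F8534)) (tt N1458 (iv D1690)) (tt N1870 D1903))
theorem Q1659 : ∀ i, i < 1659 → P i := stepQ 1658 Q1658 (allL N1658 (tt N1862 (iv F8505)) (tt N1658 F7679) (tt N1465 F7680) (tt N1871 D1904) (tt N1868 (iv F8533)) (tt N1658 F7681) (tt N1460 F7682) (tt N1459 (iv D1691)) (tt N1872 D1905))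
theorem Q1660 : ∀ i, i < 1660 → P i := stepQ 1659 Q1659 (allL N1659 (tt N1784 (iv F8232)) (tt N1659 F7683) (tt N1843 (iv F8451)) (tt N1460 (iv D1692)) (tt N1873 D1906) (tt N1461 F7684) (tt N1871 (iv F8545)) (tt N1512 F7685) (tt N1874 D1907))
theorem Q1661 : ∀ i, i < 1661 → P i := stepQ 1660 Q1660 (allL N1660 (tt N1863 (iv F8509)) (tt N1660 F7686) (tt N1466 F7687) (tt N1874 (iv F8555)) (tt N1870 (iv F8540)) (tt N1462 F7688) (tt N1872 (iv F8550)) (tt N1660 F7689) (tt N1460 (iv D1693)))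
theorem Q1662 : ∀ i, i < 1662 → P i := stepQ 1661 Q1661 (allL N1661 (tt N1713 (iv F7911)) (tt N1661 F7690) (tt N1845 (iv F8456)) (tt N1661 F7691) (tt N1461 (iv D1694)) (tt N1875 D1908) (tt N1661 F7692) (tt N1513 F7693) (tt N1876 D1909))
theorem Q1663 : ∀ i, i < 1663 → P i := stepQ 1662 Q1662 (allL N1662 (tt N1785 (iv F8236)) (tt N1662 F7694) (tt N1846 (iv F8459)) (tt N1462 F7695) (tt N1876 (iv F8562)) (tt N1874 (iv F8556)) (tt N1662 F7696) (tt N1796 (iv F8286)) (tt N1461 (iv D1695)))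
theorem Q1664 : ∀ i, i < 1664 → P i := stepQ 1663 Q1663 (allL N1663 (tt N1864 (iv F8513)) (tt N1467 F7697) (tt N1868 (iv F8532)) (tt N1741 (iv F8038)) (tt N1465 F7698) (tt N1733 (iv F8002)) (tt N1464 F7699) (tt N1463 (iv D1696)) (tt N1877 D1910))
theorem Q1665 : ∀ i, i < 1665 → P i := stepQ 1664 Q1664 (allL N1664 (tt N1865 (iv F8517)) (tt N1468 F7700) (tt N1878 D1911) (tt N1464 (iv D1697)) (tt N1849 (iv F8469)) (tt N1664 F7701) (tt N1741 (iv F8040)) (tt N1473 F7702) (tt N1879 D1912))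
theorem Q1666 : ∀ i, i < 1666 → P i := stepQ 1665 Q1665 (allL N1665 (tt N1866 (iv F8521)) (tt N1469 F7703) (tt N1870 (iv F8539)) (tt N1879 (iv F8571)) (tt N1466 F7704) (tt N1665 F7705) (tt N1877 (iv F8566)) (tt N1665 F7706) (tt N1464 (iv D1698)))
theorem Q1667 : ∀ i, i < 1667 → P i := stepQ 1666 Q1666 (allL N1666 (tt N1867 (iv F8526)) (tt N1470 F7707) (tt N1872 (iv F8548)) (tt N1851 (iv F8474)) (tt N1877 (iv F8565)) (tt N1666 F7708) (tt N1466 F7709) (tt N1666 F7710) (tt N1465 (iv D1699)))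
theorem Q1668 : ∀ i, i < 1668 → P i := stepQ 1667 Q1667 (allL N1667 (tt N1667 F7711) (tt N1877 (iv F8564)) (tt N1667 F7712) (tt N1744 (iv F8051)) (tt N1470 F7713) (tt N1734 (iv F8008)) (tt N1469 F7714) (tt N1667 F7715) (tt N1467 (iv D1700)))
theorem Q1669 : ∀ i, i < 1669 → P i := stepQ 1668 Q1668 (allL N1668 (tt N1668 F7716) (tt N1880 D1913) (tt N1468 (iv D1701)) (tt N1668 F7717) (tt N1853 (iv F8481)) (tt N1668 F7718) (tt N1715 (iv F7926)) (tt N1474 F7719) (tt N1881 D1914))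
theorem Q1670 : ∀ i, i < 1670 → P i := stepQ 1669 Q1669 (allL N1669 (tt N1669 F7720) (tt N1879 (iv F8570)) (tt N1881 (iv F8577)) (tt N1469 F7721) (tt N1854 (iv F8485)) (tt N1669 F7722) (tt N1744 (iv F8053)) (tt N1765 (iv F8131)) (tt N1468 (iv D1702)))
theorem Q1671 : ∀ i, i < 1671 → P i := stepQ 1670 Q1670 (allL N1670 (tt N1473 F7723) (tt N1670 F7724) (tt N1882 D1915) (tt N1472 (iv D1703)) (tt N1855 (iv F8488)) (tt N1670 F7725) (tt N1736 F8020) (tt N1865 (iv F8520)) (tt N1749 (iv F8074)))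
theorem Q1672 : ∀ i, i < 1672 → P i := stepQ 1671 Q1671 (allL N1671 (tt N1882 (iv F8580)) (tt N1883 D1916) (tt N1473 (iv D1704)) (tt N1671 F7726) (tt N1858 (iv F8493)) (tt N1671 F7727) (tt N1738 F8028) (tt N1878 (iv F8569)) (tt N1753 (iv F8089)))
theorem Q1673 : ∀ i, i < 1673 → P i := stepQ 1672 Q1672 (allL N1672 (tt N1884 D1917) (tt N1474 (iv D1705)) (tt N1883 (iv F8583)) (tt N1475 F7728) (tt N1859 (iv F8495)) (tt N1672 F7729) (tt N1712 F7910) (tt N1880 (iv F8575)) (tt N1724 (iv F7965)))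
theorem Q1674 : ∀ i, i < 1674 → P i := stepQ 1673 Q1673 (allL N1673 (tt N1475 (iv D1706)) (tt N1673 F7730) (tt N1673 F7731) (tt N1884 (iv F8587)) (tt N1673 F7732) (tt N1673 F7733) (tt N1514 F7734) (tt N1673 F7735) (tt N1720 (iv F7951)))
theorem Q1675 : ∀ i, i < 1675 → P i := stepQ 1674 Q1674 (allL N1674 (tt N1505 F7736) (tt N1497 F7737) (tt N1477 F7738) (tt N1780 (iv F8216)) (tt N1885 D1918) (tt N1476 (iv D1707)) (tt N1886 D1919) (tt N1502 F7739) (tt N1485 F7740))
theorem Q1676 : ∀ i, i < 1676 → P i := stepQ 1675 Q1675 (allL N1675 (tt N1507 F7741) (tt N1479 F7742) (tt N1885 (iv F8592)) (tt N1675 F7743) (tt N1477 (iv D1708)) (tt N1675 F7744) (tt N1501 (iv F7747)) (tt N1500 F7745) (tt N1487 F7746))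
theorem Q1677 : ∀ i, i < 1677 → P i := stepQ 1676 Q1676 (allL N1676 (tt N1508 F7748) (tt N1480 F7749) (tt N1886 (iv F8599)) (tt N1478 F7750) (tt N1501 F7751) (tt N1676 F7752) (tt N1477 (iv D1709)) (tt N1499 F7753) (tt N1488 F7754))
theorem Q1678 : ∀ i, i < 1678 → P i := stepQ 1677 Q1677 (allL N1677 (tt N1498 F7755) (tt N1481 (iv D1710)) (tt N1490 F7756) (tt N1790 (iv F8259)) (tt N1677 F7757) (tt N1887 D1920) (tt N1677 F7758) (tt N1495 (iv F7760)) (tt N1486 F7759))
theorem Q1679 : ∀ i, i < 1679 → P i := stepQ 1678 Q1678 (allL N1678 (tt N1485 F7761) (tt N1887 (iv F8605)) (tt N1482 F7762) (tt N1791 (iv F8264)) (tt N1888 D1921) (tt N1481 (iv D1711)) (tt N1889 D1922) (tt N1890 D1923) (tt N1505 F7763))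
theorem Q1680 : ∀ i, i < 1680 → P i := stepQ 1679 Q1679 (allL N1679 (tt N1486 F7764) (tt N1495 F7765) (tt N1483 F7766) (tt N1811 (iv F8336)) (tt N1679 F7767) (tt N1890 (iv F8629)) (tt N1679 F7768) (tt N1481 (iv D1712)) (tt N1498 F7769))
theorem Q1681 : ∀ i, i < 1681 → P i := stepQ 1680 Q1680 (allL N1680 (tt N1487 F7770) (tt N1493 F7771) (tt N1888 (iv F8613)) (tt N1680 F7772) (tt N1482 (iv D1713)) (tt N1680 F7773) (tt N1489 F7776) (tt N1488 (iv F7775)) (tt N1507 F7774))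
theorem Q1682 : ∀ i, i < 1682 → P i := stepQ 1681 Q1681 (allL N1681 (tt N1488 F7777) (tt N1492 F7778) (tt N1889 (iv F8620)) (tt N1484 F7779) (tt N1489 F7780) (tt N1681 F7781) (tt N1482 (iv D1714)) (tt N1487 (iv F7783)) (tt N1508 F7782))
theorem Q1683 : ∀ i, i < 1683 → P i := stepQ 1682 Q1682 (allL N1682 (tt N1489 F7784) (tt N1491 F7785) (tt N1890 (iv F8627)) (tt N1682 F7786) (tt N1488 F7787) (tt N1483 F7788) (tt N1487 F7789) (tt N1482 (iv D1715)) (tt N1501 F7790))
theorem Q1684 : ∀ i, i < 1684 → P i := stepQ 1683 Q1683 (allL N1683 (tt N1888 (iv F8611)) (tt N1503 F7791) (tt N1487 F7792) (tt N1891 D1924) (tt N1485 (iv D1716)) (tt N1683 F7793) (tt N1890 (iv F8630)) (tt N1889 F8624) (tt N1885 (iv F8595)))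
theorem Q1685 : ∀ i, i < 1685 → P i := stepQ 1684 Q1684 (allL N1684 (tt N1889 (iv F8618)) (tt N1504 F7794) (tt N1488 F7795) (tt N1798 (iv F8291)) (tt N1890 (iv F8628)) (tt N1684 F7796) (tt N1485 (iv D1717)) (tt N1888 F8617) (tt N1886 (iv F8603)))
theorem Q1686 : ∀ i, i < 1686 → P i := stepQ 1685 Q1685 (allL N1685 (tt N1890 (iv F8625)) (tt N1505 F7797) (tt N1489 F7798) (tt N1892 D1925) (tt N1889 (iv F8621)) (tt N1486 F7799) (tt N1888 F8616) (tt N1485 (iv D1718)) (tt N1887 (iv F8608)))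
theorem Q1687 : ∀ i, i < 1687 → P i := stepQ 1686 Q1686 (allL N1686 (tt N1811 (iv F8334)) (tt N1506 F7800) (tt N1686 F7801) (tt N1486 (iv D1719)) (tt N1893 D1926) (tt N1892 (iv F8637)) (tt N1686 F7802) (tt N1800 (iv F8299)) (tt N1790 (iv F8261)))
theorem Q1688 : ∀ i, i < 1688 → P i := stepQ 1687 Q1687 (allL N1687 (tt N1501 F7803) (tt N1494 F7804) (tt N1887 (iv F8606)) (tt N1687 F7805) (tt N1508 F7806) (tt N1490 F7807) (tt N1507 F7808) (tt N1496 F7809) (tt N1489 (iv D1720)))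
theorem Q1689 : ∀ i, i < 1689 → P i := stepQ 1688 Q1688 (allL N1688 (tt N1497 F7810) (tt N1890 (iv F8626)) (tt N1496 F7811) (tt N1812 (iv F8341)) (tt N1504 (iv F7813)) (tt N1495 (iv D1721)) (tt N1503 (iv F7814)) (tt N1887 (iv F8607)) (tt N1502 F7812))
theorem Q1690 : ∀ i, i < 1690 → P i := stepQ 1689 Q1689 (allL N1689 (tt N1504 F7815) (tt N1885 (iv F8591)) (tt N1499 F7816) (tt N1832 (iv F8416)) (tt N1497 (iv D1722)) (tt N1689 F7817) (tt N1502 (iv F7819)) (tt N1886 (iv F8602)) (tt N1503 F7818))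
theorem Q1691 : ∀ i, i < 1691 → P i := stepQ 1690 Q1690 (allL N1690 (tt N1503 F7820) (tt N1886 (iv F8598)) (tt N1500 F7821) (tt N1818 (iv F8366)) (tt N1502 F7822) (tt N1690 F7823) (tt N1497 (iv D1723)) (tt N1885 (iv F8594)) (tt N1504 F7824))
theorem Q1692 : ∀ i, i < 1692 → P i := stepQ 1691 Q1691 (allL N1691 (tt N1887 (iv F8604)) (tt N1502 F7825) (tt N1501 F7826) (tt N1830 (iv F8411)) (tt N1886 (iv F8600)) (tt N1498 F7827) (tt N1885 F8596) (tt N1497 (iv D1724)) (tt N1890 (iv F8631)))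
theorem Q1693 : ∀ i, i < 1693 → P i := stepQ 1692 Q1692 (allL N1692 (tt N1818 (iv F8364)) (tt N1891 (iv F8632)) (tt N1509 F7828) (tt N1503 (iv D1725)) (tt N1839 (iv F8443)) (tt N1692 F7829) (tt N1812 F8343) (tt N1894 D1927) (tt N1832 (iv F8418)))
theorem Q1694 : ∀ i, i < 1694 → P i := stepQ 1693 Q1693 (allL N1693 (tt N1885 (iv F8590)) (tt N1889 (iv F8619)) (tt N1507 F7830) (tt N1895 D1928) (tt N1505 F7831) (tt N1693 F7832) (tt N1887 F8610) (tt N1503 (iv D1726)) (tt N1888 (iv F8615)))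
theorem Q1695 : ∀ i, i < 1695 → P i := stepQ 1694 Q1694 (allL N1694 (tt N1886 (iv F8597)) (tt N1888 (iv F8612)) (tt N1508 F7833) (tt N1896 D1929) (tt N1887 F8609) (tt N1694 F7834) (tt N1505 F7835) (tt N1504 (iv D1727)) (tt N1889 (iv F8623)))
theorem Q1696 : ∀ i, i < 1696 → P i := stepQ 1695 Q1695 (allL N1695 (tt N1780 (iv F8213)) (tt N1892 (iv F8635)) (tt N1512 F7836) (tt N1505 (iv D1728)) (tt N1897 D1930) (tt N1506 F7837) (tt N1896 (iv F8648)) (tt N1843 (iv F8453)) (tt N1791 (iv F8265)))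
theorem Q1697 : ∀ i, i < 1697 → P i := stepQ 1696 Q1696 (allL N1696 (tt N1711 (iv F7900)) (tt N1893 (iv F8638)) (tt N1513 F7838) (tt N1696 F7839) (tt N1506 (iv D1729)) (tt N1898 D1931) (tt N1696 F7840) (tt N1845 (iv F8458)) (tt N1717 (iv F7937)))
theorem Q1698 : ∀ i, i < 1698 → P i := stepQ 1697 Q1697 (allL N1697 (tt N1824 (iv F8385)) (tt N1697 F7841) (tt N1894 (iv F8642)) (tt N1697 F7842) (tt N1856 (iv F8490)) (tt N1697 F7843) (tt N1815 (iv F8356)) (tt N1509 (iv D1730)) (tt N1899 D1932))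
theorem Q1699 : ∀ i, i < 1699 → P i := stepQ 1698 Q1698 (allL N1698 (tt N1783 (iv F8227)) (tt N1698 F7844) (tt N1896 (iv F8646)) (tt N1511 (iv D1731)) (tt N1900 D1933) (tt N1698 F7845) (tt N1512 F7846) (tt N1871 (iv F8546)) (tt N1794 (iv F8277)))
theorem Q1700 : ∀ i, i < 1700 → P i := stepQ 1699 Q1699 (allL N1699 (tt N1782 (iv F8223)) (tt N1699 F7847) (tt N1897 (iv F8649)) (tt N1699 F7848) (tt N1512 (iv D1732)) (tt N1901 D1934) (tt N1900 (iv F8657)) (tt N1873 (iv F8553)) (tt N1793 (iv F8272)))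
theorem Q1701 : ∀ i, i < 1701 → P i := stepQ 1700 Q1700 (allL N1700 (tt N1712 (iv F7906)) (tt N1700 F7849) (tt N1898 (iv F8650)) (tt N1514 F7850) (tt N1901 (iv F8660)) (tt N1513 (iv D1733)) (tt N1884 (iv F8589)) (tt N1875 (iv F8559)) (tt N1718 (iv F7941)))
theorem Q1702 : ∀ i, i < 1702 → P i := stepQ 1701 Q1701 (allL N1701 (tt N1522 F7851) (tt N1701 F7852) (tt N1902 D1935) (tt N1521 (iv D1734)) (tt N1701 F7853) (tt N1903 D1936) (tt N1701 F7854) (tt N1904 D1937) (tt N1701 F7855))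
theorem Q1703 : ∀ i, i < 1703 → P i := stepQ 1702 Q1702 (allL N1702 (tt N1523 F7856) (tt N1702 F7857) (tt N1702 F7858) (tt N1903 (iv F8668)) (tt N1702 F7859) (tt N1521 (iv D1735)) (tt N1905 D1938) (tt N1532 F7860) (tt N1702 F7861))
theorem Q1704 : ∀ i, i < 1704 → P i := stepQ 1703 Q1703 (allL N1703 (tt N1902 (iv F8661)) (tt N1703 F7862) (tt N1522 (iv D1736)) (tt N1703 F7863) (tt N1703 F7864) (tt N1906 D1939) (tt N1703 F7865) (tt N1907 D1940) (tt N1703 F7866))
theorem Q1705 : ∀ i, i < 1705 → P i := stepQ 1704 Q1704 (allL N1704 (tt N1903 (iv F8666)) (tt N1524 F7867) (tt N1906 (iv F8683)) (tt N1523 F7868) (tt N1908 D1941) (tt N1522 (iv D1737)) (tt N1909 D1942) (tt N1910 D1943) (tt N1704 F7869))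
theorem Q1706 : ∀ i, i < 1706 → P i := stepQ 1705 Q1705 (allL N1705 (tt N1904 (iv F8670)) (tt N1525 F7870) (tt N1907 (iv F8687)) (tt N1535 F7871) (tt N1705 F7872) (tt N1910 (iv F8700)) (tt N1705 F7873) (tt N1522 (iv D1738)) (tt N1911 D1944))
theorem Q1707 : ∀ i, i < 1707 → P i := stepQ 1706 Q1706 (allL N1706 (tt N1905 (iv F8675)) (tt N1526 F7874) (tt N1706 F7875) (tt N1909 (iv F8695)) (tt N1706 F7876) (tt N1706 F7877) (tt N1523 (iv D1739)) (tt N1536 F7878) (tt N1706 F7879))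
theorem Q1708 : ∀ i, i < 1708 → P i := stepQ 1707 Q1707 (allL N1707 (tt N1707 F7880) (tt N1908 (iv F8690)) (tt N1707 F7881) (tt N1707 F7882) (tt N1524 (iv D1740)) (tt N1707 F7883) (tt N1912 D1945) (tt N1913 D1946) (tt N1707 F7884))
theorem Q1709 : ∀ i, i < 1709 → P i := stepQ 1708 Q1708 (allL N1708 (tt N1708 F7885) (tt N1909 (iv F8694)) (tt N1708 F7886) (tt N1526 F7887) (tt N1912 (iv F8709)) (tt N1708 F7888) (tt N1524 (iv D1741)) (tt N1914 D1947) (tt N1708 F7889))
theorem Q1710 : ∀ i, i < 1710 → P i := stepQ 1709 Q1709 (allL N1709 (tt N1709 F7890) (tt N1910 (iv F8698)) (tt N1709 F7891) (tt N1539 F7892) (tt N1913 (iv F8713)) (tt N1525 F7893) (tt N1914 (iv F8719)) (tt N1524 (iv D1742)) (tt N1915 D1948))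
theorem Q1711 : ∀ i, i < 1711 → P i := stepQ 1710 Q1710 (allL N1710 (tt N1710 F7894) (tt N1911 (iv F8701)) (tt N1710 F7895) (tt N1540 F7896) (tt N1710 F7897) (tt N1915 (iv F8723)) (tt N1710 F7898) (tt N1710 F7899) (tt N1525 (iv D1743)))
theorem Q1712 : ∀ i, i < 1712 → P i := stepQ 1711 Q1711 (allL N1711 (tt N1696 F7900) (tt N1546 F7901) (tt N1527 (iv D1744)) (tt N1711 F7902) (tt N1583 F7903) (tt N1916 D1949) (tt N1711 F7904) (tt N1917 D1950) (tt N1533 F7905))
theorem Q1713 : ∀ i, i < 1713 → P i := stepQ 1712 Q1712 (allL N1712 (tt N1700 F7906) (tt N1529 F7907) (tt N1916 (iv F8727)) (tt N1528 F7908) (tt N1918 D1951) (tt N1527 (iv D1745)) (tt N1672 (iv F7910)) (tt N1919 D1952) (tt N1534 F7909))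
theorem Q1714 : ∀ i, i < 1714 → P i := stepQ 1713 Q1713 (allL N1713 (tt N1661 F7911) (tt N1530 F7912) (tt N1917 (iv F8733)) (tt N1713 F7913) (tt N1585 F7914) (tt N1919 (iv F8745)) (tt N1713 F7915) (tt N1527 (iv D1746)) (tt N1920 D1953))
theorem Q1715 : ∀ i, i < 1715 → P i := stepQ 1714 Q1714 (allL N1714 (tt N1714 F7916) (tt N1918 (iv F8737)) (tt N1549 F7917) (tt N1714 F7918) (tt N1529 (iv D1747)) (tt N1587 F7919) (tt N1647 F7920) (tt N1921 D1954) (tt N1537 F7921))
theorem Q1716 : ∀ i, i < 1716 → P i := stepQ 1715 Q1715 (allL N1715 (tt N1715 F7922) (tt N1919 (iv F8743)) (tt N1550 F7923) (tt N1715 F7924) (tt N1921 (iv F8755)) (tt N1530 F7925) (tt N1668 F7926) (tt N1529 (iv D1748)) (tt N1922 D1955))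
theorem Q1717 : ∀ i, i < 1717 → P i := stepQ 1716 Q1716 (allL N1716 (tt N1716 F7927) (tt N1920 (iv F8748)) (tt N1551 F7928) (tt N1716 F7929) (tt N1590 F7930) (tt N1922 (iv F8761)) (tt N1716 F7931) (tt N1540 F7932) (tt N1530 (iv D1749)))
theorem Q1718 : ∀ i, i < 1718 → P i := stepQ 1717 Q1717 (allL N1717 (tt N1533 F7933) (tt N1923 D1956) (tt N1531 (iv D1750)) (tt N1717 F7934) (tt N1591 F7935) (tt N1924 D1957) (tt N1717 F7936) (tt N1925 D1958) (tt N1696 F7937))
theorem Q1719 : ∀ i, i < 1719 → P i := stepQ 1718 Q1718 (allL N1718 (tt N1534 F7938) (tt N1718 F7939) (tt N1924 (iv F8771)) (tt N1532 F7940) (tt N1926 D1959) (tt N1531 (iv D1751)) (tt N1927 D1960) (tt N1928 D1961) (tt N1700 F7941))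
theorem Q1720 : ∀ i, i < 1720 → P i := stepQ 1719 Q1719 (allL N1719 (tt N1535 F7942) (tt N1719 F7943) (tt N1925 (iv F8775)) (tt N1904 (iv F8672)) (tt N1593 F7944) (tt N1928 (iv F8790)) (tt N1719 F7945) (tt N1531 (iv D1752)) (tt N1929 D1962))
theorem Q1721 : ∀ i, i < 1721 → P i := stepQ 1720 Q1720 (allL N1720 (tt N1536 F7946) (tt N1720 F7947) (tt N1720 F7948) (tt N1927 (iv F8785)) (tt N1720 F7949) (tt N1720 F7950) (tt N1532 (iv D1753)) (tt N1905 (iv F8680)) (tt N1673 F7951))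
theorem Q1722 : ∀ i, i < 1722 → P i := stepQ 1721 Q1721 (allL N1721 (tt N1924 (iv F8770)) (tt N1556 F7952) (tt N1534 F7953) (tt N1721 F7954) (tt N1930 D1963) (tt N1533 (iv D1754)) (tt N1931 D1964) (tt N1932 D1965) (tt N1916 (iv F8729)))
theorem Q1723 : ∀ i, i < 1723 → P i := stepQ 1722 Q1722 (allL N1722 (tt N1925 (iv F8774)) (tt N1557 F7955) (tt N1535 F7956) (tt N1933 D1966) (tt N1596 F7957) (tt N1932 (iv F8806)) (tt N1722 F7958) (tt N1533 (iv D1755)) (tt N1934 D1967))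
theorem Q1724 : ∀ i, i < 1724 → P i := stepQ 1723 Q1723 (allL N1723 (tt N1926 (iv F8778)) (tt N1537 F7959) (tt N1930 (iv F8797)) (tt N1723 F7960) (tt N1534 (iv D1756)) (tt N1597 F7961) (tt N1935 D1968) (tt N1936 D1969) (tt N1918 (iv F8741)))
theorem Q1725 : ∀ i, i < 1725 → P i := stepQ 1724 Q1724 (allL N1724 (tt N1927 (iv F8783)) (tt N1538 F7962) (tt N1931 (iv F8800)) (tt N1536 F7963) (tt N1935 (iv F8816)) (tt N1724 F7964) (tt N1534 (iv D1757)) (tt N1937 D1970) (tt N1672 F7965))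
theorem Q1726 : ∀ i, i < 1726 → P i := stepQ 1725 Q1725 (allL N1725 (tt N1928 (iv F8788)) (tt N1539 F7966) (tt N1932 (iv F8805)) (tt N1910 (iv F8699)) (tt N1936 (iv F8819)) (tt N1535 F7967) (tt N1937 (iv F8823)) (tt N1534 (iv D1758)) (tt N1938 D1971))
theorem Q1727 : ∀ i, i < 1727 → P i := stepQ 1726 Q1726 (allL N1726 (tt N1929 (iv F8791)) (tt N1540 F7968) (tt N1934 (iv F8811)) (tt N1911 (iv F8702)) (tt N1600 F7969) (tt N1938 (iv F8825)) (tt N1726 F7970) (tt N1920 (iv F8752)) (tt N1535 (iv D1759)))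
theorem Q1728 : ∀ i, i < 1728 → P i := stepQ 1727 Q1727 (allL N1727 (tt N1727 F7971) (tt N1935 (iv F8814)) (tt N1562 F7972) (tt N1727 F7973) (tt N1538 F7974) (tt N1939 D1972) (tt N1537 (iv D1760)) (tt N1940 D1973) (tt N1647 F7975))
theorem Q1729 : ∀ i, i < 1729 → P i := stepQ 1728 Q1728 (allL N1728 (tt N1728 F7976) (tt N1936 (iv F8818)) (tt N1563 F7977) (tt N1941 D1974) (tt N1539 F7978) (tt N1602 F7979) (tt N1940 (iv F8835)) (tt N1537 (iv D1761)) (tt N1942 D1975))
theorem Q1730 : ∀ i, i < 1730 → P i := stepQ 1729 Q1729 (allL N1729 (tt N1729 F7980) (tt N1937 (iv F8821)) (tt N1564 F7981) (tt N1914 (iv F8717)) (tt N1940 (iv F8834)) (tt N1729 F7982) (tt N1539 F7983) (tt N1538 (iv D1762)) (tt N1943 D1976))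
theorem Q1731 : ∀ i, i < 1731 → P i := stepQ 1730 Q1730 (allL N1730 (tt N1730 F7984) (tt N1938 (iv F8824)) (tt N1565 F7985) (tt N1915 (iv F8722)) (tt N1942 (iv F8841)) (tt N1540 F7986) (tt N1943 (iv F8846)) (tt N1922 (iv F8763)) (tt N1539 (iv D1763)))
theorem Q1732 : ∀ i, i < 1732 → P i := stepQ 1731 Q1731 (allL N1731 (tt N1542 F7987) (tt N1731 F7988) (tt N1944 D1977) (tt N1541 (iv D1764)) (tt N1731 F7989) (tt N1652 F7990) (tt N1731 F7991) (tt N1945 D1978) (tt N1731 F7992))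
theorem Q1733 : ∀ i, i < 1733 → P i := stepQ 1732 Q1732 (allL N1732 (tt N1944 (iv F8848)) (tt N1732 F7993) (tt N1542 (iv D1765)) (tt N1732 F7994) (tt N1732 F7995) (tt N1656 F7996) (tt N1732 F7997) (tt N1946 D1979) (tt N1732 F7998))
theorem Q1734 : ∀ i, i < 1734 → P i := stepQ 1733 Q1733 (allL N1733 (tt N1945 (iv F8854)) (tt N1543 F7999) (tt N1946 (iv F8861)) (tt N1548 F8000) (tt N1733 F8001) (tt N1663 F8002) (tt N1733 F8003) (tt N1542 (iv D1766)) (tt N1947 D1980))
theorem Q1735 : ∀ i, i < 1735 → P i := stepQ 1734 Q1734 (allL N1734 (tt N1734 F8004) (tt N1947 (iv F8865)) (tt N1734 F8005) (tt N1551 F8006) (tt N1734 F8007) (tt N1667 F8008) (tt N1734 F8009) (tt N1734 F8010) (tt N1543 (iv D1767)))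
theorem Q1736 : ∀ i, i < 1736 → P i := stepQ 1735 Q1735 (allL N1735 (tt N1546 F8011) (tt N1948 D1981) (tt N1544 (iv D1768)) (tt N1735 F8012) (tt N1605 F8013) (tt N1949 D1982) (tt N1735 F8014) (tt N1950 D1983) (tt N1552 F8015))
theorem Q1737 : ∀ i, i < 1737 → P i := stepQ 1736 Q1736 (allL N1736 (tt N1547 F8016) (tt N1736 F8017) (tt N1949 (iv F8878)) (tt N1545 F8018) (tt N1951 D1984) (tt N1544 (iv D1769)) (tt N1670 (iv F8020)) (tt N1952 D1985) (tt N1553 F8019))
theorem Q1738 : ∀ i, i < 1738 → P i := stepQ 1737 Q1737 (allL N1737 (tt N1548 F8021) (tt N1737 F8022) (tt N1950 (iv F8883)) (tt N1945 (iv F8856)) (tt N1607 F8023) (tt N1952 (iv F8895)) (tt N1737 F8024) (tt N1544 (iv D1770)) (tt N1953 D1986))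
theorem Q1739 : ∀ i, i < 1739 → P i := stepQ 1738 Q1738 (allL N1738 (tt N1949 (iv F8877)) (tt N1916 (iv F8726)) (tt N1547 F8025) (tt N1738 F8026) (tt N1954 D1987) (tt N1546 (iv D1771)) (tt N1671 (iv F8028)) (tt N1955 D1988) (tt N1556 F8027))
theorem Q1740 : ∀ i, i < 1740 → P i := stepQ 1739 Q1739 (allL N1739 (tt N1950 (iv F8882)) (tt N1917 (iv F8732)) (tt N1548 F8029) (tt N1956 D1989) (tt N1609 F8030) (tt N1955 (iv F8907)) (tt N1739 F8031) (tt N1546 (iv D1772)) (tt N1957 D1990))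
theorem Q1741 : ∀ i, i < 1741 → P i := stepQ 1740 Q1740 (allL N1740 (tt N1951 (iv F8886)) (tt N1549 F8032) (tt N1954 (iv F8902)) (tt N1568 F8033) (tt N1547 (iv D1773)) (tt N1610 F8034) (tt N1646 F8035) (tt N1958 D1991) (tt N1558 F8036))
theorem Q1742 : ∀ i, i < 1742 → P i := stepQ 1741 Q1741 (allL N1741 (tt N1952 (iv F8892)) (tt N1550 F8037) (tt N1955 (iv F8906)) (tt N1663 F8038) (tt N1958 (iv F8917)) (tt N1548 F8039) (tt N1664 F8040) (tt N1547 (iv D1774)) (tt N1959 D1992))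
theorem Q1743 : ∀ i, i < 1743 → P i := stepQ 1742 Q1742 (allL N1742 (tt N1953 (iv F8897)) (tt N1551 F8041) (tt N1957 (iv F8911)) (tt N1947 (iv F8866)) (tt N1613 F8042) (tt N1959 (iv F8922)) (tt N1742 F8043) (tt N1561 F8044) (tt N1548 (iv D1775)))
theorem Q1744 : ∀ i, i < 1744 → P i := stepQ 1743 Q1743 (allL N1743 (tt N1743 F8045) (tt N1958 (iv F8915)) (tt N1921 (iv F8754)) (tt N1635 F8046) (tt N1550 F8047) (tt N1615 F8048) (tt N1636 F8049) (tt N1549 (iv D1776)) (tt N1960 D1993))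
theorem Q1745 : ∀ i, i < 1745 → P i := stepQ 1744 Q1744 (allL N1744 (tt N1744 F8050) (tt N1959 (iv F8920)) (tt N1922 (iv F8759)) (tt N1667 F8051) (tt N1960 (iv F8927)) (tt N1551 F8052) (tt N1669 F8053) (tt N1565 F8054) (tt N1550 (iv D1777)))
theorem Q1746 : ∀ i, i < 1746 → P i := stepQ 1745 Q1745 (allL N1745 (tt N1923 (iv F8764)) (tt N1552 (iv D1778)) (tt N1745 F8055) (tt N1745 F8056) (tt N1618 F8057) (tt N1961 D1994) (tt N1745 F8058) (tt N1962 D1995) (tt N1948 (iv F8876)))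
theorem Q1747 : ∀ i, i < 1747 → P i := stepQ 1746 Q1746 (allL N1746 (tt N1556 F8059) (tt N1961 (iv F8931)) (tt N1553 F8060) (tt N1746 F8061) (tt N1963 D1996) (tt N1552 (iv D1779)) (tt N1964 D1997) (tt N1965 D1998) (tt N1949 (iv F8880)))
theorem Q1748 : ∀ i, i < 1748 → P i := stepQ 1747 Q1747 (allL N1747 (tt N1557 F8062) (tt N1962 (iv F8934)) (tt N1554 F8063) (tt N1966 D1999) (tt N1620 F8064) (tt N1965 (iv F8948)) (tt N1747 F8065) (tt N1552 (iv D1780)) (tt N1967 D2000))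
theorem Q1749 : ∀ i, i < 1749 → P i := stepQ 1748 Q1748 (allL N1748 (tt N1558 F8066) (tt N1748 F8067) (tt N1963 (iv F8939)) (tt N1570 F8068) (tt N1553 (iv D1781)) (tt N1621 F8069) (tt N1968 D2001) (tt N1969 D2002) (tt N1951 (iv F8891)))
theorem Q1750 : ∀ i, i < 1750 → P i := stepQ 1749 Q1749 (allL N1749 (tt N1559 F8070) (tt N1749 F8071) (tt N1964 (iv F8942)) (tt N1555 F8072) (tt N1968 (iv F8960)) (tt N1749 F8073) (tt N1553 (iv D1782)) (tt N1970 D2003) (tt N1670 F8074))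
theorem Q1751 : ∀ i, i < 1751 → P i := stepQ 1750 Q1750 (allL N1750 (tt N1560 F8075) (tt N1750 F8076) (tt N1965 (iv F8947)) (tt N1750 F8077) (tt N1969 (iv F8965)) (tt N1554 F8078) (tt N1970 (iv F8971)) (tt N1553 (iv D1783)) (tt N1971 D2004))
theorem Q1752 : ∀ i, i < 1752 → P i := stepQ 1751 Q1751 (allL N1751 (tt N1561 F8079) (tt N1751 F8080) (tt N1967 (iv F8954)) (tt N1751 F8081) (tt N1624 F8082) (tt N1971 (iv F8975)) (tt N1751 F8083) (tt N1953 (iv F8901)) (tt N1554 (iv D1784)))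
theorem Q1753 : ∀ i, i < 1753 → P i := stepQ 1752 Q1752 (allL N1752 (tt N1963 (iv F8938)) (tt N1930 (iv F8796)) (tt N1558 F8084) (tt N1972 D2005) (tt N1556 (iv D1785)) (tt N1625 F8085) (tt N1973 D2006) (tt N1974 D2007) (tt N1954 (iv F8905)))
theorem Q1754 : ∀ i, i < 1754 → P i := stepQ 1753 Q1753 (allL N1753 (tt N1964 (iv F8941)) (tt N1931 (iv F8799)) (tt N1559 F8086) (tt N1753 F8087) (tt N1973 (iv F8980)) (tt N1753 F8088) (tt N1556 (iv D1786)) (tt N1975 D2008) (tt N1671 F8089))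
theorem Q1755 : ∀ i, i < 1755 → P i := stepQ 1754 Q1754 (allL N1754 (tt N1965 (iv F8946)) (tt N1932 (iv F8804)) (tt N1560 F8090) (tt N1976 D2009) (tt N1974 (iv F8983)) (tt N1557 F8091) (tt N1975 (iv F8987)) (tt N1556 (iv D1787)) (tt N1977 D2010))
theorem Q1756 : ∀ i, i < 1756 → P i := stepQ 1755 Q1755 (allL N1755 (tt N1966 (iv F8949)) (tt N1933 (iv F8807)) (tt N1755 F8092) (tt N1557 (iv D1788)) (tt N1978 D2011) (tt N1976 (iv F8989)) (tt N1755 F8093) (tt N1755 F8094) (tt N1979 D2012))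
theorem Q1757 : ∀ i, i < 1757 → P i := stepQ 1756 Q1756 (allL N1756 (tt N1967 (iv F8953)) (tt N1934 (iv F8810)) (tt N1561 F8095) (tt N1979 (iv F8998)) (tt N1629 F8096) (tt N1977 (iv F8992)) (tt N1756 F8097) (tt N1957 (iv F8914)) (tt N1557 (iv D1789)))
theorem Q1758 : ∀ i, i < 1758 → P i := stepQ 1757 Q1757 (allL N1757 (tt N1968 (iv F8957)) (tt N1562 F8098) (tt N1973 (iv F8979)) (tt N1574 F8099) (tt N1559 F8100) (tt N1980 D2013) (tt N1558 (iv D1790)) (tt N1981 D2014) (tt N1646 F8101))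
theorem Q1759 : ∀ i, i < 1759 → P i := stepQ 1758 Q1758 (allL N1758 (tt N1969 (iv F8963)) (tt N1563 F8102) (tt N1974 (iv F8982)) (tt N1982 D2015) (tt N1560 F8103) (tt N1631 F8104) (tt N1981 (iv F9008)) (tt N1558 (iv D1791)) (tt N1983 D2016))
theorem Q1760 : ∀ i, i < 1760 → P i := stepQ 1759 Q1759 (allL N1759 (tt N1970 (iv F8967)) (tt N1564 F8105) (tt N1975 (iv F8985)) (tt N1759 F8106) (tt N1981 (iv F9007)) (tt N1759 F8107) (tt N1560 F8108) (tt N1559 (iv D1792)) (tt N1984 D2017))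
theorem Q1761 : ∀ i, i < 1761 → P i := stepQ 1760 Q1760 (allL N1760 (tt N1971 (iv F8972)) (tt N1565 F8109) (tt N1977 (iv F8991)) (tt N1760 F8110) (tt N1983 (iv F9014)) (tt N1561 F8111) (tt N1984 (iv F9019)) (tt N1959 (iv F8924)) (tt N1560 (iv D1793)))
theorem Q1762 : ∀ i, i < 1762 → P i := stepQ 1761 Q1761 (allL N1761 (tt N1761 F8112) (tt N1980 (iv F9001)) (tt N1939 (iv F8827)) (tt N1577 F8113) (tt N1761 F8114) (tt N1562 (iv D1794)) (tt N1634 F8115) (tt N1985 D2018) (tt N1579 F8116))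
theorem Q1763 : ∀ i, i < 1763 → P i := stepQ 1762 Q1762 (allL N1762 (tt N1762 F8117) (tt N1981 (iv F9006)) (tt N1940 (iv F8833)) (tt N1986 D2019) (tt N1564 F8118) (tt N1985 (iv F9024)) (tt N1563 F8119) (tt N1562 (iv D1795)) (tt N1987 D2020))
theorem Q1764 : ∀ i, i < 1764 → P i := stepQ 1763 Q1763 (allL N1763 (tt N1763 F8120) (tt N1982 (iv F9009)) (tt N1988 D2021) (tt N1563 (iv D1796)) (tt N1763 F8121) (tt N1636 F8122) (tt N1986 (iv F9029)) (tt N1579 F8123) (tt N1989 D2022))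
theorem Q1765 : ∀ i, i < 1765 → P i := stepQ 1764 Q1764 (allL N1764 (tt N1764 F8124) (tt N1983 (iv F9013)) (tt N1942 (iv F8840)) (tt N1989 (iv F9040)) (tt N1565 F8125) (tt N1637 F8126) (tt N1987 (iv F9033)) (tt N1960 (iv F8930)) (tt N1563 (iv D1797)))
theorem Q1766 : ∀ i, i < 1766 → P i := stepQ 1765 Q1765 (allL N1765 (tt N1765 F8127) (tt N1984 (iv F9016)) (tt N1943 (iv F8844)) (tt N1765 F8128) (tt N1987 (iv F9032)) (tt N1765 F8129) (tt N1565 F8130) (tt N1669 F8131) (tt N1564 (iv D1798)))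
theorem Q1767 : ∀ i, i < 1767 → P i := stepQ 1766 Q1766 (allL N1766 (tt N1568 F8132) (tt N1766 F8133) (tt N1642 F8134) (tt N1951 (iv F8888)) (tt N1566 (iv D1799)) (tt N1639 F8135) (tt N1643 F8136) (tt N1640 F8137) (tt N1570 F8138))
theorem Q1768 : ∀ i, i < 1768 → P i := stepQ 1767 Q1767 (allL N1767 (tt N1642 F8139) (tt N1767 F8140) (tt N1568 F8141) (tt N1990 D2023) (tt N1567 (iv D1800)) (tt N1640 F8142) (tt N1645 F8143) (tt N1639 F8144) (tt N1573 F8145))
theorem Q1769 : ∀ i, i < 1769 → P i := stepQ 1768 Q1768 (allL N1768 (tt N1573 F8146) (tt N1578 F8147) (tt N1570 F8148) (tt N1991 D2024) (tt N1569 (iv D1801)) (tt N1641 F8149) (tt N1575 F8150) (tt N1574 F8151) (tt N1642 F8152))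
theorem Q1770 : ∀ i, i < 1770 → P i := stepQ 1769 Q1769 (allL N1769 (tt N1574 F8153) (tt N1769 F8154) (tt N1575 F8155) (tt N1968 (iv F8959)) (tt N1571 F8156) (tt N1645 F8157) (tt N1570 (iv D1802)) (tt N1573 (iv F8159)) (tt N1643 F8158))
theorem Q1771 : ∀ i, i < 1771 → P i := stepQ 1770 Q1770 (allL N1770 (tt N1575 F8160) (tt N1770 F8161) (tt N1574 F8162) (tt N1992 D2025) (tt N1572 F8163) (tt N1643 F8164) (tt N1573 F8165) (tt N1570 (iv D1803)) (tt N1645 F8166))
theorem Q1772 : ∀ i, i < 1772 → P i := stepQ 1771 Q1771 (allL N1771 (tt N1991 (iv F9049)) (tt N1771 F8167) (tt N1972 (iv F8976)) (tt N1573 (iv D1804)) (tt N1771 F8168) (tt N1644 F8169) (tt N1992 (iv F9059)) (tt N1993 D2026) (tt N1990 (iv F9048)))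
theorem Q1773 : ∀ i, i < 1773 → P i := stepQ 1772 Q1772 (allL N1772 (tt N1645 F8170) (tt N1577 F8171) (tt N1643 F8172) (tt N1980 (iv F9002)) (tt N1576 F8173) (tt N1574 (iv D1805)) (tt N1642 F8174) (tt N1641 F8175) (tt N1575 F8176))
theorem Q1774 : ∀ i, i < 1774 → P i := stepQ 1773 Q1773 (allL N1773 (tt N1992 (iv F9055)) (tt N1579 F8177) (tt N1994 D2027) (tt N1575 (iv D1806)) (tt N1773 F8178) (tt N1646 F8179) (tt N1991 (iv F9053)) (tt N1982 (iv F9012)) (tt N1980 (iv F9005)))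
theorem Q1775 : ∀ i, i < 1775 → P i := stepQ 1774 Q1774 (allL N1774 (tt N1774 F8180) (tt N1991 (iv F9050)) (tt N1995 D2028) (tt N1578 (iv D1807)) (tt N1774 F8181) (tt N1614 F8182) (tt N1579 F8183) (tt N1986 (iv F9030)) (tt N1634 F8184))
theorem Q1776 : ∀ i, i < 1776 → P i := stepQ 1775 Q1775 (allL N1775 (tt N1775 F8185) (tt N1996 D2029) (tt N1579 (iv D1808)) (tt N1775 F8186) (tt N1775 F8187) (tt N1647 F8188) (tt N1995 (iv F9070)) (tt N1988 (iv F9038)) (tt N1939 (iv F8831)))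
theorem Q1777 : ∀ i, i < 1777 → P i := stepQ 1776 Q1776 (allL N1776 (tt N1776 F8189) (tt N1648 F8190) (tt N1776 F8191) (tt N1776 F8192) (tt N1580 (iv D1809)) (tt N1776 F8193) (tt N1997 D2030) (tt N1998 D2031) (tt N1776 F8194))
theorem Q1778 : ∀ i, i < 1778 → P i := stepQ 1777 Q1777 (allL N1777 (tt N1777 F8195) (tt N1649 F8196) (tt N1777 F8197) (tt N1582 F8198) (tt N1997 (iv F9079)) (tt N1777 F8199) (tt N1580 (iv D1810)) (tt N1999 D2032) (tt N1777 F8200))
theorem Q1779 : ∀ i, i < 1779 → P i := stepQ 1778 Q1778 (allL N1778 (tt N1778 F8201) (tt N1650 F8202) (tt N1778 F8203) (tt N1589 F8204) (tt N1998 (iv F9084)) (tt N1581 F8205) (tt N1999 (iv F9091)) (tt N1580 (iv D1811)) (tt N2000 D2033))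
theorem Q1780 : ∀ i, i < 1780 → P i := stepQ 1779 Q1779 (allL N1779 (tt N1779 F8206) (tt N1651 F8207) (tt N1779 F8208) (tt N1590 F8209) (tt N1779 F8210) (tt N2000 (iv F9096)) (tt N1779 F8211) (tt N1779 F8212) (tt N1581 (iv D1812)))
theorem Q1781 : ∀ i, i < 1781 → P i := stepQ 1780 Q1780 (allL N1780 (tt N1695 F8213) (tt N1608 F8214) (tt N1584 F8215) (tt N1674 F8216) (tt N2001 D2034) (tt N1583 (iv D1813)) (tt N2002 D2035) (tt N2003 D2036) (tt N1595 F8217))
theorem Q1782 : ∀ i, i < 1782 → P i := stepQ 1781 Q1781 (allL N1781 (tt N1628 F8218) (tt N1609 F8219) (tt N1585 F8220) (tt N1620 F8221) (tt N1917 (iv F8734)) (tt N2003 (iv F9112)) (tt N1781 F8222) (tt N1583 (iv D1814)) (tt N2004 D2037))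
theorem Q1783 : ∀ i, i < 1783 → P i := stepQ 1782 Q1782 (allL N1782 (tt N1699 F8223) (tt N1587 F8224) (tt N2001 (iv F9100)) (tt N1782 F8225) (tt N1584 (iv D1815)) (tt N1918 (iv F8739)) (tt N2005 D2038) (tt N2006 D2039) (tt N1597 F8226))
theorem Q1784 : ∀ i, i < 1784 → P i := stepQ 1783 Q1783 (allL N1783 (tt N1698 F8227) (tt N1588 F8228) (tt N2002 (iv F9104)) (tt N1586 F8229) (tt N2005 (iv F9122)) (tt N1783 F8230) (tt N1584 (iv D1816)) (tt N2007 D2040) (tt N1598 F8231))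
theorem Q1785 : ∀ i, i < 1785 → P i := stepQ 1784 Q1784 (allL N1784 (tt N1659 F8232) (tt N1589 F8233) (tt N2003 (iv F9110)) (tt N1650 F8234) (tt N2006 (iv F9126)) (tt N1585 F8235) (tt N2007 (iv F9131)) (tt N1584 (iv D1817)) (tt N2008 D2041))
theorem Q1786 : ∀ i, i < 1786 → P i := stepQ 1785 Q1785 (allL N1785 (tt N1662 F8236) (tt N1590 F8237) (tt N2004 (iv F9115)) (tt N1651 F8238) (tt N1920 (iv F8750)) (tt N2008 (iv F9135)) (tt N1785 F8239) (tt N1600 F8240) (tt N1585 (iv D1818)))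
theorem Q1787 : ∀ i, i < 1787 → P i := stepQ 1786 Q1786 (allL N1786 (tt N1786 F8241) (tt N2005 (iv F9120)) (tt N1614 F8242) (tt N1786 F8243) (tt N1588 F8244) (tt N1995 (iv F9069)) (tt N1587 (iv D1819)) (tt N2009 D2042) (tt N1601 F8245))
theorem Q1788 : ∀ i, i < 1788 → P i := stepQ 1787 Q1787 (allL N1787 (tt N1787 F8246) (tt N2006 (iv F9125)) (tt N1615 F8247) (tt N2010 D2043) (tt N1589 F8248) (tt N1921 (iv F8756)) (tt N2009 (iv F9140)) (tt N1587 (iv D1820)) (tt N2011 D2044))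
theorem Q1789 : ∀ i, i < 1789 → P i := stepQ 1788 Q1788 (allL N1788 (tt N1788 F8249) (tt N2007 (iv F9128)) (tt N1616 F8250) (tt N1999 (iv F9089)) (tt N2009 (iv F9139)) (tt N1788 F8251) (tt N1589 F8252) (tt N1588 (iv D1821)) (tt N2012 D2045))
theorem Q1790 : ∀ i, i < 1790 → P i := stepQ 1789 Q1789 (allL N1789 (tt N1789 F8253) (tt N2008 (iv F9133)) (tt N1617 F8254) (tt N2000 (iv F9095)) (tt N2011 (iv F9145)) (tt N1590 F8255) (tt N2012 (iv F9150)) (tt N1604 F8256) (tt N1589 (iv D1822)))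
theorem Q1791 : ∀ i, i < 1791 → P i := stepQ 1790 Q1790 (allL N1790 (tt N1618 F8257) (tt N1591 (iv D1823)) (tt N1790 F8258) (tt N1677 F8259) (tt N1923 (iv F8767)) (tt N2013 D2046) (tt N1790 F8260) (tt N2014 D2047) (tt N1686 F8261))
theorem Q1792 : ∀ i, i < 1792 → P i := stepQ 1791 Q1791 (allL N1791 (tt N1595 F8262) (tt N2013 (iv F9153)) (tt N1592 F8263) (tt N1678 F8264) (tt N2015 D2048) (tt N1591 (iv D1824)) (tt N2016 D2049) (tt N2017 D2050) (tt N1695 F8265))
theorem Q1793 : ∀ i, i < 1793 → P i := stepQ 1792 Q1792 (allL N1792 (tt N1596 F8266) (tt N2014 (iv F9159)) (tt N1593 F8267) (tt N2018 D2051) (tt N1925 (iv F8776)) (tt N2017 (iv F9174)) (tt N1792 F8268) (tt N1591 (iv D1825)) (tt N2019 D2052))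
theorem Q1794 : ∀ i, i < 1794 → P i := stepQ 1793 Q1793 (allL N1793 (tt N1597 F8269) (tt N1793 F8270) (tt N2015 (iv F9164)) (tt N1793 F8271) (tt N1592 (iv D1826)) (tt N1926 (iv F8781)) (tt N2020 D2053) (tt N2021 D2054) (tt N1699 F8272))
theorem Q1795 : ∀ i, i < 1795 → P i := stepQ 1794 Q1794 (allL N1794 (tt N1598 F8273) (tt N1794 F8274) (tt N2016 (iv F9168)) (tt N1594 F8275) (tt N2020 (iv F9187)) (tt N1794 F8276) (tt N1592 (iv D1827)) (tt N2022 D2055) (tt N1698 F8277))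
theorem Q1796 : ∀ i, i < 1796 → P i := stepQ 1795 Q1795 (allL N1795 (tt N1599 F8278) (tt N1795 F8279) (tt N2017 (iv F9173)) (tt N1795 F8280) (tt N2021 (iv F9191)) (tt N1593 F8281) (tt N2022 (iv F9196)) (tt N1592 (iv D1828)) (tt N2023 D2056))
theorem Q1797 : ∀ i, i < 1797 → P i := stepQ 1796 Q1796 (allL N1796 (tt N1600 F8282) (tt N1796 F8283) (tt N2019 (iv F9181)) (tt N1796 F8284) (tt N1929 (iv F8793)) (tt N2023 (iv F9200)) (tt N1796 F8285) (tt N1662 F8286) (tt N1593 (iv D1829)))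
theorem Q1798 : ∀ i, i < 1798 → P i := stepQ 1797 Q1797 (allL N1797 (tt N2015 (iv F9163)) (tt N1625 F8287) (tt N1597 F8288) (tt N2024 D2057) (tt N1595 (iv D1830)) (tt N1930 (iv F8798)) (tt N2025 D2058) (tt N2026 D2059) (tt N2001 (iv F9101)))
theorem Q1799 : ∀ i, i < 1799 → P i := stepQ 1798 Q1798 (allL N1798 (tt N2016 (iv F9166)) (tt N1626 F8289) (tt N1598 F8290) (tt N1684 F8291) (tt N2025 (iv F9207)) (tt N1798 F8292) (tt N1595 (iv D1831)) (tt N2027 D2060) (tt N2002 (iv F9107)))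
theorem Q1800 : ∀ i, i < 1800 → P i := stepQ 1799 Q1799 (allL N1799 (tt N2017 (iv F9172)) (tt N1627 F8293) (tt N1599 F8294) (tt N2028 D2061) (tt N2026 (iv F9210)) (tt N1596 F8295) (tt N2027 (iv F9214)) (tt N1595 (iv D1832)) (tt N2029 D2062))
theorem Q1801 : ∀ i, i < 1801 → P i := stepQ 1800 Q1800 (allL N1800 (tt N2018 (iv F9175)) (tt N1628 F8296) (tt N1800 F8297) (tt N1596 (iv D1833)) (tt N2030 D2063) (tt N2028 (iv F9217)) (tt N1800 F8298) (tt N1686 F8299) (tt N2031 D2064))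
theorem Q1802 : ∀ i, i < 1802 → P i := stepQ 1801 Q1801 (allL N1801 (tt N2019 (iv F9180)) (tt N1629 F8300) (tt N1600 F8301) (tt N2031 (iv F9228)) (tt N1934 (iv F8812)) (tt N2029 (iv F9221)) (tt N1801 F8302) (tt N2004 (iv F9118)) (tt N1596 (iv D1834)))
theorem Q1803 : ∀ i, i < 1803 → P i := stepQ 1802 Q1802 (allL N1802 (tt N2020 (iv F9184)) (tt N1601 F8303) (tt N2025 (iv F9206)) (tt N1802 F8304) (tt N1598 F8305) (tt N2032 D2065) (tt N1597 (iv D1835)) (tt N2033 D2066) (tt N2005 (iv F9123)))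
theorem Q1804 : ∀ i, i < 1804 → P i := stepQ 1803 Q1803 (allL N1803 (tt N2021 (iv F9189)) (tt N1602 F8306) (tt N2026 (iv F9209)) (tt N2034 D2067) (tt N1599 F8307) (tt N1936 (iv F8820)) (tt N2033 (iv F9235)) (tt N1597 (iv D1836)) (tt N2035 D2068))
theorem Q1805 : ∀ i, i < 1805 → P i := stepQ 1804 Q1804 (allL N1804 (tt N2022 (iv F9192)) (tt N1603 F8308) (tt N2027 (iv F9212)) (tt N1804 F8309) (tt N2033 (iv F9234)) (tt N1804 F8310) (tt N1599 F8311) (tt N1598 (iv D1837)) (tt N2036 D2069))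
theorem Q1806 : ∀ i, i < 1806 → P i := stepQ 1805 Q1805 (allL N1805 (tt N2023 (iv F9197)) (tt N1604 F8312) (tt N2029 (iv F9220)) (tt N1805 F8313) (tt N2035 (iv F9240)) (tt N1600 F8314) (tt N2036 (iv F9244)) (tt N2008 (iv F9136)) (tt N1599 (iv D1838)))
theorem Q1807 : ∀ i, i < 1807 → P i := stepQ 1806 Q1806 (allL N1806 (tt N1806 F8315) (tt N2032 (iv F9230)) (tt N1634 F8316) (tt N1806 F8317) (tt N1806 F8318) (tt N1601 (iv D1839)) (tt N1939 (iv F8830)) (tt N2037 D2070) (tt N1995 (iv F9071)))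
theorem Q1808 : ∀ i, i < 1808 → P i := stepQ 1807 Q1807 (allL N1807 (tt N1807 F8319) (tt N2033 (iv F9233)) (tt N1635 F8320) (tt N2038 D2071) (tt N1603 F8321) (tt N2037 (iv F9248)) (tt N1602 F8322) (tt N1601 (iv D1840)) (tt N2039 D2072))
theorem Q1809 : ∀ i, i < 1809 → P i := stepQ 1808 Q1808 (allL N1808 (tt N1808 F8323) (tt N2034 (iv F9236)) (tt N2040 D2073) (tt N1602 (iv D1841)) (tt N1808 F8324) (tt N1941 (iv F8837)) (tt N2038 (iv F9251)) (tt N1808 F8325) (tt N2041 D2074))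
theorem Q1810 : ∀ i, i < 1810 → P i := stepQ 1809 Q1809 (allL N1809 (tt N1809 F8326) (tt N2035 (iv F9239)) (tt N1637 F8327) (tt N2041 (iv F9262)) (tt N1604 F8328) (tt N1942 (iv F8842)) (tt N2039 (iv F9256)) (tt N2011 (iv F9146)) (tt N1602 (iv D1842)))
theorem Q1811 : ∀ i, i < 1811 → P i := stepQ 1810 Q1810 (allL N1810 (tt N1810 F8329) (tt N2036 (iv F9241)) (tt N1638 F8330) (tt N1810 F8331) (tt N2039 (iv F9255)) (tt N1810 F8332) (tt N1604 F8333) (tt N2012 (iv F9151)) (tt N1603 (iv D1843)))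
theorem Q1812 : ∀ i, i < 1812 → P i := stepQ 1811 Q1811 (allL N1811 (tt N1686 F8334) (tt N1605 (iv D1844)) (tt N1811 F8335) (tt N1679 F8336) (tt N1948 (iv F8874)) (tt N2042 D2075) (tt N1811 F8337) (tt N2018 (iv F9179)) (tt N1618 F8338))
theorem Q1813 : ∀ i, i < 1813 → P i := stepQ 1812 Q1812 (allL N1812 (tt N1608 F8339) (tt N2042 (iv F9265)) (tt N1606 F8340) (tt N1688 F8341) (tt N2043 D2076) (tt N1605 (iv D1845)) (tt N1692 (iv F8343)) (tt N2044 D2077) (tt N1619 F8342))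
theorem Q1814 : ∀ i, i < 1814 → P i := stepQ 1813 Q1813 (allL N1813 (tt N1609 F8344) (tt N2018 (iv F9176)) (tt N1607 F8345) (tt N2014 (iv F9161)) (tt N1950 (iv F8884)) (tt N2044 (iv F9277)) (tt N1813 F8346) (tt N1605 (iv D1846)) (tt N2045 D2078))
theorem Q1815 : ∀ i, i < 1815 → P i := stepQ 1814 Q1814 (allL N1814 (tt N1610 F8347) (tt N1814 F8348) (tt N2043 (iv F9271)) (tt N1639 F8349) (tt N1606 (iv D1847)) (tt N1951 (iv F8889)) (tt N1644 F8350) (tt N2046 D2079) (tt N1621 F8351))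
theorem Q1816 : ∀ i, i < 1816 → P i := stepQ 1815 Q1815 (allL N1815 (tt N1612 F8352) (tt N1815 F8353) (tt N2044 (iv F9276)) (tt N1815 F8354) (tt N2046 (iv F9285)) (tt N1607 F8355) (tt N1697 F8356) (tt N1606 (iv D1848)) (tt N2047 D2080))
theorem Q1817 : ∀ i, i < 1817 → P i := stepQ 1816 Q1816 (allL N1816 (tt N1613 F8357) (tt N1816 F8358) (tt N2045 (iv F9280)) (tt N1816 F8359) (tt N1953 (iv F8899)) (tt N2047 (iv F9290)) (tt N1816 F8360) (tt N1624 F8361) (tt N1607 (iv D1849)))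
theorem Q1818 : ∀ i, i < 1818 → P i := stepQ 1817 Q1817 (allL N1817 (tt N2043 (iv F9270)) (tt N2001 (iv F9099)) (tt N1610 F8362) (tt N2048 D2081) (tt N1608 (iv D1850)) (tt N1954 (iv F8903)) (tt N2049 D2082) (tt N2050 D2083) (tt N1625 F8363))
theorem Q1819 : ∀ i, i < 1819 → P i := stepQ 1818 Q1818 (allL N1818 (tt N1692 F8364) (tt N2002 (iv F9103)) (tt N1611 F8365) (tt N1690 F8366) (tt N2049 (iv F9301)) (tt N1818 F8367) (tt N1608 (iv D1851)) (tt N2051 D2084) (tt N1626 F8368))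
theorem Q1820 : ∀ i, i < 1820 → P i := stepQ 1819 Q1819 (allL N1819 (tt N2044 (iv F9275)) (tt N2003 (iv F9109)) (tt N1612 F8369) (tt N2052 D2085) (tt N2050 (iv F9304)) (tt N1609 F8370) (tt N2051 (iv F9308)) (tt N1608 (iv D1852)) (tt N2053 D2086))
theorem Q1821 : ∀ i, i < 1821 → P i := stepQ 1820 Q1820 (allL N1820 (tt N2014 (iv F9158)) (tt N1620 F8371) (tt N1820 F8372) (tt N1609 (iv D1853)) (tt N1962 (iv F8936)) (tt N2052 (iv F9311)) (tt N1820 F8373) (tt N1618 F8374) (tt N2054 D2087))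
theorem Q1822 : ∀ i, i < 1822 → P i := stepQ 1821 Q1821 (allL N1821 (tt N2045 (iv F9279)) (tt N2004 (iv F9114)) (tt N1613 F8375) (tt N2054 (iv F9318)) (tt N1957 (iv F8912)) (tt N2053 (iv F9314)) (tt N1821 F8376) (tt N1629 F8377) (tt N1609 (iv D1854)))
theorem Q1823 : ∀ i, i < 1823 → P i := stepQ 1822 Q1822 (allL N1822 (tt N1644 F8378) (tt N1614 F8379) (tt N2049 (iv F9299)) (tt N1641 F8380) (tt N1611 F8381) (tt N1991 (iv F9052)) (tt N1610 (iv D1855)) (tt N2055 D2088) (tt N1630 F8382))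
theorem Q1824 : ∀ i, i < 1824 → P i := stepQ 1823 Q1823 (allL N1823 (tt N2046 (iv F9283)) (tt N1615 F8383) (tt N2050 (iv F9303)) (tt N2056 D2089) (tt N1612 F8384) (tt N1958 (iv F8918)) (tt N2055 (iv F9323)) (tt N1610 (iv D1856)) (tt N2057 D2090))
theorem Q1825 : ∀ i, i < 1825 → P i := stepQ 1824 Q1824 (allL N1824 (tt N1697 F8385) (tt N1616 F8386) (tt N2051 (iv F9306)) (tt N1824 F8387) (tt N2055 (iv F9322)) (tt N1824 F8388) (tt N1612 F8389) (tt N1611 (iv D1857)) (tt N2058 D2091))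
theorem Q1826 : ∀ i, i < 1826 → P i := stepQ 1825 Q1825 (allL N1825 (tt N2047 (iv F9287)) (tt N1617 F8390) (tt N2053 (iv F9313)) (tt N1825 F8391) (tt N2057 (iv F9329)) (tt N1613 F8392) (tt N2058 (iv F9335)) (tt N1633 F8393) (tt N1612 (iv D1858)))
theorem Q1827 : ∀ i, i < 1827 → P i := stepQ 1826 Q1826 (allL N1826 (tt N1826 F8394) (tt N2055 (iv F9321)) (tt N2009 (iv F9138)) (tt N1985 (iv F9022)) (tt N1616 F8395) (tt N1986 (iv F9028)) (tt N1615 F8396) (tt N1614 (iv D1859)) (tt N2059 D2092))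
theorem Q1828 : ∀ i, i < 1828 → P i := stepQ 1827 Q1827 (allL N1827 (tt N1827 F8397) (tt N2056 (iv F9324)) (tt N2037 (iv F9246)) (tt N1615 (iv D1860)) (tt N1827 F8398) (tt N1635 F8399) (tt N1985 (iv F9025)) (tt N1634 F8400) (tt N2060 D2093))
theorem Q1829 : ∀ i, i < 1829 → P i := stepQ 1828 Q1828 (allL N1828 (tt N1828 F8401) (tt N2057 (iv F9328)) (tt N2011 (iv F9144)) (tt N2060 (iv F9342)) (tt N1617 F8402) (tt N1960 (iv F8928)) (tt N2059 (iv F9339)) (tt N1637 F8403) (tt N1615 (iv D1861)))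
theorem Q1830 : ∀ i, i < 1830 → P i := stepQ 1829 Q1829 (allL N1829 (tt N1829 F8404) (tt N2058 (iv F9332)) (tt N2012 (iv F9148)) (tt N1829 F8405) (tt N2059 (iv F9338)) (tt N1829 F8406) (tt N1617 F8407) (tt N1638 F8408) (tt N1616 (iv D1862)))
theorem Q1831 : ∀ i, i < 1831 → P i := stepQ 1830 Q1830 (allL N1830 (tt N2013 (iv F9152)) (tt N1619 F8409) (tt N1830 F8410) (tt N1691 F8411) (tt N2061 D2094) (tt N1618 (iv D1863)) (tt N2062 D2095) (tt N2052 (iv F9312)) (tt N2042 (iv F9268)))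
theorem Q1832 : ∀ i, i < 1832 → P i := stepQ 1831 Q1831 (allL N1831 (tt N1625 F8412) (tt N2061 (iv F9345)) (tt N1621 F8413) (tt N2049 (iv F9300)) (tt N1619 (iv D1864)) (tt N1963 (iv F8940)) (tt N2048 F9297) (tt N2063 D2096) (tt N2043 (iv F9274)))
theorem Q1833 : ∀ i, i < 1833 → P i := stepQ 1832 Q1832 (allL N1832 (tt N1626 F8414) (tt N2062 (iv F9348)) (tt N1622 F8415) (tt N1689 F8416) (tt N2048 (iv F9295)) (tt N1832 F8417) (tt N1619 (iv D1865)) (tt N2064 D2097) (tt N1692 F8418))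
theorem Q1834 : ∀ i, i < 1834 → P i := stepQ 1833 Q1833 (allL N1833 (tt N1627 F8419) (tt N2052 (iv F9309)) (tt N1623 F8420) (tt N2003 (iv F9111)) (tt N2063 (iv F9355)) (tt N1620 F8421) (tt N2064 (iv F9359)) (tt N1619 (iv D1866)) (tt N2065 D2098))
theorem Q1835 : ∀ i, i < 1835 → P i := stepQ 1834 Q1834 (allL N1834 (tt N1629 F8422) (tt N2054 (iv F9316)) (tt N1624 F8423) (tt N2004 (iv F9116)) (tt N1967 (iv F8955)) (tt N2065 (iv F9362)) (tt N1834 F8424) (tt N2045 (iv F9282)) (tt N1620 (iv D1867)))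
theorem Q1836 : ∀ i, i < 1836 → P i := stepQ 1835 Q1835 (allL N1835 (tt N1630 F8425) (tt N1835 F8426) (tt N2048 (iv F9294)) (tt N1640 F8427) (tt N1622 F8428) (tt N1990 (iv F9046)) (tt N1621 (iv D1868)) (tt N2066 D2099) (tt N1644 F8429))
theorem Q1837 : ∀ i, i < 1837 → P i := stepQ 1836 Q1836 (allL N1836 (tt N1631 F8430) (tt N1836 F8431) (tt N2063 (iv F9354)) (tt N2067 D2100) (tt N1623 F8432) (tt N1969 (iv F8966)) (tt N2066 (iv F9366)) (tt N1621 (iv D1869)) (tt N2068 D2101))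
theorem Q1838 : ∀ i, i < 1838 → P i := stepQ 1837 Q1837 (allL N1837 (tt N1632 F8433) (tt N1837 F8434) (tt N2064 (iv F9357)) (tt N1654 F8435) (tt N2066 (iv F9365)) (tt N1837 F8436) (tt N1623 F8437) (tt N1622 (iv D1870)) (tt N2069 D2102))
theorem Q1839 : ∀ i, i < 1839 → P i := stepQ 1838 Q1838 (allL N1838 (tt N1633 F8438) (tt N1838 F8439) (tt N2065 (iv F9361)) (tt N1655 F8440) (tt N2068 (iv F9373)) (tt N1624 F8441) (tt N2069 (iv F9378)) (tt N2047 (iv F9292)) (tt N1623 (iv D1871)))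
theorem Q1840 : ∀ i, i < 1840 → P i := stepQ 1839 Q1839 (allL N1839 (tt N2049 (iv F9298)) (tt N2024 (iv F9202)) (tt N1644 F8442) (tt N1625 (iv D1872)) (tt N1692 F8443) (tt N1972 (iv F8978)) (tt N2043 (iv F9273)) (tt N2070 D2103) (tt N2048 (iv F9296)))
theorem Q1841 : ∀ i, i < 1841 → P i := stepQ 1840 Q1840 (allL N1840 (tt N2048 (iv F9293)) (tt N2025 (iv F9205)) (tt N1630 F8444) (tt N2043 (iv F9272)) (tt N1626 F8445) (tt N2071 D2104) (tt N1625 (iv D1873)) (tt N2072 D2105) (tt N2049 (iv F9302)))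
theorem Q1842 : ∀ i, i < 1842 → P i := stepQ 1841 Q1841 (allL N1841 (tt N2063 (iv F9353)) (tt N2026 (iv F9208)) (tt N1631 F8446) (tt N2073 D2106) (tt N1627 F8447) (tt N1974 (iv F8984)) (tt N2072 (iv F9386)) (tt N1625 (iv D1874)) (tt N2074 D2107))
theorem Q1843 : ∀ i, i < 1843 → P i := stepQ 1842 Q1842 (allL N1842 (tt N2064 (iv F9356)) (tt N2027 (iv F9211)) (tt N1632 F8448) (tt N2075 D2108) (tt N2072 (iv F9385)) (tt N1842 F8449) (tt N1627 F8450) (tt N1626 (iv D1875)) (tt N2076 D2109))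
theorem Q1844 : ∀ i, i < 1844 → P i := stepQ 1843 Q1843 (allL N1843 (tt N2003 (iv F9108)) (tt N2028 (iv F9215)) (tt N1659 F8451) (tt N1627 (iv D1876)) (tt N2077 D2110) (tt N1628 F8452) (tt N2075 (iv F9391)) (tt N1695 F8453) (tt N2078 D2111))
theorem Q1845 : ∀ i, i < 1845 → P i := stepQ 1844 Q1844 (allL N1844 (tt N2065 (iv F9360)) (tt N2029 (iv F9219)) (tt N1633 F8454) (tt N2078 (iv F9399)) (tt N2074 (iv F9388)) (tt N1629 F8455) (tt N2076 (iv F9395)) (tt N2053 (iv F9315)) (tt N1627 (iv D1877)))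
theorem Q1846 : ∀ i, i < 1846 → P i := stepQ 1845 Q1845 (allL N1845 (tt N1917 (iv F8731)) (tt N2030 (iv F9222)) (tt N1661 F8456) (tt N1978 (iv F8994)) (tt N1628 (iv D1878)) (tt N2079 D2112) (tt N1845 F8457) (tt N1696 F8458) (tt N2080 D2113))
theorem Q1847 : ∀ i, i < 1847 → P i := stepQ 1846 Q1846 (allL N1846 (tt N2004 (iv F9113)) (tt N2031 (iv F9226)) (tt N1662 F8459) (tt N1629 F8460) (tt N2080 (iv F9404)) (tt N2078 (iv F9400)) (tt N1846 F8461) (tt N2019 (iv F9183)) (tt N1628 (iv D1879)))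
theorem Q1848 : ∀ i, i < 1848 → P i := stepQ 1847 Q1847 (allL N1847 (tt N1990 (iv F9043)) (tt N1634 F8462) (tt N2071 (iv F9382)) (tt N1642 F8463) (tt N1847 F8464) (tt N1630 (iv D1880)) (tt N1980 (iv F9004)) (tt N2056 (iv F9327)) (tt N1991 (iv F9054)))
theorem Q1849 : ∀ i, i < 1849 → P i := stepQ 1848 Q1848 (allL N1848 (tt N2066 (iv F9363)) (tt N1635 F8465) (tt N2072 (iv F9384)) (tt N1958 (iv F8916)) (tt N1632 F8466) (tt N2056 (iv F9326)) (tt N1631 F8467) (tt N1630 (iv D1881)) (tt N2081 D2114))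
theorem Q1850 : ∀ i, i < 1850 → P i := stepQ 1849 Q1849 (allL N1849 (tt N2067 (iv F9367)) (tt N1636 F8468) (tt N2082 D2115) (tt N1631 (iv D1882)) (tt N1664 F8469) (tt N1982 (iv F9011)) (tt N1958 (iv F8919)) (tt N1646 F8470) (tt N2083 D2116))
theorem Q1851 : ∀ i, i < 1851 → P i := stepQ 1850 Q1850 (allL N1850 (tt N2068 (iv F9371)) (tt N1637 F8471) (tt N2074 (iv F9387)) (tt N2083 (iv F9412)) (tt N1633 F8472) (tt N1983 (iv F9015)) (tt N2081 (iv F9408)) (tt N2057 (iv F9330)) (tt N1631 (iv D1883)))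
theorem Q1852 : ∀ i, i < 1852 → P i := stepQ 1851 Q1851 (allL N1851 (tt N2069 (iv F9374)) (tt N1638 F8473) (tt N2076 (iv F9393)) (tt N1666 F8474) (tt N2081 (iv F9407)) (tt N1851 F8475) (tt N1633 F8476) (tt N2058 (iv F9336)) (tt N1632 (iv D1884)))
theorem Q1853 : ∀ i, i < 1853 → P i := stepQ 1852 Q1852 (allL N1852 (tt N1852 F8477) (tt N2081 (iv F9406)) (tt N2039 (iv F9254)) (tt N1960 (iv F8926)) (tt N1638 F8478) (tt N2060 (iv F9344)) (tt N1637 F8479) (tt N2059 (iv F9340)) (tt N1635 (iv D1885)))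
theorem Q1854 : ∀ i, i < 1854 → P i := stepQ 1853 Q1853 (allL N1853 (tt N1853 F8480) (tt N2084 D2117) (tt N1636 (iv D1886)) (tt N2040 (iv F9258)) (tt N1668 F8481) (tt N1988 (iv F9037)) (tt N1921 (iv F8757)) (tt N1647 F8482) (tt N2085 D2118))
theorem Q1855 : ∀ i, i < 1855 → P i := stepQ 1854 Q1854 (allL N1854 (tt N1854 F8483) (tt N2083 (iv F9411)) (tt N2085 (iv F9417)) (tt N1637 F8484) (tt N1669 F8485) (tt N1989 (iv F9042)) (tt N1960 (iv F8929)) (tt N1987 (iv F9034)) (tt N1636 (iv D1887)))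
theorem Q1856 : ∀ i, i < 1856 → P i := stepQ 1855 Q1855 (allL N1855 (tt N1646 F8486) (tt N1855 F8487) (tt N2086 D2119) (tt N1643 (iv D1888)) (tt N1670 F8488) (tt N1992 (iv F9058)) (tt N1951 (iv F8890)) (tt N2067 (iv F9370)) (tt N1968 (iv F8961)))
theorem Q1857 : ∀ i, i < 1857 → P i := stepQ 1856 Q1856 (allL N1856 (tt N2055 (iv F9320)) (tt N1856 F8489) (tt N2070 (iv F9380)) (tt N2087 D2120) (tt N1697 F8490) (tt N1993 (iv F9063)) (tt N2046 (iv F9286)) (tt N1644 (iv D1889)) (tt N2088 D2121))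
theorem Q1858 : ∀ i, i < 1858 → P i := stepQ 1857 Q1857 (allL N1857 (tt N1980 (iv F9000)) (tt N1857 F8491) (tt N2089 D2122) (tt N1645 (iv D1890)) (tt N1857 F8492) (tt N1968 F8962) (tt N1990 (iv F9047)) (tt N2087 (iv F9423)) (tt N1992 (iv F9060)))
theorem Q1859 : ∀ i, i < 1859 → P i := stepQ 1858 Q1858 (allL N1858 (tt N2086 (iv F9419)) (tt N2090 D2123) (tt N1646 (iv D1891)) (tt N2089 (iv F9426)) (tt N1671 F8493) (tt N1994 (iv F9065)) (tt N1954 (iv F8904)) (tt N2082 (iv F9410)) (tt N1973 (iv F8981)))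
theorem Q1860 : ∀ i, i < 1860 → P i := stepQ 1859 Q1859 (allL N1859 (tt N2091 D2124) (tt N1647 (iv D1892)) (tt N2090 (iv F9428)) (tt N1859 F8494) (tt N1672 F8495) (tt N1996 (iv F9074)) (tt N1918 (iv F8740)) (tt N2084 (iv F9415)) (tt N1935 (iv F8817)))
theorem Q1861 : ∀ i, i < 1861 → P i := stepQ 1860 Q1860 (allL N1860 (tt N1656 F8496) (tt N1997 (iv F9076)) (tt N1652 F8497) (tt N1860 F8498) (tt N1649 F8499) (tt N1944 (iv F8851)) (tt N1648 (iv D1893)) (tt N2092 D2125) (tt N1860 F8500))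
theorem Q1862 : ∀ i, i < 1862 → P i := stepQ 1861 Q1861 (allL N1861 (tt N1657 F8501) (tt N1998 (iv F9082)) (tt N1653 F8502) (tt N2093 D2126) (tt N1650 F8503) (tt N1861 F8504) (tt N2092 (iv F9437)) (tt N1648 (iv D1894)) (tt N2094 D2127))
theorem Q1863 : ∀ i, i < 1863 → P i := stepQ 1862 Q1862 (allL N1862 (tt N1658 F8505) (tt N1999 (iv F9087)) (tt N1654 F8506) (tt N2007 (iv F9129)) (tt N2092 (iv F9436)) (tt N1862 F8507) (tt N1650 F8508) (tt N1649 (iv D1895)) (tt N2095 D2128))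
theorem Q1864 : ∀ i, i < 1864 → P i := stepQ 1863 Q1863 (allL N1863 (tt N1660 F8509) (tt N2000 (iv F9093)) (tt N1655 F8510) (tt N2008 (iv F9134)) (tt N2094 (iv F9443)) (tt N1651 F8511) (tt N2095 (iv F9449)) (tt N1863 F8512) (tt N1650 (iv D1896)))
theorem Q1865 : ∀ i, i < 1865 → P i := stepQ 1864 Q1864 (allL N1864 (tt N1663 F8513) (tt N1864 F8514) (tt N2092 (iv F9435)) (tt N1952 (iv F8894)) (tt N1654 F8515) (tt N1945 (iv F8858)) (tt N1653 F8516) (tt N1652 (iv D1897)) (tt N2096 D2129))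
theorem Q1866 : ∀ i, i < 1866 → P i := stepQ 1865 Q1865 (allL N1865 (tt N1664 F8517) (tt N1865 F8518) (tt N2097 D2130) (tt N1653 (iv D1898)) (tt N2067 (iv F9369)) (tt N1865 F8519) (tt N1952 (iv F8896)) (tt N1670 F8520) (tt N2098 D2131))
theorem Q1867 : ∀ i, i < 1867 → P i := stepQ 1866 Q1866 (allL N1866 (tt N1665 F8521) (tt N1866 F8522) (tt N2094 (iv F9442)) (tt N2098 (iv F9461)) (tt N1655 F8523) (tt N1866 F8524) (tt N2096 (iv F9454)) (tt N1866 F8525) (tt N1653 (iv D1899)))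
theorem Q1868 : ∀ i, i < 1868 → P i := stepQ 1867 Q1867 (allL N1867 (tt N1666 F8526) (tt N1867 F8527) (tt N2095 (iv F9447)) (tt N2069 (iv F9376)) (tt N2096 (iv F9453)) (tt N1867 F8528) (tt N1655 F8529) (tt N1867 F8530) (tt N1654 (iv D1900)))
theorem Q1869 : ∀ i, i < 1869 → P i := stepQ 1868 Q1868 (allL N1868 (tt N2092 (iv F9434)) (tt N1868 F8531) (tt N1663 F8532) (tt N2099 D2132) (tt N1658 F8533) (tt N1946 (iv F8863)) (tt N1657 F8534) (tt N1656 (iv D1901)) (tt N2100 D2133))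
theorem Q1870 : ∀ i, i < 1870 → P i := stepQ 1869 Q1869 (allL N1869 (tt N2093 (iv F9438)) (tt N1869 F8535) (tt N2101 D2134) (tt N1657 (iv D1902)) (tt N2102 D2135) (tt N1869 F8536) (tt N2099 (iv F9464)) (tt N1869 F8537) (tt N2103 D2136))
theorem Q1871 : ∀ i, i < 1871 → P i := stepQ 1870 Q1870 (allL N1870 (tt N2094 (iv F9441)) (tt N1870 F8538) (tt N1665 F8539) (tt N2103 (iv F9478)) (tt N1660 F8540) (tt N1870 F8541) (tt N2100 (iv F9469)) (tt N1870 F8542) (tt N1657 (iv D1903)))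
theorem Q1872 : ∀ i, i < 1872 → P i := stepQ 1871 Q1871 (allL N1871 (tt N2007 (iv F9127)) (tt N1871 F8543) (tt N2075 (iv F9389)) (tt N1658 (iv D1904)) (tt N2104 D2137) (tt N1871 F8544) (tt N1659 F8545) (tt N1698 F8546) (tt N2105 D2138))
theorem Q1873 : ∀ i, i < 1873 → P i := stepQ 1872 Q1872 (allL N1872 (tt N2095 (iv F9446)) (tt N1872 F8547) (tt N1666 F8548) (tt N2105 (iv F9484)) (tt N2100 (iv F9468)) (tt N1872 F8549) (tt N1660 F8550) (tt N1872 F8551) (tt N1658 (iv D1905)))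
theorem Q1874 : ∀ i, i < 1874 → P i := stepQ 1873 Q1873 (allL N1873 (tt N2006 (iv F9124)) (tt N1873 F8552) (tt N2077 (iv F9396)) (tt N2102 (iv F9475)) (tt N1659 (iv D1906)) (tt N2106 D2139) (tt N2104 (iv F9481)) (tt N1699 F8553) (tt N2107 D2140))
theorem Q1875 : ∀ i, i < 1875 → P i := stepQ 1874 Q1874 (allL N1874 (tt N2008 (iv F9132)) (tt N1874 F8554) (tt N2078 (iv F9398)) (tt N1660 F8555) (tt N2107 (iv F9491)) (tt N1662 F8556) (tt N2105 (iv F9486)) (tt N2023 (iv F9201)) (tt N1659 (iv D1907)))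
theorem Q1876 : ∀ i, i < 1876 → P i := stepQ 1875 Q1875 (allL N1875 (tt N1919 (iv F8742)) (tt N1875 F8557) (tt N2079 (iv F9401)) (tt N1875 F8558) (tt N2106 (iv F9488)) (tt N1661 (iv D1908)) (tt N2108 D2141) (tt N1700 F8559) (tt N2109 D2142))
theorem Q1877 : ∀ i, i < 1877 → P i := stepQ 1876 Q1876 (allL N1876 (tt N1920 (iv F8747)) (tt N1876 F8560) (tt N2080 (iv F9403)) (tt N1876 F8561) (tt N1662 F8562) (tt N2109 (iv F9499)) (tt N1876 F8563) (tt N1929 (iv F8795)) (tt N1661 (iv D1909)))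
theorem Q1878 : ∀ i, i < 1878 → P i := stepQ 1877 Q1877 (allL N1877 (tt N2096 (iv F9451)) (tt N1667 F8564) (tt N2100 (iv F9467)) (tt N1959 (iv F8921)) (tt N1666 F8565) (tt N1947 (iv F8868)) (tt N1665 F8566) (tt N1877 F8567) (tt N1663 (iv D1910)))
theorem Q1879 : ∀ i, i < 1879 → P i := stepQ 1878 Q1878 (allL N1878 (tt N2097 (iv F9456)) (tt N2110 D2143) (tt N1664 (iv D1911)) (tt N2101 (iv F9471)) (tt N2082 (iv F9409)) (tt N1878 F8568) (tt N1955 (iv F8908)) (tt N1671 F8569) (tt N2111 D2144))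
theorem Q1880 : ∀ i, i < 1880 → P i := stepQ 1879 Q1879 (allL N1879 (tt N2098 (iv F9459)) (tt N1669 F8570) (tt N2111 (iv F9503)) (tt N1665 F8571) (tt N2083 (iv F9413)) (tt N1879 F8572) (tt N1959 (iv F8923)) (tt N1984 (iv F9020)) (tt N1664 (iv D1912)))
theorem Q1881 : ∀ i, i < 1881 → P i := stepQ 1880 Q1880 (allL N1880 (tt N2108 (iv F9492)) (tt N1668 (iv D1913)) (tt N2110 (iv F9500)) (tt N1880 F8573) (tt N2084 (iv F9414)) (tt N1880 F8574) (tt N1919 (iv F8746)) (tt N1672 F8575) (tt N2112 D2145))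
theorem Q1882 : ∀ i, i < 1882 → P i := stepQ 1881 Q1881 (allL N1881 (tt N1881 F8576) (tt N2112 (iv F9505)) (tt N1669 F8577) (tt N1881 F8578) (tt N2085 (iv F9418)) (tt N1881 F8579) (tt N1922 (iv F8762)) (tt N1943 (iv F8847)) (tt N1668 (iv D1914)))
theorem Q1883 : ∀ i, i < 1883 → P i := stepQ 1882 Q1882 (allL N1882 (tt N1671 F8580) (tt N2113 D2146) (tt N1670 (iv D1915)) (tt N1882 F8581) (tt N2086 (iv F9420)) (tt N1882 F8582) (tt N1949 F8881) (tt N2097 (iv F9458)) (tt N1964 (iv F8945)))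
theorem Q1884 : ∀ i, i < 1884 → P i := stepQ 1883 Q1883 (allL N1883 (tt N2114 D2147) (tt N1671 (iv D1916)) (tt N1672 F8583) (tt N1883 F8584) (tt N2090 (iv F9429)) (tt N1883 F8585) (tt N1916 F8730) (tt N2110 (iv F9502)) (tt N1931 (iv F8803)))
theorem Q1885 : ∀ i, i < 1885 → P i := stepQ 1884 Q1884 (allL N1884 (tt N1672 (iv D1917)) (tt N1884 F8586) (tt N2114 (iv F9511)) (tt N1673 F8587) (tt N2091 (iv F9432)) (tt N1884 F8588) (tt N1700 F8589) (tt N2108 (iv F9496)) (tt N1927 (iv F8787)))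
theorem Q1886 : ∀ i, i < 1886 → P i := stepQ 1885 Q1885 (allL N1885 (tt N1693 F8590) (tt N1689 F8591) (tt N1675 F8592) (tt N2062 (iv F9350)) (tt N1674 (iv D1918)) (tt N1885 F8593) (tt N1691 (iv F8596)) (tt N1690 F8594) (tt N1683 F8595))
theorem Q1887 : ∀ i, i < 1887 → P i := stepQ 1886 Q1886 (allL N1886 (tt N1694 F8597) (tt N1690 F8598) (tt N1676 F8599) (tt N2002 (iv F9105)) (tt N1691 F8600) (tt N1886 F8601) (tt N1674 (iv D1919)) (tt N1689 F8602) (tt N1684 F8603))
theorem Q1888 : ∀ i, i < 1888 → P i := stepQ 1887 Q1887 (allL N1887 (tt N1691 F8604) (tt N1678 F8605) (tt N1687 F8606) (tt N2013 (iv F9155)) (tt N1694 (iv F8609)) (tt N1677 (iv D1920)) (tt N1693 (iv F8610)) (tt N1688 F8607) (tt N1685 F8608))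
theorem Q1889 : ∀ i, i < 1889 → P i := stepQ 1888 Q1888 (allL N1888 (tt N1683 F8611) (tt N1694 F8612) (tt N1680 F8613) (tt N2115 D2148) (tt N1678 (iv D1921)) (tt N1888 F8614) (tt N1685 (iv F8616)) (tt N1684 (iv F8617)) (tt N1693 F8615))
theorem Q1890 : ∀ i, i < 1890 → P i := stepQ 1889 Q1889 (allL N1889 (tt N1684 F8618) (tt N1693 F8619) (tt N1681 F8620) (tt N2016 (iv F9169)) (tt N1685 F8621) (tt N1889 F8622) (tt N1678 (iv D1922)) (tt N1683 (iv F8624)) (tt N1694 F8623))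
theorem Q1891 : ∀ i, i < 1891 → P i := stepQ 1890 Q1890 (allL N1890 (tt N1685 F8625) (tt N1688 F8626) (tt N1682 F8627) (tt N2042 (iv F9267)) (tt N1684 F8628) (tt N1679 F8629) (tt N1683 F8630) (tt N1678 (iv D1923)) (tt N1691 F8631))
theorem Q1892 : ∀ i, i < 1892 → P i := stepQ 1891 Q1891 (allL N1891 (tt N2115 (iv F9515)) (tt N1692 F8632) (tt N1891 F8633) (tt N1683 (iv D1924)) (tt N2024 (iv F9204)) (tt N1891 F8634) (tt N2042 F9269) (tt N2116 D2149) (tt N2062 (iv F9352)))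
theorem Q1893 : ∀ i, i < 1893 → P i := stepQ 1892 Q1892 (allL N1892 (tt N2042 (iv F9264)) (tt N1695 F8635) (tt N1892 F8636) (tt N1685 (iv D1925)) (tt N2117 D2150) (tt N1686 F8637) (tt N2115 (iv F9519)) (tt N2028 (iv F9218)) (tt N2013 (iv F9156)))
theorem Q1894 : ∀ i, i < 1894 → P i := stepQ 1893 Q1893 (allL N1893 (tt N1948 (iv F8871)) (tt N1696 F8638) (tt N1893 F8639) (tt N1893 F8640) (tt N1686 (iv D1926)) (tt N2118 D2151) (tt N1893 F8641) (tt N2030 (iv F9225)) (tt N1923 (iv F8769)))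
theorem Q1895 : ∀ i, i < 1895 → P i := stepQ 1894 Q1894 (allL N1894 (tt N2051 (iv F9305)) (tt N2116 (iv F9521)) (tt N1697 F8642) (tt N2119 D2152) (tt N2070 (iv F9381)) (tt N1894 F8643) (tt N2044 (iv F9278)) (tt N1692 (iv D1927)) (tt N2120 D2153))
theorem Q1896 : ∀ i, i < 1896 → P i := stepQ 1895 Q1895 (allL N1895 (tt N2062 (iv F9347)) (tt N2016 (iv F9167)) (tt N1895 F8644) (tt N1693 (iv D1928)) (tt N2121 D2154) (tt N1895 F8645) (tt N2013 F9157) (tt N2119 (iv F9531)) (tt N2115 (iv F9520)))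
theorem Q1897 : ∀ i, i < 1897 → P i := stepQ 1896 Q1896 (allL N1896 (tt N2002 (iv F9102)) (tt N2115 (iv F9516)) (tt N1698 F8646) (tt N1694 (iv D1929)) (tt N2122 D2155) (tt N1896 F8647) (tt N1695 F8648) (tt N2075 (iv F9392)) (tt N2016 (iv F9171)))
theorem Q1898 : ∀ i, i < 1898 → P i := stepQ 1897 Q1897 (allL N1897 (tt N2001 (iv F9098)) (tt N2117 (iv F9524)) (tt N1699 F8649) (tt N2121 (iv F9535)) (tt N1695 (iv D1930)) (tt N2123 D2156) (tt N2122 (iv F9537)) (tt N2077 (iv F9397)) (tt N2015 (iv F9165)))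
theorem Q1899 : ∀ i, i < 1899 → P i := stepQ 1898 Q1898 (allL N1898 (tt N1916 (iv F8725)) (tt N2118 (iv F9526)) (tt N1700 F8650) (tt N1898 F8651) (tt N2123 (iv F9539)) (tt N1696 (iv D1931)) (tt N2114 (iv F9514)) (tt N2079 (iv F9402)) (tt N1924 (iv F8773)))
theorem Q1900 : ∀ i, i < 1900 → P i := stepQ 1899 Q1899 (allL N1899 (tt N2058 (iv F9331)) (tt N1899 F8652) (tt N2120 (iv F9532)) (tt N1899 F8653) (tt N2088 (iv F9425)) (tt N1899 F8654) (tt N2047 (iv F9291)) (tt N2069 (iv F9379)) (tt N1697 (iv D1932)))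
theorem Q1901 : ∀ i, i < 1901 → P i := stepQ 1900 Q1900 (allL N1900 (tt N2005 (iv F9119)) (tt N1900 F8655) (tt N2122 (iv F9536)) (tt N1900 F8656) (tt N1698 (iv D1933)) (tt N2124 D2157) (tt N1699 F8657) (tt N2104 (iv F9482)) (tt N2020 (iv F9188)))
theorem Q1902 : ∀ i, i < 1902 → P i := stepQ 1901 Q1901 (allL N1901 (tt N1918 (iv F8736)) (tt N1901 F8658) (tt N2123 (iv F9538)) (tt N1901 F8659) (tt N1700 F8660) (tt N1699 (iv D1934)) (tt N2091 (iv F9433)) (tt N2106 (iv F9489)) (tt N1926 (iv F8782)))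
theorem Q1903 : ∀ i, i < 1903 → P i := stepQ 1902 Q1902 (allL N1902 (tt N1703 F8661) (tt N2125 D2158) (tt N1701 (iv D1935)) (tt N1902 F8662) (tt N1902 F8663) (tt N2126 D2159) (tt N1902 F8664) (tt N2127 D2160) (tt N1902 F8665))
theorem Q1904 : ∀ i, i < 1904 → P i := stepQ 1903 Q1903 (allL N1903 (tt N1704 F8666) (tt N1903 F8667) (tt N2126 (iv F9550)) (tt N1702 F8668) (tt N2128 D2161) (tt N1701 (iv D1936)) (tt N2129 D2162) (tt N2130 D2163) (tt N1903 F8669))
theorem Q1905 : ∀ i, i < 1905 → P i := stepQ 1904 Q1904 (allL N1904 (tt N1705 F8670) (tt N1904 F8671) (tt N2127 (iv F9554)) (tt N1719 F8672) (tt N1904 F8673) (tt N2130 (iv F9578)) (tt N1904 F8674) (tt N1701 (iv D1937)) (tt N2131 D2164))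
theorem Q1906 : ∀ i, i < 1906 → P i := stepQ 1905 Q1905 (allL N1905 (tt N1706 F8675) (tt N1905 F8676) (tt N1905 F8677) (tt N2129 (iv F9564)) (tt N1905 F8678) (tt N1905 F8679) (tt N1702 (iv D1938)) (tt N1720 F8680) (tt N1905 F8681))
theorem Q1907 : ∀ i, i < 1907 → P i := stepQ 1906 Q1906 (allL N1906 (tt N2126 (iv F9549)) (tt N1906 F8682) (tt N1704 F8683) (tt N1906 F8684) (tt N2129 F9567) (tt N1703 (iv D1939)) (tt N2128 F9571) (tt N2132 D2165) (tt N1906 F8685))
theorem Q1908 : ∀ i, i < 1908 → P i := stepQ 1907 Q1907 (allL N1907 (tt N2127 (iv F9553)) (tt N1907 F8686) (tt N1705 F8687) (tt N2133 D2166) (tt N1907 F8688) (tt N2132 (iv F9587)) (tt N1907 F8689) (tt N1703 (iv D1940)) (tt N2134 D2167))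
theorem Q1909 : ∀ i, i < 1909 → P i := stepQ 1908 Q1908 (allL N1908 (tt N2128 (iv F9557)) (tt N1707 F8690) (tt N2129 (iv F9568)) (tt N1908 F8691) (tt N1704 (iv D1941)) (tt N1908 F8692) (tt N2126 F9570) (tt N2135 D2168) (tt N1908 F8693))
theorem Q1910 : ∀ i, i < 1910 → P i := stepQ 1909 Q1909 (allL N1909 (tt N2129 (iv F9562)) (tt N1708 F8694) (tt N2128 (iv F9569)) (tt N1706 F8695) (tt N2126 (iv F9573)) (tt N1909 F8696) (tt N1704 (iv D1942)) (tt N2136 D2169) (tt N1909 F8697))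
theorem Q1911 : ∀ i, i < 1911 → P i := stepQ 1910 Q1910 (allL N1910 (tt N2130 (iv F9575)) (tt N1709 F8698) (tt N2132 (iv F9586)) (tt N1725 F8699) (tt N2135 (iv F9598)) (tt N1705 F8700) (tt N2136 (iv F9603)) (tt N1704 (iv D1943)) (tt N2137 D2170))
theorem Q1912 : ∀ i, i < 1912 → P i := stepQ 1911 Q1911 (allL N1911 (tt N2131 (iv F9579)) (tt N1710 F8701) (tt N2134 (iv F9593)) (tt N1726 F8702) (tt N1911 F8703) (tt N2137 (iv F9606)) (tt N1911 F8704) (tt N1911 F8705) (tt N1705 (iv D1944)))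
theorem Q1913 : ∀ i, i < 1913 → P i := stepQ 1912 Q1912 (allL N1912 (tt N1912 F8706) (tt N2126 (iv F9572)) (tt N1912 F8707) (tt N1912 F8708) (tt N1708 F8709) (tt N2125 F9574) (tt N1707 (iv D1945)) (tt N2138 D2171) (tt N1912 F8710))
theorem Q1914 : ∀ i, i < 1914 → P i := stepQ 1913 Q1913 (allL N1913 (tt N1913 F8711) (tt N2135 (iv F9597)) (tt N1913 F8712) (tt N2139 D2172) (tt N1709 F8713) (tt N1913 F8714) (tt N2138 (iv F9611)) (tt N1707 (iv D1946)) (tt N2140 D2173))
theorem Q1915 : ∀ i, i < 1915 → P i := stepQ 1914 Q1914 (allL N1914 (tt N1914 F8715) (tt N2136 (iv F9600)) (tt N1914 F8716) (tt N1729 F8717) (tt N2138 (iv F9610)) (tt N1914 F8718) (tt N1709 F8719) (tt N1708 (iv D1947)) (tt N2141 D2174))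
theorem Q1916 : ∀ i, i < 1916 → P i := stepQ 1915 Q1915 (allL N1915 (tt N1915 F8720) (tt N2137 (iv F9604)) (tt N1915 F8721) (tt N1730 F8722) (tt N2140 (iv F9618)) (tt N1710 F8723) (tt N2141 (iv F9625)) (tt N1915 F8724) (tt N1709 (iv D1948)))
theorem Q1917 : ∀ i, i < 1917 → P i := stepQ 1916 Q1916 (allL N1916 (tt N1898 F8725) (tt N1738 F8726) (tt N1712 F8727) (tt N1916 F8728) (tt N2142 D2175) (tt N1711 (iv D1949)) (tt N1883 (iv F8730)) (tt N2143 D2176) (tt N1721 F8729))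
theorem Q1918 : ∀ i, i < 1918 → P i := stepQ 1917 Q1917 (allL N1917 (tt N1845 F8731) (tt N1739 F8732) (tt N1713 F8733) (tt N2144 D2177) (tt N1781 F8734) (tt N2143 (iv F9636)) (tt N1917 F8735) (tt N1711 (iv D1950)) (tt N2145 D2178))
theorem Q1919 : ∀ i, i < 1919 → P i := stepQ 1918 Q1918 (allL N1918 (tt N1901 F8736) (tt N1714 F8737) (tt N2142 (iv F9629)) (tt N1918 F8738) (tt N1712 (iv D1951)) (tt N1782 F8739) (tt N1859 F8740) (tt N2146 D2179) (tt N1723 F8741))
theorem Q1920 : ∀ i, i < 1920 → P i := stepQ 1919 Q1919 (allL N1919 (tt N1875 F8742) (tt N1715 F8743) (tt N2143 (iv F9635)) (tt N1919 F8744) (tt N2146 (iv F9652)) (tt N1713 F8745) (tt N1880 F8746) (tt N1712 (iv D1952)) (tt N2147 D2180))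
theorem Q1921 : ∀ i, i < 1921 → P i := stepQ 1920 Q1920 (allL N1920 (tt N1876 F8747) (tt N1716 F8748) (tt N2145 (iv F9646)) (tt N1920 F8749) (tt N1785 F8750) (tt N2147 (iv F9658)) (tt N1920 F8751) (tt N1726 F8752) (tt N1713 (iv D1953)))
theorem Q1922 : ∀ i, i < 1922 → P i := stepQ 1921 Q1921 (allL N1921 (tt N1921 F8753) (tt N2146 (iv F9651)) (tt N1743 F8754) (tt N2148 D2181) (tt N1715 F8755) (tt N1787 F8756) (tt N1853 F8757) (tt N1714 (iv D1954)) (tt N2149 D2182))
theorem Q1923 : ∀ i, i < 1923 → P i := stepQ 1922 Q1922 (allL N1922 (tt N1922 F8758) (tt N2147 (iv F9656)) (tt N1744 F8759) (tt N1922 F8760) (tt N2149 (iv F9669)) (tt N1716 F8761) (tt N1881 F8762) (tt N1730 F8763) (tt N1715 (iv D1955)))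
theorem Q1924 : ∀ i, i < 1924 → P i := stepQ 1923 Q1923 (allL N1923 (tt N1745 F8764) (tt N1717 (iv D1956)) (tt N1923 F8765) (tt N1923 F8766) (tt N1790 F8767) (tt N2150 D2183) (tt N1923 F8768) (tt N2151 D2184) (tt N1893 F8769))
theorem Q1925 : ∀ i, i < 1925 → P i := stepQ 1924 Q1924 (allL N1924 (tt N1721 F8770) (tt N2150 (iv F9674)) (tt N1718 F8771) (tt N1924 F8772) (tt N2152 D2185) (tt N1717 (iv D1957)) (tt N2153 D2186) (tt N2154 D2187) (tt N1898 F8773))
theorem Q1926 : ∀ i, i < 1926 → P i := stepQ 1925 Q1925 (allL N1925 (tt N1722 F8774) (tt N2151 (iv F9679)) (tt N1719 F8775) (tt N2155 D2188) (tt N1792 F8776) (tt N2154 (iv F9694)) (tt N1925 F8777) (tt N1717 (iv D1958)) (tt N2156 D2189))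
theorem Q1927 : ∀ i, i < 1927 → P i := stepQ 1926 Q1926 (allL N1926 (tt N1723 F8778) (tt N1926 F8779) (tt N2152 (iv F9684)) (tt N1926 F8780) (tt N1718 (iv D1959)) (tt N1793 F8781) (tt N2157 D2190) (tt N2158 D2191) (tt N1901 F8782))
theorem Q1928 : ∀ i, i < 1928 → P i := stepQ 1927 Q1927 (allL N1927 (tt N1724 F8783) (tt N1927 F8784) (tt N2153 (iv F9688)) (tt N1720 F8785) (tt N2157 (iv F9706)) (tt N1927 F8786) (tt N1718 (iv D1960)) (tt N2159 D2192) (tt N1884 F8787))
theorem Q1929 : ∀ i, i < 1929 → P i := stepQ 1928 Q1928 (allL N1928 (tt N1725 F8788) (tt N1928 F8789) (tt N2154 (iv F9693)) (tt N2130 (iv F9577)) (tt N2158 (iv F9710)) (tt N1719 F8790) (tt N2159 (iv F9715)) (tt N1718 (iv D1961)) (tt N2160 D2193))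
theorem Q1930 : ∀ i, i < 1930 → P i := stepQ 1929 Q1929 (allL N1929 (tt N1726 F8791) (tt N1929 F8792) (tt N2156 (iv F9699)) (tt N2131 (iv F9581)) (tt N1796 F8793) (tt N2160 (iv F9718)) (tt N1929 F8794) (tt N1876 F8795) (tt N1719 (iv D1962)))
theorem Q1931 : ∀ i, i < 1931 → P i := stepQ 1930 Q1930 (allL N1930 (tt N2152 (iv F9683)) (tt N1752 F8796) (tt N1723 F8797) (tt N2161 D2194) (tt N1721 (iv D1963)) (tt N1797 F8798) (tt N2162 D2195) (tt N2163 D2196) (tt N2142 (iv F9632)))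
theorem Q1932 : ∀ i, i < 1932 → P i := stepQ 1931 Q1931 (allL N1931 (tt N2153 (iv F9687)) (tt N1753 F8799) (tt N1724 F8800) (tt N1931 F8801) (tt N2162 (iv F9726)) (tt N1931 F8802) (tt N1721 (iv D1964)) (tt N2164 D2197) (tt N1883 F8803))
theorem Q1933 : ∀ i, i < 1933 → P i := stepQ 1932 Q1932 (allL N1932 (tt N2154 (iv F9692)) (tt N1754 F8804) (tt N1725 F8805) (tt N2165 D2198) (tt N2163 (iv F9730)) (tt N1722 F8806) (tt N2164 (iv F9735)) (tt N1721 (iv D1965)) (tt N2166 D2199))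
theorem Q1934 : ∀ i, i < 1934 → P i := stepQ 1933 Q1933 (allL N1933 (tt N2155 (iv F9695)) (tt N1755 F8807) (tt N2133 (iv F9589)) (tt N1722 (iv D1966)) (tt N2167 D2200) (tt N2165 (iv F9737)) (tt N1933 F8808) (tt N1933 F8809) (tt N2168 D2201))
theorem Q1935 : ∀ i, i < 1935 → P i := stepQ 1934 Q1934 (allL N1934 (tt N2156 (iv F9698)) (tt N1756 F8810) (tt N1726 F8811) (tt N2168 (iv F9747)) (tt N1801 F8812) (tt N2166 (iv F9741)) (tt N1934 F8813) (tt N2145 (iv F9649)) (tt N1722 (iv D1967)))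
theorem Q1936 : ∀ i, i < 1936 → P i := stepQ 1935 Q1935 (allL N1935 (tt N2157 (iv F9703)) (tt N1727 F8814) (tt N2162 (iv F9725)) (tt N1935 F8815) (tt N1724 F8816) (tt N2169 D2202) (tt N1723 (iv D1968)) (tt N2170 D2203) (tt N1859 F8817))
theorem Q1937 : ∀ i, i < 1937 → P i := stepQ 1936 Q1936 (allL N1936 (tt N2158 (iv F9708)) (tt N1728 F8818) (tt N2163 (iv F9729)) (tt N2171 D2204) (tt N1725 F8819) (tt N1803 F8820) (tt N2170 (iv F9756)) (tt N1723 (iv D1969)) (tt N2172 D2205))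
theorem Q1938 : ∀ i, i < 1938 → P i := stepQ 1937 Q1937 (allL N1937 (tt N2159 (iv F9712)) (tt N1729 F8821) (tt N2164 (iv F9733)) (tt N2136 (iv F9601)) (tt N2170 (iv F9755)) (tt N1937 F8822) (tt N1725 F8823) (tt N1724 (iv D1970)) (tt N2173 D2206))
theorem Q1939 : ∀ i, i < 1939 → P i := stepQ 1938 Q1938 (allL N1938 (tt N2160 (iv F9716)) (tt N1730 F8824) (tt N2166 (iv F9740)) (tt N2137 (iv F9605)) (tt N2172 (iv F9761)) (tt N1726 F8825) (tt N2173 (iv F9765)) (tt N2147 (iv F9660)) (tt N1725 (iv D1971)))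
theorem Q1940 : ∀ i, i < 1940 → P i := stepQ 1939 Q1939 (allL N1939 (tt N1939 F8826) (tt N2169 (iv F9749)) (tt N1761 F8827) (tt N1939 F8828) (tt N1939 F8829) (tt N1727 (iv D1972)) (tt N1806 F8830) (tt N2174 D2207) (tt N1775 F8831))
theorem Q1941 : ∀ i, i < 1941 → P i := stepQ 1940 Q1940 (allL N1940 (tt N1940 F8832) (tt N2170 (iv F9754)) (tt N1762 F8833) (tt N2175 D2208) (tt N1729 F8834) (tt N2174 (iv F9770)) (tt N1728 F8835) (tt N1727 (iv D1973)) (tt N2176 D2209))
theorem Q1942 : ∀ i, i < 1942 → P i := stepQ 1941 Q1941 (allL N1941 (tt N1941 F8836) (tt N2171 (iv F9757)) (tt N2177 D2210) (tt N1728 (iv D1974)) (tt N2139 (iv F9613)) (tt N1808 F8837) (tt N2175 (iv F9773)) (tt N1941 F8838) (tt N2178 D2211))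
theorem Q1943 : ∀ i, i < 1943 → P i := stepQ 1942 Q1942 (allL N1942 (tt N1942 F8839) (tt N2172 (iv F9760)) (tt N1764 F8840) (tt N2178 (iv F9785)) (tt N1730 F8841) (tt N1809 F8842) (tt N2176 (iv F9778)) (tt N2149 (iv F9672)) (tt N1728 (iv D1975)))
theorem Q1944 : ∀ i, i < 1944 → P i := stepQ 1943 Q1943 (allL N1943 (tt N1943 F8843) (tt N2173 (iv F9763)) (tt N1765 F8844) (tt N2141 (iv F9623)) (tt N2176 (iv F9777)) (tt N1943 F8845) (tt N1730 F8846) (tt N1881 F8847) (tt N1729 (iv D1976)))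
theorem Q1945 : ∀ i, i < 1945 → P i := stepQ 1944 Q1944 (allL N1944 (tt N1732 F8848) (tt N2179 D2212) (tt N1731 (iv D1977)) (tt N1944 F8849) (tt N1944 F8850) (tt N1860 F8851) (tt N1944 F8852) (tt N2180 D2213) (tt N1944 F8853))
theorem Q1946 : ∀ i, i < 1946 → P i := stepQ 1945 Q1945 (allL N1945 (tt N1733 F8854) (tt N1945 F8855) (tt N2180 (iv F9795)) (tt N1737 F8856) (tt N1945 F8857) (tt N1864 F8858) (tt N1945 F8859) (tt N1731 (iv D1978)) (tt N2181 D2214))
theorem Q1947 : ∀ i, i < 1947 → P i := stepQ 1946 Q1946 (allL N1946 (tt N2180 (iv F9794)) (tt N1946 F8860) (tt N1733 F8861) (tt N2182 D2215) (tt N1946 F8862) (tt N1868 F8863) (tt N1946 F8864) (tt N1732 (iv D1979)) (tt N2183 D2216))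
theorem Q1948 : ∀ i, i < 1948 → P i := stepQ 1947 Q1947 (allL N1947 (tt N2181 (iv F9799)) (tt N1734 F8865) (tt N2183 (iv F9812)) (tt N1742 F8866) (tt N1947 F8867) (tt N1877 F8868) (tt N1947 F8869) (tt N1947 F8870) (tt N1733 (iv D1980)))
theorem Q1949 : ∀ i, i < 1949 → P i := stepQ 1948 Q1948 (allL N1948 (tt N1893 F8871) (tt N1735 (iv D1981)) (tt N1948 F8872) (tt N1948 F8873) (tt N1811 F8874) (tt N2184 D2217) (tt N1948 F8875) (tt N2185 D2218) (tt N1745 F8876))
theorem Q1950 : ∀ i, i < 1950 → P i := stepQ 1949 Q1949 (allL N1949 (tt N1738 F8877) (tt N2184 (iv F9818)) (tt N1736 F8878) (tt N1949 F8879) (tt N2186 D2219) (tt N1735 (iv D1982)) (tt N1882 (iv F8881)) (tt N2187 D2220) (tt N1746 F8880))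
theorem Q1951 : ∀ i, i < 1951 → P i := stepQ 1950 Q1950 (allL N1950 (tt N1739 F8882) (tt N2185 (iv F9824)) (tt N1737 F8883) (tt N2188 D2221) (tt N1813 F8884) (tt N2187 (iv F9836)) (tt N1950 F8885) (tt N1735 (iv D1983)) (tt N2189 D2222))
theorem Q1952 : ∀ i, i < 1952 → P i := stepQ 1951 Q1951 (allL N1951 (tt N1740 F8886) (tt N1951 F8887) (tt N2186 (iv F9829)) (tt N1766 F8888) (tt N1736 (iv D1984)) (tt N1814 F8889) (tt N1855 F8890) (tt N2190 D2223) (tt N1748 F8891))
theorem Q1953 : ∀ i, i < 1953 → P i := stepQ 1952 Q1952 (allL N1952 (tt N1741 F8892) (tt N1952 F8893) (tt N2187 (iv F9835)) (tt N1864 F8894) (tt N2190 (iv F9849)) (tt N1737 F8895) (tt N1865 F8896) (tt N1736 (iv D1985)) (tt N2191 D2224))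
theorem Q1954 : ∀ i, i < 1954 → P i := stepQ 1953 Q1953 (allL N1953 (tt N1742 F8897) (tt N1953 F8898) (tt N2189 (iv F9842)) (tt N2181 (iv F9801)) (tt N1816 F8899) (tt N2191 (iv F9855)) (tt N1953 F8900) (tt N1751 F8901) (tt N1737 (iv D1986)))
theorem Q1955 : ∀ i, i < 1955 → P i := stepQ 1954 Q1954 (allL N1954 (tt N2186 (iv F9828)) (tt N2142 (iv F9628)) (tt N1740 F8902) (tt N2192 D2225) (tt N1738 (iv D1987)) (tt N1817 F8903) (tt N1858 F8904) (tt N2193 D2226) (tt N1752 F8905))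
theorem Q1956 : ∀ i, i < 1956 → P i := stepQ 1955 Q1955 (allL N1955 (tt N2187 (iv F9834)) (tt N2143 (iv F9634)) (tt N1741 F8906) (tt N2194 D2227) (tt N2193 (iv F9865)) (tt N1739 F8907) (tt N1878 F8908) (tt N1738 (iv D1988)) (tt N2195 D2228))
theorem Q1957 : ∀ i, i < 1957 → P i := stepQ 1956 Q1956 (allL N1956 (tt N2188 (iv F9838)) (tt N2144 (iv F9639)) (tt N2182 (iv F9807)) (tt N1739 (iv D1989)) (tt N2196 D2229) (tt N2194 (iv F9869)) (tt N1956 F8909) (tt N1956 F8910) (tt N2197 D2230))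
theorem Q1958 : ∀ i, i < 1958 → P i := stepQ 1957 Q1957 (allL N1957 (tt N2189 (iv F9841)) (tt N2145 (iv F9645)) (tt N1742 F8911) (tt N2197 (iv F9880)) (tt N1821 F8912) (tt N2195 (iv F9873)) (tt N1957 F8913) (tt N1756 F8914) (tt N1739 (iv D1990)))
theorem Q1959 : ∀ i, i < 1959 → P i := stepQ 1958 Q1958 (allL N1958 (tt N2190 (iv F9846)) (tt N1743 F8915) (tt N2193 (iv F9864)) (tt N1848 F8916) (tt N1741 F8917) (tt N1823 F8918) (tt N1849 F8919) (tt N1740 (iv D1991)) (tt N2198 D2231))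
theorem Q1960 : ∀ i, i < 1960 → P i := stepQ 1959 Q1959 (allL N1959 (tt N2191 (iv F9852)) (tt N1744 F8920) (tt N2195 (iv F9872)) (tt N1877 F8921) (tt N2198 (iv F9884)) (tt N1742 F8922) (tt N1879 F8923) (tt N1760 F8924) (tt N1741 (iv D1992)))
theorem Q1961 : ∀ i, i < 1961 → P i := stepQ 1960 Q1960 (allL N1960 (tt N1960 F8925) (tt N2198 (iv F9882)) (tt N2149 (iv F9668)) (tt N1852 F8926) (tt N1744 F8927) (tt N1828 F8928) (tt N1854 F8929) (tt N1764 F8930) (tt N1743 (iv D1993)))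
theorem Q1962 : ∀ i, i < 1962 → P i := stepQ 1961 Q1961 (allL N1961 (tt N2150 (iv F9673)) (tt N1746 F8931) (tt N1961 F8932) (tt N1961 F8933) (tt N2199 D2232) (tt N1745 (iv D1994)) (tt N2200 D2233) (tt N2201 D2234) (tt N2184 (iv F9821)))
theorem Q1963 : ∀ i, i < 1963 → P i := stepQ 1962 Q1962 (allL N1962 (tt N2151 (iv F9678)) (tt N1747 F8934) (tt N1962 F8935) (tt N2196 (iv F9877)) (tt N1820 F8936) (tt N2201 (iv F9898)) (tt N1962 F8937) (tt N1745 (iv D1995)) (tt N2202 D2235))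
theorem Q1964 : ∀ i, i < 1964 → P i := stepQ 1963 Q1963 (allL N1963 (tt N1752 F8938) (tt N2199 (iv F9888)) (tt N1748 F8939) (tt N2203 D2236) (tt N1746 (iv D1996)) (tt N1831 F8940) (tt N2204 D2237) (tt N2205 D2238) (tt N2186 (iv F9832)))
theorem Q1965 : ∀ i, i < 1965 → P i := stepQ 1964 Q1964 (allL N1964 (tt N1753 F8941) (tt N2200 (iv F9891)) (tt N1749 F8942) (tt N1964 F8943) (tt N2204 (iv F9912)) (tt N1964 F8944) (tt N1746 (iv D1997)) (tt N2206 D2239) (tt N1882 F8945))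
theorem Q1966 : ∀ i, i < 1966 → P i := stepQ 1965 Q1965 (allL N1965 (tt N1754 F8946) (tt N2201 (iv F9896)) (tt N1750 F8947) (tt N2207 D2240) (tt N2205 (iv F9917)) (tt N1747 F8948) (tt N2206 (iv F9922)) (tt N1746 (iv D1998)) (tt N2208 D2241))
theorem Q1967 : ∀ i, i < 1967 → P i := stepQ 1966 Q1966 (allL N1966 (tt N1755 F8949) (tt N2196 (iv F9876)) (tt N1966 F8950) (tt N1747 (iv D1999)) (tt N2144 (iv F9641)) (tt N2207 (iv F9925)) (tt N1966 F8951) (tt N1966 F8952) (tt N2209 D2242))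
theorem Q1968 : ∀ i, i < 1968 → P i := stepQ 1967 Q1967 (allL N1967 (tt N1756 F8953) (tt N2202 (iv F9899)) (tt N1751 F8954) (tt N2209 (iv F9932)) (tt N1834 F8955) (tt N2208 (iv F9929)) (tt N1967 F8956) (tt N2189 (iv F9845)) (tt N1747 (iv D2000)))
theorem Q1969 : ∀ i, i < 1969 → P i := stepQ 1968 Q1968 (allL N1968 (tt N1757 F8957) (tt N1968 F8958) (tt N2204 (iv F9910)) (tt N1769 F8959) (tt N1749 F8960) (tt N1857 (iv F8962)) (tt N1748 (iv D2001)) (tt N2210 D2243) (tt N1855 F8961))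
theorem Q1970 : ∀ i, i < 1970 → P i := stepQ 1969 Q1969 (allL N1969 (tt N1758 F8963) (tt N1969 F8964) (tt N2205 (iv F9916)) (tt N2211 D2244) (tt N1750 F8965) (tt N1836 F8966) (tt N2210 (iv F9939)) (tt N1748 (iv D2002)) (tt N2212 D2245))
theorem Q1971 : ∀ i, i < 1971 → P i := stepQ 1970 Q1970 (allL N1970 (tt N1759 F8967) (tt N1970 F8968) (tt N2206 (iv F9920)) (tt N1970 F8969) (tt N2210 (iv F9937)) (tt N1970 F8970) (tt N1750 F8971) (tt N1749 (iv D2003)) (tt N2213 D2246))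
theorem Q1972 : ∀ i, i < 1972 → P i := stepQ 1971 Q1971 (allL N1971 (tt N1760 F8972) (tt N1971 F8973) (tt N2208 (iv F9928)) (tt N1971 F8974) (tt N2212 (iv F9948)) (tt N1751 F8975) (tt N2213 (iv F9954)) (tt N2191 (iv F9857)) (tt N1750 (iv D2004)))
theorem Q1973 : ∀ i, i < 1973 → P i := stepQ 1972 Q1972 (allL N1972 (tt N2203 (iv F9903)) (tt N2161 (iv F9720)) (tt N1771 F8976) (tt N1752 (iv D2005)) (tt N1972 F8977) (tt N1839 F8978) (tt N2214 D2247) (tt N2215 D2248) (tt N2192 (iv F9863)))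
theorem Q1974 : ∀ i, i < 1974 → P i := stepQ 1973 Q1973 (allL N1973 (tt N2204 (iv F9909)) (tt N2162 (iv F9724)) (tt N1757 F8979) (tt N2214 (iv F9958)) (tt N1753 F8980) (tt N2216 D2249) (tt N1752 (iv D2006)) (tt N2217 D2250) (tt N1858 F8981))
theorem Q1975 : ∀ i, i < 1975 → P i := stepQ 1974 Q1974 (allL N1974 (tt N2205 (iv F9915)) (tt N2163 (iv F9728)) (tt N1758 F8982) (tt N2218 D2251) (tt N1754 F8983) (tt N1841 F8984) (tt N2217 (iv F9973)) (tt N1752 (iv D2007)) (tt N2219 D2252))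
theorem Q1976 : ∀ i, i < 1976 → P i := stepQ 1975 Q1975 (allL N1975 (tt N2206 (iv F9919)) (tt N2164 (iv F9732)) (tt N1759 F8985) (tt N2220 D2253) (tt N2217 (iv F9972)) (tt N1975 F8986) (tt N1754 F8987) (tt N1753 (iv D2008)) (tt N2221 D2254))
theorem Q1977 : ∀ i, i < 1977 → P i := stepQ 1976 Q1976 (allL N1976 (tt N2207 (iv F9923)) (tt N2165 (iv F9736)) (tt N1976 F8988) (tt N1754 (iv D2009)) (tt N2222 D2255) (tt N1755 F8989) (tt N2220 (iv F9980)) (tt N1976 F8990) (tt N2223 D2256))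
theorem Q1978 : ∀ i, i < 1978 → P i := stepQ 1977 Q1977 (allL N1977 (tt N2208 (iv F9927)) (tt N2166 (iv F9739)) (tt N1760 F8991) (tt N2223 (iv F9989)) (tt N2219 (iv F9976)) (tt N1756 F8992) (tt N2221 (iv F9984)) (tt N2195 (iv F9875)) (tt N1754 (iv D2010)))
theorem Q1979 : ∀ i, i < 1979 → P i := stepQ 1978 Q1978 (allL N1978 (tt N2144 (iv F9638)) (tt N2167 (iv F9742)) (tt N1978 F8993) (tt N1845 F8994) (tt N1755 (iv D2011)) (tt N2224 D2257) (tt N1978 F8995) (tt N1978 F8996) (tt N2225 D2258))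
theorem Q1980 : ∀ i, i < 1980 → P i := stepQ 1979 Q1979 (allL N1979 (tt N2209 (iv F9930)) (tt N2168 (iv F9746)) (tt N1979 F8997) (tt N1756 F8998) (tt N2225 (iv F9996)) (tt N2223 (iv F9990)) (tt N1979 F8999) (tt N2226 D2259) (tt N1755 (iv D2012)))
theorem Q1981 : ∀ i, i < 1981 → P i := stepQ 1980 Q1980 (allL N1980 (tt N1857 F9000) (tt N1761 F9001) (tt N2216 (iv F9966)) (tt N1772 F9002) (tt N1980 F9003) (tt N1757 (iv D2013)) (tt N1847 F9004) (tt N2227 D2260) (tt N1773 F9005))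
theorem Q1982 : ∀ i, i < 1982 → P i := stepQ 1981 Q1981 (allL N1981 (tt N2210 (iv F9934)) (tt N1762 F9006) (tt N2217 (iv F9971)) (tt N2228 D2261) (tt N1759 F9007) (tt N2227 (iv F10005)) (tt N1758 F9008) (tt N1757 (iv D2014)) (tt N2229 D2262))
theorem Q1983 : ∀ i, i < 1983 → P i := stepQ 1982 Q1982 (allL N1982 (tt N2211 (iv F9940)) (tt N1763 F9009) (tt N2230 D2263) (tt N1758 (iv D2015)) (tt N1982 F9010) (tt N1849 F9011) (tt N2228 (iv F10011)) (tt N1773 F9012) (tt N2231 D2264))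
theorem Q1984 : ∀ i, i < 1984 → P i := stepQ 1983 Q1983 (allL N1983 (tt N2212 (iv F9946)) (tt N1764 F9013) (tt N2219 (iv F9975)) (tt N2231 (iv F10021)) (tt N1760 F9014) (tt N1850 F9015) (tt N2229 (iv F10015)) (tt N2198 (iv F9887)) (tt N1758 (iv D2016)))
theorem Q1985 : ∀ i, i < 1985 → P i := stepQ 1984 Q1984 (allL N1984 (tt N2213 (iv F9950)) (tt N1765 F9016) (tt N2221 (iv F9982)) (tt N1984 F9017) (tt N2229 (iv F10014)) (tt N1984 F9018) (tt N1760 F9019) (tt N1879 F9020) (tt N1759 (iv D2017)))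
theorem Q1986 : ∀ i, i < 1986 → P i := stepQ 1985 Q1985 (allL N1985 (tt N1985 F9021) (tt N2227 (iv F10002)) (tt N2174 (iv F9768)) (tt N1826 F9022) (tt N1985 F9023) (tt N1762 F9024) (tt N1827 F9025) (tt N1761 (iv D2018)) (tt N2232 D2265))
theorem Q1987 : ∀ i, i < 1987 → P i := stepQ 1986 Q1986 (allL N1986 (tt N1986 F9026) (tt N2228 (iv F10008)) (tt N2233 D2266) (tt N1762 (iv D2019)) (tt N1986 F9027) (tt N1826 F9028) (tt N1763 F9029) (tt N1774 F9030) (tt N2234 D2267))
theorem Q1988 : ∀ i, i < 1988 → P i := stepQ 1987 Q1987 (allL N1987 (tt N1987 F9031) (tt N2229 (iv F10013)) (tt N2176 (iv F9776)) (tt N2234 (iv F10036)) (tt N1765 F9032) (tt N2232 (iv F10027)) (tt N1764 F9033) (tt N1854 F9034) (tt N1762 (iv D2020)))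
theorem Q1989 : ∀ i, i < 1989 → P i := stepQ 1988 Q1988 (allL N1988 (tt N1988 F9035) (tt N2235 D2268) (tt N1763 (iv D2021)) (tt N2177 (iv F9781)) (tt N1988 F9036) (tt N1853 F9037) (tt N2233 (iv F10033)) (tt N1775 F9038) (tt N2236 D2269))
theorem Q1990 : ∀ i, i < 1990 → P i := stepQ 1989 Q1989 (allL N1989 (tt N1989 F9039) (tt N2231 (iv F10020)) (tt N2236 (iv F10045)) (tt N1764 F9040) (tt N1989 F9041) (tt N1854 F9042) (tt N2234 (iv F10039)) (tt N2232 (iv F10029)) (tt N1763 (iv D2022)))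
theorem Q1991 : ∀ i, i < 1991 → P i := stepQ 1990 Q1990 (allL N1990 (tt N1847 F9043) (tt N1990 F9044) (tt N2192 (iv F9859)) (tt N1767 (iv D2023)) (tt N1990 F9045) (tt N1835 F9046) (tt N1857 F9047) (tt N2237 D2270) (tt N1771 F9048))
theorem Q1992 : ∀ i, i < 1992 → P i := stepQ 1991 Q1991 (allL N1991 (tt N1771 F9049) (tt N1774 F9050) (tt N2203 (iv F9904)) (tt N1768 (iv D2024)) (tt N1991 F9051) (tt N1822 F9052) (tt N1773 F9053) (tt N2228 (iv F10012)) (tt N1847 F9054))
theorem Q1993 : ∀ i, i < 1993 → P i := stepQ 1992 Q1992 (allL N1992 (tt N1773 F9055) (tt N1992 F9056) (tt N2214 (iv F9957)) (tt N1770 (iv D2025)) (tt N1992 F9057) (tt N1855 F9058) (tt N1771 F9059) (tt N2211 (iv F9945)) (tt N1857 F9060))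
theorem Q1994 : ∀ i, i < 1994 → P i := stepQ 1993 Q1993 (allL N1993 (tt N2228 (iv F10007)) (tt N1993 F9061) (tt N2215 (iv F9962)) (tt N2210 (iv F9936)) (tt N1993 F9062) (tt N1856 F9063) (tt N2211 (iv F9944)) (tt N1771 (iv D2026)) (tt N2238 D2271))
theorem Q1995 : ∀ i, i < 1995 → P i := stepQ 1994 Q1994 (allL N1994 (tt N2214 (iv F9956)) (tt N2239 D2272) (tt N1773 (iv D2027)) (tt N2204 (iv F9911)) (tt N1994 F9064) (tt N1858 F9065) (tt N2203 F9908) (tt N2230 (iv F10019)) (tt N2216 (iv F9970)))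
theorem Q1996 : ∀ i, i < 1996 → P i := stepQ 1995 Q1995 (allL N1995 (tt N1995 F9066) (tt N2240 D2273) (tt N1774 (iv D2028)) (tt N1995 F9067) (tt N1995 F9068) (tt N1786 F9069) (tt N1775 F9070) (tt N2233 (iv F10034)) (tt N1806 F9071))
theorem Q1997 : ∀ i, i < 1997 → P i := stepQ 1996 Q1996 (allL N1996 (tt N2241 D2274) (tt N1775 (iv D2029)) (tt N2239 (iv F10057)) (tt N1996 F9072) (tt N1996 F9073) (tt N1859 F9074) (tt N2240 (iv F10063)) (tt N2235 (iv F10043)) (tt N2169 (iv F9753)))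
theorem Q1998 : ∀ i, i < 1998 → P i := stepQ 1997 Q1997 (allL N1997 (tt N1997 F9075) (tt N1860 F9076) (tt N1997 F9077) (tt N1997 F9078) (tt N1777 F9079) (tt N2179 (iv F9791)) (tt N1776 (iv D2030)) (tt N2242 D2275) (tt N1997 F9080))
theorem Q1999 : ∀ i, i < 1999 → P i := stepQ 1998 Q1998 (allL N1998 (tt N1998 F9081) (tt N1861 F9082) (tt N1998 F9083) (tt N2243 D2276) (tt N1778 F9084) (tt N1998 F9085) (tt N2242 (iv F10075)) (tt N1776 (iv D2031)) (tt N2244 D2277))
theorem Q2000 : ∀ i, i < 2000 → P i := stepQ 1999 Q1999 (allL N1999 (tt N1999 F9086) (tt N1862 F9087) (tt N1999 F9088) (tt N1788 F9089) (tt N2242 (iv F10074)) (tt N1999 F9090) (tt N1778 F9091) (tt N1777 (iv D2032)) (tt N2245 D2278))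
theorem Q2001 : ∀ i, i < 2001 → P i := stepQ 2000 Q2000 (allL N2000 (tt N2000 F9092) (tt N1863 F9093) (tt N2000 F9094) (tt N1789 F9095) (tt N2244 (iv F10084)) (tt N1779 F9096) (tt N2245 (iv F10092)) (tt N2000 F9097) (tt N1778 (iv D2033)))
theorem Q2002 : ∀ i, i < 2002 → P i := stepQ 2001 Q2001 (allL N2001 (tt N1897 F9098) (tt N1817 F9099) (tt N1782 F9100) (tt N2246 D2279) (tt N1780 (iv D2034)) (tt N2142 (iv F9630)) (tt N2247 D2280) (tt N2248 D2281) (tt N1797 F9101))
theorem Q2003 : ∀ i, i < 2003 → P i := stepQ 2002 Q2002 (allL N2002 (tt N1896 F9102) (tt N1818 F9103) (tt N1783 F9104) (tt N1886 F9105) (tt N2247 (iv F10104)) (tt N2002 F9106) (tt N1780 (iv D2035)) (tt N2249 D2282) (tt N1798 F9107))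
theorem Q2004 : ∀ i, i < 2004 → P i := stepQ 2003 Q2003 (allL N2003 (tt N1843 F9108) (tt N1819 F9109) (tt N1784 F9110) (tt N1833 F9111) (tt N2248 (iv F10109)) (tt N1781 F9112) (tt N2249 (iv F10115)) (tt N1780 (iv D2036)) (tt N2250 D2283))
theorem Q2005 : ∀ i, i < 2005 → P i := stepQ 2004 Q2004 (allL N2004 (tt N1846 F9113) (tt N1821 F9114) (tt N1785 F9115) (tt N1834 F9116) (tt N2145 (iv F9647)) (tt N2250 (iv F10120)) (tt N2004 F9117) (tt N1801 F9118) (tt N1781 (iv D2037)))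
theorem Q2006 : ∀ i, i < 2006 → P i := stepQ 2005 Q2005 (allL N2005 (tt N1900 F9119) (tt N1786 F9120) (tt N2247 (iv F10102)) (tt N2005 F9121) (tt N1783 F9122) (tt N2240 (iv F10062)) (tt N1782 (iv D2038)) (tt N2251 D2284) (tt N1802 F9123))
theorem Q2007 : ∀ i, i < 2007 → P i := stepQ 2006 Q2006 (allL N2006 (tt N1873 F9124) (tt N1787 F9125) (tt N2248 (iv F10108)) (tt N2252 D2285) (tt N1784 F9126) (tt N2146 (iv F9653)) (tt N2251 (iv F10125)) (tt N1782 (iv D2039)) (tt N2253 D2286))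
theorem Q2008 : ∀ i, i < 2008 → P i := stepQ 2007 Q2007 (allL N2007 (tt N1871 F9127) (tt N1788 F9128) (tt N2249 (iv F10112)) (tt N1862 F9129) (tt N2251 (iv F10124)) (tt N2007 F9130) (tt N1784 F9131) (tt N1783 (iv D2040)) (tt N2254 D2287))
theorem Q2009 : ∀ i, i < 2009 → P i := stepQ 2008 Q2008 (allL N2008 (tt N1874 F9132) (tt N1789 F9133) (tt N2250 (iv F10118)) (tt N1863 F9134) (tt N2253 (iv F10132)) (tt N1785 F9135) (tt N2254 (iv F10138)) (tt N1805 F9136) (tt N1784 (iv D2041)))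
theorem Q2010 : ∀ i, i < 2010 → P i := stepQ 2009 Q2009 (allL N2009 (tt N2009 F9137) (tt N2251 (iv F10123)) (tt N1826 F9138) (tt N2255 D2288) (tt N1788 F9139) (tt N2233 (iv F10032)) (tt N1787 F9140) (tt N1786 (iv D2042)) (tt N2256 D2289))
theorem Q2011 : ∀ i, i < 2011 → P i := stepQ 2010 Q2010 (allL N2010 (tt N2010 F9141) (tt N2252 (iv F10127)) (tt N2257 D2290) (tt N1787 (iv D2043)) (tt N2243 (iv F10078)) (tt N2148 (iv F9664)) (tt N2255 (iv F10141)) (tt N2010 F9142) (tt N2258 D2291))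
theorem Q2012 : ∀ i, i < 2012 → P i := stepQ 2011 Q2011 (allL N2011 (tt N2011 F9143) (tt N2253 (iv F10131)) (tt N1828 F9144) (tt N2258 (iv F10153)) (tt N1789 F9145) (tt N2149 (iv F9670)) (tt N2256 (iv F10146)) (tt N1809 F9146) (tt N1787 (iv D2044)))
theorem Q2013 : ∀ i, i < 2013 → P i := stepQ 2012 Q2012 (allL N2012 (tt N2012 F9147) (tt N2254 (iv F10135)) (tt N1829 F9148) (tt N2245 (iv F10090)) (tt N2256 (iv F10145)) (tt N2012 F9149) (tt N1789 F9150) (tt N1810 F9151) (tt N1788 (iv D2045)))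
theorem Q2014 : ∀ i, i < 2014 → P i := stepQ 2013 Q2013 (allL N2013 (tt N1830 F9152) (tt N1791 F9153) (tt N2013 F9154) (tt N1887 F9155) (tt N2259 D2292) (tt N1790 (iv D2046)) (tt N1895 (iv F9157)) (tt N2260 D2293) (tt N1892 F9156))
theorem Q2015 : ∀ i, i < 2015 → P i := stepQ 2014 Q2014 (allL N2014 (tt N1820 F9158) (tt N1792 F9159) (tt N2014 F9160) (tt N1813 F9161) (tt N2151 (iv F9681)) (tt N2260 (iv F10164)) (tt N2014 F9162) (tt N1790 (iv D2047)) (tt N2261 D2294))
theorem Q2016 : ∀ i, i < 2016 → P i := stepQ 2015 Q2015 (allL N2015 (tt N1797 F9163) (tt N2259 (iv F10155)) (tt N1793 F9164) (tt N2262 D2295) (tt N1791 (iv D2048)) (tt N2152 (iv F9685)) (tt N2263 D2296) (tt N2264 D2297) (tt N1897 F9165))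
theorem Q2017 : ∀ i, i < 2017 → P i := stepQ 2016 Q2016 (allL N2016 (tt N1798 F9166) (tt N1895 F9167) (tt N1794 F9168) (tt N1889 F9169) (tt N2263 (iv F10182)) (tt N2016 F9170) (tt N1791 (iv D2049)) (tt N2265 D2298) (tt N1896 F9171))
theorem Q2018 : ∀ i, i < 2018 → P i := stepQ 2017 Q2017 (allL N2017 (tt N1799 F9172) (tt N2260 (iv F10161)) (tt N1795 F9173) (tt N2266 D2299) (tt N2264 (iv F10186)) (tt N1792 F9174) (tt N2265 (iv F10192)) (tt N1791 (iv D2050)) (tt N2267 D2300))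
theorem Q2019 : ∀ i, i < 2019 → P i := stepQ 2018 Q2018 (allL N2018 (tt N1800 F9175) (tt N1813 F9176) (tt N2018 F9177) (tt N1792 (iv D2051)) (tt N2185 (iv F9826)) (tt N2266 (iv F10196)) (tt N2018 F9178) (tt N1811 F9179) (tt N2268 D2301))
theorem Q2020 : ∀ i, i < 2020 → P i := stepQ 2019 Q2019 (allL N2019 (tt N1801 F9180) (tt N2261 (iv F10167)) (tt N1796 F9181) (tt N2268 (iv F10206)) (tt N2156 (iv F9700)) (tt N2267 (iv F10201)) (tt N2019 F9182) (tt N1846 F9183) (tt N1792 (iv D2052)))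
theorem Q2021 : ∀ i, i < 2021 → P i := stepQ 2020 Q2020 (allL N2020 (tt N1802 F9184) (tt N2020 F9185) (tt N2263 (iv F10180)) (tt N2020 F9186) (tt N1794 F9187) (tt N2269 D2302) (tt N1793 (iv D2053)) (tt N2270 D2303) (tt N1900 F9188))
theorem Q2022 : ∀ i, i < 2022 → P i := stepQ 2021 Q2021 (allL N2021 (tt N1803 F9189) (tt N2021 F9190) (tt N2264 (iv F10185)) (tt N2271 D2304) (tt N1795 F9191) (tt N2158 (iv F9711)) (tt N2270 (iv F10217)) (tt N1793 (iv D2054)) (tt N2272 D2305))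
theorem Q2023 : ∀ i, i < 2023 → P i := stepQ 2022 Q2022 (allL N2022 (tt N1804 F9192) (tt N2022 F9193) (tt N2265 (iv F10189)) (tt N2022 F9194) (tt N2270 (iv F10216)) (tt N2022 F9195) (tt N1795 F9196) (tt N1794 (iv D2055)) (tt N2273 D2306))
theorem Q2024 : ∀ i, i < 2024 → P i := stepQ 2023 Q2023 (allL N2023 (tt N1805 F9197) (tt N2023 F9198) (tt N2267 (iv F10200)) (tt N2023 F9199) (tt N2272 (iv F10224)) (tt N1796 F9200) (tt N2273 (iv F10230)) (tt N1874 F9201) (tt N1795 (iv D2056)))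
theorem Q2025 : ∀ i, i < 2025 → P i := stepQ 2024 Q2024 (allL N2024 (tt N2262 (iv F10172)) (tt N1839 F9202) (tt N2024 F9203) (tt N1797 (iv D2057)) (tt N1891 F9204) (tt N2161 (iv F9723)) (tt N2274 D2307) (tt N2275 D2308) (tt N2246 (iv F10098)))
theorem Q2026 : ∀ i, i < 2026 → P i := stepQ 2025 Q2025 (allL N2025 (tt N2263 (iv F10178)) (tt N1840 F9205) (tt N1802 F9206) (tt N2274 (iv F10235)) (tt N1798 F9207) (tt N2276 D2309) (tt N1797 (iv D2058)) (tt N2277 D2310) (tt N2247 (iv F10105)))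
theorem Q2027 : ∀ i, i < 2027 → P i := stepQ 2026 Q2026 (allL N2026 (tt N2264 (iv F10184)) (tt N1841 F9208) (tt N1803 F9209) (tt N2278 D2311) (tt N1799 F9210) (tt N2163 (iv F9731)) (tt N2277 (iv F10247)) (tt N1797 (iv D2059)) (tt N2279 D2312))
theorem Q2028 : ∀ i, i < 2028 → P i := stepQ 2027 Q2027 (allL N2027 (tt N2265 (iv F10187)) (tt N1842 F9211) (tt N1804 F9212) (tt N2280 D2313) (tt N2277 (iv F10246)) (tt N2027 F9213) (tt N1799 F9214) (tt N1798 (iv D2060)) (tt N2281 D2314))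
theorem Q2029 : ∀ i, i < 2029 → P i := stepQ 2028 Q2028 (allL N2028 (tt N2266 (iv F10193)) (tt N1843 F9215) (tt N2028 F9216) (tt N1799 (iv D2061)) (tt N2282 D2315) (tt N1800 F9217) (tt N2280 (iv F10256)) (tt N1892 F9218) (tt N2283 D2316))
theorem Q2030 : ∀ i, i < 2030 → P i := stepQ 2029 Q2029 (allL N2029 (tt N2267 (iv F10199)) (tt N1844 F9219) (tt N1805 F9220) (tt N2283 (iv F10267)) (tt N2279 (iv F10251)) (tt N1801 F9221) (tt N2281 (iv F10261)) (tt N2250 (iv F10121)) (tt N1799 (iv D2062)))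
theorem Q2031 : ∀ i, i < 2031 → P i := stepQ 2030 Q2030 (allL N2030 (tt N2185 (iv F9823)) (tt N1845 F9222) (tt N2030 F9223) (tt N2167 (iv F9743)) (tt N1800 (iv D2063)) (tt N2284 D2317) (tt N2030 F9224) (tt N1893 F9225) (tt N2285 D2318))
theorem Q2032 : ∀ i, i < 2032 → P i := stepQ 2031 Q2031 (allL N2031 (tt N2268 (iv F10203)) (tt N1846 F9226) (tt N2031 F9227) (tt N1801 F9228) (tt N2285 (iv F10274)) (tt N2283 (iv F10268)) (tt N2031 F9229) (tt N2261 (iv F10171)) (tt N1800 (iv D2064)))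
theorem Q2033 : ∀ i, i < 2033 → P i := stepQ 2032 Q2032 (allL N2032 (tt N2269 (iv F10209)) (tt N1806 F9230) (tt N2276 (iv F10242)) (tt N2032 F9231) (tt N2032 F9232) (tt N1802 (iv D2065)) (tt N2169 (iv F9752)) (tt N2286 D2319) (tt N2240 (iv F10064)))
theorem Q2034 : ∀ i, i < 2034 → P i := stepQ 2033 Q2033 (allL N2033 (tt N2270 (iv F10214)) (tt N1807 F9233) (tt N2277 (iv F10245)) (tt N2287 D2320) (tt N1804 F9234) (tt N2286 (iv F10278)) (tt N1803 F9235) (tt N1802 (iv D2066)) (tt N2288 D2321))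
theorem Q2035 : ∀ i, i < 2035 → P i := stepQ 2034 Q2034 (allL N2034 (tt N2271 (iv F10218)) (tt N1808 F9236) (tt N2289 D2322) (tt N1803 (iv D2067)) (tt N2034 F9237) (tt N2171 (iv F9758)) (tt N2287 (iv F10281)) (tt N2034 F9238) (tt N2290 D2323))
theorem Q2036 : ∀ i, i < 2036 → P i := stepQ 2035 Q2035 (allL N2035 (tt N2272 (iv F10222)) (tt N1809 F9239) (tt N2279 (iv F10250)) (tt N2290 (iv F10289)) (tt N1805 F9240) (tt N2172 (iv F9762)) (tt N2288 (iv F10285)) (tt N2253 (iv F10133)) (tt N1803 (iv D2068)))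
theorem Q2037 : ∀ i, i < 2037 → P i := stepQ 2036 Q2036 (allL N2036 (tt N2273 (iv F10226)) (tt N1810 F9241) (tt N2281 (iv F10259)) (tt N2036 F9242) (tt N2288 (iv F10284)) (tt N2036 F9243) (tt N1805 F9244) (tt N2254 (iv F10139)) (tt N1804 (iv D2069)))
theorem Q2038 : ∀ i, i < 2038 → P i := stepQ 2037 Q2037 (allL N2037 (tt N2037 F9245) (tt N2286 (iv F10276)) (tt N1827 F9246) (tt N2257 (iv F10149)) (tt N2037 F9247) (tt N1807 F9248) (tt N2174 (iv F9771)) (tt N1806 (iv D2070)) (tt N2291 D2324))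
theorem Q2039 : ∀ i, i < 2039 → P i := stepQ 2038 Q2038 (allL N2038 (tt N2038 F9249) (tt N2287 (iv F10279)) (tt N2148 (iv F9662)) (tt N1807 (iv D2071)) (tt N2038 F9250) (tt N2257 (iv F10150)) (tt N1808 F9251) (tt N2038 F9252) (tt N2292 D2325))
theorem Q2040 : ∀ i, i < 2040 → P i := stepQ 2039 Q2039 (allL N2039 (tt N2039 F9253) (tt N2288 (iv F10283)) (tt N1852 F9254) (tt N2292 (iv F10296)) (tt N1810 F9255) (tt N2291 (iv F10294)) (tt N1809 F9256) (tt N2256 (iv F10147)) (tt N1807 (iv D2072)))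
theorem Q2041 : ∀ i, i < 2041 → P i := stepQ 2040 Q2040 (allL N2040 (tt N2040 F9257) (tt N2293 D2326) (tt N1808 (iv D2073)) (tt N1853 F9258) (tt N2040 F9259) (tt N2177 (iv F9782)) (tt N2148 (iv F9665)) (tt N2040 F9260) (tt N2294 D2327))
theorem Q2042 : ∀ i, i < 2042 → P i := stepQ 2041 Q2041 (allL N2041 (tt N2041 F9261) (tt N2290 (iv F10288)) (tt N2294 (iv F10303)) (tt N1809 F9262) (tt N2041 F9263) (tt N2178 (iv F9786)) (tt N2292 (iv F10298)) (tt N2295 D2328) (tt N1808 (iv D2074)))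
theorem Q2043 : ∀ i, i < 2043 → P i := stepQ 2042 Q2042 (allL N2042 (tt N1892 F9264) (tt N1812 F9265) (tt N2042 F9266) (tt N1890 F9267) (tt N2274 (iv F10236)) (tt N1811 (iv D2075)) (tt N1891 (iv F9269)) (tt N2266 (iv F10198)) (tt N1830 F9268))
theorem Q2044 : ∀ i, i < 2044 → P i := stepQ 2043 Q2043 (allL N2043 (tt N1817 F9270) (tt N2274 (iv F10233)) (tt N1814 F9271) (tt N1840 F9272) (tt N1812 (iv D2076)) (tt N2186 (iv F9830)) (tt N1839 F9273) (tt N2296 D2329) (tt N1831 F9274))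
theorem Q2045 : ∀ i, i < 2045 → P i := stepQ 2044 Q2044 (allL N2044 (tt N1819 F9275) (tt N2266 (iv F10194)) (tt N1815 F9276) (tt N2260 (iv F10163)) (tt N2296 (iv F10311)) (tt N1813 F9277) (tt N1894 F9278) (tt N1812 (iv D2077)) (tt N2297 D2330))
theorem Q2046 : ∀ i, i < 2046 → P i := stepQ 2045 Q2045 (allL N2045 (tt N1821 F9279) (tt N2268 (iv F10204)) (tt N1816 F9280) (tt N2261 (iv F10169)) (tt N2189 (iv F9843)) (tt N2297 (iv F10315)) (tt N2045 F9281) (tt N1834 F9282) (tt N1813 (iv D2078)))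
theorem Q2047 : ∀ i, i < 2047 → P i := stepQ 2046 Q2046 (allL N2046 (tt N1823 F9283) (tt N2046 F9284) (tt N2296 (iv F10310)) (tt N2237 (iv F10050)) (tt N1815 F9285) (tt N2190 (iv F9850)) (tt N1856 F9286) (tt N1814 (iv D2079)) (tt N2298 D2331))
theorem Q2048 : ∀ i, i < 2048 → P i := stepQ 2047 Q2047 (allL N2047 (tt N1825 F9287) (tt N2047 F9288) (tt N2297 (iv F10314)) (tt N2047 F9289) (tt N2298 (iv F10320)) (tt N1816 F9290) (tt N1899 F9291) (tt N1838 F9292) (tt N1815 (iv D2080)))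
theorem Q2049 : ∀ i, i < 2049 → P i := stepQ 2048 Q2048 (allL N2048 (tt N1840 F9293) (tt N2246 (iv F10095)) (tt N1835 F9294) (tt N1817 (iv D2081)) (tt N1832 F9295) (tt N2192 (iv F9861)) (tt N1831 (iv F9297)) (tt N2299 D2332) (tt N1839 F9296))
theorem Q2050 : ∀ i, i < 2050 → P i := stepQ 2049 Q2049 (allL N2049 (tt N1839 F9298) (tt N2247 (iv F10101)) (tt N1822 F9299) (tt N1831 F9300) (tt N1818 F9301) (tt N2203 (iv F9906)) (tt N1817 (iv D2082)) (tt N2300 D2333) (tt N1840 F9302))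
theorem Q2051 : ∀ i, i < 2051 → P i := stepQ 2050 Q2050 (allL N2050 (tt N2296 (iv F10309)) (tt N2248 (iv F10107)) (tt N1823 F9303) (tt N2301 D2334) (tt N1819 F9304) (tt N2193 (iv F9866)) (tt N2300 (iv F10330)) (tt N1817 (iv D2083)) (tt N2302 D2335))
theorem Q2052 : ∀ i, i < 2052 → P i := stepQ 2051 Q2051 (allL N2051 (tt N1894 F9305) (tt N2249 (iv F10111)) (tt N1824 F9306) (tt N2303 D2336) (tt N2300 (iv F10329)) (tt N2051 F9307) (tt N1819 F9308) (tt N1818 (iv D2084)) (tt N2304 D2337))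
theorem Q2053 : ∀ i, i < 2053 → P i := stepQ 2052 Q2052 (allL N2052 (tt N2260 (iv F10160)) (tt N1833 F9309) (tt N2052 F9310) (tt N1819 (iv D2085)) (tt N2305 D2338) (tt N1820 F9311) (tt N2303 (iv F10338)) (tt N1830 F9312) (tt N2306 D2339))
theorem Q2054 : ∀ i, i < 2054 → P i := stepQ 2053 Q2053 (allL N2053 (tt N2297 (iv F10313)) (tt N2250 (iv F10117)) (tt N1825 F9313) (tt N2306 (iv F10350)) (tt N2302 (iv F10332)) (tt N1821 F9314) (tt N2304 (iv F10343)) (tt N1844 F9315) (tt N1819 (iv D2086)))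
theorem Q2055 : ∀ i, i < 2055 → P i := stepQ 2054 Q2054 (allL N2054 (tt N2261 (iv F10166)) (tt N1834 F9316) (tt N2054 F9317) (tt N1821 F9318) (tt N2202 (iv F9901)) (tt N2306 (iv F10351)) (tt N2054 F9319) (tt N2268 (iv F10208)) (tt N1820 (iv D2087)))
theorem Q2056 : ∀ i, i < 2056 → P i := stepQ 2055 Q2055 (allL N2055 (tt N1856 F9320) (tt N1826 F9321) (tt N2300 (iv F10328)) (tt N2227 (iv F10003)) (tt N1824 F9322) (tt N2228 (iv F10010)) (tt N1823 F9323) (tt N1822 (iv D2088)) (tt N2307 D2340))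
theorem Q2057 : ∀ i, i < 2057 → P i := stepQ 2056 Q2056 (allL N2056 (tt N2237 (iv F10048)) (tt N1827 F9324) (tt N2308 D2341) (tt N1823 (iv D2089)) (tt N2056 F9325) (tt N1848 F9326) (tt N2227 (iv F10006)) (tt N1847 F9327) (tt N2309 D2342))
theorem Q2058 : ∀ i, i < 2058 → P i := stepQ 2057 Q2057 (allL N2057 (tt N2298 (iv F10318)) (tt N1828 F9328) (tt N2302 (iv F10331)) (tt N2309 (iv F10361)) (tt N1825 F9329) (tt N2198 (iv F9885)) (tt N2307 (iv F10355)) (tt N1850 F9330) (tt N1823 (iv D2090)))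
theorem Q2059 : ∀ i, i < 2059 → P i := stepQ 2058 Q2058 (allL N2058 (tt N1899 F9331) (tt N1829 F9332) (tt N2304 (iv F10341)) (tt N2058 F9333) (tt N2307 (iv F10354)) (tt N2058 F9334) (tt N1825 F9335) (tt N1851 F9336) (tt N1824 (iv D2091)))
theorem Q2060 : ∀ i, i < 2060 → P i := stepQ 2059 Q2059 (allL N2059 (tt N2059 F9337) (tt N2307 (iv F10353)) (tt N2256 (iv F10144)) (tt N2232 (iv F10025)) (tt N1829 F9338) (tt N2234 (iv F10038)) (tt N1828 F9339) (tt N1852 F9340) (tt N1826 (iv D2092)))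
theorem Q2061 : ∀ i, i < 2061 → P i := stepQ 2060 Q2060 (allL N2060 (tt N2060 F9341) (tt N2309 (iv F10360)) (tt N2291 (iv F10292)) (tt N1828 F9342) (tt N2060 F9343) (tt N1852 F9344) (tt N2232 (iv F10028)) (tt N2234 (iv F10040)) (tt N1827 (iv D2093)))
theorem Q2062 : ∀ i, i < 2062 → P i := stepQ 2061 Q2061 (allL N2061 (tt N2259 (iv F10154)) (tt N1831 F9345) (tt N2061 F9346) (tt N2247 (iv F10103)) (tt N1830 (iv D2094)) (tt N2199 (iv F9890)) (tt N2246 F10099) (tt N2305 (iv F10347)) (tt N2274 (iv F10237)))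
theorem Q2063 : ∀ i, i < 2063 → P i := stepQ 2062 Q2062 (allL N2062 (tt N1895 F9347) (tt N1832 F9348) (tt N2062 F9349) (tt N1885 F9350) (tt N2246 (iv F10097)) (tt N2062 F9351) (tt N1830 (iv D2095)) (tt N2303 (iv F10339)) (tt N1891 F9352))
theorem Q2064 : ∀ i, i < 2064 → P i := stepQ 2063 Q2063 (allL N2063 (tt N1841 F9353) (tt N2305 (iv F10345)) (tt N1836 F9354) (tt N2310 D2343) (tt N1833 F9355) (tt N2205 (iv F9918)) (tt N2299 (iv F10326)) (tt N1831 (iv D2096)) (tt N2311 D2344))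
theorem Q2065 : ∀ i, i < 2065 → P i := stepQ 2064 Q2064 (allL N2064 (tt N1842 F9356) (tt N2303 (iv F10335)) (tt N1837 F9357) (tt N2249 (iv F10113)) (tt N2299 (iv F10325)) (tt N2064 F9358) (tt N1833 F9359) (tt N1832 (iv D2097)) (tt N2312 D2345))
theorem Q2066 : ∀ i, i < 2066 → P i := stepQ 2065 Q2065 (allL N2065 (tt N1844 F9360) (tt N2306 (iv F10348)) (tt N1838 F9361) (tt N2250 (iv F10119)) (tt N2311 (iv F10367)) (tt N1834 F9362) (tt N2312 (iv F10371)) (tt N2297 (iv F10317)) (tt N1833 (iv D2098)))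
theorem Q2067 : ∀ i, i < 2067 → P i := stepQ 2066 Q2066 (allL N2066 (tt N1848 F9363) (tt N2066 F9364) (tt N2299 (iv F10324)) (tt N2190 (iv F9848)) (tt N1837 F9365) (tt N2237 (iv F10052)) (tt N1836 F9366) (tt N1835 (iv D2099)) (tt N2313 D2346))
theorem Q2068 : ∀ i, i < 2068 → P i := stepQ 2067 Q2067 (allL N2067 (tt N1849 F9367) (tt N2067 F9368) (tt N2314 D2347) (tt N1836 (iv D2100)) (tt N1865 F9369) (tt N2211 (iv F9943)) (tt N2190 (iv F9851)) (tt N1855 F9370) (tt N2315 D2348))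
theorem Q2069 : ∀ i, i < 2069 → P i := stepQ 2068 Q2068 (allL N2068 (tt N1850 F9371) (tt N2068 F9372) (tt N2311 (iv F10366)) (tt N2315 (iv F10383)) (tt N1838 F9373) (tt N2212 (iv F9949)) (tt N2313 (iv F10376)) (tt N2298 (iv F10322)) (tt N1836 (iv D2101)))
theorem Q2070 : ∀ i, i < 2070 → P i := stepQ 2069 Q2069 (allL N2069 (tt N1851 F9374) (tt N2069 F9375) (tt N2312 (iv F10369)) (tt N1867 F9376) (tt N2313 (iv F10375)) (tt N2069 F9377) (tt N1838 F9378) (tt N1899 F9379) (tt N1837 (iv D2102)))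
theorem Q2071 : ∀ i, i < 2071 → P i := stepQ 2070 Q2070 (allL N2070 (tt N2300 (iv F10327)) (tt N2275 (iv F10238)) (tt N1856 F9380) (tt N2316 D2349) (tt N1894 F9381) (tt N2215 (iv F9964)) (tt N2296 (iv F10312)) (tt N1839 (iv D2103)) (tt N2317 D2350))
theorem Q2072 : ∀ i, i < 2072 → P i := stepQ 2071 Q2071 (allL N2071 (tt N2192 (iv F9858)) (tt N2276 (iv F10241)) (tt N1847 F9382) (tt N2186 (iv F9833)) (tt N2071 F9383) (tt N1840 (iv D2104)) (tt N2216 (iv F9969)) (tt N2308 (iv F10359)) (tt N2203 (iv F9907)))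
theorem Q2073 : ∀ i, i < 2073 → P i := stepQ 2072 Q2072 (allL N2072 (tt N2299 (iv F10323)) (tt N2277 (iv F10244)) (tt N1848 F9384) (tt N2318 D2351) (tt N1842 F9385) (tt N2308 (iv F10358)) (tt N1841 F9386) (tt N1840 (iv D2105)) (tt N2319 D2352))
theorem Q2074 : ∀ i, i < 2074 → P i := stepQ 2073 Q2073 (allL N2073 (tt N2310 (iv F10364)) (tt N2278 (iv F10248)) (tt N2320 D2353) (tt N1841 (iv D2106)) (tt N2321 D2354) (tt N2218 (iv F9974)) (tt N2318 (iv F10388)) (tt N2316 (iv F10385)) (tt N2322 D2355))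
theorem Q2075 : ∀ i, i < 2075 → P i := stepQ 2074 Q2074 (allL N2074 (tt N2311 (iv F10365)) (tt N2279 (iv F10249)) (tt N1850 F9387) (tt N2322 (iv F10394)) (tt N1844 F9388) (tt N2219 (iv F9977)) (tt N2319 (iv F10391)) (tt N2302 (iv F10333)) (tt N1841 (iv D2107)))
theorem Q2076 : ∀ i, i < 2076 → P i := stepQ 2075 Q2075 (allL N2075 (tt N2249 (iv F10110)) (tt N2280 (iv F10253)) (tt N1871 F9389) (tt N1842 (iv D2108)) (tt N2323 D2356) (tt N2075 F9390) (tt N1843 F9391) (tt N1896 F9392) (tt N2324 D2357))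
theorem Q2077 : ∀ i, i < 2077 → P i := stepQ 2076 Q2076 (allL N2076 (tt N2312 (iv F10368)) (tt N2281 (iv F10258)) (tt N1851 F9393) (tt N2324 (iv F10399)) (tt N2319 (iv F10390)) (tt N2076 F9394) (tt N1844 F9395) (tt N2304 (iv F10344)) (tt N1842 (iv D2109)))
theorem Q2078 : ∀ i, i < 2078 → P i := stepQ 2077 Q2077 (allL N2077 (tt N2248 (iv F10106)) (tt N2282 (iv F10262)) (tt N1873 F9396) (tt N2321 (iv F10393)) (tt N1843 (iv D2110)) (tt N2325 D2358) (tt N2323 (iv F10396)) (tt N1897 F9397) (tt N2326 D2359))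
theorem Q2079 : ∀ i, i < 2079 → P i := stepQ 2078 Q2078 (allL N2078 (tt N2250 (iv F10116)) (tt N2283 (iv F10265)) (tt N1874 F9398) (tt N1844 F9399) (tt N2326 (iv F10406)) (tt N1846 F9400) (tt N2324 (iv F10401)) (tt N2267 (iv F10202)) (tt N1843 (iv D2111)))
theorem Q2080 : ∀ i, i < 2080 → P i := stepQ 2079 Q2079 (allL N2079 (tt N2143 (iv F9633)) (tt N2284 (iv F10269)) (tt N1875 F9401) (tt N2224 (iv F9992)) (tt N2325 (iv F10403)) (tt N1845 (iv D2112)) (tt N2327 D2360) (tt N1898 F9402) (tt N2328 D2361))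
theorem Q2081 : ∀ i, i < 2081 → P i := stepQ 2080 Q2080 (allL N2080 (tt N2145 (iv F9644)) (tt N2285 (iv F10272)) (tt N1876 F9403) (tt N2225 (iv F9995)) (tt N1846 F9404) (tt N2328 (iv F10412)) (tt N2080 F9405) (tt N2156 (iv F9702)) (tt N1845 (iv D2113)))
theorem Q2082 : ∀ i, i < 2082 → P i := stepQ 2081 Q2081 (allL N2081 (tt N2313 (iv F10373)) (tt N1852 F9406) (tt N2319 (iv F10389)) (tt N2198 (iv F9883)) (tt N1851 F9407) (tt N2309 (iv F10363)) (tt N1850 F9408) (tt N2307 (iv F10356)) (tt N1848 (iv D2114)))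
theorem Q2083 : ∀ i, i < 2083 → P i := stepQ 2082 Q2082 (allL N2082 (tt N2314 (iv F10378)) (tt N2329 D2362) (tt N1849 (iv D2115)) (tt N2320 (iv F10392)) (tt N1878 F9409) (tt N2230 (iv F10018)) (tt N2193 (iv F9867)) (tt N1858 F9410) (tt N2330 D2363))
theorem Q2084 : ∀ i, i < 2084 → P i := stepQ 2083 Q2083 (allL N2083 (tt N2315 (iv F10381)) (tt N1854 F9411) (tt N2330 (iv F10416)) (tt N1850 F9412) (tt N1879 F9413) (tt N2231 (iv F10023)) (tt N2198 (iv F9886)) (tt N2229 (iv F10016)) (tt N1849 (iv D2116)))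
theorem Q2085 : ∀ i, i < 2085 → P i := stepQ 2084 Q2084 (allL N2084 (tt N2331 D2364) (tt N1853 (iv D2117)) (tt N2329 (iv F10413)) (tt N2293 (iv F10299)) (tt N1880 F9414) (tt N2235 (iv F10042)) (tt N2146 (iv F9654)) (tt N1859 F9415) (tt N2332 D2365))
theorem Q2086 : ∀ i, i < 2086 → P i := stepQ 2085 Q2085 (allL N2085 (tt N2085 F9416) (tt N2332 (iv F10422)) (tt N1854 F9417) (tt N2294 (iv F10304)) (tt N1881 F9418) (tt N2236 (iv F10047)) (tt N2149 (iv F9671)) (tt N2176 (iv F9779)) (tt N1853 (iv D2118)))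
theorem Q2087 : ∀ i, i < 2087 → P i := stepQ 2086 Q2086 (allL N2086 (tt N1858 F9419) (tt N2333 D2366) (tt N1855 (iv D2119)) (tt N2216 (iv F9967)) (tt N1882 F9420) (tt N2214 (iv F9960)) (tt N2186 (iv F9831)) (tt N2314 (iv F10380)) (tt N2204 (iv F9914)))
theorem Q2088 : ∀ i, i < 2088 → P i := stepQ 2087 Q2087 (allL N2087 (tt N2227 (iv F10001)) (tt N2087 F9421) (tt N2334 D2367) (tt N1856 (iv D2120)) (tt N2087 F9422) (tt N2210 (iv F9938)) (tt N2237 (iv F10053)) (tt N1857 F9423) (tt N2335 D2368))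
theorem Q2089 : ∀ i, i < 2089 → P i := stepQ 2088 Q2088 (allL N2088 (tt N2307 (iv F10352)) (tt N2088 F9424) (tt N2317 (iv F10386)) (tt N2335 (iv F10429)) (tt N1899 F9425) (tt N2238 (iv F10056)) (tt N2298 (iv F10321)) (tt N2313 (iv F10377)) (tt N1856 (iv D2121)))
theorem Q2090 : ∀ i, i < 2090 → P i := stepQ 2089 Q2089 (allL N2089 (tt N2216 (iv F9965)) (tt N2336 D2369) (tt N1857 (iv D2122)) (tt N1858 F9426) (tt N2089 F9427) (tt N2204 (iv F9913)) (tt N2192 (iv F9862)) (tt N2334 (iv F10427)) (tt N2214 (iv F9961)))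
theorem Q2091 : ∀ i, i < 2091 → P i := stepQ 2090 Q2090 (allL N2090 (tt N2337 D2370) (tt N1858 (iv D2123)) (tt N1859 F9428) (tt N2336 (iv F10432)) (tt N1883 F9429) (tt N2239 (iv F10059)) (tt N2142 (iv F9631)) (tt N2329 (iv F10415)) (tt N2162 (iv F9727)))
theorem Q2092 : ∀ i, i < 2092 → P i := stepQ 2091 Q2091 (allL N2091 (tt N1859 (iv D2124)) (tt N2091 F9430) (tt N2337 (iv F10434)) (tt N2091 F9431) (tt N1884 F9432) (tt N2241 (iv F10069)) (tt N1901 F9433) (tt N2331 (iv F10421)) (tt N2157 (iv F9707)))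
theorem Q2093 : ∀ i, i < 2093 → P i := stepQ 2092 Q2092 (allL N2092 (tt N1868 F9434) (tt N2242 (iv F10072)) (tt N1864 F9435) (tt N2338 D2371) (tt N1862 F9436) (tt N2180 (iv F9797)) (tt N1861 F9437) (tt N1860 (iv D2125)) (tt N2339 D2372))
theorem Q2094 : ∀ i, i < 2094 → P i := stepQ 2093 Q2093 (allL N2093 (tt N1869 F9438) (tt N2243 (iv F10077)) (tt N2340 D2373) (tt N1861 (iv D2126)) (tt N2252 (iv F10128)) (tt N2093 F9439) (tt N2338 (iv F10438)) (tt N2093 F9440) (tt N2341 D2374))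
theorem Q2095 : ∀ i, i < 2095 → P i := stepQ 2094 Q2094 (allL N2094 (tt N1870 F9441) (tt N2244 (iv F10082)) (tt N1866 F9442) (tt N2341 (iv F10450)) (tt N1863 F9443) (tt N2094 F9444) (tt N2339 (iv F10443)) (tt N2094 F9445) (tt N1861 (iv D2127)))
theorem Q2096 : ∀ i, i < 2096 → P i := stepQ 2095 Q2095 (allL N2095 (tt N1872 F9446) (tt N2245 (iv F10088)) (tt N1867 F9447) (tt N2254 (iv F10136)) (tt N2339 (iv F10442)) (tt N2095 F9448) (tt N1863 F9449) (tt N2095 F9450) (tt N1862 (iv D2128)))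
theorem Q2097 : ∀ i, i < 2097 → P i := stepQ 2096 Q2096 (allL N2096 (tt N1877 F9451) (tt N2096 F9452) (tt N2339 (iv F10441)) (tt N2191 (iv F9854)) (tt N1867 F9453) (tt N2181 (iv F9803)) (tt N1866 F9454) (tt N2096 F9455) (tt N1864 (iv D2129)))
theorem Q2098 : ∀ i, i < 2098 → P i := stepQ 2097 Q2097 (allL N2097 (tt N1878 F9456) (tt N2342 D2375) (tt N1865 (iv D2130)) (tt N2340 (iv F10446)) (tt N2314 (iv F10379)) (tt N2097 F9457) (tt N2187 (iv F9837)) (tt N1882 F9458) (tt N2343 D2376))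
theorem Q2099 : ∀ i, i < 2099 → P i := stepQ 2098 Q2098 (allL N2098 (tt N1879 F9459) (tt N2098 F9460) (tt N2343 (iv F10456)) (tt N1866 F9461) (tt N2315 (iv F10384)) (tt N2098 F9462) (tt N2191 (iv F9856)) (tt N2213 (iv F9955)) (tt N1865 (iv D2131)))
theorem Q2100 : ∀ i, i < 2100 → P i := stepQ 2099 Q2099 (allL N2099 (tt N2338 (iv F10437)) (tt N2099 F9463) (tt N2194 (iv F9868)) (tt N1868 (iv D2132)) (tt N2344 D2377) (tt N2182 (iv F9808)) (tt N1869 F9464) (tt N2099 F9465) (tt N2345 D2378))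
theorem Q2101 : ∀ i, i < 2101 → P i := stepQ 2100 Q2100 (allL N2100 (tt N2339 (iv F10440)) (tt N2100 F9466) (tt N1877 F9467) (tt N2345 (iv F10463)) (tt N1872 F9468) (tt N2183 (iv F9814)) (tt N1870 F9469) (tt N2100 F9470) (tt N1868 (iv D2133)))
theorem Q2102 : ∀ i, i < 2102 → P i := stepQ 2101 Q2101 (allL N2101 (tt N2340 (iv F10445)) (tt N2346 D2379) (tt N1869 (iv D2134)) (tt N1878 F9471) (tt N2347 D2380) (tt N2101 F9472) (tt N2194 (iv F9870)) (tt N2101 F9473) (tt N2348 D2381))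
theorem Q2103 : ∀ i, i < 2103 → P i := stepQ 2102 Q2102 (allL N2102 (tt N2252 (iv F10126)) (tt N2102 F9474) (tt N2347 (iv F10469)) (tt N1873 F9475) (tt N1869 (iv D2135)) (tt N2349 D2382) (tt N2344 (iv F10460)) (tt N2102 F9476) (tt N2350 D2383))
theorem Q2104 : ∀ i, i < 2104 → P i := stepQ 2103 Q2103 (allL N2103 (tt N2341 (iv F10449)) (tt N2103 F9477) (tt N2348 (iv F10471)) (tt N1870 F9478) (tt N2350 (iv F10480)) (tt N2103 F9479) (tt N2345 (iv F10464)) (tt N2351 D2384) (tt N1869 (iv D2136)))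
theorem Q2105 : ∀ i, i < 2105 → P i := stepQ 2104 Q2104 (allL N2104 (tt N2251 (iv F10122)) (tt N2104 F9480) (tt N2323 (iv F10395)) (tt N2344 (iv F10459)) (tt N1871 (iv D2137)) (tt N2352 D2385) (tt N1873 F9481) (tt N1900 F9482) (tt N2353 D2386))
theorem Q2106 : ∀ i, i < 2106 → P i := stepQ 2105 Q2105 (allL N2105 (tt N2254 (iv F10134)) (tt N2105 F9483) (tt N2324 (iv F10398)) (tt N1872 F9484) (tt N2353 (iv F10489)) (tt N2105 F9485) (tt N1874 F9486) (tt N2273 (iv F10231)) (tt N1871 (iv D2138)))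
theorem Q2107 : ∀ i, i < 2107 → P i := stepQ 2106 Q2106 (allL N2106 (tt N2146 (iv F9650)) (tt N2106 F9487) (tt N2325 (iv F10402)) (tt N2349 (iv F10475)) (tt N1875 F9488) (tt N1873 (iv D2139)) (tt N2331 (iv F10420)) (tt N1901 F9489) (tt N2354 D2387))
theorem Q2108 : ∀ i, i < 2108 → P i := stepQ 2107 Q2107 (allL N2107 (tt N2253 (iv F10130)) (tt N2107 F9490) (tt N2326 (iv F10405)) (tt N2350 (iv F10479)) (tt N1874 F9491) (tt N2354 (iv F10493)) (tt N2353 (iv F10490)) (tt N2272 (iv F10225)) (tt N1873 (iv D2140)))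
theorem Q2109 : ∀ i, i < 2109 → P i := stepQ 2108 Q2108 (allL N2108 (tt N1880 F9492) (tt N2108 F9493) (tt N2327 (iv F10408)) (tt N2108 F9494) (tt N2331 (iv F10419)) (tt N2108 F9495) (tt N1875 (iv D2141)) (tt N1884 F9496) (tt N2355 D2388))
theorem Q2110 : ∀ i, i < 2110 → P i := stepQ 2109 Q2109 (allL N2109 (tt N2147 (iv F9655)) (tt N2109 F9497) (tt N2328 (iv F10411)) (tt N2109 F9498) (tt N2354 (iv F10492)) (tt N1876 F9499) (tt N2355 (iv F10498)) (tt N2160 (iv F9719)) (tt N1875 (iv D2142)))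
theorem Q2111 : ∀ i, i < 2111 → P i := stepQ 2110 Q2110 (allL N2110 (tt N2327 (iv F10407)) (tt N1878 (iv D2143)) (tt N1880 F9500) (tt N2346 (iv F10466)) (tt N2329 (iv F10414)) (tt N2110 F9501) (tt N2143 (iv F9637)) (tt N1883 F9502) (tt N2356 D2389))
theorem Q2112 : ∀ i, i < 2112 → P i := stepQ 2111 Q2111 (allL N2111 (tt N2343 (iv F10455)) (tt N2356 (iv F10499)) (tt N1879 F9503) (tt N2348 (iv F10472)) (tt N2330 (iv F10417)) (tt N2111 F9504) (tt N2195 (iv F9874)) (tt N2221 (iv F9985)) (tt N1878 (iv D2144)))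
theorem Q2113 : ∀ i, i < 2113 → P i := stepQ 2112 Q2112 (allL N2112 (tt N2355 (iv F10494)) (tt N1881 F9505) (tt N2356 (iv F10500)) (tt N2112 F9506) (tt N2332 (iv F10423)) (tt N2112 F9507) (tt N2147 (iv F9659)) (tt N2173 (iv F9766)) (tt N1880 (iv D2145)))
theorem Q2114 : ∀ i, i < 2114 → P i := stepQ 2113 Q2113 (allL N2113 (tt N2357 D2390) (tt N1882 (iv D2146)) (tt N2113 F9508) (tt N2113 F9509) (tt N2333 (iv F10425)) (tt N2113 F9510) (tt N2184 F9822) (tt N2342 (iv F10454)) (tt N2200 (iv F9895)))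
theorem Q2115 : ∀ i, i < 2115 → P i := stepQ 2114 Q2114 (allL N2114 (tt N1883 (iv D2147)) (tt N2357 (iv F10502)) (tt N1884 F9511) (tt N2114 F9512) (tt N2337 (iv F10435)) (tt N2114 F9513) (tt N1898 F9514) (tt N2327 (iv F10410)) (tt N2153 (iv F9691)))
theorem Q2116 : ∀ i, i < 2116 → P i := stepQ 2115 Q2115 (allL N2115 (tt N1891 F9515) (tt N1896 F9516) (tt N2115 F9517) (tt N1888 (iv D2148)) (tt N2262 (iv F10175)) (tt N2115 F9518) (tt N1892 F9519) (tt N2280 (iv F10257)) (tt N1895 F9520))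
theorem Q2117 : ∀ i, i < 2117 → P i := stepQ 2116 Q2116 (allL N2116 (tt N2280 (iv F10252)) (tt N1894 F9521) (tt N2116 F9522) (tt N2265 (iv F10190)) (tt N2275 (iv F10240)) (tt N2116 F9523) (tt N2266 (iv F10197)) (tt N1891 (iv D2149)) (tt N2358 D2391))
theorem Q2118 : ∀ i, i < 2118 → P i := stepQ 2117 Q2117 (allL N2117 (tt N2274 (iv F10232)) (tt N1897 F9524) (tt N2117 F9525) (tt N2263 (iv F10181)) (tt N1892 (iv D2150)) (tt N2359 D2392) (tt N2262 F10177) (tt N2282 (iv F10264)) (tt N2259 (iv F10159)))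
theorem Q2119 : ∀ i, i < 2119 → P i := stepQ 2118 Q2118 (allL N2118 (tt N2184 (iv F9817)) (tt N1898 F9526) (tt N2118 F9527) (tt N2118 F9528) (tt N2359 (iv F10512)) (tt N1893 (iv D2151)) (tt N2357 (iv F10506)) (tt N2284 (iv F10271)) (tt N2150 (iv F9677)))
theorem Q2120 : ∀ i, i < 2120 → P i := stepQ 2119 Q2119 (allL N2119 (tt N2303 (iv F10334)) (tt N2265 (iv F10188)) (tt N2119 F9529) (tt N1894 (iv D2152)) (tt N2360 D2393) (tt N2119 F9530) (tt N2260 (iv F10165)) (tt N1895 F9531) (tt N2361 D2394))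
theorem Q2121 : ∀ i, i < 2121 → P i := stepQ 2120 Q2120 (allL N2120 (tt N2304 (iv F10340)) (tt N2358 (iv F10507)) (tt N1899 F9532) (tt N2361 (iv F10516)) (tt N2317 (iv F10387)) (tt N2120 F9533) (tt N2297 (iv F10316)) (tt N2312 (iv F10372)) (tt N1894 (iv D2153)))
theorem Q2122 : ∀ i, i < 2122 → P i := stepQ 2121 Q2121 (allL N2121 (tt N2246 (iv F10094)) (tt N2263 (iv F10179)) (tt N2121 F9534) (tt N1897 F9535) (tt N1895 (iv D2154)) (tt N2362 D2395) (tt N2259 (iv F10158)) (tt N2360 (iv F10514)) (tt N2262 (iv F10176)))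
theorem Q2123 : ∀ i, i < 2123 → P i := stepQ 2122 Q2122 (allL N2122 (tt N2247 (iv F10100)) (tt N2262 (iv F10173)) (tt N1900 F9536) (tt N2259 (iv F10157)) (tt N1896 (iv D2155)) (tt N2363 D2396) (tt N1897 F9537) (tt N2323 (iv F10397)) (tt N2263 (iv F10183)))
theorem Q2124 : ∀ i, i < 2124 → P i := stepQ 2123 Q2123 (allL N2123 (tt N2142 (iv F9627)) (tt N2359 (iv F10510)) (tt N1901 F9538) (tt N2362 (iv F10519)) (tt N1898 F9539) (tt N1897 (iv D2156)) (tt N2337 (iv F10436)) (tt N2325 (iv F10404)) (tt N2152 (iv F9686)))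
theorem Q2125 : ∀ i, i < 2125 → P i := stepQ 2124 Q2124 (allL N2124 (tt N2240 F10065) (tt N2124 F9540) (tt N2363 (iv F10521)) (tt N2124 F9541) (tt N2124 F9542) (tt N1900 (iv D2157)) (tt N2241 (iv F10070)) (tt N2352 (iv F10487)) (tt N2269 (iv F10213)))
theorem Q2126 : ∀ i, i < 2126 → P i := stepQ 2125 Q2125 (allL N2125 (tt N2125 F9543) (tt N1902 (iv D2158)) (tt N2125 F9544) (tt N2125 F9545) (tt N2125 F9546) (tt N1912 (iv F9574)) (tt N2125 F9547) (tt N2364 D2397) (tt N2125 F9548))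
theorem Q2127 : ∀ i, i < 2127 → P i := stepQ 2126 Q2126 (allL N2126 (tt N1906 F9549) (tt N1912 F9572) (tt N1903 F9550) (tt N2126 F9551) (tt N1909 F9573) (tt N1902 (iv D2159)) (tt N1908 (iv F9570)) (tt N2365 D2398) (tt N2126 F9552))
theorem Q2128 : ∀ i, i < 2128 → P i := stepQ 2127 Q2127 (allL N2127 (tt N1907 F9553) (tt N2364 (iv F10524)) (tt N1904 F9554) (tt N2366 D2399) (tt N2127 F9555) (tt N2365 (iv F10533)) (tt N2127 F9556) (tt N1902 (iv D2160)) (tt N2367 D2400))
theorem Q2129 : ∀ i, i < 2129 → P i := stepQ 2128 Q2128 (allL N2128 (tt N1908 F9557) (tt N2128 F9558) (tt N1909 F9569) (tt N2128 F9559) (tt N1903 (iv D2161)) (tt N2128 F9560) (tt N1906 (iv F9571)) (tt N2368 D2401) (tt N2128 F9561))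
theorem Q2130 : ∀ i, i < 2130 → P i := stepQ 2129 Q2129 (allL N2129 (tt N1909 F9562) (tt N2129 F9563) (tt N1908 F9568) (tt N1905 F9564) (tt N1906 (iv F9567)) (tt N2129 F9565) (tt N1903 (iv D2162)) (tt N2369 D2402) (tt N2129 F9566))
theorem Q2131 : ∀ i, i < 2131 → P i := stepQ 2130 Q2130 (allL N2130 (tt N1910 F9575) (tt N2130 F9576) (tt N2365 (iv F10531)) (tt N1928 F9577) (tt N2368 (iv F10547)) (tt N1904 F9578) (tt N2369 (iv F10556)) (tt N1903 (iv D2163)) (tt N2370 D2403))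
theorem Q2132 : ∀ i, i < 2132 → P i := stepQ 2131 Q2131 (allL N2131 (tt N1911 F9579) (tt N2131 F9580) (tt N2367 (iv F10540)) (tt N1929 F9581) (tt N2131 F9582) (tt N2370 (iv F10560)) (tt N2131 F9583) (tt N2131 F9584) (tt N1904 (iv D2164)))
theorem Q2133 : ∀ i, i < 2133 → P i := stepQ 2132 Q2132 (allL N2132 (tt N2365 (iv F10529)) (tt N2132 F9585) (tt N1910 F9586) (tt N2371 D2404) (tt N2369 (iv F10554)) (tt N1907 F9587) (tt N2368 (iv F10549)) (tt N1906 (iv D2165)) (tt N2372 D2405))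
theorem Q2134 : ∀ i, i < 2134 → P i := stepQ 2133 Q2133 (allL N2133 (tt N2366 (iv F10535)) (tt N2133 F9588) (tt N1933 F9589) (tt N1907 (iv D2166)) (tt N2373 D2406) (tt N2371 (iv F10564)) (tt N2133 F9590) (tt N2133 F9591) (tt N2374 D2407))
theorem Q2135 : ∀ i, i < 2135 → P i := stepQ 2134 Q2134 (allL N2134 (tt N2367 (iv F10539)) (tt N2134 F9592) (tt N1911 F9593) (tt N2374 (iv F10577)) (tt N2134 F9594) (tt N2372 (iv F10568)) (tt N2134 F9595) (tt N2134 F9596) (tt N1907 (iv D2167)))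
theorem Q2136 : ∀ i, i < 2136 → P i := stepQ 2135 Q2135 (allL N2135 (tt N2368 (iv F10544)) (tt N1913 F9597) (tt N2369 (iv F10552)) (tt N2375 D2408) (tt N1910 F9598) (tt N2135 F9599) (tt N2365 (iv F10534)) (tt N1908 (iv D2168)) (tt N2376 D2409))
theorem Q2137 : ∀ i, i < 2137 → P i := stepQ 2136 Q2136 (allL N2136 (tt N2369 (iv F10550)) (tt N1914 F9600) (tt N2368 (iv F10546)) (tt N1937 F9601) (tt N2365 (iv F10532)) (tt N2136 F9602) (tt N1910 F9603) (tt N1909 (iv D2169)) (tt N2377 D2410))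
theorem Q2138 : ∀ i, i < 2138 → P i := stepQ 2137 Q2137 (allL N2137 (tt N2370 (iv F10557)) (tt N1915 F9604) (tt N2372 (iv F10567)) (tt N1938 F9605) (tt N2376 (iv F10584)) (tt N1911 F9606) (tt N2377 (iv F10590)) (tt N2137 F9607) (tt N1910 (iv D2170)))
theorem Q2139 : ∀ i, i < 2139 → P i := stepQ 2138 Q2138 (allL N2138 (tt N2138 F9608) (tt N2365 (iv F10530)) (tt N2138 F9609) (tt N2378 D2411) (tt N1914 F9610) (tt N2364 (iv F10527)) (tt N1913 F9611) (tt N1912 (iv D2171)) (tt N2379 D2412))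
theorem Q2140 : ∀ i, i < 2140 → P i := stepQ 2139 Q2139 (allL N2139 (tt N2139 F9612) (tt N2375 (iv F10579)) (tt N2380 D2413) (tt N1913 (iv D2172)) (tt N1941 F9613) (tt N2139 F9614) (tt N2378 (iv F10594)) (tt N2139 F9615) (tt N2381 D2414))
theorem Q2141 : ∀ i, i < 2141 → P i := stepQ 2140 Q2140 (allL N2140 (tt N2140 F9616) (tt N2376 (iv F10583)) (tt N2140 F9617) (tt N2381 (iv F10607)) (tt N1915 F9618) (tt N2140 F9619) (tt N2379 (iv F10599)) (tt N2140 F9620) (tt N1913 (iv D2173)))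
theorem Q2142 : ∀ i, i < 2142 → P i := stepQ 2141 Q2141 (allL N2141 (tt N2141 F9621) (tt N2377 (iv F10587)) (tt N2141 F9622) (tt N1943 F9623) (tt N2379 (iv F10598)) (tt N2141 F9624) (tt N1915 F9625) (tt N2141 F9626) (tt N1914 (iv D2174)))
theorem Q2143 : ∀ i, i < 2143 → P i := stepQ 2142 Q2142 (allL N2142 (tt N2123 F9627) (tt N1954 F9628) (tt N1918 F9629) (tt N2382 D2415) (tt N1916 (iv D2175)) (tt N2001 F9630) (tt N2090 F9631) (tt N2383 D2416) (tt N1930 F9632))
theorem Q2144 : ∀ i, i < 2144 → P i := stepQ 2143 Q2143 (allL N2143 (tt N2079 F9633) (tt N1955 F9634) (tt N1919 F9635) (tt N2384 D2417) (tt N2383 (iv F10620)) (tt N1917 F9636) (tt N2110 F9637) (tt N1916 (iv D2176)) (tt N2385 D2418))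
theorem Q2145 : ∀ i, i < 2145 → P i := stepQ 2144 Q2144 (allL N2144 (tt N1978 F9638) (tt N1956 F9639) (tt N2144 F9640) (tt N1917 (iv D2177)) (tt N1966 F9641) (tt N2384 (iv F10626)) (tt N2144 F9642) (tt N2144 F9643) (tt N2386 D2419))
theorem Q2146 : ∀ i, i < 2146 → P i := stepQ 2145 Q2145 (allL N2145 (tt N2080 F9644) (tt N1957 F9645) (tt N1920 F9646) (tt N2386 (iv F10638)) (tt N2004 F9647) (tt N2385 (iv F10632)) (tt N2145 F9648) (tt N1934 F9649) (tt N1917 (iv D2178)))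
theorem Q2147 : ∀ i, i < 2147 → P i := stepQ 2146 Q2146 (allL N2146 (tt N2106 F9650) (tt N1921 F9651) (tt N2383 (iv F10619)) (tt N2387 D2420) (tt N1919 F9652) (tt N2006 F9653) (tt N2084 F9654) (tt N1918 (iv D2179)) (tt N2388 D2421))
theorem Q2148 : ∀ i, i < 2148 → P i := stepQ 2147 Q2147 (allL N2147 (tt N2109 F9655) (tt N1922 F9656) (tt N2385 (iv F10631)) (tt N2147 F9657) (tt N2388 (iv F10649)) (tt N1920 F9658) (tt N2112 F9659) (tt N1938 F9660) (tt N1919 (iv D2180)))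
theorem Q2149 : ∀ i, i < 2149 → P i := stepQ 2148 Q2148 (allL N2148 (tt N2148 F9661) (tt N2387 (iv F10642)) (tt N2038 F9662) (tt N1921 (iv D2181)) (tt N2148 F9663) (tt N2010 F9664) (tt N2040 F9665) (tt N2148 F9666) (tt N2389 D2422))
theorem Q2150 : ∀ i, i < 2150 → P i := stepQ 2149 Q2149 (allL N2149 (tt N2149 F9667) (tt N2388 (iv F10648)) (tt N1960 F9668) (tt N2389 (iv F10655)) (tt N1922 F9669) (tt N2011 F9670) (tt N2085 F9671) (tt N1942 F9672) (tt N1921 (iv D2182)))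
theorem Q2151 : ∀ i, i < 2151 → P i := stepQ 2150 Q2150 (allL N2150 (tt N1961 F9673) (tt N1924 F9674) (tt N2150 F9675) (tt N2150 F9676) (tt N2390 D2423) (tt N1923 (iv D2183)) (tt N2391 D2424) (tt N2392 D2425) (tt N2118 F9677))
theorem Q2152 : ∀ i, i < 2152 → P i := stepQ 2151 Q2151 (allL N2151 (tt N1962 F9678) (tt N1925 F9679) (tt N2151 F9680) (tt N2393 D2426) (tt N2014 F9681) (tt N2392 (iv F10674)) (tt N2151 F9682) (tt N1923 (iv D2184)) (tt N2394 D2427))
theorem Q2153 : ∀ i, i < 2153 → P i := stepQ 2152 Q2152 (allL N2152 (tt N1930 F9683) (tt N2390 (iv F10660)) (tt N1926 F9684) (tt N2395 D2428) (tt N1924 (iv D2185)) (tt N2015 F9685) (tt N2396 D2429) (tt N2397 D2430) (tt N2123 F9686))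
theorem Q2154 : ∀ i, i < 2154 → P i := stepQ 2153 Q2153 (allL N2153 (tt N1931 F9687) (tt N2391 (iv F10666)) (tt N1927 F9688) (tt N2153 F9689) (tt N2396 (iv F10694)) (tt N2153 F9690) (tt N1924 (iv D2186)) (tt N2398 D2431) (tt N2114 F9691))
theorem Q2155 : ∀ i, i < 2155 → P i := stepQ 2154 Q2154 (allL N2154 (tt N1932 F9692) (tt N2392 (iv F10672)) (tt N1928 F9693) (tt N2399 D2432) (tt N2397 (iv F10698)) (tt N1925 F9694) (tt N2398 (iv F10703)) (tt N1924 (iv D2187)) (tt N2400 D2433))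
theorem Q2156 : ∀ i, i < 2156 → P i := stepQ 2155 Q2155 (allL N2155 (tt N1933 F9695) (tt N2393 (iv F10676)) (tt N2366 (iv F10536)) (tt N1925 (iv D2188)) (tt N2401 D2434) (tt N2399 (iv F10705)) (tt N2155 F9696) (tt N2155 F9697) (tt N2402 D2435))
theorem Q2157 : ∀ i, i < 2157 → P i := stepQ 2156 Q2156 (allL N2156 (tt N1934 F9698) (tt N2394 (iv F10681)) (tt N1929 F9699) (tt N2402 (iv F10717)) (tt N2019 F9700) (tt N2400 (iv F10709)) (tt N2156 F9701) (tt N2080 F9702) (tt N1925 (iv D2189)))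
theorem Q2158 : ∀ i, i < 2158 → P i := stepQ 2157 Q2157 (allL N2157 (tt N1935 F9703) (tt N2157 F9704) (tt N2396 (iv F10693)) (tt N2157 F9705) (tt N1927 F9706) (tt N2403 D2436) (tt N1926 (iv D2190)) (tt N2404 D2437) (tt N2091 F9707))
theorem Q2159 : ∀ i, i < 2159 → P i := stepQ 2158 Q2158 (allL N2158 (tt N1936 F9708) (tt N2158 F9709) (tt N2397 (iv F10697)) (tt N2405 D2438) (tt N1928 F9710) (tt N2021 F9711) (tt N2404 (iv F10728)) (tt N1926 (iv D2191)) (tt N2406 D2439))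
theorem Q2160 : ∀ i, i < 2160 → P i := stepQ 2159 Q2159 (allL N2159 (tt N1937 F9712) (tt N2159 F9713) (tt N2398 (iv F10701)) (tt N2369 (iv F10553)) (tt N2404 (iv F10727)) (tt N2159 F9714) (tt N1928 F9715) (tt N1927 (iv D2192)) (tt N2407 D2440))
theorem Q2161 : ∀ i, i < 2161 → P i := stepQ 2160 Q2160 (allL N2160 (tt N1938 F9716) (tt N2160 F9717) (tt N2400 (iv F10708)) (tt N2370 (iv F10559)) (tt N2406 (iv F10735)) (tt N1929 F9718) (tt N2407 (iv F10741)) (tt N2109 F9719) (tt N1928 (iv D2193)))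
theorem Q2162 : ∀ i, i < 2162 → P i := stepQ 2161 Q2161 (allL N2161 (tt N2395 (iv F10686)) (tt N1972 F9720) (tt N2161 F9721) (tt N1930 (iv D2194)) (tt N2161 F9722) (tt N2024 F9723) (tt N2408 D2441) (tt N2409 D2442) (tt N2382 (iv F10616)))
theorem Q2163 : ∀ i, i < 2163 → P i := stepQ 2162 Q2162 (allL N2162 (tt N2396 (iv F10692)) (tt N1973 F9724) (tt N1935 F9725) (tt N2408 (iv F10745)) (tt N1931 F9726) (tt N2410 D2443) (tt N1930 (iv D2195)) (tt N2411 D2444) (tt N2090 F9727))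
theorem Q2164 : ∀ i, i < 2164 → P i := stepQ 2163 Q2163 (allL N2163 (tt N2397 (iv F10696)) (tt N1974 F9728) (tt N1936 F9729) (tt N2412 D2445) (tt N1932 F9730) (tt N2026 F9731) (tt N2411 (iv F10762)) (tt N1930 (iv D2196)) (tt N2413 D2446))
theorem Q2165 : ∀ i, i < 2165 → P i := stepQ 2164 Q2164 (allL N2164 (tt N2398 (iv F10700)) (tt N1975 F9732) (tt N1937 F9733) (tt N2414 D2447) (tt N2411 (iv F10761)) (tt N2164 F9734) (tt N1932 F9735) (tt N1931 (iv D2197)) (tt N2415 D2448))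
theorem Q2166 : ∀ i, i < 2166 → P i := stepQ 2165 Q2165 (allL N2165 (tt N2399 (iv F10704)) (tt N1976 F9736) (tt N2371 (iv F10563)) (tt N1932 (iv D2198)) (tt N2416 D2449) (tt N1933 F9737) (tt N2414 (iv F10771)) (tt N2165 F9738) (tt N2417 D2450))
theorem Q2167 : ∀ i, i < 2167 → P i := stepQ 2166 Q2166 (allL N2166 (tt N2400 (iv F10707)) (tt N1977 F9739) (tt N1938 F9740) (tt N2417 (iv F10781)) (tt N2413 (iv F10767)) (tt N1934 F9741) (tt N2415 (iv F10776)) (tt N2385 (iv F10634)) (tt N1932 (iv D2199)))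
theorem Q2168 : ∀ i, i < 2168 → P i := stepQ 2167 Q2167 (allL N2167 (tt N2401 (iv F10711)) (tt N1978 F9742) (tt N2373 (iv F10571)) (tt N2030 F9743) (tt N1933 (iv D2200)) (tt N2418 D2451) (tt N2167 F9744) (tt N2167 F9745) (tt N2419 D2452))
theorem Q2169 : ∀ i, i < 2169 → P i := stepQ 2168 Q2168 (allL N2168 (tt N2402 (iv F10716)) (tt N1979 F9746) (tt N2374 (iv F10576)) (tt N1934 F9747) (tt N2419 (iv F10788)) (tt N2417 (iv F10782)) (tt N2168 F9748) (tt N2420 D2453) (tt N1933 (iv D2201)))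
theorem Q2170 : ∀ i, i < 2170 → P i := stepQ 2169 Q2169 (allL N2169 (tt N2403 (iv F10719)) (tt N1939 F9749) (tt N2410 (iv F10754)) (tt N2169 F9750) (tt N2169 F9751) (tt N1935 (iv D2202)) (tt N2032 F9752) (tt N2421 D2454) (tt N1996 F9753))
theorem Q2171 : ∀ i, i < 2171 → P i := stepQ 2170 Q2170 (allL N2170 (tt N2404 (iv F10725)) (tt N1940 F9754) (tt N2411 (iv F10760)) (tt N2422 D2455) (tt N1937 F9755) (tt N2421 (iv F10795)) (tt N1936 F9756) (tt N1935 (iv D2203)) (tt N2423 D2456))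
theorem Q2172 : ∀ i, i < 2172 → P i := stepQ 2171 Q2171 (allL N2171 (tt N2405 (iv F10729)) (tt N1941 F9757) (tt N2424 D2457) (tt N1936 (iv D2204)) (tt N2375 (iv F10580)) (tt N2034 F9758) (tt N2422 (iv F10798)) (tt N2171 F9759) (tt N2425 D2458))
theorem Q2173 : ∀ i, i < 2173 → P i := stepQ 2172 Q2172 (allL N2172 (tt N2406 (iv F10733)) (tt N1942 F9760) (tt N2413 (iv F10766)) (tt N2425 (iv F10807)) (tt N1938 F9761) (tt N2035 F9762) (tt N2423 (iv F10802)) (tt N2388 (iv F10652)) (tt N1936 (iv D2205)))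
theorem Q2174 : ∀ i, i < 2174 → P i := stepQ 2173 Q2173 (allL N2173 (tt N2407 (iv F10738)) (tt N1943 F9763) (tt N2415 (iv F10774)) (tt N2377 (iv F10588)) (tt N2423 (iv F10801)) (tt N2173 F9764) (tt N1938 F9765) (tt N2112 F9766) (tt N1937 (iv D2206)))
theorem Q2175 : ∀ i, i < 2175 → P i := stepQ 2174 Q2174 (allL N2174 (tt N2174 F9767) (tt N2421 (iv F10793)) (tt N1985 F9768) (tt N2426 D2459) (tt N2174 F9769) (tt N1940 F9770) (tt N2037 F9771) (tt N1939 (iv D2207)) (tt N2427 D2460))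
theorem Q2176 : ∀ i, i < 2176 → P i := stepQ 2175 Q2175 (allL N2175 (tt N2175 F9772) (tt N2422 (iv F10797)) (tt N2428 D2461) (tt N1940 (iv D2208)) (tt N2378 (iv F10593)) (tt N2426 (iv F10811)) (tt N1941 F9773) (tt N2175 F9774) (tt N2429 D2462))
theorem Q2177 : ∀ i, i < 2177 → P i := stepQ 2176 Q2176 (allL N2176 (tt N2176 F9775) (tt N2423 (iv F10800)) (tt N1987 F9776) (tt N2429 (iv F10826)) (tt N1943 F9777) (tt N2427 (iv F10817)) (tt N1942 F9778) (tt N2085 F9779) (tt N1940 (iv D2209)))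
theorem Q2178 : ∀ i, i < 2178 → P i := stepQ 2177 Q2177 (allL N2177 (tt N2177 F9780) (tt N2430 D2463) (tt N1941 (iv D2210)) (tt N1988 F9781) (tt N2380 (iv F10603)) (tt N2040 F9782) (tt N2428 (iv F10823)) (tt N2177 F9783) (tt N2431 D2464))
theorem Q2179 : ∀ i, i < 2179 → P i := stepQ 2178 Q2178 (allL N2178 (tt N2178 F9784) (tt N2425 (iv F10806)) (tt N2431 (iv F10832)) (tt N1942 F9785) (tt N2381 (iv F10608)) (tt N2041 F9786) (tt N2429 (iv F10827)) (tt N2432 D2465) (tt N1941 (iv D2211)))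
theorem Q2180 : ∀ i, i < 2180 → P i := stepQ 2179 Q2179 (allL N2179 (tt N2179 F9787) (tt N1944 (iv D2212)) (tt N2179 F9788) (tt N2179 F9789) (tt N2179 F9790) (tt N1997 F9791) (tt N2179 F9792) (tt N2433 D2466) (tt N2179 F9793))
theorem Q2181 : ∀ i, i < 2181 → P i := stepQ 2180 Q2180 (allL N2180 (tt N1946 F9794) (tt N2433 (iv F10839)) (tt N1945 F9795) (tt N2434 D2467) (tt N2180 F9796) (tt N2092 F9797) (tt N2180 F9798) (tt N1944 (iv D2213)) (tt N2435 D2468))
theorem Q2182 : ∀ i, i < 2182 → P i := stepQ 2181 Q2181 (allL N2181 (tt N1947 F9799) (tt N2181 F9800) (tt N2435 (iv F10850)) (tt N1953 F9801) (tt N2181 F9802) (tt N2096 F9803) (tt N2181 F9804) (tt N2181 F9805) (tt N1945 (iv D2214)))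
theorem Q2183 : ∀ i, i < 2183 → P i := stepQ 2182 Q2182 (allL N2182 (tt N2434 (iv F10844)) (tt N2182 F9806) (tt N1956 F9807) (tt N1946 (iv D2215)) (tt N2436 D2469) (tt N2099 F9808) (tt N2182 F9809) (tt N2182 F9810) (tt N2437 D2470))
theorem Q2184 : ∀ i, i < 2184 → P i := stepQ 2183 Q2183 (allL N2183 (tt N2435 (iv F10849)) (tt N2183 F9811) (tt N1947 F9812) (tt N2437 (iv F10862)) (tt N2183 F9813) (tt N2100 F9814) (tt N2183 F9815) (tt N2183 F9816) (tt N1946 (iv D2216)))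
theorem Q2185 : ∀ i, i < 2185 → P i := stepQ 2184 Q2184 (allL N2184 (tt N2118 F9817) (tt N1949 F9818) (tt N2184 F9819) (tt N2184 F9820) (tt N2438 D2471) (tt N1948 (iv D2217)) (tt N2113 (iv F9822)) (tt N2439 D2472) (tt N1961 F9821))
theorem Q2186 : ∀ i, i < 2186 → P i := stepQ 2185 Q2185 (allL N2185 (tt N2030 F9823) (tt N1950 F9824) (tt N2185 F9825) (tt N2401 (iv F10713)) (tt N2018 F9826) (tt N2439 (iv F10875)) (tt N2185 F9827) (tt N1948 (iv D2218)) (tt N2440 D2473))
theorem Q2187 : ∀ i, i < 2187 → P i := stepQ 2186 Q2186 (allL N2186 (tt N1954 F9828) (tt N2438 (iv F10866)) (tt N1951 F9829) (tt N2071 F9833) (tt N1949 (iv D2219)) (tt N2043 F9830) (tt N2086 F9831) (tt N2441 D2474) (tt N1963 F9832))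
theorem Q2188 : ∀ i, i < 2188 → P i := stepQ 2187 Q2187 (allL N2187 (tt N1955 F9834) (tt N2439 (iv F10873)) (tt N1952 F9835) (tt N2442 D2475) (tt N2441 (iv F10885)) (tt N1950 F9836) (tt N2097 F9837) (tt N1949 (iv D2220)) (tt N2443 D2476))
theorem Q2189 : ∀ i, i < 2189 → P i := stepQ 2188 Q2188 (allL N2188 (tt N1956 F9838) (tt N2401 (iv F10712)) (tt N2434 (iv F10845)) (tt N1950 (iv D2221)) (tt N2393 (iv F10677)) (tt N2442 (iv F10890)) (tt N2188 F9839) (tt N2188 F9840) (tt N2444 D2477))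
theorem Q2190 : ∀ i, i < 2190 → P i := stepQ 2189 Q2189 (allL N2189 (tt N1957 F9841) (tt N2440 (iv F10878)) (tt N1953 F9842) (tt N2444 (iv F10899)) (tt N2045 F9843) (tt N2443 (iv F10895)) (tt N2189 F9844) (tt N1967 F9845) (tt N1950 (iv D2222)))
theorem Q2191 : ∀ i, i < 2191 → P i := stepQ 2190 Q2190 (allL N2190 (tt N1958 F9846) (tt N2190 F9847) (tt N2441 (iv F10884)) (tt N2066 F9848) (tt N1952 F9849) (tt N2046 F9850) (tt N2067 F9851) (tt N1951 (iv D2223)) (tt N2445 D2478))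
theorem Q2192 : ∀ i, i < 2192 → P i := stepQ 2191 Q2191 (allL N2191 (tt N1959 F9852) (tt N2191 F9853) (tt N2443 (iv F10894)) (tt N2096 F9854) (tt N2445 (iv F10904)) (tt N1953 F9855) (tt N2098 F9856) (tt N1971 F9857) (tt N1952 (iv D2224)))
theorem Q2193 : ∀ i, i < 2193 → P i := stepQ 2192 Q2192 (allL N2192 (tt N2071 F9858) (tt N2382 (iv F10611)) (tt N1990 F9859) (tt N1954 (iv D2225)) (tt N2192 F9860) (tt N2048 F9861) (tt N2089 F9862) (tt N2446 D2479) (tt N1972 F9863))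
theorem Q2194 : ∀ i, i < 2194 → P i := stepQ 2193 Q2193 (allL N2193 (tt N2441 (iv F10883)) (tt N2383 (iv F10618)) (tt N1958 F9864) (tt N2447 D2480) (tt N1955 F9865) (tt N2050 F9866) (tt N2082 F9867) (tt N1954 (iv D2226)) (tt N2448 D2481))
theorem Q2195 : ∀ i, i < 2195 → P i := stepQ 2194 Q2194 (allL N2194 (tt N2442 (iv F10888)) (tt N2384 (iv F10624)) (tt N2099 F9868) (tt N1955 (iv D2227)) (tt N2449 D2482) (tt N1956 F9869) (tt N2101 F9870) (tt N2194 F9871) (tt N2450 D2483))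
theorem Q2196 : ∀ i, i < 2196 → P i := stepQ 2195 Q2195 (allL N2195 (tt N2443 (iv F10893)) (tt N2385 (iv F10630)) (tt N1959 F9872) (tt N2450 (iv F10925)) (tt N2448 (iv F10917)) (tt N1957 F9873) (tt N2111 F9874) (tt N1977 F9875) (tt N1955 (iv D2228)))
theorem Q2197 : ∀ i, i < 2197 → P i := stepQ 2196 Q2196 (allL N2196 (tt N2393 (iv F10675)) (tt N1966 F9876) (tt N2436 (iv F10856)) (tt N1962 F9877) (tt N1956 (iv D2229)) (tt N2451 D2484) (tt N2196 F9878) (tt N2196 F9879) (tt N2452 D2485))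
theorem Q2198 : ∀ i, i < 2198 → P i := stepQ 2197 Q2197 (allL N2197 (tt N2444 (iv F10898)) (tt N2386 (iv F10636)) (tt N2437 (iv F10861)) (tt N1957 F9880) (tt N2452 (iv F10933)) (tt N2450 (iv F10926)) (tt N2197 F9881) (tt N2453 D2486) (tt N1956 (iv D2230)))
theorem Q2199 : ∀ i, i < 2199 → P i := stepQ 2198 Q2198 (allL N2198 (tt N2445 (iv F10901)) (tt N1960 F9882) (tt N2448 (iv F10916)) (tt N2081 F9883) (tt N1959 F9884) (tt N2057 F9885) (tt N2083 F9886) (tt N1983 F9887) (tt N1958 (iv D2231)))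
theorem Q2200 : ∀ i, i < 2200 → P i := stepQ 2199 Q2199 (allL N2199 (tt N2390 (iv F10659)) (tt N1963 F9888) (tt N2199 F9889) (tt N2454 D2487) (tt N1961 (iv D2232)) (tt N2061 F9890) (tt N2455 D2488) (tt N2456 D2489) (tt N2438 (iv F10870)))
theorem Q2201 : ∀ i, i < 2201 → P i := stepQ 2200 Q2200 (allL N2200 (tt N2391 (iv F10665)) (tt N1964 F9891) (tt N2200 F9892) (tt N2200 F9893) (tt N2455 (iv F10948)) (tt N2200 F9894) (tt N1961 (iv D2233)) (tt N2457 D2490) (tt N2113 F9895))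
theorem Q2202 : ∀ i, i < 2202 → P i := stepQ 2201 Q2201 (allL N2201 (tt N2392 (iv F10671)) (tt N1965 F9896) (tt N2201 F9897) (tt N2451 (iv F10929)) (tt N2456 (iv F10953)) (tt N1962 F9898) (tt N2457 (iv F10958)) (tt N1961 (iv D2234)) (tt N2458 D2491))
theorem Q2203 : ∀ i, i < 2203 → P i := stepQ 2202 Q2202 (allL N2202 (tt N2394 (iv F10680)) (tt N1967 F9899) (tt N2202 F9900) (tt N2452 (iv F10932)) (tt N2054 F9901) (tt N2458 (iv F10961)) (tt N2202 F9902) (tt N2440 (iv F10882)) (tt N1962 (iv D2235)))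
theorem Q2204 : ∀ i, i < 2204 → P i := stepQ 2203 Q2203 (allL N2203 (tt N1972 F9903) (tt N2454 (iv F10939)) (tt N1991 F9904) (tt N1963 (iv D2236)) (tt N2203 F9905) (tt N2049 F9906) (tt N1994 (iv F9908)) (tt N2459 D2492) (tt N2071 F9907))
theorem Q2205 : ∀ i, i < 2205 → P i := stepQ 2204 Q2204 (allL N2204 (tt N1973 F9909) (tt N2455 (iv F10945)) (tt N1968 F9910) (tt N1994 F9911) (tt N1964 F9912) (tt N2089 F9913) (tt N1963 (iv D2237)) (tt N2460 D2493) (tt N2086 F9914))
theorem Q2206 : ∀ i, i < 2206 → P i := stepQ 2205 Q2205 (allL N2205 (tt N1974 F9915) (tt N2456 (iv F10951)) (tt N1969 F9916) (tt N2461 D2494) (tt N1965 F9917) (tt N2063 F9918) (tt N2460 (iv F10971)) (tt N1963 (iv D2238)) (tt N2462 D2495))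
theorem Q2207 : ∀ i, i < 2207 → P i := stepQ 2206 Q2206 (allL N2206 (tt N1975 F9919) (tt N2457 (iv F10955)) (tt N1970 F9920) (tt N2463 D2496) (tt N2460 (iv F10969)) (tt N2206 F9921) (tt N1965 F9922) (tt N1964 (iv D2239)) (tt N2464 D2497))
theorem Q2208 : ∀ i, i < 2208 → P i := stepQ 2207 Q2207 (allL N2207 (tt N1976 F9923) (tt N2451 (iv F10928)) (tt N2207 F9924) (tt N1965 (iv D2240)) (tt N2465 D2498) (tt N1966 F9925) (tt N2463 (iv F10981)) (tt N2207 F9926) (tt N2466 D2499))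
theorem Q2209 : ∀ i, i < 2209 → P i := stepQ 2208 Q2208 (allL N2208 (tt N1977 F9927) (tt N2458 (iv F10959)) (tt N1971 F9928) (tt N2466 (iv F10993)) (tt N2462 (iv F10976)) (tt N1967 F9929) (tt N2464 (iv F10986)) (tt N2443 (iv F10897)) (tt N1965 (iv D2241)))
theorem Q2210 : ∀ i, i < 2210 → P i := stepQ 2209 Q2209 (allL N2209 (tt N1979 F9930) (tt N2452 (iv F10931)) (tt N2209 F9931) (tt N1967 F9932) (tt N2386 (iv F10639)) (tt N2466 (iv F10994)) (tt N2209 F9933) (tt N2467 D2500) (tt N1966 (iv D2242)))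
theorem Q2211 : ∀ i, i < 2211 → P i := stepQ 2210 Q2210 (allL N2210 (tt N1981 F9934) (tt N2210 F9935) (tt N2460 (iv F10968)) (tt N1993 F9936) (tt N1970 F9937) (tt N2087 F9938) (tt N1969 F9939) (tt N1968 (iv D2243)) (tt N2468 D2501))
theorem Q2212 : ∀ i, i < 2212 → P i := stepQ 2211 Q2211 (allL N2211 (tt N1982 F9940) (tt N2211 F9941) (tt N2469 D2502) (tt N1969 (iv D2244)) (tt N2211 F9942) (tt N2067 F9943) (tt N1993 F9944) (tt N1992 F9945) (tt N2470 D2503))
theorem Q2213 : ∀ i, i < 2213 → P i := stepQ 2212 Q2212 (allL N2212 (tt N1983 F9946) (tt N2212 F9947) (tt N2462 (iv F10975)) (tt N2470 (iv F11013)) (tt N1971 F9948) (tt N2068 F9949) (tt N2468 (iv F11004)) (tt N2445 (iv F10907)) (tt N1969 (iv D2245)))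
theorem Q2214 : ∀ i, i < 2214 → P i := stepQ 2213 Q2213 (allL N2213 (tt N1984 F9950) (tt N2213 F9951) (tt N2464 (iv F10984)) (tt N2213 F9952) (tt N2468 (iv F11002)) (tt N2213 F9953) (tt N1971 F9954) (tt N2098 F9955) (tt N1970 (iv D2246)))
theorem Q2215 : ∀ i, i < 2215 → P i := stepQ 2214 Q2214 (allL N2214 (tt N1994 F9956) (tt N2408 (iv F10743)) (tt N1992 F9957) (tt N1973 F9958) (tt N2214 F9959) (tt N2086 F9960) (tt N1972 (iv D2247)) (tt N2469 (iv F11010)) (tt N2089 F9961))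
theorem Q2216 : ∀ i, i < 2216 → P i := stepQ 2215 Q2215 (allL N2215 (tt N2459 (iv F10962)) (tt N2409 (iv F10749)) (tt N1993 F9962) (tt N2471 D2504) (tt N2215 F9963) (tt N2070 F9964) (tt N2469 (iv F11009)) (tt N1972 (iv D2248)) (tt N2472 D2505))
theorem Q2217 : ∀ i, i < 2217 → P i := stepQ 2216 Q2216 (allL N2216 (tt N2089 F9965) (tt N2410 (iv F10753)) (tt N1980 F9966) (tt N2086 F9967) (tt N2216 F9968) (tt N1973 (iv D2249)) (tt N2071 F9969) (tt N2473 D2506) (tt N1994 F9970))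
theorem Q2218 : ∀ i, i < 2218 → P i := stepQ 2217 Q2217 (allL N2217 (tt N2460 (iv F10967)) (tt N2411 (iv F10759)) (tt N1981 F9971) (tt N2474 D2507) (tt N1975 F9972) (tt N2473 (iv F11026)) (tt N1974 F9973) (tt N1973 (iv D2250)) (tt N2475 D2508))
theorem Q2219 : ∀ i, i < 2219 → P i := stepQ 2218 Q2218 (allL N2218 (tt N2461 (iv F10972)) (tt N2412 (iv F10763)) (tt N2476 D2509) (tt N1974 (iv D2251)) (tt N2477 D2510) (tt N2073 F9974) (tt N2474 (iv F11028)) (tt N2471 (iv F11019)) (tt N2478 D2511))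
theorem Q2220 : ∀ i, i < 2220 → P i := stepQ 2219 Q2219 (allL N2219 (tt N2462 (iv F10974)) (tt N2413 (iv F10765)) (tt N1983 F9975) (tt N2478 (iv F11036)) (tt N1977 F9976) (tt N2074 F9977) (tt N2475 (iv F11031)) (tt N2448 (iv F10920)) (tt N1974 (iv D2252)))
theorem Q2221 : ∀ i, i < 2221 → P i := stepQ 2220 Q2220 (allL N2220 (tt N2463 (iv F10978)) (tt N2414 (iv F10769)) (tt N2220 F9978) (tt N1975 (iv D2253)) (tt N2479 D2512) (tt N2220 F9979) (tt N1976 F9980) (tt N2220 F9981) (tt N2480 D2513))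
theorem Q2222 : ∀ i, i < 2222 → P i := stepQ 2221 Q2221 (allL N2221 (tt N2464 (iv F10983)) (tt N2415 (iv F10773)) (tt N1984 F9982) (tt N2480 (iv F11042)) (tt N2475 (iv F11030)) (tt N2221 F9983) (tt N1977 F9984) (tt N2111 F9985) (tt N1975 (iv D2254)))
theorem Q2223 : ∀ i, i < 2223 → P i := stepQ 2222 Q2222 (allL N2222 (tt N2465 (iv F10988)) (tt N2416 (iv F10778)) (tt N2222 F9986) (tt N2477 (iv F11035)) (tt N1976 (iv D2255)) (tt N2481 D2514) (tt N2479 (iv F11039)) (tt N2222 F9987) (tt N2482 D2515))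
theorem Q2224 : ∀ i, i < 2224 → P i := stepQ 2223 Q2223 (allL N2223 (tt N2466 (iv F10991)) (tt N2417 (iv F10780)) (tt N2223 F9988) (tt N1977 F9989) (tt N2482 (iv F11049)) (tt N1979 F9990) (tt N2480 (iv F11044)) (tt N2483 D2516) (tt N1976 (iv D2256)))
theorem Q2225 : ∀ i, i < 2225 → P i := stepQ 2224 Q2224 (allL N2224 (tt N2384 (iv F10623)) (tt N2418 (iv F10783)) (tt N2224 F9991) (tt N2079 F9992) (tt N2481 (iv F11046)) (tt N1978 (iv D2257)) (tt N2484 D2517) (tt N2224 F9993) (tt N2485 D2518))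
theorem Q2226 : ∀ i, i < 2226 → P i := stepQ 2225 Q2225 (allL N2225 (tt N2386 (iv F10635)) (tt N2419 (iv F10786)) (tt N2225 F9994) (tt N2080 F9995) (tt N1979 F9996) (tt N2485 (iv F11060)) (tt N2225 F9997) (tt N2486 D2519) (tt N1978 (iv D2258)))
theorem Q2227 : ∀ i, i < 2227 → P i := stepQ 2226 Q2226 (allL N2226 (tt N2467 (iv F10995)) (tt N2420 (iv F10790)) (tt N2226 F9998) (tt N2453 (iv F10935)) (tt N2486 (iv F11062)) (tt N2483 (iv F11051)) (tt N2226 F9999) (tt N1979 (iv D2259)) (tt N2226 F10000))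
theorem Q2228 : ∀ i, i < 2228 → P i := stepQ 2227 Q2227 (allL N2227 (tt N2087 F10001) (tt N1985 F10002) (tt N2473 (iv F11024)) (tt N2055 F10003) (tt N2227 F10004) (tt N1981 F10005) (tt N2056 F10006) (tt N1980 (iv D2260)) (tt N2487 D2520))
theorem Q2229 : ∀ i, i < 2229 → P i := stepQ 2228 Q2228 (allL N2228 (tt N1993 F10007) (tt N1986 F10008) (tt N2459 (iv F10963)) (tt N1981 (iv D2261)) (tt N2228 F10009) (tt N2055 F10010) (tt N1982 F10011) (tt N1991 F10012) (tt N2488 D2521))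
theorem Q2230 : ∀ i, i < 2230 → P i := stepQ 2229 Q2229 (allL N2229 (tt N2468 (iv F10999)) (tt N1987 F10013) (tt N2475 (iv F11029)) (tt N2488 (iv F11074)) (tt N1984 F10014) (tt N2487 (iv F11069)) (tt N1983 F10015) (tt N2083 F10016) (tt N1981 (iv D2262)))
theorem Q2231 : ∀ i, i < 2231 → P i := stepQ 2230 Q2230 (allL N2230 (tt N2469 (iv F11006)) (tt N2489 D2522) (tt N1982 (iv D2263)) (tt N2476 (iv F11033)) (tt N2230 F10017) (tt N2082 F10018) (tt N2459 (iv F10966)) (tt N1994 F10019) (tt N2490 D2523))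
theorem Q2232 : ∀ i, i < 2232 → P i := stepQ 2231 Q2231 (allL N2231 (tt N2470 (iv F11011)) (tt N1989 F10020) (tt N2490 (iv F11083)) (tt N1983 F10021) (tt N2231 F10022) (tt N2083 F10023) (tt N2488 (iv F11077)) (tt N2487 (iv F11071)) (tt N1982 (iv D2264)))
theorem Q2233 : ∀ i, i < 2233 → P i := stepQ 2232 Q2232 (allL N2232 (tt N2232 F10024) (tt N2487 (iv F11066)) (tt N2427 (iv F10815)) (tt N2059 F10025) (tt N2232 F10026) (tt N1987 F10027) (tt N2060 F10028) (tt N1989 F10029) (tt N1985 (iv D2265)))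
theorem Q2234 : ∀ i, i < 2234 → P i := stepQ 2233 Q2233 (allL N2233 (tt N2233 F10030) (tt N2491 D2524) (tt N1986 (iv D2266)) (tt N2428 (iv F10821)) (tt N2233 F10031) (tt N2009 F10032) (tt N1988 F10033) (tt N1995 F10034) (tt N2492 D2525))
theorem Q2235 : ∀ i, i < 2235 → P i := stepQ 2234 Q2234 (allL N2234 (tt N2234 F10035) (tt N2488 (iv F11073)) (tt N2492 (iv F11092)) (tt N1987 F10036) (tt N2234 F10037) (tt N2059 F10038) (tt N1989 F10039) (tt N2060 F10040) (tt N1986 (iv D2267)))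
theorem Q2236 : ∀ i, i < 2236 → P i := stepQ 2235 Q2235 (allL N2235 (tt N2493 D2526) (tt N1988 (iv D2268)) (tt N2489 (iv F11079)) (tt N2430 (iv F10828)) (tt N2235 F10041) (tt N2084 F10042) (tt N2491 (iv F11088)) (tt N1996 F10043) (tt N2494 D2527))
theorem Q2237 : ∀ i, i < 2237 → P i := stepQ 2236 Q2236 (allL N2236 (tt N2236 F10044) (tt N2494 (iv F11102)) (tt N1989 F10045) (tt N2431 (iv F10833)) (tt N2236 F10046) (tt N2085 F10047) (tt N2492 (iv F11095)) (tt N2427 (iv F10819)) (tt N1988 (iv D2269)))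
theorem Q2238 : ∀ i, i < 2238 → P i := stepQ 2237 Q2237 (allL N2237 (tt N2056 F10048) (tt N2237 F10049) (tt N2446 (iv F10909)) (tt N2046 F10050) (tt N2237 F10051) (tt N2066 F10052) (tt N2087 F10053) (tt N1990 (iv D2270)) (tt N2495 D2528))
theorem Q2239 : ∀ i, i < 2239 → P i := stepQ 2238 Q2238 (allL N2238 (tt N2488 (iv F11072)) (tt N2238 F10054) (tt N2472 (iv F11020)) (tt N2468 (iv F11001)) (tt N2238 F10055) (tt N2088 F10056) (tt N2470 (iv F11016)) (tt N2495 (iv F11111)) (tt N1993 (iv D2271)))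
theorem Q2240 : ∀ i, i < 2240 → P i := stepQ 2239 Q2239 (allL N2239 (tt N2496 D2529) (tt N1994 (iv D2272)) (tt N1996 F10057) (tt N2455 (iv F10947)) (tt N2239 F10058) (tt N2090 F10059) (tt N2454 F10944) (tt N2489 (iv F11082)) (tt N2410 (iv F10758)))
theorem Q2241 : ∀ i, i < 2241 → P i := stepQ 2240 Q2240 (allL N2240 (tt N2124 (iv F10065)) (tt N1995 (iv D2273)) (tt N2454 (iv F10943)) (tt N2240 F10060) (tt N2240 F10061) (tt N2005 F10062) (tt N1996 F10063) (tt N2491 (iv F11089)) (tt N2032 F10064))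
theorem Q2242 : ∀ i, i < 2242 → P i := stepQ 2241 Q2241 (allL N2241 (tt N1996 (iv D2274)) (tt N2241 F10066) (tt N2496 (iv F11112)) (tt N2241 F10067) (tt N2241 F10068) (tt N2091 F10069) (tt N2124 F10070) (tt N2493 (iv F11101)) (tt N2403 (iv F10724)))
theorem Q2243 : ∀ i, i < 2243 → P i := stepQ 2242 Q2242 (allL N2242 (tt N2242 F10071) (tt N2092 F10072) (tt N2242 F10073) (tt N2497 D2530) (tt N1999 F10074) (tt N2433 (iv F10842)) (tt N1998 F10075) (tt N1997 (iv D2275)) (tt N2498 D2531))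
theorem Q2244 : ∀ i, i < 2244 → P i := stepQ 2243 Q2243 (allL N2243 (tt N2243 F10076) (tt N2093 F10077) (tt N2499 D2532) (tt N1998 (iv D2276)) (tt N2010 F10078) (tt N2243 F10079) (tt N2497 (iv F11119)) (tt N2243 F10080) (tt N2500 D2533))
theorem Q2245 : ∀ i, i < 2245 → P i := stepQ 2244 Q2244 (allL N2244 (tt N2244 F10081) (tt N2094 F10082) (tt N2244 F10083) (tt N2500 (iv F11134)) (tt N2000 F10084) (tt N2244 F10085) (tt N2498 (iv F11125)) (tt N2244 F10086) (tt N1998 (iv D2277)))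
theorem Q2246 : ∀ i, i < 2246 → P i := stepQ 2245 Q2245 (allL N2245 (tt N2245 F10087) (tt N2095 F10088) (tt N2245 F10089) (tt N2012 F10090) (tt N2498 (iv F11124)) (tt N2245 F10091) (tt N2000 F10092) (tt N2245 F10093) (tt N1999 (iv D2278)))
theorem Q2247 : ∀ i, i < 2247 → P i := stepQ 2246 Q2246 (allL N2246 (tt N2121 F10094) (tt N2048 F10095) (tt N2246 F10096) (tt N2001 (iv D2279)) (tt N2062 F10097) (tt N2382 (iv F10614)) (tt N2061 (iv F10099)) (tt N2501 D2534) (tt N2024 F10098))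
theorem Q2248 : ∀ i, i < 2248 → P i := stepQ 2247 Q2247 (allL N2247 (tt N2122 F10100) (tt N2049 F10101) (tt N2005 F10102) (tt N2061 F10103) (tt N2002 F10104) (tt N2454 (iv F10941)) (tt N2001 (iv D2280)) (tt N2502 D2535) (tt N2025 F10105))
theorem Q2249 : ∀ i, i < 2249 → P i := stepQ 2248 Q2248 (allL N2248 (tt N2077 F10106) (tt N2050 F10107) (tt N2006 F10108) (tt N2503 D2536) (tt N2003 F10109) (tt N2383 (iv F10621)) (tt N2502 (iv F11146)) (tt N2001 (iv D2281)) (tt N2504 D2537))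
theorem Q2250 : ∀ i, i < 2250 → P i := stepQ 2249 Q2249 (allL N2249 (tt N2075 F10110) (tt N2051 F10111) (tt N2007 F10112) (tt N2064 F10113) (tt N2502 (iv F11145)) (tt N2249 F10114) (tt N2003 F10115) (tt N2002 (iv D2282)) (tt N2505 D2538))
theorem Q2251 : ∀ i, i < 2251 → P i := stepQ 2250 Q2250 (allL N2250 (tt N2078 F10116) (tt N2053 F10117) (tt N2008 F10118) (tt N2065 F10119) (tt N2504 (iv F11153)) (tt N2004 F10120) (tt N2505 (iv F11160)) (tt N2029 F10121) (tt N2003 (iv D2283)))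
theorem Q2252 : ∀ i, i < 2252 → P i := stepQ 2251 Q2251 (allL N2251 (tt N2104 F10122) (tt N2009 F10123) (tt N2502 (iv F11144)) (tt N2506 D2539) (tt N2007 F10124) (tt N2491 (iv F11087)) (tt N2006 F10125) (tt N2005 (iv D2284)) (tt N2507 D2540))
theorem Q2253 : ∀ i, i < 2253 → P i := stepQ 2252 Q2252 (allL N2252 (tt N2102 F10126) (tt N2010 F10127) (tt N2508 D2541) (tt N2006 (iv D2285)) (tt N2093 F10128) (tt N2387 (iv F10644)) (tt N2506 (iv F11165)) (tt N2252 F10129) (tt N2509 D2542))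
theorem Q2254 : ∀ i, i < 2254 → P i := stepQ 2253 Q2253 (allL N2253 (tt N2107 F10130) (tt N2011 F10131) (tt N2504 (iv F11152)) (tt N2509 (iv F11177)) (tt N2008 F10132) (tt N2388 (iv F10650)) (tt N2507 (iv F11170)) (tt N2035 F10133) (tt N2006 (iv D2286)))
theorem Q2255 : ∀ i, i < 2255 → P i := stepQ 2254 Q2254 (allL N2254 (tt N2105 F10134) (tt N2012 F10135) (tt N2505 (iv F11157)) (tt N2095 F10136) (tt N2507 (iv F11169)) (tt N2254 F10137) (tt N2008 F10138) (tt N2036 F10139) (tt N2007 (iv D2287)))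
theorem Q2256 : ∀ i, i < 2256 → P i := stepQ 2255 Q2255 (allL N2255 (tt N2255 F10140) (tt N2506 (iv F11163)) (tt N2426 (iv F10810)) (tt N2009 (iv D2288)) (tt N2497 (iv F11118)) (tt N2428 (iv F10822)) (tt N2010 F10141) (tt N2255 F10142) (tt N2510 D2543))
theorem Q2257 : ∀ i, i < 2257 → P i := stepQ 2256 Q2256 (allL N2256 (tt N2256 F10143) (tt N2507 (iv F11168)) (tt N2059 F10144) (tt N2510 (iv F11180)) (tt N2012 F10145) (tt N2492 (iv F11094)) (tt N2011 F10146) (tt N2039 F10147) (tt N2009 (iv D2289)))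
theorem Q2258 : ∀ i, i < 2258 → P i := stepQ 2257 Q2257 (allL N2257 (tt N2257 F10148) (tt N2511 D2544) (tt N2010 (iv D2290)) (tt N2037 F10149) (tt N2499 (iv F11129)) (tt N2038 F10150) (tt N2426 (iv F10812)) (tt N2257 F10151) (tt N2512 D2545))
theorem Q2259 : ∀ i, i < 2259 → P i := stepQ 2258 Q2258 (allL N2258 (tt N2258 F10152) (tt N2509 (iv F11176)) (tt N2512 (iv F11186)) (tt N2011 F10153) (tt N2500 (iv F11135)) (tt N2389 (iv F10657)) (tt N2510 (iv F11181)) (tt N2513 D2546) (tt N2010 (iv D2291)))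
theorem Q2260 : ∀ i, i < 2260 → P i := stepQ 2259 Q2259 (allL N2259 (tt N2061 F10154) (tt N2015 F10155) (tt N2259 F10156) (tt N2122 F10157) (tt N2013 (iv D2292)) (tt N2390 (iv F10662)) (tt N2121 F10158) (tt N2514 D2547) (tt N2117 F10159))
theorem Q2261 : ∀ i, i < 2261 → P i := stepQ 2260 Q2260 (allL N2260 (tt N2052 F10160) (tt N2017 F10161) (tt N2260 F10162) (tt N2044 F10163) (tt N2514 (iv F11195)) (tt N2014 F10164) (tt N2119 F10165) (tt N2013 (iv D2293)) (tt N2515 D2548))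
theorem Q2262 : ∀ i, i < 2262 → P i := stepQ 2261 Q2261 (allL N2261 (tt N2054 F10166) (tt N2019 F10167) (tt N2261 F10168) (tt N2045 F10169) (tt N2394 (iv F10683)) (tt N2515 (iv F11201)) (tt N2261 F10170) (tt N2031 F10171) (tt N2014 (iv D2294)))
theorem Q2263 : ∀ i, i < 2263 → P i := stepQ 2262 Q2262 (allL N2262 (tt N2024 F10172) (tt N2122 F10173) (tt N2262 F10174) (tt N2015 (iv D2295)) (tt N2115 F10175) (tt N2395 (iv F10690)) (tt N2117 (iv F10177)) (tt N2516 D2549) (tt N2121 F10176))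
theorem Q2264 : ∀ i, i < 2264 → P i := stepQ 2263 Q2263 (allL N2263 (tt N2025 F10178) (tt N2121 F10179) (tt N2020 F10180) (tt N2117 F10181) (tt N2016 F10182) (tt N2517 D2550) (tt N2015 (iv D2296)) (tt N2518 D2551) (tt N2122 F10183))
theorem Q2265 : ∀ i, i < 2265 → P i := stepQ 2264 Q2264 (allL N2264 (tt N2026 F10184) (tt N2514 (iv F11193)) (tt N2021 F10185) (tt N2519 D2552) (tt N2017 F10186) (tt N2397 (iv F10699)) (tt N2518 (iv F11219)) (tt N2015 (iv D2297)) (tt N2520 D2553))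
theorem Q2266 : ∀ i, i < 2266 → P i := stepQ 2265 Q2265 (allL N2265 (tt N2027 F10187) (tt N2119 F10188) (tt N2022 F10189) (tt N2116 F10190) (tt N2518 (iv F11218)) (tt N2265 F10191) (tt N2017 F10192) (tt N2016 (iv D2298)) (tt N2521 D2554))
theorem Q2267 : ∀ i, i < 2267 → P i := stepQ 2266 Q2266 (allL N2266 (tt N2028 F10193) (tt N2044 F10194) (tt N2266 F10195) (tt N2017 (iv D2299)) (tt N2522 D2555) (tt N2018 F10196) (tt N2116 F10197) (tt N2042 F10198) (tt N2523 D2556))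
theorem Q2268 : ∀ i, i < 2268 → P i := stepQ 2267 Q2267 (allL N2267 (tt N2029 F10199) (tt N2515 (iv F11198)) (tt N2023 F10200) (tt N2523 (iv F11240)) (tt N2520 (iv F11223)) (tt N2019 F10201) (tt N2521 (iv F11230)) (tt N2078 F10202) (tt N2017 (iv D2300)))
theorem Q2269 : ∀ i, i < 2269 → P i := stepQ 2268 Q2268 (allL N2268 (tt N2031 F10203) (tt N2045 F10204) (tt N2268 F10205) (tt N2019 F10206) (tt N2440 (iv F10880)) (tt N2523 (iv F11241)) (tt N2268 F10207) (tt N2054 F10208) (tt N2018 (iv D2301)))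
theorem Q2270 : ∀ i, i < 2270 → P i := stepQ 2269 Q2269 (allL N2269 (tt N2032 F10209) (tt N2269 F10210) (tt N2517 (iv F11211)) (tt N2269 F10211) (tt N2269 F10212) (tt N2020 (iv D2302)) (tt N2403 (iv F10723)) (tt N2524 D2557) (tt N2124 F10213))
theorem Q2271 : ∀ i, i < 2271 → P i := stepQ 2270 Q2270 (allL N2270 (tt N2033 F10214) (tt N2270 F10215) (tt N2518 (iv F11217)) (tt N2525 D2558) (tt N2022 F10216) (tt N2524 (iv F11247)) (tt N2021 F10217) (tt N2020 (iv D2303)) (tt N2526 D2559))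
theorem Q2272 : ∀ i, i < 2272 → P i := stepQ 2271 Q2271 (allL N2271 (tt N2034 F10218) (tt N2271 F10219) (tt N2527 D2560) (tt N2021 (iv D2304)) (tt N2271 F10220) (tt N2405 (iv F10731)) (tt N2525 (iv F11251)) (tt N2271 F10221) (tt N2528 D2561))
theorem Q2273 : ∀ i, i < 2273 → P i := stepQ 2272 Q2272 (allL N2272 (tt N2035 F10222) (tt N2272 F10223) (tt N2520 (iv F11222)) (tt N2528 (iv F11263)) (tt N2023 F10224) (tt N2406 (iv F10736)) (tt N2526 (iv F11256)) (tt N2107 F10225) (tt N2021 (iv D2305)))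
theorem Q2274 : ∀ i, i < 2274 → P i := stepQ 2273 Q2273 (allL N2273 (tt N2036 F10226) (tt N2273 F10227) (tt N2521 (iv F11227)) (tt N2273 F10228) (tt N2526 (iv F11255)) (tt N2273 F10229) (tt N2023 F10230) (tt N2105 F10231) (tt N2022 (iv D2306)))
theorem Q2275 : ∀ i, i < 2275 → P i := stepQ 2274 Q2274 (allL N2274 (tt N2117 F10232) (tt N2043 F10233) (tt N2274 F10234) (tt N2025 F10235) (tt N2042 F10236) (tt N2438 (iv F10868)) (tt N2024 (iv D2307)) (tt N2522 (iv F11236)) (tt N2061 F10237))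
theorem Q2276 : ∀ i, i < 2276 → P i := stepQ 2275 Q2275 (allL N2275 (tt N2516 (iv F11204)) (tt N2070 F10238) (tt N2275 F10239) (tt N2529 D2562) (tt N2116 F10240) (tt N2409 (iv F10752)) (tt N2522 (iv F11235)) (tt N2024 (iv D2308)) (tt N2530 D2563))
theorem Q2277 : ∀ i, i < 2277 → P i := stepQ 2276 Q2276 (allL N2276 (tt N2517 (iv F11209)) (tt N2071 F10241) (tt N2032 F10242) (tt N2438 (iv F10871)) (tt N2276 F10243) (tt N2025 (iv D2309)) (tt N2410 (iv F10757)) (tt N2531 D2564) (tt N2454 (iv F10942)))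
theorem Q2278 : ∀ i, i < 2278 → P i := stepQ 2277 Q2277 (allL N2277 (tt N2518 (iv F11215)) (tt N2072 F10244) (tt N2033 F10245) (tt N2532 D2565) (tt N2027 F10246) (tt N2531 (iv F11273)) (tt N2026 F10247) (tt N2025 (iv D2310)) (tt N2533 D2566))
theorem Q2279 : ∀ i, i < 2279 → P i := stepQ 2278 Q2278 (allL N2278 (tt N2519 (iv F11220)) (tt N2073 F10248) (tt N2534 D2567) (tt N2026 (iv D2311)) (tt N2535 D2568) (tt N2412 (iv F10764)) (tt N2532 (iv F11275)) (tt N2529 (iv F11266)) (tt N2536 D2569))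
theorem Q2280 : ∀ i, i < 2280 → P i := stepQ 2279 Q2279 (allL N2279 (tt N2520 (iv F11221)) (tt N2074 F10249) (tt N2035 F10250) (tt N2536 (iv F11284)) (tt N2029 F10251) (tt N2413 (iv F10768)) (tt N2533 (iv F11279)) (tt N2504 (iv F11154)) (tt N2026 (iv D2312)))
theorem Q2281 : ∀ i, i < 2281 → P i := stepQ 2280 Q2280 (allL N2280 (tt N2116 F10252) (tt N2075 F10253) (tt N2280 F10254) (tt N2027 (iv D2313)) (tt N2516 (iv F11207)) (tt N2280 F10255) (tt N2028 F10256) (tt N2115 F10257) (tt N2537 D2570))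
theorem Q2282 : ∀ i, i < 2282 → P i := stepQ 2281 Q2281 (allL N2281 (tt N2521 (iv F11225)) (tt N2076 F10258) (tt N2036 F10259) (tt N2537 (iv F11288)) (tt N2533 (iv F11278)) (tt N2281 F10260) (tt N2029 F10261) (tt N2505 (iv F11161)) (tt N2027 (iv D2314)))
theorem Q2283 : ∀ i, i < 2283 → P i := stepQ 2282 Q2282 (allL N2282 (tt N2522 (iv F11232)) (tt N2077 F10262) (tt N2282 F10263) (tt N2535 (iv F11282)) (tt N2028 (iv D2315)) (tt N2538 D2571) (tt N2516 (iv F11208)) (tt N2117 F10264) (tt N2539 D2572))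
theorem Q2284 : ∀ i, i < 2284 → P i := stepQ 2283 Q2283 (allL N2283 (tt N2523 (iv F11237)) (tt N2078 F10265) (tt N2283 F10266) (tt N2029 F10267) (tt N2539 (iv F11298)) (tt N2031 F10268) (tt N2537 (iv F11290)) (tt N2515 (iv F11203)) (tt N2028 (iv D2316)))
theorem Q2285 : ∀ i, i < 2285 → P i := stepQ 2284 Q2284 (allL N2284 (tt N2439 (iv F10872)) (tt N2079 F10269) (tt N2284 F10270) (tt N2418 (iv F10784)) (tt N2538 (iv F11294)) (tt N2030 (iv D2317)) (tt N2540 D2573) (tt N2118 F10271) (tt N2541 D2574))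
theorem Q2286 : ∀ i, i < 2286 → P i := stepQ 2285 Q2285 (allL N2285 (tt N2440 (iv F10877)) (tt N2080 F10272) (tt N2285 F10273) (tt N2419 (iv F10787)) (tt N2031 F10274) (tt N2541 (iv F11306)) (tt N2285 F10275) (tt N2394 (iv F10685)) (tt N2030 (iv D2318)))
theorem Q2287 : ∀ i, i < 2287 → P i := stepQ 2286 Q2286 (allL N2286 (tt N2524 (iv F11244)) (tt N2037 F10276) (tt N2531 (iv F11271)) (tt N2511 (iv F11182)) (tt N2286 F10277) (tt N2033 F10278) (tt N2421 (iv F10796)) (tt N2032 (iv D2319)) (tt N2542 D2575))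
theorem Q2288 : ∀ i, i < 2288 → P i := stepQ 2287 Q2287 (allL N2287 (tt N2525 (iv F11248)) (tt N2038 F10279) (tt N2543 D2576) (tt N2033 (iv D2320)) (tt N2287 F10280) (tt N2511 (iv F11183)) (tt N2034 F10281) (tt N2287 F10282) (tt N2544 D2577))
theorem Q2289 : ∀ i, i < 2289 → P i := stepQ 2288 Q2288 (allL N2288 (tt N2526 (iv F11253)) (tt N2039 F10283) (tt N2533 (iv F11277)) (tt N2544 (iv F11314)) (tt N2036 F10284) (tt N2542 (iv F11309)) (tt N2035 F10285) (tt N2507 (iv F11171)) (tt N2033 (iv D2321)))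
theorem Q2290 : ∀ i, i < 2290 → P i := stepQ 2289 Q2289 (allL N2289 (tt N2527 (iv F11258)) (tt N2545 D2578) (tt N2034 (iv D2322)) (tt N2534 (iv F11280)) (tt N2289 F10286) (tt N2424 (iv F10804)) (tt N2543 (iv F11311)) (tt N2289 F10287) (tt N2546 D2579))
theorem Q2291 : ∀ i, i < 2291 → P i := stepQ 2290 Q2290 (allL N2290 (tt N2528 (iv F11261)) (tt N2041 F10288) (tt N2546 (iv F11320)) (tt N2035 F10289) (tt N2290 F10290) (tt N2425 (iv F10808)) (tt N2544 (iv F11316)) (tt N2547 D2580) (tt N2034 (iv D2323)))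
theorem Q2292 : ∀ i, i < 2292 → P i := stepQ 2291 Q2291 (allL N2291 (tt N2291 F10291) (tt N2542 (iv F11307)) (tt N2060 F10292) (tt N2512 (iv F11187)) (tt N2291 F10293) (tt N2039 F10294) (tt N2427 (iv F10818)) (tt N2492 (iv F11096)) (tt N2037 (iv D2324)))
theorem Q2293 : ∀ i, i < 2293 → P i := stepQ 2292 Q2292 (allL N2292 (tt N2292 F10295) (tt N2544 (iv F11313)) (tt N2389 (iv F10654)) (tt N2039 F10296) (tt N2292 F10297) (tt N2512 (iv F11188)) (tt N2041 F10298) (tt N2548 D2581) (tt N2038 (iv D2325)))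
theorem Q2294 : ∀ i, i < 2294 → P i := stepQ 2293 Q2293 (allL N2293 (tt N2549 D2582) (tt N2040 (iv D2326)) (tt N2545 (iv F11317)) (tt N2084 F10299) (tt N2293 F10300) (tt N2430 (iv F10829)) (tt N2387 (iv F10645)) (tt N2293 F10301) (tt N2550 D2583))
theorem Q2295 : ∀ i, i < 2295 → P i := stepQ 2294 Q2294 (allL N2294 (tt N2294 F10302) (tt N2550 (iv F11334)) (tt N2041 F10303) (tt N2085 F10304) (tt N2294 F10305) (tt N2431 (iv F10834)) (tt N2389 (iv F10658)) (tt N2551 D2584) (tt N2040 (iv D2327)))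
theorem Q2296 : ∀ i, i < 2296 → P i := stepQ 2295 Q2295 (allL N2295 (tt N2295 F10306) (tt N2547 (iv F11322)) (tt N2551 (iv F11338)) (tt N2513 (iv F11190)) (tt N2295 F10307) (tt N2432 (iv F10836)) (tt N2548 (iv F11327)) (tt N2041 (iv D2328)) (tt N2295 F10308))
theorem Q2297 : ∀ i, i < 2297 → P i := stepQ 2296 Q2296 (allL N2296 (tt N2050 F10309) (tt N2522 (iv F11233)) (tt N2046 F10310) (tt N2552 D2585) (tt N2044 F10311) (tt N2441 (iv F10886)) (tt N2070 F10312) (tt N2043 (iv D2329)) (tt N2553 D2586))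
theorem Q2298 : ∀ i, i < 2298 → P i := stepQ 2297 Q2297 (allL N2297 (tt N2053 F10313) (tt N2523 (iv F11238)) (tt N2047 F10314) (tt N2515 (iv F11200)) (tt N2553 (iv F11346)) (tt N2045 F10315) (tt N2120 F10316) (tt N2065 F10317) (tt N2044 (iv D2330)))
theorem Q2299 : ∀ i, i < 2299 → P i := stepQ 2298 Q2298 (allL N2298 (tt N2057 F10318) (tt N2298 F10319) (tt N2553 (iv F11345)) (tt N2495 (iv F11107)) (tt N2047 F10320) (tt N2445 (iv F10905)) (tt N2088 F10321) (tt N2068 F10322) (tt N2046 (iv D2331)))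
theorem Q2300 : ∀ i, i < 2300 → P i := stepQ 2299 Q2299 (allL N2299 (tt N2072 F10323) (tt N2501 (iv F11138)) (tt N2066 F10324) (tt N2554 D2587) (tt N2064 F10325) (tt N2446 (iv F10911)) (tt N2063 F10326) (tt N2048 (iv D2332)) (tt N2555 D2588))
theorem Q2301 : ∀ i, i < 2301 → P i := stepQ 2300 Q2300 (allL N2300 (tt N2070 F10327) (tt N2502 (iv F11143)) (tt N2055 F10328) (tt N2556 D2589) (tt N2051 F10329) (tt N2459 (iv F10965)) (tt N2050 F10330) (tt N2049 (iv D2333)) (tt N2557 D2590))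
theorem Q2302 : ∀ i, i < 2302 → P i := stepQ 2301 Q2301 (allL N2301 (tt N2552 (iv F11341)) (tt N2503 (iv F11148)) (tt N2558 D2591) (tt N2050 (iv D2334)) (tt N2559 D2592) (tt N2447 (iv F10914)) (tt N2556 (iv F11358)) (tt N2554 (iv F11351)) (tt N2560 D2593))
theorem Q2303 : ∀ i, i < 2303 → P i := stepQ 2302 Q2302 (allL N2302 (tt N2553 (iv F11344)) (tt N2504 (iv F11151)) (tt N2057 F10331) (tt N2560 (iv F11369)) (tt N2053 F10332) (tt N2448 (iv F10918)) (tt N2557 (iv F11363)) (tt N2074 F10333) (tt N2050 (iv D2335)))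
theorem Q2304 : ∀ i, i < 2304 → P i := stepQ 2303 Q2303 (allL N2303 (tt N2119 F10334) (tt N2064 F10335) (tt N2303 F10336) (tt N2051 (iv D2336)) (tt N2501 (iv F11140)) (tt N2303 F10337) (tt N2052 F10338) (tt N2062 F10339) (tt N2561 D2594))
theorem Q2305 : ∀ i, i < 2305 → P i := stepQ 2304 Q2304 (allL N2304 (tt N2120 F10340) (tt N2505 (iv F11156)) (tt N2058 F10341) (tt N2561 (iv F11373)) (tt N2557 (iv F11362)) (tt N2304 F10342) (tt N2053 F10343) (tt N2076 F10344) (tt N2051 (iv D2337)))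
theorem Q2306 : ∀ i, i < 2306 → P i := stepQ 2305 Q2305 (allL N2305 (tt N2514 (iv F11192)) (tt N2063 F10345) (tt N2305 F10346) (tt N2559 (iv F11368)) (tt N2052 (iv D2338)) (tt N2456 (iv F10954)) (tt N2501 (iv F11141)) (tt N2061 F10347) (tt N2562 D2595))
theorem Q2307 : ∀ i, i < 2307 → P i := stepQ 2306 Q2306 (allL N2306 (tt N2515 (iv F11197)) (tt N2065 F10348) (tt N2306 F10349) (tt N2053 F10350) (tt N2562 (iv F11379)) (tt N2054 F10351) (tt N2561 (iv F11375)) (tt N2523 (iv F11243)) (tt N2052 (iv D2339)))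
theorem Q2308 : ∀ i, i < 2308 → P i := stepQ 2307 Q2307 (allL N2307 (tt N2088 F10352) (tt N2059 F10353) (tt N2557 (iv F11361)) (tt N2487 (iv F11067)) (tt N2058 F10354) (tt N2488 (iv F11076)) (tt N2057 F10355) (tt N2081 F10356) (tt N2055 (iv D2340)))
theorem Q2309 : ∀ i, i < 2309 → P i := stepQ 2308 Q2308 (allL N2308 (tt N2446 (iv F10908)) (tt N2531 (iv F11270)) (tt N2056 (iv D2341)) (tt N2558 (iv F11365)) (tt N2308 F10357) (tt N2072 F10358) (tt N2473 (iv F11027)) (tt N2071 F10359) (tt N2563 D2596))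
theorem Q2310 : ∀ i, i < 2310 → P i := stepQ 2309 Q2309 (allL N2309 (tt N2495 (iv F11105)) (tt N2060 F10360) (tt N2563 (iv F11380)) (tt N2057 F10361) (tt N2309 F10362) (tt N2081 F10363) (tt N2487 (iv F11070)) (tt N2488 (iv F11078)) (tt N2056 (iv D2342)))
theorem Q2311 : ∀ i, i < 2311 → P i := stepQ 2310 Q2310 (allL N2310 (tt N2073 F10364) (tt N2559 (iv F11367)) (tt N2564 D2597) (tt N2063 (iv D2343)) (tt N2503 (iv F11149)) (tt N2461 (iv F10973)) (tt N2554 (iv F11350)) (tt N2556 (iv F11359)) (tt N2565 D2598))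
theorem Q2312 : ∀ i, i < 2312 → P i := stepQ 2311 Q2311 (allL N2311 (tt N2074 F10365) (tt N2562 (iv F11377)) (tt N2068 F10366) (tt N2565 (iv F11386)) (tt N2065 F10367) (tt N2462 (iv F10977)) (tt N2555 (iv F11355)) (tt N2553 (iv F11348)) (tt N2063 (iv D2344)))
theorem Q2313 : ∀ i, i < 2313 → P i := stepQ 2312 Q2312 (allL N2312 (tt N2076 F10368) (tt N2561 (iv F11371)) (tt N2069 F10369) (tt N2505 (iv F11158)) (tt N2555 (iv F11354)) (tt N2312 F10370) (tt N2065 F10371) (tt N2120 F10372) (tt N2064 (iv D2345)))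
theorem Q2314 : ∀ i, i < 2314 → P i := stepQ 2313 Q2313 (allL N2313 (tt N2081 F10373) (tt N2313 F10374) (tt N2555 (iv F11353)) (tt N2445 (iv F10903)) (tt N2069 F10375) (tt N2495 (iv F11109)) (tt N2068 F10376) (tt N2088 F10377) (tt N2066 (iv D2346)))
theorem Q2315 : ∀ i, i < 2315 → P i := stepQ 2314 Q2314 (allL N2314 (tt N2082 F10378) (tt N2566 D2599) (tt N2067 (iv D2347)) (tt N2564 (iv F11384)) (tt N2097 F10379) (tt N2469 (iv F11008)) (tt N2441 (iv F10887)) (tt N2086 F10380) (tt N2567 D2600))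
theorem Q2316 : ∀ i, i < 2316 → P i := stepQ 2315 Q2315 (allL N2315 (tt N2083 F10381) (tt N2315 F10382) (tt N2567 (iv F11391)) (tt N2068 F10383) (tt N2098 F10384) (tt N2470 (iv F11015)) (tt N2445 (iv F10906)) (tt N2468 (iv F11005)) (tt N2067 (iv D2348)))
theorem Q2317 : ∀ i, i < 2317 → P i := stepQ 2316 Q2316 (allL N2316 (tt N2556 (iv F11357)) (tt N2529 (iv F11265)) (tt N2568 D2601) (tt N2070 (iv D2349)) (tt N2569 D2602) (tt N2471 (iv F11018)) (tt N2552 (iv F11342)) (tt N2073 F10385) (tt N2570 D2603))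
theorem Q2318 : ∀ i, i < 2318 → P i := stepQ 2317 Q2317 (allL N2317 (tt N2557 (iv F11360)) (tt N2530 (iv F11267)) (tt N2088 F10386) (tt N2570 (iv F11397)) (tt N2120 F10387) (tt N2472 (iv F11022)) (tt N2553 (iv F11347)) (tt N2555 (iv F11356)) (tt N2070 (iv D2350)))
theorem Q2319 : ∀ i, i < 2319 → P i := stepQ 2318 Q2318 (allL N2318 (tt N2554 (iv F11349)) (tt N2532 (iv F11274)) (tt N2447 (iv F10913)) (tt N2072 (iv D2351)) (tt N2571 D2604) (tt N2558 (iv F11366)) (tt N2073 F10388) (tt N2552 (iv F11343)) (tt N2572 D2605))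
theorem Q2320 : ∀ i, i < 2320 → P i := stepQ 2319 Q2319 (allL N2319 (tt N2555 (iv F11352)) (tt N2533 (iv F11276)) (tt N2081 F10389) (tt N2572 (iv F11400)) (tt N2076 F10390) (tt N2563 (iv F11382)) (tt N2074 F10391) (tt N2557 (iv F11364)) (tt N2072 (iv D2352)))
theorem Q2321 : ∀ i, i < 2321 → P i := stepQ 2320 Q2320 (allL N2320 (tt N2564 (iv F11383)) (tt N2573 D2606) (tt N2073 (iv D2353)) (tt N2082 F10392) (tt N2574 D2607) (tt N2476 (iv F11034)) (tt N2447 (iv F10915)) (tt N2568 (iv F11394)) (tt N2575 D2608))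
theorem Q2322 : ∀ i, i < 2322 → P i := stepQ 2321 Q2321 (allL N2321 (tt N2503 (iv F11147)) (tt N2535 (iv F11281)) (tt N2574 (iv F11403)) (tt N2077 F10393) (tt N2073 (iv D2354)) (tt N2576 D2609) (tt N2571 (iv F11399)) (tt N2569 (iv F11396)) (tt N2577 D2610))
theorem Q2323 : ∀ i, i < 2323 → P i := stepQ 2322 Q2322 (allL N2322 (tt N2565 (iv F11385)) (tt N2536 (iv F11283)) (tt N2575 (iv F11405)) (tt N2074 F10394) (tt N2577 (iv F11409)) (tt N2478 (iv F11037)) (tt N2572 (iv F11401)) (tt N2578 D2611) (tt N2073 (iv D2355)))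
theorem Q2324 : ∀ i, i < 2324 → P i := stepQ 2323 Q2323 (allL N2323 (tt N2502 (iv F11142)) (tt N2516 (iv F11205)) (tt N2104 F10395) (tt N2571 (iv F11398)) (tt N2075 (iv D2356)) (tt N2579 D2612) (tt N2077 F10396) (tt N2122 F10397) (tt N2580 D2613))
theorem Q2325 : ∀ i, i < 2325 → P i := stepQ 2324 Q2324 (allL N2324 (tt N2505 (iv F11155)) (tt N2537 (iv F11286)) (tt N2105 F10398) (tt N2076 F10399) (tt N2580 (iv F11414)) (tt N2324 F10400) (tt N2078 F10401) (tt N2521 (iv F11231)) (tt N2075 (iv D2357)))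
theorem Q2326 : ∀ i, i < 2326 → P i := stepQ 2325 Q2325 (allL N2325 (tt N2383 (iv F10617)) (tt N2538 (iv F11292)) (tt N2106 F10402) (tt N2576 (iv F11407)) (tt N2079 F10403) (tt N2077 (iv D2358)) (tt N2581 D2614) (tt N2123 F10404) (tt N2582 D2615))
theorem Q2327 : ∀ i, i < 2327 → P i := stepQ 2326 Q2326 (allL N2326 (tt N2504 (iv F11150)) (tt N2539 (iv F11296)) (tt N2107 F10405) (tt N2577 (iv F11408)) (tt N2078 F10406) (tt N2582 (iv F11422)) (tt N2580 (iv F11415)) (tt N2520 (iv F11224)) (tt N2077 (iv D2359)))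
theorem Q2328 : ∀ i, i < 2328 → P i := stepQ 2327 Q2327 (allL N2327 (tt N2110 F10407) (tt N2540 (iv F11300)) (tt N2108 F10408) (tt N2484 (iv F11055)) (tt N2581 (iv F11418)) (tt N2327 F10409) (tt N2079 (iv D2360)) (tt N2114 F10410) (tt N2583 D2616))
theorem Q2329 : ∀ i, i < 2329 → P i := stepQ 2328 Q2328 (allL N2328 (tt N2385 (iv F10629)) (tt N2541 (iv F11304)) (tt N2109 F10411) (tt N2485 (iv F11059)) (tt N2582 (iv F11421)) (tt N2080 F10412) (tt N2583 (iv F11426)) (tt N2400 (iv F10710)) (tt N2079 (iv D2361)))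
theorem Q2330 : ∀ i, i < 2330 → P i := stepQ 2329 Q2329 (allL N2329 (tt N2581 (iv F11416)) (tt N2082 (iv D2362)) (tt N2084 F10413) (tt N2573 (iv F11402)) (tt N2110 F10414) (tt N2489 (iv F11081)) (tt N2383 (iv F10622)) (tt N2090 F10415) (tt N2584 D2617))
theorem Q2331 : ∀ i, i < 2331 → P i := stepQ 2330 Q2330 (allL N2330 (tt N2567 (iv F11390)) (tt N2584 (iv F11427)) (tt N2083 F10416) (tt N2575 (iv F11406)) (tt N2111 F10417) (tt N2490 (iv F11085)) (tt N2448 (iv F10919)) (tt N2475 (iv F11032)) (tt N2082 (iv D2363)))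
theorem Q2332 : ∀ i, i < 2332 → P i := stepQ 2331 Q2331 (allL N2331 (tt N2084 (iv D2364)) (tt N2331 F10418) (tt N2581 (iv F11417)) (tt N2549 (iv F11330)) (tt N2108 F10419) (tt N2493 (iv F11099)) (tt N2106 F10420) (tt N2091 F10421) (tt N2585 D2618))
theorem Q2333 : ∀ i, i < 2333 → P i := stepQ 2332 Q2332 (allL N2332 (tt N2585 (iv F11430)) (tt N2085 F10422) (tt N2584 (iv F11428)) (tt N2550 (iv F11335)) (tt N2112 F10423) (tt N2494 (iv F11104)) (tt N2388 (iv F10651)) (tt N2423 (iv F10803)) (tt N2084 (iv D2365)))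
theorem Q2334 : ∀ i, i < 2334 → P i := stepQ 2333 Q2333 (allL N2333 (tt N2586 D2619) (tt N2086 (iv D2366)) (tt N2333 F10424) (tt N2410 (iv F10755)) (tt N2113 F10425) (tt N2408 F10748) (tt N2438 (iv F10869)) (tt N2566 (iv F11389)) (tt N2455 (iv F10950)))
theorem Q2335 : ∀ i, i < 2335 → P i := stepQ 2334 Q2334 (allL N2334 (tt N2473 (iv F11023)) (tt N2587 D2620) (tt N2087 (iv D2367)) (tt N2568 (iv F11393)) (tt N2334 F10426) (tt N2460 (iv F10970)) (tt N2446 (iv F10912)) (tt N2089 F10427) (tt N2588 D2621))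
theorem Q2336 : ∀ i, i < 2336 → P i := stepQ 2335 Q2335 (allL N2335 (tt N2487 (iv F11065)) (tt N2335 F10428) (tt N2588 (iv F11441)) (tt N2088 F10429) (tt N2335 F10430) (tt N2468 (iv F11003)) (tt N2495 (iv F11110)) (tt N2470 (iv F11017)) (tt N2087 (iv D2368)))
theorem Q2337 : ∀ i, i < 2337 → P i := stepQ 2336 Q2336 (allL N2336 (tt N2589 D2622) (tt N2089 (iv D2369)) (tt N2336 F10431) (tt N2090 F10432) (tt N2336 F10433) (tt N2455 (iv F10949)) (tt N2382 (iv F10615)) (tt N2587 (iv F11440)) (tt N2408 (iv F10747)))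
theorem Q2338 : ∀ i, i < 2338 → P i := stepQ 2337 Q2337 (allL N2337 (tt N2090 (iv D2370)) (tt N2586 (iv F11434)) (tt N2091 F10434) (tt N2589 (iv F11444)) (tt N2114 F10435) (tt N2496 (iv F11114)) (tt N2123 F10436) (tt N2581 (iv F11419)) (tt N2396 (iv F10695)))
theorem Q2339 : ∀ i, i < 2339 → P i := stepQ 2338 Q2338 (allL N2338 (tt N2099 F10437) (tt N2497 (iv F11117)) (tt N2442 (iv F10889)) (tt N2092 (iv D2371)) (tt N2506 (iv F11164)) (tt N2434 (iv F10846)) (tt N2093 F10438) (tt N2338 F10439) (tt N2590 D2623))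
theorem Q2340 : ∀ i, i < 2340 → P i := stepQ 2339 Q2339 (allL N2339 (tt N2100 F10440) (tt N2498 (iv F11122)) (tt N2096 F10441) (tt N2590 (iv F11448)) (tt N2095 F10442) (tt N2435 (iv F10852)) (tt N2094 F10443) (tt N2339 F10444) (tt N2092 (iv D2372)))
theorem Q2341 : ∀ i, i < 2341 → P i := stepQ 2340 Q2340 (allL N2340 (tt N2101 F10445) (tt N2591 D2624) (tt N2093 (iv D2373)) (tt N2097 F10446) (tt N2508 (iv F11173)) (tt N2340 F10447) (tt N2442 (iv F10891)) (tt N2340 F10448) (tt N2592 D2625))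
theorem Q2342 : ∀ i, i < 2342 → P i := stepQ 2341 Q2341 (allL N2341 (tt N2103 F10449) (tt N2500 (iv F11133)) (tt N2592 (iv F11454)) (tt N2094 F10450) (tt N2509 (iv F11178)) (tt N2341 F10451) (tt N2590 (iv F11449)) (tt N2593 D2626) (tt N2093 (iv D2374)))
theorem Q2343 : ∀ i, i < 2343 → P i := stepQ 2342 Q2342 (allL N2342 (tt N2540 (iv F11299)) (tt N2097 (iv D2375)) (tt N2342 F10452) (tt N2591 (iv F11450)) (tt N2566 (iv F11388)) (tt N2342 F10453) (tt N2439 (iv F10876)) (tt N2113 F10454) (tt N2594 D2627))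
theorem Q2344 : ∀ i, i < 2344 → P i := stepQ 2343 Q2343 (allL N2343 (tt N2111 F10455) (tt N2594 (iv F11461)) (tt N2098 F10456) (tt N2592 (iv F11455)) (tt N2567 (iv F11392)) (tt N2343 F10457) (tt N2443 (iv F10896)) (tt N2464 (iv F10987)) (tt N2097 (iv D2376)))
theorem Q2345 : ∀ i, i < 2345 → P i := stepQ 2344 Q2344 (allL N2344 (tt N2506 (iv F11162)) (tt N2344 F10458) (tt N2449 (iv F10921)) (tt N2104 F10459) (tt N2099 (iv D2377)) (tt N2595 D2628) (tt N2102 F10460) (tt N2344 F10461) (tt N2596 D2629))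
theorem Q2346 : ∀ i, i < 2346 → P i := stepQ 2345 Q2345 (allL N2345 (tt N2590 (iv F11447)) (tt N2345 F10462) (tt N2450 (iv F10924)) (tt N2100 F10463) (tt N2596 (iv F11469)) (tt N2437 (iv F10863)) (tt N2103 F10464) (tt N2597 D2630) (tt N2099 (iv D2378)))
theorem Q2347 : ∀ i, i < 2347 → P i := stepQ 2346 Q2346 (allL N2346 (tt N2484 (iv F11053)) (tt N2101 (iv D2379)) (tt N2346 F10465) (tt N2110 F10466) (tt N2598 D2631) (tt N2346 F10467) (tt N2384 (iv F10627)) (tt N2346 F10468) (tt N2599 D2632))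
theorem Q2348 : ∀ i, i < 2348 → P i := stepQ 2347 Q2347 (allL N2347 (tt N2508 (iv F11172)) (tt N2598 (iv F11475)) (tt N2102 F10469) (tt N2574 (iv F11404)) (tt N2101 (iv D2380)) (tt N2600 D2633) (tt N2449 (iv F10922)) (tt N2347 F10470) (tt N2601 D2634))
theorem Q2349 : ∀ i, i < 2349 → P i := stepQ 2348 Q2348 (allL N2348 (tt N2592 (iv F11453)) (tt N2599 (iv F11478)) (tt N2103 F10471) (tt N2111 F10472) (tt N2601 (iv F11486)) (tt N2348 F10473) (tt N2450 (iv F10927)) (tt N2602 D2635) (tt N2101 (iv D2381)))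
theorem Q2350 : ∀ i, i < 2350 → P i := stepQ 2349 Q2349 (allL N2349 (tt N2387 (iv F10641)) (tt N2349 F10474) (tt N2600 (iv F11482)) (tt N2106 F10475) (tt N2349 F10476) (tt N2102 (iv D2382)) (tt N2549 (iv F11332)) (tt N2349 F10477) (tt N2603 D2636))
theorem Q2351 : ∀ i, i < 2351 → P i := stepQ 2350 Q2350 (allL N2350 (tt N2509 (iv F11175)) (tt N2350 F10478) (tt N2601 (iv F11485)) (tt N2107 F10479) (tt N2103 F10480) (tt N2603 (iv F11493)) (tt N2596 (iv F11470)) (tt N2604 D2637) (tt N2102 (iv D2383)))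
theorem Q2352 : ∀ i, i < 2352 → P i := stepQ 2351 Q2351 (allL N2351 (tt N2593 (iv F11457)) (tt N2351 F10481) (tt N2602 (iv F11487)) (tt N2351 F10482) (tt N2604 (iv F11495)) (tt N2351 F10483) (tt N2597 (iv F11473)) (tt N2103 (iv D2384)) (tt N2351 F10484))
theorem Q2353 : ∀ i, i < 2353 → P i := stepQ 2352 Q2352 (allL N2352 (tt N2491 F11090) (tt N2352 F10485) (tt N2579 (iv F11410)) (tt N2595 (iv F11465)) (tt N2352 F10486) (tt N2104 (iv D2385)) (tt N2493 (iv F11100)) (tt N2124 F10487) (tt N2605 D2638))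
theorem Q2354 : ∀ i, i < 2354 → P i := stepQ 2353 Q2353 (allL N2353 (tt N2507 (iv F11167)) (tt N2353 F10488) (tt N2580 (iv F11413)) (tt N2596 (iv F11468)) (tt N2105 F10489) (tt N2605 (iv F11499)) (tt N2107 F10490) (tt N2526 (iv F11257)) (tt N2104 (iv D2386)))
theorem Q2355 : ∀ i, i < 2355 → P i := stepQ 2354 Q2354 (allL N2354 (tt N2388 (iv F10647)) (tt N2354 F10491) (tt N2582 (iv F11420)) (tt N2603 (iv F11491)) (tt N2109 F10492) (tt N2107 F10493) (tt N2585 (iv F11433)) (tt N2406 (iv F10737)) (tt N2106 (iv D2387)))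
theorem Q2356 : ∀ i, i < 2356 → P i := stepQ 2355 Q2355 (allL N2355 (tt N2112 F10494) (tt N2355 F10495) (tt N2583 (iv F11424)) (tt N2355 F10496) (tt N2585 (iv F11432)) (tt N2355 F10497) (tt N2109 F10498) (tt N2407 (iv F10742)) (tt N2108 (iv D2388)))
theorem Q2357 : ∀ i, i < 2357 → P i := stepQ 2356 Q2356 (allL N2356 (tt N2583 (iv F11423)) (tt N2111 F10499) (tt N2112 F10500) (tt N2599 (iv F11480)) (tt N2584 (iv F11429)) (tt N2356 F10501) (tt N2385 (iv F10633)) (tt N2415 (iv F10777)) (tt N2110 (iv D2389)))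
theorem Q2358 : ∀ i, i < 2358 → P i := stepQ 2357 Q2357 (allL N2357 (tt N2113 (iv D2390)) (tt N2114 F10502) (tt N2357 F10503) (tt N2357 F10504) (tt N2586 (iv F11436)) (tt N2357 F10505) (tt N2118 F10506) (tt N2540 (iv F11303)) (tt N2391 (iv F10670)))
theorem Q2359 : ∀ i, i < 2359 → P i := stepQ 2358 Q2358 (allL N2358 (tt N2537 (iv F11285)) (tt N2120 F10507) (tt N2358 F10508) (tt N2521 (iv F11228)) (tt N2530 (iv F11269)) (tt N2358 F10509) (tt N2523 (iv F11242)) (tt N2561 (iv F11376)) (tt N2116 (iv D2391)))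
theorem Q2360 : ∀ i, i < 2360 → P i := stepQ 2359 Q2359 (allL N2359 (tt N2438 (iv F10865)) (tt N2123 F10510) (tt N2359 F10511) (tt N2517 (iv F11212)) (tt N2118 F10512) (tt N2117 (iv D2392)) (tt N2586 (iv F11437)) (tt N2538 (iv F11295)) (tt N2390 (iv F10663)))
theorem Q2361 : ∀ i, i < 2361 → P i := stepQ 2360 Q2360 (allL N2360 (tt N2501 (iv F11137)) (tt N2518 (iv F11216)) (tt N2360 F10513) (tt N2569 (iv F11395)) (tt N2119 (iv D2393)) (tt N2606 D2639) (tt N2514 (iv F11196)) (tt N2121 F10514) (tt N2607 D2640))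
theorem Q2362 : ∀ i, i < 2362 → P i := stepQ 2361 Q2361 (allL N2361 (tt N2561 (iv F11370)) (tt N2521 (iv F11226)) (tt N2361 F10515) (tt N2120 F10516) (tt N2607 (iv F11504)) (tt N2361 F10517) (tt N2515 (iv F11202)) (tt N2537 (iv F11291)) (tt N2119 (iv D2394)))
theorem Q2363 : ∀ i, i < 2363 → P i := stepQ 2362 Q2362 (allL N2362 (tt N2382 (iv F10610)) (tt N2517 (iv F11210)) (tt N2362 F10518) (tt N2123 F10519) (tt N2362 F10520) (tt N2121 (iv D2395)) (tt N2589 (iv F11446)) (tt N2606 (iv F11502)) (tt N2395 (iv F10691)))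
theorem Q2364 : ∀ i, i < 2364 → P i := stepQ 2363 Q2363 (allL N2363 (tt N2454 (iv F10938)) (tt N2395 (iv F10687)) (tt N2124 F10521) (tt N2390 F10664) (tt N2363 F10522) (tt N2122 (iv D2396)) (tt N2496 (iv F11115)) (tt N2579 (iv F11412)) (tt N2517 (iv F11214)))
theorem Q2365 : ∀ i, i < 2365 → P i := stepQ 2364 Q2364 (allL N2364 (tt N2364 F10523) (tt N2127 F10524) (tt N2364 F10525) (tt N2608 D2641) (tt N2364 F10526) (tt N2138 F10527) (tt N2364 F10528) (tt N2125 (iv D2397)) (tt N2609 D2642))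
theorem Q2366 : ∀ i, i < 2366 → P i := stepQ 2365 Q2365 (allL N2365 (tt N2132 F10529) (tt N2138 F10530) (tt N2130 F10531) (tt N2610 D2643) (tt N2136 F10532) (tt N2127 F10533) (tt N2135 F10534) (tt N2126 (iv D2398)) (tt N2611 D2644))
theorem Q2367 : ∀ i, i < 2367 → P i := stepQ 2366 Q2366 (allL N2366 (tt N2133 F10535) (tt N2608 (iv F11506)) (tt N2155 F10536) (tt N2127 (iv D2399)) (tt N2612 D2645) (tt N2610 (iv F11521)) (tt N2366 F10537) (tt N2366 F10538) (tt N2613 D2646))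
theorem Q2368 : ∀ i, i < 2368 → P i := stepQ 2367 Q2367 (allL N2367 (tt N2134 F10539) (tt N2609 (iv F11511)) (tt N2131 F10540) (tt N2613 (iv F11538)) (tt N2367 F10541) (tt N2611 (iv F11528)) (tt N2367 F10542) (tt N2367 F10543) (tt N2127 (iv D2400)))
theorem Q2369 : ∀ i, i < 2369 → P i := stepQ 2368 Q2368 (allL N2368 (tt N2135 F10544) (tt N2368 F10545) (tt N2136 F10546) (tt N2614 D2647) (tt N2130 F10547) (tt N2368 F10548) (tt N2132 F10549) (tt N2128 (iv D2401)) (tt N2615 D2648))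
theorem Q2370 : ∀ i, i < 2370 → P i := stepQ 2369 Q2369 (allL N2369 (tt N2136 F10550) (tt N2369 F10551) (tt N2135 F10552) (tt N2159 F10553) (tt N2132 F10554) (tt N2369 F10555) (tt N2130 F10556) (tt N2129 (iv D2402)) (tt N2616 D2649))
theorem Q2371 : ∀ i, i < 2371 → P i := stepQ 2370 Q2370 (allL N2370 (tt N2137 F10557) (tt N2370 F10558) (tt N2611 (iv F11526)) (tt N2160 F10559) (tt N2615 (iv F11550)) (tt N2131 F10560) (tt N2616 (iv F11560)) (tt N2370 F10561) (tt N2130 (iv D2403)))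
theorem Q2372 : ∀ i, i < 2372 → P i := stepQ 2371 Q2371 (allL N2371 (tt N2610 (iv F11517)) (tt N2371 F10562) (tt N2165 F10563) (tt N2132 (iv D2404)) (tt N2617 D2650) (tt N2133 F10564) (tt N2614 (iv F11545)) (tt N2371 F10565) (tt N2618 D2651))
theorem Q2373 : ∀ i, i < 2373 → P i := stepQ 2372 Q2372 (allL N2372 (tt N2611 (iv F11524)) (tt N2372 F10566) (tt N2137 F10567) (tt N2618 (iv F11570)) (tt N2616 (iv F11558)) (tt N2134 F10568) (tt N2615 (iv F11552)) (tt N2372 F10569) (tt N2132 (iv D2405)))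
theorem Q2374 : ∀ i, i < 2374 → P i := stepQ 2373 Q2373 (allL N2373 (tt N2612 (iv F11531)) (tt N2373 F10570) (tt N2167 F10571) (tt N2373 F10572) (tt N2133 (iv D2406)) (tt N2619 D2652) (tt N2373 F10573) (tt N2373 F10574) (tt N2620 D2653))
theorem Q2375 : ∀ i, i < 2375 → P i := stepQ 2374 Q2374 (allL N2374 (tt N2613 (iv F11536)) (tt N2374 F10575) (tt N2168 F10576) (tt N2134 F10577) (tt N2620 (iv F11579)) (tt N2618 (iv F11571)) (tt N2374 F10578) (tt N2621 D2654) (tt N2133 (iv D2407)))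
theorem Q2376 : ∀ i, i < 2376 → P i := stepQ 2375 Q2375 (allL N2375 (tt N2614 (iv F11540)) (tt N2139 F10579) (tt N2622 D2655) (tt N2135 (iv D2408)) (tt N2171 F10580) (tt N2375 F10581) (tt N2610 (iv F11522)) (tt N2375 F10582) (tt N2623 D2656))
theorem Q2377 : ∀ i, i < 2377 → P i := stepQ 2376 Q2376 (allL N2376 (tt N2615 (iv F11547)) (tt N2140 F10583) (tt N2616 (iv F11556)) (tt N2623 (iv F11593)) (tt N2137 F10584) (tt N2376 F10585) (tt N2611 (iv F11529)) (tt N2376 F10586) (tt N2135 (iv D2409)))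
theorem Q2378 : ∀ i, i < 2378 → P i := stepQ 2377 Q2377 (allL N2377 (tt N2616 (iv F11554)) (tt N2141 F10587) (tt N2615 (iv F11549)) (tt N2173 F10588) (tt N2611 (iv F11527)) (tt N2377 F10589) (tt N2137 F10590) (tt N2377 F10591) (tt N2136 (iv D2410)))
theorem Q2379 : ∀ i, i < 2379 → P i := stepQ 2378 Q2378 (allL N2378 (tt N2378 F10592) (tt N2610 (iv F11518)) (tt N2624 D2657) (tt N2138 (iv D2411)) (tt N2175 F10593) (tt N2608 (iv F11507)) (tt N2139 F10594) (tt N2378 F10595) (tt N2625 D2658))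
theorem Q2380 : ∀ i, i < 2380 → P i := stepQ 2379 Q2379 (allL N2379 (tt N2379 F10596) (tt N2611 (iv F11525)) (tt N2379 F10597) (tt N2625 (iv F11602)) (tt N2141 F10598) (tt N2609 (iv F11514)) (tt N2140 F10599) (tt N2379 F10600) (tt N2138 (iv D2412)))
theorem Q2381 : ∀ i, i < 2381 → P i := stepQ 2380 Q2380 (allL N2380 (tt N2380 F10601) (tt N2626 D2659) (tt N2139 (iv D2413)) (tt N2380 F10602) (tt N2177 F10603) (tt N2380 F10604) (tt N2624 (iv F11599)) (tt N2380 F10605) (tt N2627 D2660))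
theorem Q2382 : ∀ i, i < 2382 → P i := stepQ 2381 Q2381 (allL N2381 (tt N2381 F10606) (tt N2623 (iv F11592)) (tt N2627 (iv F11610)) (tt N2140 F10607) (tt N2178 F10608) (tt N2381 F10609) (tt N2625 (iv F11604)) (tt N2628 D2661) (tt N2139 (iv D2414)))
theorem Q2383 : ∀ i, i < 2383 → P i := stepQ 2382 Q2382 (allL N2382 (tt N2362 F10610) (tt N2192 F10611) (tt N2382 F10612) (tt N2142 (iv D2415)) (tt N2382 F10613) (tt N2246 F10614) (tt N2336 F10615) (tt N2629 D2662) (tt N2161 F10616))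
theorem Q2384 : ∀ i, i < 2384 → P i := stepQ 2383 Q2383 (allL N2383 (tt N2325 F10617) (tt N2193 F10618) (tt N2146 F10619) (tt N2630 D2663) (tt N2143 F10620) (tt N2248 F10621) (tt N2329 F10622) (tt N2142 (iv D2416)) (tt N2631 D2664))
theorem Q2385 : ∀ i, i < 2385 → P i := stepQ 2384 Q2384 (allL N2384 (tt N2224 F10623) (tt N2194 F10624) (tt N2384 F10625) (tt N2143 (iv D2417)) (tt N2632 D2665) (tt N2144 F10626) (tt N2346 F10627) (tt N2384 F10628) (tt N2633 D2666))
theorem Q2386 : ∀ i, i < 2386 → P i := stepQ 2385 Q2385 (allL N2385 (tt N2328 F10629) (tt N2195 F10630) (tt N2147 F10631) (tt N2633 (iv F11645)) (tt N2631 (iv F11632)) (tt N2145 F10632) (tt N2356 F10633) (tt N2166 F10634) (tt N2143 (iv D2418)))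
theorem Q2387 : ∀ i, i < 2387 → P i := stepQ 2386 Q2386 (allL N2386 (tt N2225 F10635) (tt N2197 F10636) (tt N2386 F10637) (tt N2145 F10638) (tt N2209 F10639) (tt N2633 (iv F11646)) (tt N2386 F10640) (tt N2634 D2667) (tt N2144 (iv D2419)))
theorem Q2388 : ∀ i, i < 2388 → P i := stepQ 2387 Q2387 (allL N2387 (tt N2349 F10641) (tt N2148 F10642) (tt N2635 D2668) (tt N2146 (iv D2420)) (tt N2387 F10643) (tt N2252 F10644) (tt N2293 F10645) (tt N2387 F10646) (tt N2636 D2669))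
theorem Q2389 : ∀ i, i < 2389 → P i := stepQ 2388 Q2388 (allL N2388 (tt N2354 F10647) (tt N2149 F10648) (tt N2631 (iv F11631)) (tt N2636 (iv F11663)) (tt N2147 F10649) (tt N2253 F10650) (tt N2332 F10651) (tt N2172 F10652) (tt N2146 (iv D2421)))
theorem Q2390 : ∀ i, i < 2390 → P i := stepQ 2389 Q2389 (allL N2389 (tt N2389 F10653) (tt N2636 (iv F11662)) (tt N2292 F10654) (tt N2149 F10655) (tt N2389 F10656) (tt N2258 F10657) (tt N2294 F10658) (tt N2637 D2670) (tt N2148 (iv D2422)))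
theorem Q2391 : ∀ i, i < 2391 → P i := stepQ 2390 Q2390 (allL N2390 (tt N2199 F10659) (tt N2152 F10660) (tt N2390 F10661) (tt N2363 (iv F10664)) (tt N2150 (iv D2423)) (tt N2259 F10662) (tt N2638 D2671) (tt N2639 D2672) (tt N2359 F10663))
theorem Q2392 : ∀ i, i < 2392 → P i := stepQ 2391 Q2391 (allL N2391 (tt N2200 F10665) (tt N2153 F10666) (tt N2391 F10667) (tt N2391 F10668) (tt N2638 (iv F11678)) (tt N2391 F10669) (tt N2150 (iv D2424)) (tt N2640 D2673) (tt N2357 F10670))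
theorem Q2393 : ∀ i, i < 2393 → P i := stepQ 2392 Q2392 (allL N2392 (tt N2201 F10671) (tt N2154 F10672) (tt N2392 F10673) (tt N2641 D2674) (tt N2639 (iv F11684)) (tt N2151 F10674) (tt N2640 (iv F11690)) (tt N2150 (iv D2425)) (tt N2642 D2675))
theorem Q2394 : ∀ i, i < 2394 → P i := stepQ 2393 Q2393 (allL N2393 (tt N2196 F10675) (tt N2155 F10676) (tt N2643 D2676) (tt N2151 (iv D2426)) (tt N2188 F10677) (tt N2641 (iv F11693)) (tt N2393 F10678) (tt N2393 F10679) (tt N2644 D2677))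
theorem Q2395 : ∀ i, i < 2395 → P i := stepQ 2394 Q2394 (allL N2394 (tt N2202 F10680) (tt N2156 F10681) (tt N2394 F10682) (tt N2644 (iv F11707)) (tt N2261 F10683) (tt N2642 (iv F11698)) (tt N2394 F10684) (tt N2285 F10685) (tt N2151 (iv D2427)))
theorem Q2396 : ∀ i, i < 2396 → P i := stepQ 2395 Q2395 (allL N2395 (tt N2161 F10686) (tt N2363 F10687) (tt N2395 F10688) (tt N2152 (iv D2428)) (tt N2395 F10689) (tt N2262 F10690) (tt N2645 D2678) (tt N2646 D2679) (tt N2362 F10691))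
theorem Q2397 : ∀ i, i < 2397 → P i := stepQ 2396 Q2396 (allL N2396 (tt N2162 F10692) (tt N2638 (iv F11675)) (tt N2157 F10693) (tt N2645 (iv F11713)) (tt N2153 F10694) (tt N2647 D2680) (tt N2152 (iv D2429)) (tt N2648 D2681) (tt N2337 F10695))
theorem Q2398 : ∀ i, i < 2398 → P i := stepQ 2397 Q2397 (allL N2397 (tt N2163 F10696) (tt N2639 (iv F11682)) (tt N2158 F10697) (tt N2649 D2682) (tt N2154 F10698) (tt N2264 F10699) (tt N2648 (iv F11732)) (tt N2152 (iv D2430)) (tt N2650 D2683))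
theorem Q2399 : ∀ i, i < 2399 → P i := stepQ 2398 Q2398 (allL N2398 (tt N2164 F10700) (tt N2640 (iv F11687)) (tt N2159 F10701) (tt N2622 (iv F11587)) (tt N2648 (iv F11731)) (tt N2398 F10702) (tt N2154 F10703) (tt N2153 (iv D2431)) (tt N2651 D2684))
theorem Q2400 : ∀ i, i < 2400 → P i := stepQ 2399 Q2399 (allL N2399 (tt N2165 F10704) (tt N2641 (iv F11692)) (tt N2610 (iv F11519)) (tt N2154 (iv D2432)) (tt N2652 D2685) (tt N2155 F10705) (tt N2622 (iv F11590)) (tt N2399 F10706) (tt N2653 D2686))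
theorem Q2401 : ∀ i, i < 2401 → P i := stepQ 2400 Q2400 (allL N2400 (tt N2166 F10707) (tt N2642 (iv F11696)) (tt N2160 F10708) (tt N2653 (iv F11750)) (tt N2650 (iv F11737)) (tt N2156 F10709) (tt N2651 (iv F11743)) (tt N2328 F10710) (tt N2154 (iv D2433)))
theorem Q2402 : ∀ i, i < 2402 → P i := stepQ 2401 Q2401 (allL N2401 (tt N2167 F10711) (tt N2188 F10712) (tt N2612 (iv F11532)) (tt N2185 F10713) (tt N2155 (iv D2434)) (tt N2654 D2687) (tt N2401 F10714) (tt N2401 F10715) (tt N2655 D2688))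
theorem Q2403 : ∀ i, i < 2403 → P i := stepQ 2402 Q2402 (allL N2402 (tt N2168 F10716) (tt N2644 (iv F11706)) (tt N2613 (iv F11537)) (tt N2156 F10717) (tt N2655 (iv F11760)) (tt N2653 (iv F11751)) (tt N2402 F10718) (tt N2656 D2689) (tt N2155 (iv D2435)))
theorem Q2404 : ∀ i, i < 2404 → P i := stepQ 2403 Q2403 (allL N2403 (tt N2169 F10719) (tt N2403 F10720) (tt N2647 (iv F11724)) (tt N2403 F10721) (tt N2403 F10722) (tt N2157 (iv D2436)) (tt N2269 F10723) (tt N2657 D2690) (tt N2241 F10724))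
theorem Q2405 : ∀ i, i < 2405 → P i := stepQ 2404 Q2404 (allL N2404 (tt N2170 F10725) (tt N2404 F10726) (tt N2648 (iv F11730)) (tt N2617 (iv F11565)) (tt N2159 F10727) (tt N2657 (iv F11769)) (tt N2158 F10728) (tt N2157 (iv D2437)) (tt N2658 D2691))
theorem Q2406 : ∀ i, i < 2406 → P i := stepQ 2405 Q2405 (allL N2405 (tt N2171 F10729) (tt N2405 F10730) (tt N2659 D2692) (tt N2158 (iv D2438)) (tt N2614 (iv F11543)) (tt N2271 F10731) (tt N2617 (iv F11566)) (tt N2405 F10732) (tt N2660 D2693))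
theorem Q2407 : ∀ i, i < 2407 → P i := stepQ 2406 Q2406 (allL N2406 (tt N2172 F10733) (tt N2406 F10734) (tt N2650 (iv F11736)) (tt N2660 (iv F11784)) (tt N2160 F10735) (tt N2272 F10736) (tt N2658 (iv F11774)) (tt N2354 F10737) (tt N2158 (iv D2439)))
theorem Q2408 : ∀ i, i < 2408 → P i := stepQ 2407 Q2407 (allL N2407 (tt N2173 F10738) (tt N2407 F10739) (tt N2651 (iv F11741)) (tt N2616 (iv F11557)) (tt N2658 (iv F11773)) (tt N2407 F10740) (tt N2160 F10741) (tt N2355 F10742) (tt N2159 (iv D2440)))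
theorem Q2409 : ∀ i, i < 2409 → P i := stepQ 2408 Q2408 (allL N2408 (tt N2645 (iv F11710)) (tt N2214 F10743) (tt N2408 F10744) (tt N2162 F10745) (tt N2408 F10746) (tt N2333 (iv F10748)) (tt N2161 (iv D2441)) (tt N2661 D2694) (tt N2336 F10747))
theorem Q2410 : ∀ i, i < 2410 → P i := stepQ 2409 Q2409 (allL N2409 (tt N2646 (iv F11717)) (tt N2215 F10749) (tt N2409 F10750) (tt N2662 D2695) (tt N2409 F10751) (tt N2275 F10752) (tt N2661 (iv F11790)) (tt N2161 (iv D2442)) (tt N2663 D2696))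
theorem Q2411 : ∀ i, i < 2411 → P i := stepQ 2410 Q2410 (allL N2410 (tt N2647 (iv F11722)) (tt N2216 F10753) (tt N2169 F10754) (tt N2333 F10755) (tt N2410 F10756) (tt N2162 (iv D2443)) (tt N2276 F10757) (tt N2664 D2697) (tt N2239 F10758))
theorem Q2412 : ∀ i, i < 2412 → P i := stepQ 2411 Q2411 (allL N2411 (tt N2648 (iv F11729)) (tt N2217 F10759) (tt N2170 F10760) (tt N2665 D2698) (tt N2164 F10761) (tt N2664 (iv F11801)) (tt N2163 F10762) (tt N2162 (iv D2444)) (tt N2666 D2699))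
theorem Q2413 : ∀ i, i < 2413 → P i := stepQ 2412 Q2412 (allL N2412 (tt N2649 (iv F11733)) (tt N2218 F10763) (tt N2667 D2700) (tt N2163 (iv D2445)) (tt N2668 D2701) (tt N2278 F10764) (tt N2665 (iv F11804)) (tt N2662 (iv F11793)) (tt N2669 D2702))
theorem Q2414 : ∀ i, i < 2414 → P i := stepQ 2413 Q2413 (allL N2413 (tt N2650 (iv F11735)) (tt N2219 F10765) (tt N2172 F10766) (tt N2669 (iv F11815)) (tt N2166 F10767) (tt N2279 F10768) (tt N2666 (iv F11808)) (tt N2631 (iv F11635)) (tt N2163 (iv D2446)))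
theorem Q2415 : ∀ i, i < 2415 → P i := stepQ 2414 Q2414 (allL N2414 (tt N2622 (iv F11586)) (tt N2220 F10769) (tt N2614 (iv F11542)) (tt N2164 (iv D2447)) (tt N2659 (iv F11777)) (tt N2414 F10770) (tt N2165 F10771) (tt N2414 F10772) (tt N2670 D2703))
theorem Q2416 : ∀ i, i < 2416 → P i := stepQ 2415 Q2415 (allL N2415 (tt N2651 (iv F11740)) (tt N2221 F10773) (tt N2173 F10774) (tt N2670 (iv F11818)) (tt N2666 (iv F11807)) (tt N2415 F10775) (tt N2166 F10776) (tt N2356 F10777) (tt N2164 (iv D2448)))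
theorem Q2417 : ∀ i, i < 2417 → P i := stepQ 2416 Q2416 (allL N2416 (tt N2652 (iv F11745)) (tt N2222 F10778) (tt N2617 (iv F11564)) (tt N2668 (iv F11813)) (tt N2165 (iv D2449)) (tt N2671 D2704) (tt N2659 (iv F11779)) (tt N2416 F10779) (tt N2672 D2705))
theorem Q2418 : ∀ i, i < 2418 → P i := stepQ 2417 Q2417 (allL N2417 (tt N2653 (iv F11749)) (tt N2223 F10780) (tt N2618 (iv F11569)) (tt N2166 F10781) (tt N2672 (iv F11825)) (tt N2168 F10782) (tt N2670 (iv F11820)) (tt N2673 D2706) (tt N2165 (iv D2450)))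
theorem Q2419 : ∀ i, i < 2419 → P i := stepQ 2418 Q2418 (allL N2418 (tt N2654 (iv F11752)) (tt N2224 F10783) (tt N2619 (iv F11573)) (tt N2284 F10784) (tt N2671 (iv F11822)) (tt N2167 (iv D2451)) (tt N2674 D2707) (tt N2418 F10785) (tt N2675 D2708))
theorem Q2420 : ∀ i, i < 2420 → P i := stepQ 2419 Q2419 (allL N2419 (tt N2655 (iv F11757)) (tt N2225 F10786) (tt N2620 (iv F11577)) (tt N2285 F10787) (tt N2168 F10788) (tt N2675 (iv F11836)) (tt N2419 F10789) (tt N2676 D2709) (tt N2167 (iv D2452)))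
theorem Q2421 : ∀ i, i < 2421 → P i := stepQ 2420 Q2420 (allL N2420 (tt N2656 (iv F11762)) (tt N2226 F10790) (tt N2621 (iv F11582)) (tt N2634 (iv F11651)) (tt N2676 (iv F11838)) (tt N2673 (iv F11827)) (tt N2420 F10791) (tt N2168 (iv D2453)) (tt N2420 F10792))
theorem Q2422 : ∀ i, i < 2422 → P i := stepQ 2421 Q2421 (allL N2421 (tt N2657 (iv F11766)) (tt N2174 F10793) (tt N2664 (iv F11799)) (tt N2677 D2710) (tt N2421 F10794) (tt N2170 F10795) (tt N2286 F10796) (tt N2169 (iv D2454)) (tt N2678 D2711))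
theorem Q2423 : ∀ i, i < 2423 → P i := stepQ 2422 Q2422 (allL N2422 (tt N2617 (iv F11562)) (tt N2175 F10797) (tt N2652 (iv F11746)) (tt N2170 (iv D2455)) (tt N2610 (iv F11520)) (tt N2677 (iv F11842)) (tt N2171 F10798) (tt N2422 F10799) (tt N2679 D2712))
theorem Q2424 : ∀ i, i < 2424 → P i := stepQ 2423 Q2423 (allL N2423 (tt N2658 (iv F11771)) (tt N2176 F10800) (tt N2666 (iv F11806)) (tt N2679 (iv F11851)) (tt N2173 F10801) (tt N2678 (iv F11847)) (tt N2172 F10802) (tt N2332 F10803) (tt N2170 (iv D2456)))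
theorem Q2425 : ∀ i, i < 2425 → P i := stepQ 2424 Q2424 (allL N2424 (tt N2659 (iv F11776)) (tt N2680 D2713) (tt N2171 (iv D2457)) (tt N2667 (iv F11810)) (tt N2622 (iv F11588)) (tt N2289 F10804) (tt N2652 (iv F11747)) (tt N2424 F10805) (tt N2681 D2714))
theorem Q2426 : ∀ i, i < 2426 → P i := stepQ 2425 Q2425 (allL N2425 (tt N2660 (iv F11782)) (tt N2178 F10806) (tt N2681 (iv F11856)) (tt N2172 F10807) (tt N2623 (iv F11594)) (tt N2290 F10808) (tt N2679 (iv F11852)) (tt N2682 D2715) (tt N2171 (iv D2458)))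
theorem Q2427 : ∀ i, i < 2427 → P i := stepQ 2426 Q2426 (allL N2426 (tt N2426 F10809) (tt N2677 (iv F11841)) (tt N2255 F10810) (tt N2174 (iv D2459)) (tt N2683 D2716) (tt N2175 F10811) (tt N2257 F10812) (tt N2426 F10813) (tt N2684 D2717))
theorem Q2428 : ∀ i, i < 2428 → P i := stepQ 2427 Q2427 (allL N2427 (tt N2427 F10814) (tt N2678 (iv F11845)) (tt N2232 F10815) (tt N2684 (iv F11868)) (tt N2427 F10816) (tt N2176 F10817) (tt N2291 F10818) (tt N2236 F10819) (tt N2174 (iv D2460)))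
theorem Q2429 : ∀ i, i < 2429 → P i := stepQ 2428 Q2428 (allL N2428 (tt N2428 F10820) (tt N2685 D2718) (tt N2175 (iv D2461)) (tt N2233 F10821) (tt N2624 (iv F11598)) (tt N2255 F10822) (tt N2177 F10823) (tt N2428 F10824) (tt N2686 D2719))
theorem Q2430 : ∀ i, i < 2430 → P i := stepQ 2429 Q2429 (allL N2429 (tt N2429 F10825) (tt N2679 (iv F11850)) (tt N2686 (iv F11877)) (tt N2176 F10826) (tt N2625 (iv F11603)) (tt N2684 (iv F11869)) (tt N2178 F10827) (tt N2687 D2720) (tt N2175 (iv D2462)))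
theorem Q2431 : ∀ i, i < 2431 → P i := stepQ 2430 Q2430 (allL N2430 (tt N2688 D2721) (tt N2177 (iv D2463)) (tt N2680 (iv F11853)) (tt N2235 F10828) (tt N2626 (iv F11606)) (tt N2293 F10829) (tt N2685 (iv F11873)) (tt N2430 F10830) (tt N2689 D2722))
theorem Q2432 : ∀ i, i < 2432 → P i := stepQ 2431 Q2431 (allL N2431 (tt N2431 F10831) (tt N2689 (iv F11890)) (tt N2178 F10832) (tt N2236 F10833) (tt N2627 (iv F11612)) (tt N2294 F10834) (tt N2686 (iv F11880)) (tt N2690 D2723) (tt N2177 (iv D2464)))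
theorem Q2433 : ∀ i, i < 2433 → P i := stepQ 2432 Q2432 (allL N2432 (tt N2432 F10835) (tt N2682 (iv F11858)) (tt N2690 (iv F11894)) (tt N2637 (iv F11669)) (tt N2628 (iv F11616)) (tt N2295 F10836) (tt N2687 (iv F11883)) (tt N2178 (iv D2465)) (tt N2432 F10837))
theorem Q2434 : ∀ i, i < 2434 → P i := stepQ 2433 Q2433 (allL N2433 (tt N2433 F10838) (tt N2180 F10839) (tt N2433 F10840) (tt N2691 D2724) (tt N2433 F10841) (tt N2242 F10842) (tt N2433 F10843) (tt N2179 (iv D2466)) (tt N2692 D2725))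
theorem Q2435 : ∀ i, i < 2435 → P i := stepQ 2434 Q2434 (allL N2434 (tt N2182 F10844) (tt N2691 (iv F11898)) (tt N2188 F10845) (tt N2180 (iv D2467)) (tt N2643 (iv F11702)) (tt N2338 F10846) (tt N2434 F10847) (tt N2434 F10848) (tt N2693 D2726))
theorem Q2436 : ∀ i, i < 2436 → P i := stepQ 2435 Q2435 (allL N2435 (tt N2183 F10849) (tt N2692 (iv F11903)) (tt N2181 F10850) (tt N2693 (iv F11911)) (tt N2435 F10851) (tt N2339 F10852) (tt N2435 F10853) (tt N2435 F10854) (tt N2180 (iv D2468)))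
theorem Q2437 : ∀ i, i < 2437 → P i := stepQ 2436 Q2436 (allL N2436 (tt N2643 (iv F11700)) (tt N2436 F10855) (tt N2196 F10856) (tt N2436 F10857) (tt N2182 (iv D2469)) (tt N2694 D2727) (tt N2436 F10858) (tt N2436 F10859) (tt N2695 D2728))
theorem Q2438 : ∀ i, i < 2438 → P i := stepQ 2437 Q2437 (allL N2437 (tt N2693 (iv F11909)) (tt N2437 F10860) (tt N2197 F10861) (tt N2183 F10862) (tt N2695 (iv F11922)) (tt N2345 F10863) (tt N2437 F10864) (tt N2696 D2729) (tt N2182 (iv D2470)))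
theorem Q2439 : ∀ i, i < 2439 → P i := stepQ 2438 Q2438 (allL N2438 (tt N2359 F10865) (tt N2186 F10866) (tt N2438 F10867) (tt N2276 F10871) (tt N2184 (iv D2471)) (tt N2274 F10868) (tt N2333 F10869) (tt N2697 D2730) (tt N2199 F10870))
theorem Q2440 : ∀ i, i < 2440 → P i := stepQ 2439 Q2439 (allL N2439 (tt N2284 F10872) (tt N2187 F10873) (tt N2439 F10874) (tt N2654 (iv F11754)) (tt N2697 (iv F11933)) (tt N2185 F10875) (tt N2342 F10876) (tt N2184 (iv D2472)) (tt N2698 D2731))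
theorem Q2441 : ∀ i, i < 2441 → P i := stepQ 2440 Q2440 (allL N2440 (tt N2285 F10877) (tt N2189 F10878) (tt N2440 F10879) (tt N2655 (iv F11759)) (tt N2268 F10880) (tt N2698 (iv F11939)) (tt N2440 F10881) (tt N2202 F10882) (tt N2185 (iv D2473)))
theorem Q2442 : ∀ i, i < 2442 → P i := stepQ 2441 Q2441 (allL N2441 (tt N2193 F10883) (tt N2697 (iv F11931)) (tt N2190 F10884) (tt N2699 D2732) (tt N2187 F10885) (tt N2296 F10886) (tt N2314 F10887) (tt N2186 (iv D2474)) (tt N2700 D2733))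
theorem Q2443 : ∀ i, i < 2443 → P i := stepQ 2442 Q2442 (allL N2442 (tt N2194 F10888) (tt N2654 (iv F11753)) (tt N2338 F10889) (tt N2187 (iv D2475)) (tt N2701 D2734) (tt N2188 F10890) (tt N2340 F10891) (tt N2442 F10892) (tt N2702 D2735))
theorem Q2444 : ∀ i, i < 2444 → P i := stepQ 2443 Q2443 (allL N2443 (tt N2195 F10893) (tt N2698 (iv F11937)) (tt N2191 F10894) (tt N2702 (iv F11959)) (tt N2700 (iv F11949)) (tt N2189 F10895) (tt N2343 F10896) (tt N2208 F10897) (tt N2187 (iv D2476)))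
theorem Q2445 : ∀ i, i < 2445 → P i := stepQ 2444 Q2444 (allL N2444 (tt N2197 F10898) (tt N2655 (iv F11758)) (tt N2693 (iv F11910)) (tt N2189 F10899) (tt N2644 (iv F11708)) (tt N2702 (iv F11960)) (tt N2444 F10900) (tt N2703 D2736) (tt N2188 (iv D2477)))
theorem Q2446 : ∀ i, i < 2446 → P i := stepQ 2445 Q2445 (allL N2445 (tt N2198 F10901) (tt N2445 F10902) (tt N2700 (iv F11948)) (tt N2313 F10903) (tt N2191 F10904) (tt N2298 F10905) (tt N2315 F10906) (tt N2212 F10907) (tt N2190 (iv D2478)))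
theorem Q2447 : ∀ i, i < 2447 → P i := stepQ 2446 Q2446 (allL N2446 (tt N2308 F10908) (tt N2629 (iv F11620)) (tt N2237 F10909) (tt N2704 D2737) (tt N2446 F10910) (tt N2299 F10911) (tt N2334 F10912) (tt N2192 (iv D2479)) (tt N2705 D2738))
theorem Q2448 : ∀ i, i < 2448 → P i := stepQ 2447 Q2447 (allL N2447 (tt N2699 (iv F11942)) (tt N2630 (iv F11626)) (tt N2318 F10913) (tt N2193 (iv D2480)) (tt N2706 D2739) (tt N2301 F10914) (tt N2320 F10915) (tt N2704 (iv F11970)) (tt N2707 D2740))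
theorem Q2449 : ∀ i, i < 2449 → P i := stepQ 2448 Q2448 (allL N2448 (tt N2700 (iv F11947)) (tt N2631 (iv F11630)) (tt N2198 F10916) (tt N2707 (iv F11981)) (tt N2195 F10917) (tt N2302 F10918) (tt N2330 F10919) (tt N2219 F10920) (tt N2193 (iv D2481)))
theorem Q2450 : ∀ i, i < 2450 → P i := stepQ 2449 Q2449 (allL N2449 (tt N2701 (iv F11953)) (tt N2632 (iv F11637)) (tt N2344 F10921) (tt N2706 (iv F11978)) (tt N2194 (iv D2482)) (tt N2708 D2741) (tt N2347 F10922) (tt N2449 F10923) (tt N2709 D2742))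
theorem Q2451 : ∀ i, i < 2451 → P i := stepQ 2450 Q2450 (allL N2450 (tt N2702 (iv F11957)) (tt N2633 (iv F11643)) (tt N2345 F10924) (tt N2195 F10925) (tt N2709 (iv F11989)) (tt N2197 F10926) (tt N2348 F10927) (tt N2710 D2743) (tt N2194 (iv D2483)))
theorem Q2452 : ∀ i, i < 2452 → P i := stepQ 2451 Q2451 (allL N2451 (tt N2641 (iv F11691)) (tt N2207 F10928) (tt N2694 (iv F11915)) (tt N2201 F10929) (tt N2708 (iv F11986)) (tt N2196 (iv D2484)) (tt N2711 D2744) (tt N2451 F10930) (tt N2712 D2745))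
theorem Q2453 : ∀ i, i < 2453 → P i := stepQ 2452 Q2452 (allL N2452 (tt N2644 (iv F11705)) (tt N2209 F10931) (tt N2695 (iv F11920)) (tt N2202 F10932) (tt N2197 F10933) (tt N2712 (iv F12002)) (tt N2452 F10934) (tt N2713 D2746) (tt N2196 (iv D2485)))
theorem Q2454 : ∀ i, i < 2454 → P i := stepQ 2453 Q2453 (allL N2453 (tt N2703 (iv F11962)) (tt N2634 (iv F11649)) (tt N2696 (iv F11925)) (tt N2226 F10935) (tt N2713 (iv F12004)) (tt N2710 (iv F11993)) (tt N2453 F10936) (tt N2197 (iv D2486)) (tt N2453 F10937))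
theorem Q2455 : ∀ i, i < 2455 → P i := stepQ 2454 Q2454 (allL N2454 (tt N2363 F10938) (tt N2203 F10939) (tt N2240 F10943) (tt N2199 (iv D2487)) (tt N2454 F10940) (tt N2247 F10941) (tt N2239 (iv F10944)) (tt N2714 D2747) (tt N2276 F10942))
theorem Q2456 : ∀ i, i < 2456 → P i := stepQ 2455 Q2455 (allL N2455 (tt N2638 (iv F11674)) (tt N2204 F10945) (tt N2455 F10946) (tt N2239 F10947) (tt N2200 F10948) (tt N2336 F10949) (tt N2199 (iv D2488)) (tt N2715 D2748) (tt N2333 F10950))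
theorem Q2457 : ∀ i, i < 2457 → P i := stepQ 2456 Q2456 (allL N2456 (tt N2639 (iv F11681)) (tt N2205 F10951) (tt N2456 F10952) (tt N2716 D2749) (tt N2201 F10953) (tt N2305 F10954) (tt N2715 (iv F12017)) (tt N2199 (iv D2489)) (tt N2717 D2750))
theorem Q2458 : ∀ i, i < 2458 → P i := stepQ 2457 Q2457 (allL N2457 (tt N2640 (iv F11686)) (tt N2206 F10955) (tt N2457 F10956) (tt N2711 (iv F11997)) (tt N2715 (iv F12015)) (tt N2457 F10957) (tt N2201 F10958) (tt N2200 (iv D2490)) (tt N2718 D2751))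
theorem Q2459 : ∀ i, i < 2459 → P i := stepQ 2458 Q2458 (allL N2458 (tt N2642 (iv F11695)) (tt N2208 F10959) (tt N2458 F10960) (tt N2712 (iv F12001)) (tt N2717 (iv F12022)) (tt N2202 F10961) (tt N2718 (iv F12027)) (tt N2698 (iv F11941)) (tt N2201 (iv D2491)))
theorem Q2460 : ∀ i, i < 2460 → P i := stepQ 2459 Q2459 (allL N2459 (tt N2215 F10962) (tt N2714 (iv F12008)) (tt N2228 F10963) (tt N2719 D2752) (tt N2459 F10964) (tt N2300 F10965) (tt N2230 F10966) (tt N2203 (iv D2492)) (tt N2720 D2753))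
theorem Q2461 : ∀ i, i < 2461 → P i := stepQ 2460 Q2460 (allL N2460 (tt N2217 F10967) (tt N2715 (iv F12013)) (tt N2210 F10968) (tt N2721 D2754) (tt N2206 F10969) (tt N2334 F10970) (tt N2205 F10971) (tt N2204 (iv D2493)) (tt N2722 D2755))
theorem Q2462 : ∀ i, i < 2462 → P i := stepQ 2461 Q2461 (allL N2461 (tt N2218 F10972) (tt N2716 (iv F12018)) (tt N2723 D2756) (tt N2205 (iv D2494)) (tt N2724 D2757) (tt N2310 F10973) (tt N2721 (iv F12043)) (tt N2719 (iv F12033)) (tt N2725 D2758))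
theorem Q2463 : ∀ i, i < 2463 → P i := stepQ 2462 Q2462 (allL N2462 (tt N2219 F10974) (tt N2717 (iv F12020)) (tt N2212 F10975) (tt N2725 (iv F12059)) (tt N2208 F10976) (tt N2311 F10977) (tt N2722 (iv F12049)) (tt N2700 (iv F11952)) (tt N2205 (iv D2495)))
theorem Q2464 : ∀ i, i < 2464 → P i := stepQ 2463 Q2463 (allL N2463 (tt N2220 F10978) (tt N2711 (iv F11996)) (tt N2463 F10979) (tt N2206 (iv D2496)) (tt N2726 D2759) (tt N2463 F10980) (tt N2207 F10981) (tt N2463 F10982) (tt N2727 D2760))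
theorem Q2465 : ∀ i, i < 2465 → P i := stepQ 2464 Q2464 (allL N2464 (tt N2221 F10983) (tt N2718 (iv F12024)) (tt N2213 F10984) (tt N2727 (iv F12067)) (tt N2722 (iv F12047)) (tt N2464 F10985) (tt N2208 F10986) (tt N2343 F10987) (tt N2206 (iv D2497)))
theorem Q2466 : ∀ i, i < 2466 → P i := stepQ 2465 Q2465 (allL N2465 (tt N2222 F10988) (tt N2708 (iv F11984)) (tt N2465 F10989) (tt N2724 (iv F12057)) (tt N2207 (iv D2498)) (tt N2632 (iv F11639)) (tt N2726 (iv F12063)) (tt N2465 F10990) (tt N2728 D2761))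
theorem Q2467 : ∀ i, i < 2467 → P i := stepQ 2466 Q2466 (allL N2466 (tt N2223 F10991) (tt N2712 (iv F12000)) (tt N2466 F10992) (tt N2208 F10993) (tt N2728 (iv F12072)) (tt N2209 F10994) (tt N2727 (iv F12069)) (tt N2729 D2762) (tt N2207 (iv D2499)))
theorem Q2468 : ∀ i, i < 2468 → P i := stepQ 2467 Q2467 (allL N2467 (tt N2226 F10995) (tt N2713 (iv F12003)) (tt N2467 F10996) (tt N2703 (iv F11963)) (tt N2634 (iv F11652)) (tt N2729 (iv F12075)) (tt N2467 F10997) (tt N2209 (iv D2500)) (tt N2467 F10998))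
theorem Q2469 : ∀ i, i < 2469 → P i := stepQ 2468 Q2468 (allL N2468 (tt N2229 F10999) (tt N2468 F11000) (tt N2722 (iv F12046)) (tt N2238 F11001) (tt N2213 F11002) (tt N2335 F11003) (tt N2212 F11004) (tt N2315 F11005) (tt N2210 (iv D2501)))
theorem Q2470 : ∀ i, i < 2470 → P i := stepQ 2469 Q2469 (allL N2469 (tt N2230 F11006) (tt N2661 (iv F11786)) (tt N2211 (iv D2502)) (tt N2723 (iv F12052)) (tt N2469 F11007) (tt N2314 F11008) (tt N2215 F11009) (tt N2214 F11010) (tt N2730 D2763))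
theorem Q2471 : ∀ i, i < 2471 → P i := stepQ 2470 Q2470 (allL N2470 (tt N2231 F11011) (tt N2470 F11012) (tt N2730 (iv F12078)) (tt N2212 F11013) (tt N2470 F11014) (tt N2315 F11015) (tt N2238 F11016) (tt N2335 F11017) (tt N2211 (iv D2503)))
theorem Q2472 : ∀ i, i < 2472 → P i := stepQ 2471 Q2471 (allL N2471 (tt N2719 (iv F12029)) (tt N2662 (iv F11791)) (tt N2721 (iv F12041)) (tt N2215 (iv D2504)) (tt N2731 D2764) (tt N2316 F11018) (tt N2723 (iv F12054)) (tt N2218 F11019) (tt N2732 D2765))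
theorem Q2473 : ∀ i, i < 2473 → P i := stepQ 2472 Q2472 (allL N2472 (tt N2720 (iv F12034)) (tt N2663 (iv F11794)) (tt N2238 F11020) (tt N2732 (iv F12085)) (tt N2472 F11021) (tt N2317 F11022) (tt N2730 (iv F12081)) (tt N2705 (iv F11976)) (tt N2215 (iv D2505)))
theorem Q2474 : ∀ i, i < 2474 → P i := stepQ 2473 Q2473 (allL N2473 (tt N2334 F11023) (tt N2664 (iv F11798)) (tt N2227 F11024) (tt N2733 D2766) (tt N2473 F11025) (tt N2217 F11026) (tt N2308 F11027) (tt N2216 (iv D2506)) (tt N2734 D2767))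
theorem Q2475 : ∀ i, i < 2475 → P i := stepQ 2474 Q2474 (allL N2474 (tt N2721 (iv F12040)) (tt N2665 (iv F11803)) (tt N2719 (iv F12030)) (tt N2217 (iv D2507)) (tt N2735 D2768) (tt N2733 (iv F12089)) (tt N2218 F11028) (tt N2723 (iv F12055)) (tt N2736 D2769))
theorem Q2476 : ∀ i, i < 2476 → P i := stepQ 2475 Q2475 (allL N2475 (tt N2722 (iv F12045)) (tt N2666 (iv F11805)) (tt N2229 F11029) (tt N2736 (iv F12100)) (tt N2221 F11030) (tt N2734 (iv F12095)) (tt N2219 F11031) (tt N2330 F11032) (tt N2217 (iv D2508)))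
theorem Q2477 : ∀ i, i < 2477 → P i := stepQ 2476 Q2476 (allL N2476 (tt N2723 (iv F12051)) (tt N2737 D2770) (tt N2218 (iv D2509)) (tt N2230 F11033) (tt N2738 D2771) (tt N2320 F11034) (tt N2719 (iv F12032)) (tt N2721 (iv F12044)) (tt N2739 D2772))
theorem Q2478 : ∀ i, i < 2478 → P i := stepQ 2477 Q2477 (allL N2477 (tt N2724 (iv F12056)) (tt N2668 (iv F11812)) (tt N2738 (iv F12104)) (tt N2222 F11035) (tt N2218 (iv D2510)) (tt N2740 D2773) (tt N2735 (iv F12099)) (tt N2731 (iv F12084)) (tt N2741 D2774))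
theorem Q2479 : ∀ i, i < 2479 → P i := stepQ 2478 Q2478 (allL N2478 (tt N2725 (iv F12058)) (tt N2669 (iv F11814)) (tt N2739 (iv F12106)) (tt N2219 F11036) (tt N2741 (iv F12112)) (tt N2322 F11037) (tt N2736 (iv F12101)) (tt N2742 D2775) (tt N2218 (iv D2511)))
theorem Q2480 : ∀ i, i < 2480 → P i := stepQ 2479 Q2479 (allL N2479 (tt N2726 (iv F12061)) (tt N2659 F11781) (tt N2479 F11038) (tt N2735 (iv F12098)) (tt N2220 (iv D2512)) (tt N2743 D2776) (tt N2222 F11039) (tt N2479 F11040) (tt N2744 D2777))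
theorem Q2481 : ∀ i, i < 2481 → P i := stepQ 2480 Q2480 (allL N2480 (tt N2727 (iv F12065)) (tt N2670 (iv F11817)) (tt N2480 F11041) (tt N2221 F11042) (tt N2744 (iv F12119)) (tt N2480 F11043) (tt N2223 F11044) (tt N2745 D2778) (tt N2220 (iv D2513)))
theorem Q2482 : ∀ i, i < 2482 → P i := stepQ 2481 Q2481 (allL N2481 (tt N2632 (iv F11636)) (tt N2671 (iv F11821)) (tt N2481 F11045) (tt N2740 (iv F12109)) (tt N2224 F11046) (tt N2222 (iv D2514)) (tt N2746 D2779) (tt N2481 F11047) (tt N2747 D2780))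
theorem Q2483 : ∀ i, i < 2483 → P i := stepQ 2482 Q2482 (allL N2482 (tt N2728 (iv F12070)) (tt N2672 (iv F11824)) (tt N2482 F11048) (tt N2741 (iv F12111)) (tt N2223 F11049) (tt N2747 (iv F12132)) (tt N2744 (iv F12120)) (tt N2748 D2781) (tt N2222 (iv D2515)))
theorem Q2484 : ∀ i, i < 2484 → P i := stepQ 2483 Q2483 (allL N2483 (tt N2729 (iv F12073)) (tt N2673 (iv F11826)) (tt N2483 F11050) (tt N2710 (iv F11992)) (tt N2748 (iv F12134)) (tt N2226 F11051) (tt N2745 (iv F12124)) (tt N2223 (iv D2516)) (tt N2483 F11052))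
theorem Q2485 : ∀ i, i < 2485 → P i := stepQ 2484 Q2484 (allL N2484 (tt N2346 F11053) (tt N2674 (iv F11830)) (tt N2484 F11054) (tt N2327 F11055) (tt N2746 (iv F12128)) (tt N2484 F11056) (tt N2224 (iv D2517)) (tt N2484 F11057) (tt N2749 D2782))
theorem Q2486 : ∀ i, i < 2486 → P i := stepQ 2485 Q2485 (allL N2485 (tt N2633 (iv F11642)) (tt N2675 (iv F11834)) (tt N2485 F11058) (tt N2328 F11059) (tt N2747 (iv F12131)) (tt N2225 F11060) (tt N2749 (iv F12140)) (tt N2750 D2783) (tt N2224 (iv D2518)))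
theorem Q2487 : ∀ i, i < 2487 → P i := stepQ 2486 Q2486 (allL N2486 (tt N2634 (iv F11648)) (tt N2676 (iv F11837)) (tt N2486 F11061) (tt N2656 (iv F11763)) (tt N2226 F11062) (tt N2750 (iv F12142)) (tt N2486 F11063) (tt N2225 (iv D2519)) (tt N2486 F11064))
theorem Q2488 : ∀ i, i < 2488 → P i := stepQ 2487 Q2487 (allL N2487 (tt N2335 F11065) (tt N2232 F11066) (tt N2734 (iv F12093)) (tt N2307 F11067) (tt N2487 F11068) (tt N2229 F11069) (tt N2309 F11070) (tt N2231 F11071) (tt N2227 (iv D2520)))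
theorem Q2489 : ∀ i, i < 2489 → P i := stepQ 2488 Q2488 (allL N2488 (tt N2238 F11072) (tt N2234 F11073) (tt N2720 (iv F12035)) (tt N2229 F11074) (tt N2488 F11075) (tt N2307 F11076) (tt N2231 F11077) (tt N2309 F11078) (tt N2228 (iv D2521)))
theorem Q2490 : ∀ i, i < 2490 → P i := stepQ 2489 Q2489 (allL N2489 (tt N2751 D2784) (tt N2230 (iv D2522)) (tt N2235 F11079) (tt N2737 (iv F12102)) (tt N2489 F11080) (tt N2329 F11081) (tt N2714 (iv F12012)) (tt N2239 F11082) (tt N2752 D2785))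
theorem Q2491 : ∀ i, i < 2491 → P i := stepQ 2490 Q2490 (allL N2490 (tt N2730 (iv F12077)) (tt N2752 (iv F12149)) (tt N2231 F11083) (tt N2739 (iv F12107)) (tt N2490 F11084) (tt N2330 F11085) (tt N2720 (iv F12038)) (tt N2734 (iv F12097)) (tt N2230 (iv D2523)))
theorem Q2492 : ∀ i, i < 2492 → P i := stepQ 2491 Q2491 (allL N2491 (tt N2352 (iv F11090)) (tt N2233 (iv D2524)) (tt N2714 (iv F12009)) (tt N2685 (iv F11871)) (tt N2491 F11086) (tt N2251 F11087) (tt N2235 F11088) (tt N2240 F11089) (tt N2753 D2786))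
theorem Q2493 : ∀ i, i < 2493 → P i := stepQ 2492 Q2492 (allL N2492 (tt N2492 F11091) (tt N2753 (iv F12154)) (tt N2234 F11092) (tt N2686 (iv F11878)) (tt N2492 F11093) (tt N2256 F11094) (tt N2236 F11095) (tt N2291 F11096) (tt N2233 (iv D2525)))
theorem Q2494 : ∀ i, i < 2494 → P i := stepQ 2493 Q2493 (allL N2493 (tt N2235 (iv D2526)) (tt N2493 F11097) (tt N2751 (iv F12144)) (tt N2688 (iv F11886)) (tt N2493 F11098) (tt N2331 F11099) (tt N2352 F11100) (tt N2241 F11101) (tt N2754 D2787))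
theorem Q2495 : ∀ i, i < 2495 → P i := stepQ 2494 Q2494 (allL N2494 (tt N2754 (iv F12159)) (tt N2236 F11102) (tt N2752 (iv F12150)) (tt N2689 (iv F11891)) (tt N2494 F11103) (tt N2332 F11104) (tt N2753 (iv F12157)) (tt N2678 (iv F11849)) (tt N2235 (iv D2527)))
theorem Q2496 : ∀ i, i < 2496 → P i := stepQ 2495 Q2495 (allL N2495 (tt N2309 F11105) (tt N2495 F11106) (tt N2705 (iv F11972)) (tt N2298 F11107) (tt N2495 F11108) (tt N2313 F11109) (tt N2335 F11110) (tt N2238 F11111) (tt N2237 (iv D2528)))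
theorem Q2497 : ∀ i, i < 2497 → P i := stepQ 2496 Q2496 (allL N2496 (tt N2239 (iv D2529)) (tt N2645 (iv F11711)) (tt N2241 F11112) (tt N2638 (iv F11677)) (tt N2496 F11113) (tt N2337 F11114) (tt N2363 F11115) (tt N2751 (iv F12148)) (tt N2647 (iv F11728)))
theorem Q2498 : ∀ i, i < 2498 → P i := stepQ 2497 Q2497 (allL N2497 (tt N2497 F11116) (tt N2338 F11117) (tt N2683 (iv F11862)) (tt N2242 (iv D2530)) (tt N2255 F11118) (tt N2691 (iv F11899)) (tt N2243 F11119) (tt N2497 F11120) (tt N2755 D2788))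
theorem Q2499 : ∀ i, i < 2499 → P i := stepQ 2498 Q2498 (allL N2498 (tt N2498 F11121) (tt N2339 F11122) (tt N2498 F11123) (tt N2755 (iv F12166)) (tt N2245 F11124) (tt N2692 (iv F11906)) (tt N2244 F11125) (tt N2498 F11126) (tt N2242 (iv D2531)))
theorem Q2500 : ∀ i, i < 2500 → P i := stepQ 2499 Q2499 (allL N2499 (tt N2499 F11127) (tt N2756 D2789) (tt N2243 (iv D2532)) (tt N2499 F11128) (tt N2257 F11129) (tt N2499 F11130) (tt N2683 (iv F11864)) (tt N2499 F11131) (tt N2757 D2790))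
theorem Q2501 : ∀ i, i < 2501 → P i := stepQ 2500 Q2500 (allL N2500 (tt N2500 F11132) (tt N2341 F11133) (tt N2757 (iv F12175)) (tt N2244 F11134) (tt N2258 F11135) (tt N2500 F11136) (tt N2755 (iv F12168)) (tt N2758 D2791) (tt N2243 (iv D2533)))
theorem Q2502 : ∀ i, i < 2502 → P i := stepQ 2501 Q2501 (allL N2501 (tt N2360 F11137) (tt N2299 F11138) (tt N2501 F11139) (tt N2759 D2792) (tt N2303 F11140) (tt N2629 (iv F11623)) (tt N2305 F11141) (tt N2246 (iv D2534)) (tt N2760 D2793))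
theorem Q2503 : ∀ i, i < 2503 → P i := stepQ 2502 Q2502 (allL N2502 (tt N2323 F11142) (tt N2300 F11143) (tt N2251 F11144) (tt N2761 D2794) (tt N2249 F11145) (tt N2714 (iv F12011)) (tt N2248 F11146) (tt N2247 (iv D2535)) (tt N2762 D2795))
theorem Q2504 : ∀ i, i < 2504 → P i := stepQ 2503 Q2503 (allL N2503 (tt N2321 F11147) (tt N2301 F11148) (tt N2763 D2796) (tt N2248 (iv D2536)) (tt N2310 F11149) (tt N2630 (iv F11627)) (tt N2761 (iv F12199)) (tt N2759 (iv F12189)) (tt N2764 D2797))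
theorem Q2505 : ∀ i, i < 2505 → P i := stepQ 2504 Q2504 (allL N2504 (tt N2326 F11150) (tt N2302 F11151) (tt N2253 F11152) (tt N2764 (iv F12212)) (tt N2250 F11153) (tt N2631 (iv F11633)) (tt N2762 (iv F12205)) (tt N2279 F11154) (tt N2248 (iv D2537)))
theorem Q2506 : ∀ i, i < 2506 → P i := stepQ 2505 Q2505 (allL N2505 (tt N2324 F11155) (tt N2304 F11156) (tt N2254 F11157) (tt N2312 F11158) (tt N2762 (iv F12204)) (tt N2505 F11159) (tt N2250 F11160) (tt N2281 F11161) (tt N2249 (iv D2538)))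
theorem Q2507 : ∀ i, i < 2507 → P i := stepQ 2506 Q2506 (allL N2506 (tt N2344 F11162) (tt N2255 F11163) (tt N2701 (iv F11954)) (tt N2251 (iv D2539)) (tt N2338 F11164) (tt N2685 (iv F11872)) (tt N2252 F11165) (tt N2506 F11166) (tt N2765 D2798))
theorem Q2508 : ∀ i, i < 2508 → P i := stepQ 2507 Q2507 (allL N2507 (tt N2353 F11167) (tt N2256 F11168) (tt N2762 (iv F12203)) (tt N2765 (iv F12216)) (tt N2254 F11169) (tt N2753 (iv F12156)) (tt N2253 F11170) (tt N2288 F11171) (tt N2251 (iv D2540)))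
theorem Q2509 : ∀ i, i < 2509 → P i := stepQ 2508 Q2508 (allL N2508 (tt N2347 F11172) (tt N2766 D2799) (tt N2252 (iv D2541)) (tt N2763 (iv F12208)) (tt N2340 F11173) (tt N2635 (iv F11658)) (tt N2701 (iv F11955)) (tt N2508 F11174) (tt N2767 D2800))
theorem Q2510 : ∀ i, i < 2510 → P i := stepQ 2509 Q2509 (allL N2509 (tt N2350 F11175) (tt N2258 F11176) (tt N2767 (iv F12224)) (tt N2253 F11177) (tt N2341 F11178) (tt N2636 (iv F11665)) (tt N2765 (iv F12218)) (tt N2768 D2801) (tt N2252 (iv D2542)))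
theorem Q2511 : ∀ i, i < 2511 → P i := stepQ 2510 Q2510 (allL N2510 (tt N2510 F11179) (tt N2765 (iv F12215)) (tt N2684 (iv F11867)) (tt N2256 F11180) (tt N2755 (iv F12167)) (tt N2686 (iv F11879)) (tt N2258 F11181) (tt N2769 D2802) (tt N2255 (iv D2543)))
theorem Q2512 : ∀ i, i < 2512 → P i := stepQ 2511 Q2511 (allL N2511 (tt N2770 D2803) (tt N2257 (iv D2544)) (tt N2766 (iv F12219)) (tt N2286 F11182) (tt N2756 (iv F12171)) (tt N2287 F11183) (tt N2677 (iv F11843)) (tt N2511 F11184) (tt N2771 D2804))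
theorem Q2513 : ∀ i, i < 2513 → P i := stepQ 2512 Q2512 (allL N2512 (tt N2512 F11185) (tt N2771 (iv F12239)) (tt N2258 F11186) (tt N2291 F11187) (tt N2757 (iv F12177)) (tt N2292 F11188) (tt N2684 (iv F11870)) (tt N2772 D2805) (tt N2257 (iv D2545)))
theorem Q2514 : ∀ i, i < 2514 → P i := stepQ 2513 Q2513 (allL N2513 (tt N2513 F11189) (tt N2768 (iv F12227)) (tt N2772 (iv F12243)) (tt N2295 F11190) (tt N2758 (iv F12182)) (tt N2637 (iv F11671)) (tt N2769 (iv F12233)) (tt N2258 (iv D2546)) (tt N2513 F11191))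
theorem Q2515 : ∀ i, i < 2515 → P i := stepQ 2514 Q2514 (allL N2514 (tt N2305 F11192) (tt N2264 F11193) (tt N2514 F11194) (tt N2773 D2806) (tt N2260 F11195) (tt N2639 (iv F11685)) (tt N2360 F11196) (tt N2259 (iv D2547)) (tt N2774 D2807))
theorem Q2516 : ∀ i, i < 2516 → P i := stepQ 2515 Q2515 (allL N2515 (tt N2306 F11197) (tt N2267 F11198) (tt N2515 F11199) (tt N2297 F11200) (tt N2774 (iv F12254)) (tt N2261 F11201) (tt N2361 F11202) (tt N2283 F11203) (tt N2260 (iv D2548)))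
theorem Q2517 : ∀ i, i < 2517 → P i := stepQ 2516 Q2516 (allL N2516 (tt N2275 F11204) (tt N2323 F11205) (tt N2516 F11206) (tt N2775 D2808) (tt N2280 F11207) (tt N2646 (iv F11721)) (tt N2282 F11208) (tt N2262 (iv D2549)) (tt N2776 D2809))
theorem Q2518 : ∀ i, i < 2518 → P i := stepQ 2517 Q2517 (allL N2517 (tt N2276 F11209) (tt N2362 F11210) (tt N2269 F11211) (tt N2359 F11212) (tt N2517 F11213) (tt N2263 (iv D2550)) (tt N2647 (iv F11727)) (tt N2777 D2810) (tt N2363 F11214))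
theorem Q2519 : ∀ i, i < 2519 → P i := stepQ 2518 Q2518 (allL N2518 (tt N2277 F11215) (tt N2360 F11216) (tt N2270 F11217) (tt N2778 D2811) (tt N2265 F11218) (tt N2777 (iv F12272)) (tt N2264 F11219) (tt N2263 (iv D2551)) (tt N2779 D2812))
theorem Q2520 : ∀ i, i < 2520 → P i := stepQ 2519 Q2519 (allL N2519 (tt N2278 F11220) (tt N2773 (iv F12247)) (tt N2780 D2813) (tt N2264 (iv D2552)) (tt N2781 D2814) (tt N2649 (iv F11734)) (tt N2778 (iv F12276)) (tt N2775 (iv F12261)) (tt N2782 D2815))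
theorem Q2521 : ∀ i, i < 2521 → P i := stepQ 2520 Q2520 (allL N2520 (tt N2279 F11221) (tt N2774 (iv F12252)) (tt N2272 F11222) (tt N2782 (iv F12292)) (tt N2267 F11223) (tt N2650 (iv F11738)) (tt N2779 (iv F12282)) (tt N2326 F11224) (tt N2264 (iv D2553)))
theorem Q2522 : ∀ i, i < 2522 → P i := stepQ 2521 Q2521 (allL N2521 (tt N2281 F11225) (tt N2361 F11226) (tt N2273 F11227) (tt N2358 F11228) (tt N2779 (iv F12281)) (tt N2521 F11229) (tt N2267 F11230) (tt N2324 F11231) (tt N2265 (iv D2554)))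
theorem Q2523 : ∀ i, i < 2523 → P i := stepQ 2522 Q2522 (allL N2522 (tt N2282 F11232) (tt N2296 F11233) (tt N2522 F11234) (tt N2781 (iv F12288)) (tt N2266 (iv D2555)) (tt N2697 (iv F11934)) (tt N2275 F11235) (tt N2274 F11236) (tt N2783 D2816))
theorem Q2524 : ∀ i, i < 2524 → P i := stepQ 2523 Q2523 (allL N2523 (tt N2283 F11237) (tt N2297 F11238) (tt N2523 F11239) (tt N2267 F11240) (tt N2783 (iv F12296)) (tt N2268 F11241) (tt N2358 F11242) (tt N2306 F11243) (tt N2266 (iv D2556)))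
theorem Q2525 : ∀ i, i < 2525 → P i := stepQ 2524 Q2524 (allL N2524 (tt N2286 F11244) (tt N2524 F11245) (tt N2777 (iv F12270)) (tt N2770 (iv F12236)) (tt N2524 F11246) (tt N2270 F11247) (tt N2657 (iv F11770)) (tt N2269 (iv D2557)) (tt N2784 D2817))
theorem Q2526 : ∀ i, i < 2526 → P i := stepQ 2525 Q2525 (allL N2525 (tt N2287 F11248) (tt N2525 F11249) (tt N2785 D2818) (tt N2270 (iv D2558)) (tt N2525 F11250) (tt N2770 (iv F12237)) (tt N2271 F11251) (tt N2525 F11252) (tt N2786 D2819))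
theorem Q2527 : ∀ i, i < 2527 → P i := stepQ 2526 Q2526 (allL N2526 (tt N2288 F11253) (tt N2526 F11254) (tt N2779 (iv F12280)) (tt N2786 (iv F12310)) (tt N2273 F11255) (tt N2784 (iv F12302)) (tt N2272 F11256) (tt N2353 F11257) (tt N2270 (iv D2559)))
theorem Q2528 : ∀ i, i < 2528 → P i := stepQ 2527 Q2527 (allL N2527 (tt N2289 F11258) (tt N2743 (iv F12114)) (tt N2271 (iv D2560)) (tt N2780 (iv F12285)) (tt N2527 F11259) (tt N2659 (iv F11778)) (tt N2785 (iv F12306)) (tt N2527 F11260) (tt N2787 D2820))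
theorem Q2529 : ∀ i, i < 2529 → P i := stepQ 2528 Q2528 (allL N2528 (tt N2290 F11261) (tt N2528 F11262) (tt N2787 (iv F12314)) (tt N2272 F11263) (tt N2528 F11264) (tt N2660 (iv F11785)) (tt N2786 (iv F12312)) (tt N2788 D2821) (tt N2271 (iv D2561)))
theorem Q2530 : ∀ i, i < 2530 → P i := stepQ 2529 Q2529 (allL N2529 (tt N2775 (iv F12257)) (tt N2316 F11265) (tt N2789 D2822) (tt N2275 (iv D2562)) (tt N2778 (iv F12275)) (tt N2662 (iv F11792)) (tt N2781 (iv F12289)) (tt N2278 F11266) (tt N2790 D2823))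
theorem Q2531 : ∀ i, i < 2531 → P i := stepQ 2530 Q2530 (allL N2530 (tt N2776 (iv F12262)) (tt N2317 F11267) (tt N2530 F11268) (tt N2790 (iv F12324)) (tt N2358 F11269) (tt N2663 (iv F11797)) (tt N2783 (iv F12297)) (tt N2760 (iv F12195)) (tt N2275 (iv D2563)))
theorem Q2532 : ∀ i, i < 2532 → P i := stepQ 2531 Q2531 (allL N2531 (tt N2777 (iv F12268)) (tt N2308 F11270) (tt N2286 F11271) (tt N2791 D2824) (tt N2531 F11272) (tt N2277 F11273) (tt N2664 (iv F11802)) (tt N2276 (iv D2564)) (tt N2792 D2825))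
theorem Q2533 : ∀ i, i < 2533 → P i := stepQ 2532 Q2532 (allL N2532 (tt N2778 (iv F12273)) (tt N2318 F11274) (tt N2793 D2826) (tt N2277 (iv D2565)) (tt N2775 (iv F12259)) (tt N2791 (iv F12326)) (tt N2278 F11275) (tt N2781 (iv F12290)) (tt N2794 D2827))
theorem Q2534 : ∀ i, i < 2534 → P i := stepQ 2533 Q2533 (allL N2533 (tt N2779 (iv F12278)) (tt N2319 F11276) (tt N2288 F11277) (tt N2794 (iv F12334)) (tt N2281 F11278) (tt N2792 (iv F12330)) (tt N2279 F11279) (tt N2762 (iv F12206)) (tt N2277 (iv D2566)))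
theorem Q2535 : ∀ i, i < 2535 → P i := stepQ 2534 Q2534 (allL N2534 (tt N2780 (iv F12284)) (tt N2795 D2828) (tt N2278 (iv D2567)) (tt N2289 F11280) (tt N2796 D2829) (tt N2667 (iv F11811)) (tt N2793 (iv F12332)) (tt N2789 (iv F12322)) (tt N2797 D2830))
theorem Q2536 : ∀ i, i < 2536 → P i := stepQ 2535 Q2535 (allL N2535 (tt N2781 (iv F12286)) (tt N2321 F11281) (tt N2796 (iv F12338)) (tt N2282 F11282) (tt N2278 (iv D2568)) (tt N2798 D2831) (tt N2775 (iv F12260)) (tt N2778 (iv F12277)) (tt N2799 D2832))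
theorem Q2537 : ∀ i, i < 2537 → P i := stepQ 2536 Q2536 (allL N2536 (tt N2782 (iv F12291)) (tt N2322 F11283) (tt N2797 (iv F12340)) (tt N2279 F11284) (tt N2799 (iv F12346)) (tt N2669 (iv F11816)) (tt N2794 (iv F12335)) (tt N2800 D2833) (tt N2278 (iv D2569)))
theorem Q2538 : ∀ i, i < 2538 → P i := stepQ 2537 Q2537 (allL N2537 (tt N2358 F11285) (tt N2324 F11286) (tt N2537 F11287) (tt N2281 F11288) (tt N2776 (iv F12265)) (tt N2537 F11289) (tt N2283 F11290) (tt N2361 F11291) (tt N2280 (iv D2570)))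
theorem Q2539 : ∀ i, i < 2539 → P i := stepQ 2538 Q2538 (allL N2538 (tt N2697 (iv F11930)) (tt N2325 F11292) (tt N2538 F11293) (tt N2798 (iv F12343)) (tt N2284 F11294) (tt N2282 (iv D2571)) (tt N2801 D2834) (tt N2359 F11295) (tt N2802 D2835))
theorem Q2540 : ∀ i, i < 2540 → P i := stepQ 2539 Q2539 (allL N2539 (tt N2783 (iv F12293)) (tt N2326 F11296) (tt N2539 F11297) (tt N2799 (iv F12345)) (tt N2283 F11298) (tt N2802 (iv F12356)) (tt N2776 (iv F12266)) (tt N2774 (iv F12256)) (tt N2282 (iv D2572)))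
theorem Q2541 : ∀ i, i < 2541 → P i := stepQ 2540 Q2540 (allL N2540 (tt N2342 F11299) (tt N2327 F11300) (tt N2540 F11301) (tt N2674 (iv F11831)) (tt N2801 (iv F12351)) (tt N2540 F11302) (tt N2284 (iv D2573)) (tt N2357 F11303) (tt N2803 D2836))
theorem Q2542 : ∀ i, i < 2542 → P i := stepQ 2541 Q2541 (allL N2541 (tt N2698 (iv F11936)) (tt N2328 F11304) (tt N2541 F11305) (tt N2675 (iv F11835)) (tt N2802 (iv F12355)) (tt N2285 F11306) (tt N2803 (iv F12361)) (tt N2642 (iv F11699)) (tt N2284 (iv D2574)))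
theorem Q2543 : ∀ i, i < 2543 → P i := stepQ 2542 Q2542 (allL N2542 (tt N2784 (iv F12299)) (tt N2291 F11307) (tt N2792 (iv F12328)) (tt N2771 (iv F12240)) (tt N2542 F11308) (tt N2288 F11309) (tt N2678 (iv F11848)) (tt N2753 (iv F12158)) (tt N2286 (iv D2575)))
theorem Q2544 : ∀ i, i < 2544 → P i := stepQ 2543 Q2543 (allL N2543 (tt N2785 (iv F12304)) (tt N2635 (iv F11656)) (tt N2287 (iv D2576)) (tt N2793 (iv F12331)) (tt N2543 F11310) (tt N2766 (iv F12221)) (tt N2289 F11311) (tt N2543 F11312) (tt N2804 D2837))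
theorem Q2545 : ∀ i, i < 2545 → P i := stepQ 2544 Q2544 (allL N2544 (tt N2786 (iv F12308)) (tt N2292 F11313) (tt N2804 (iv F12362)) (tt N2288 F11314) (tt N2544 F11315) (tt N2771 (iv F12241)) (tt N2290 F11316) (tt N2805 D2838) (tt N2287 (iv D2577)))
theorem Q2546 : ∀ i, i < 2546 → P i := stepQ 2545 Q2545 (allL N2545 (tt N2806 D2839) (tt N2289 (iv D2578)) (tt N2293 F11317) (tt N2795 (iv F12337)) (tt N2545 F11318) (tt N2680 (iv F11854)) (tt N2635 (iv F11659)) (tt N2545 F11319) (tt N2807 D2840))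
theorem Q2547 : ∀ i, i < 2547 → P i := stepQ 2546 Q2546 (allL N2546 (tt N2787 (iv F12313)) (tt N2807 (iv F12373)) (tt N2290 F11320) (tt N2797 (iv F12341)) (tt N2546 F11321) (tt N2681 (iv F11857)) (tt N2804 (iv F12364)) (tt N2808 D2841) (tt N2289 (iv D2579)))
theorem Q2548 : ∀ i, i < 2548 → P i := stepQ 2547 Q2547 (allL N2547 (tt N2788 (iv F12316)) (tt N2295 F11322) (tt N2808 (iv F12376)) (tt N2768 (iv F12228)) (tt N2547 F11323) (tt N2682 (iv F11859)) (tt N2805 (iv F12367)) (tt N2290 (iv D2580)) (tt N2547 F11324))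
theorem Q2549 : ∀ i, i < 2549 → P i := stepQ 2548 Q2548 (allL N2548 (tt N2548 F11325) (tt N2805 (iv F12365)) (tt N2637 (iv F11668)) (tt N2769 (iv F12232)) (tt N2548 F11326) (tt N2772 (iv F12244)) (tt N2295 F11327) (tt N2292 (iv D2581)) (tt N2548 F11328))
theorem Q2550 : ∀ i, i < 2550 → P i := stepQ 2549 Q2549 (allL N2549 (tt N2293 (iv D2582)) (tt N2549 F11329) (tt N2806 (iv F12369)) (tt N2331 F11330) (tt N2549 F11331) (tt N2688 (iv F11887)) (tt N2349 F11332) (tt N2549 F11333) (tt N2809 D2842))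
theorem Q2551 : ∀ i, i < 2551 → P i := stepQ 2550 Q2550 (allL N2550 (tt N2809 (iv F12379)) (tt N2294 F11334) (tt N2807 (iv F12374)) (tt N2332 F11335) (tt N2550 F11336) (tt N2689 (iv F11892)) (tt N2636 (iv F11666)) (tt N2810 D2843) (tt N2293 (iv D2583)))
theorem Q2552 : ∀ i, i < 2552 → P i := stepQ 2551 Q2551 (allL N2551 (tt N2551 F11337) (tt N2810 (iv F12384)) (tt N2295 F11338) (tt N2687 (iv F11882)) (tt N2551 F11339) (tt N2690 (iv F11895)) (tt N2637 (iv F11672)) (tt N2294 (iv D2584)) (tt N2551 F11340))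
theorem Q2553 : ∀ i, i < 2553 → P i := stepQ 2552 Q2552 (allL N2552 (tt N2301 F11341) (tt N2781 (iv F12287)) (tt N2704 (iv F11967)) (tt N2296 (iv D2585)) (tt N2773 (iv F12248)) (tt N2699 (iv F11944)) (tt N2316 F11342) (tt N2318 F11343) (tt N2811 D2844))
theorem Q2554 : ∀ i, i < 2554 → P i := stepQ 2553 Q2553 (allL N2553 (tt N2302 F11344) (tt N2783 (iv F12294)) (tt N2298 F11345) (tt N2811 (iv F12388)) (tt N2297 F11346) (tt N2700 (iv F11950)) (tt N2317 F11347) (tt N2311 F11348) (tt N2296 (iv D2586)))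
theorem Q2555 : ∀ i, i < 2555 → P i := stepQ 2554 Q2554 (allL N2554 (tt N2318 F11349) (tt N2759 (iv F12186)) (tt N2699 (iv F11943)) (tt N2299 (iv D2587)) (tt N2761 (iv F12198)) (tt N2704 (iv F11968)) (tt N2310 F11350) (tt N2301 F11351) (tt N2812 D2845))
theorem Q2556 : ∀ i, i < 2556 → P i := stepQ 2555 Q2555 (allL N2555 (tt N2319 F11352) (tt N2760 (iv F12191)) (tt N2313 F11353) (tt N2812 (iv F12391)) (tt N2312 F11354) (tt N2705 (iv F11974)) (tt N2311 F11355) (tt N2317 F11356) (tt N2299 (iv D2588)))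
theorem Q2557 : ∀ i, i < 2557 → P i := stepQ 2556 Q2556 (allL N2556 (tt N2316 F11357) (tt N2761 (iv F12197)) (tt N2733 (iv F12088)) (tt N2300 (iv D2589)) (tt N2759 (iv F12187)) (tt N2719 (iv F12031)) (tt N2301 F11358) (tt N2310 F11359) (tt N2813 D2846))
theorem Q2558 : ∀ i, i < 2558 → P i := stepQ 2557 Q2557 (allL N2557 (tt N2317 F11360) (tt N2762 (iv F12202)) (tt N2307 F11361) (tt N2813 (iv F12394)) (tt N2304 F11362) (tt N2720 (iv F12037)) (tt N2302 F11363) (tt N2319 F11364) (tt N2300 (iv D2590)))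
theorem Q2559 : ∀ i, i < 2559 → P i := stepQ 2558 Q2558 (allL N2558 (tt N2704 (iv F11966)) (tt N2791 (iv F12325)) (tt N2301 (iv D2591)) (tt N2308 F11365) (tt N2814 D2847) (tt N2318 F11366) (tt N2733 (iv F12090)) (tt N2699 (iv F11946)) (tt N2815 D2848))
theorem Q2560 : ∀ i, i < 2560 → P i := stepQ 2559 Q2559 (allL N2559 (tt N2773 (iv F12246)) (tt N2310 F11367) (tt N2814 (iv F12396)) (tt N2305 F11368) (tt N2301 (iv D2592)) (tt N2716 (iv F12019)) (tt N2759 (iv F12188)) (tt N2761 (iv F12200)) (tt N2816 D2849))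
theorem Q2561 : ∀ i, i < 2561 → P i := stepQ 2560 Q2560 (allL N2560 (tt N2811 (iv F12387)) (tt N2764 (iv F12211)) (tt N2815 (iv F12398)) (tt N2302 F11369) (tt N2816 (iv F12403)) (tt N2707 (iv F11982)) (tt N2813 (iv F12395)) (tt N2817 D2850) (tt N2301 (iv D2593)))
theorem Q2562 : ∀ i, i < 2562 → P i := stepQ 2561 Q2561 (allL N2561 (tt N2361 F11370) (tt N2312 F11371) (tt N2561 F11372) (tt N2304 F11373) (tt N2760 (iv F12193)) (tt N2561 F11374) (tt N2306 F11375) (tt N2358 F11376) (tt N2303 (iv D2594)))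
theorem Q2563 : ∀ i, i < 2563 → P i := stepQ 2562 Q2562 (allL N2562 (tt N2774 (iv F12251)) (tt N2311 F11377) (tt N2562 F11378) (tt N2816 (iv F12402)) (tt N2306 F11379) (tt N2717 (iv F12023)) (tt N2760 (iv F12194)) (tt N2783 (iv F12298)) (tt N2305 (iv D2595)))
theorem Q2564 : ∀ i, i < 2564 → P i := stepQ 2563 Q2563 (allL N2563 (tt N2705 (iv F11971)) (tt N2792 (iv F12327)) (tt N2309 F11380) (tt N2815 (iv F12399)) (tt N2563 F11381) (tt N2319 F11382) (tt N2734 (iv F12096)) (tt N2720 (iv F12039)) (tt N2308 (iv D2596)))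
theorem Q2565 : ∀ i, i < 2565 → P i := stepQ 2564 Q2564 (allL N2564 (tt N2320 F11383) (tt N2818 D2851) (tt N2310 (iv D2597)) (tt N2314 F11384) (tt N2763 (iv F12209)) (tt N2723 (iv F12053)) (tt N2699 (iv F11945)) (tt N2733 (iv F12091)) (tt N2819 D2852))
theorem Q2566 : ∀ i, i < 2566 → P i := stepQ 2565 Q2565 (allL N2565 (tt N2322 F11385) (tt N2816 (iv F12401)) (tt N2819 (iv F12407)) (tt N2311 F11386) (tt N2764 (iv F12213)) (tt N2725 (iv F12060)) (tt N2812 (iv F12392)) (tt N2820 D2853) (tt N2310 (iv D2598)))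
theorem Q2567 : ∀ i, i < 2567 → P i := stepQ 2566 Q2566 (allL N2566 (tt N2801 (iv F12348)) (tt N2314 (iv D2599)) (tt N2566 F11387) (tt N2818 (iv F12405)) (tt N2342 F11388) (tt N2661 (iv F11789)) (tt N2697 (iv F11935)) (tt N2333 F11389) (tt N2821 D2854))
theorem Q2568 : ∀ i, i < 2568 → P i := stepQ 2567 Q2567 (allL N2567 (tt N2330 F11390) (tt N2821 (iv F12410)) (tt N2315 F11391) (tt N2819 (iv F12408)) (tt N2343 F11392) (tt N2730 (iv F12080)) (tt N2700 (iv F11951)) (tt N2722 (iv F12050)) (tt N2314 (iv D2600)))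
theorem Q2569 : ∀ i, i < 2569 → P i := stepQ 2568 Q2568 (allL N2568 (tt N2733 (iv F12087)) (tt N2822 D2855) (tt N2316 (iv D2601)) (tt N2334 F11393) (tt N2823 D2856) (tt N2721 (iv F12042)) (tt N2704 (iv F11969)) (tt N2320 F11394) (tt N2824 D2857))
theorem Q2570 : ∀ i, i < 2570 → P i := stepQ 2569 Q2569 (allL N2569 (tt N2759 (iv F12185)) (tt N2778 (iv F12274)) (tt N2823 (iv F12415)) (tt N2360 F11395) (tt N2316 (iv D2602)) (tt N2825 D2858) (tt N2773 (iv F12249)) (tt N2321 F11396) (tt N2826 D2859))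
theorem Q2571 : ∀ i, i < 2571 → P i := stepQ 2570 Q2570 (allL N2570 (tt N2813 (iv F12393)) (tt N2790 (iv F12323)) (tt N2824 (iv F12418)) (tt N2317 F11397) (tt N2826 (iv F12423)) (tt N2732 (iv F12086)) (tt N2811 (iv F12389)) (tt N2827 D2860) (tt N2316 (iv D2603)))
theorem Q2572 : ∀ i, i < 2572 → P i := stepQ 2571 Q2571 (allL N2571 (tt N2761 (iv F12196)) (tt N2775 (iv F12258)) (tt N2706 (iv F11977)) (tt N2323 F11398) (tt N2318 (iv D2604)) (tt N2828 D2861) (tt N2321 F11399) (tt N2773 (iv F12250)) (tt N2829 D2862))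
theorem Q2573 : ∀ i, i < 2573 → P i := stepQ 2572 Q2572 (allL N2572 (tt N2812 (iv F12390)) (tt N2794 (iv F12333)) (tt N2707 (iv F11980)) (tt N2319 F11400) (tt N2829 (iv F12427)) (tt N2815 (iv F12400)) (tt N2322 F11401) (tt N2830 D2863) (tt N2318 (iv D2605)))
theorem Q2574 : ∀ i, i < 2574 → P i := stepQ 2573 Q2573 (allL N2573 (tt N2831 D2864) (tt N2320 (iv D2606)) (tt N2795 (iv F12336)) (tt N2329 F11402) (tt N2832 D2865) (tt N2737 (iv F12103)) (tt N2630 (iv F11628)) (tt N2822 (iv F12414)) (tt N2833 D2866))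
theorem Q2575 : ∀ i, i < 2575 → P i := stepQ 2574 Q2574 (allL N2574 (tt N2763 (iv F12207)) (tt N2832 (iv F12432)) (tt N2321 F11403) (tt N2347 F11404) (tt N2320 (iv D2607)) (tt N2834 D2867) (tt N2706 (iv F11979)) (tt N2823 (iv F12417)) (tt N2835 D2868))
theorem Q2576 : ∀ i, i < 2576 → P i := stepQ 2575 Q2575 (allL N2575 (tt N2819 (iv F12406)) (tt N2833 (iv F12434)) (tt N2322 F11405) (tt N2330 F11406) (tt N2835 (iv F12440)) (tt N2739 (iv F12108)) (tt N2707 (iv F11983)) (tt N2836 D2869) (tt N2320 (iv D2608)))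
theorem Q2577 : ∀ i, i < 2577 → P i := stepQ 2576 Q2576 (allL N2576 (tt N2630 (iv F11625)) (tt N2798 (iv F12342)) (tt N2834 (iv F12436)) (tt N2325 F11407) (tt N2740 (iv F12110)) (tt N2321 (iv D2609)) (tt N2831 (iv F12431)) (tt N2825 (iv F12421)) (tt N2837 D2870))
theorem Q2578 : ∀ i, i < 2578 → P i := stepQ 2577 Q2577 (allL N2577 (tt N2764 (iv F12210)) (tt N2799 (iv F12344)) (tt N2835 (iv F12438)) (tt N2326 F11408) (tt N2322 F11409) (tt N2837 (iv F12443)) (tt N2829 (iv F12428)) (tt N2838 D2871) (tt N2321 (iv D2610)))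
theorem Q2579 : ∀ i, i < 2579 → P i := stepQ 2578 Q2578 (allL N2578 (tt N2820 (iv F12409)) (tt N2800 (iv F12347)) (tt N2836 (iv F12441)) (tt N2817 (iv F12404)) (tt N2838 (iv F12444)) (tt N2742 (iv F12113)) (tt N2830 (iv F12429)) (tt N2322 (iv D2611)) (tt N2827 (iv F12424)))
theorem Q2580 : ∀ i, i < 2580 → P i := stepQ 2579 Q2579 (allL N2579 (tt N2714 (iv F12007)) (tt N2646 (iv F11718)) (tt N2352 F11410) (tt N2828 (iv F12425)) (tt N2579 F11411) (tt N2323 (iv D2612)) (tt N2751 (iv F12147)) (tt N2363 F11412) (tt N2839 D2872))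
theorem Q2581 : ∀ i, i < 2581 → P i := stepQ 2580 Q2580 (allL N2580 (tt N2762 (iv F12201)) (tt N2776 (iv F12263)) (tt N2353 F11413) (tt N2829 (iv F12426)) (tt N2324 F11414) (tt N2839 (iv F12447)) (tt N2326 F11415) (tt N2779 (iv F12283)) (tt N2323 (iv D2613)))
theorem Q2582 : ∀ i, i < 2582 → P i := stepQ 2581 Q2581 (allL N2581 (tt N2329 F11416) (tt N2801 (iv F12349)) (tt N2331 F11417) (tt N2831 (iv F12430)) (tt N2327 F11418) (tt N2751 (iv F12146)) (tt N2325 (iv D2614)) (tt N2337 F11419) (tt N2840 D2873))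
theorem Q2583 : ∀ i, i < 2583 → P i := stepQ 2582 Q2582 (allL N2582 (tt N2631 (iv F11629)) (tt N2802 (iv F12353)) (tt N2354 F11420) (tt N2837 (iv F12442)) (tt N2328 F11421) (tt N2326 F11422) (tt N2840 (iv F12451)) (tt N2650 (iv F11739)) (tt N2325 (iv D2615)))
theorem Q2584 : ∀ i, i < 2584 → P i := stepQ 2583 Q2583 (allL N2583 (tt N2356 F11423) (tt N2803 (iv F12358)) (tt N2355 F11424) (tt N2749 (iv F12138)) (tt N2840 (iv F12450)) (tt N2583 F11425) (tt N2328 F11426) (tt N2651 (iv F11744)) (tt N2327 (iv D2616)))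
theorem Q2585 : ∀ i, i < 2585 → P i := stepQ 2584 Q2584 (allL N2584 (tt N2840 (iv F12448)) (tt N2330 F11427) (tt N2332 F11428) (tt N2833 (iv F12435)) (tt N2356 F11429) (tt N2752 (iv F12152)) (tt N2631 (iv F11634)) (tt N2666 (iv F11809)) (tt N2329 (iv D2617)))
theorem Q2586 : ∀ i, i < 2586 → P i := stepQ 2585 Q2585 (allL N2585 (tt N2332 F11430) (tt N2585 F11431) (tt N2840 (iv F12449)) (tt N2809 (iv F12381)) (tt N2355 F11432) (tt N2754 (iv F12162)) (tt N2354 F11433) (tt N2658 (iv F11775)) (tt N2331 (iv D2618)))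
theorem Q2587 : ∀ i, i < 2587 → P i := stepQ 2586 Q2586 (allL N2586 (tt N2333 (iv D2619)) (tt N2337 F11434) (tt N2586 F11435) (tt N2647 (iv F11725)) (tt N2357 F11436) (tt N2645 (iv F11715)) (tt N2359 F11437) (tt N2801 (iv F12352)) (tt N2638 (iv F11680)))
theorem Q2588 : ∀ i, i < 2588 → P i := stepQ 2587 Q2587 (allL N2587 (tt N2841 D2874) (tt N2334 (iv D2620)) (tt N2587 F11438) (tt N2822 (iv F12413)) (tt N2587 F11439) (tt N2715 (iv F12016)) (tt N2629 (iv F11624)) (tt N2336 F11440) (tt N2842 D2875))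
theorem Q2589 : ∀ i, i < 2589 → P i := stepQ 2588 Q2588 (allL N2588 (tt N2734 (iv F12092)) (tt N2842 (iv F12456)) (tt N2335 F11441) (tt N2824 (iv F12419)) (tt N2588 F11442) (tt N2722 (iv F12048)) (tt N2705 (iv F11975)) (tt N2730 (iv F12082)) (tt N2334 (iv D2621)))
theorem Q2590 : ∀ i, i < 2590 → P i := stepQ 2589 Q2589 (allL N2589 (tt N2336 (iv D2622)) (tt N2647 (iv F11723)) (tt N2589 F11443) (tt N2337 F11444) (tt N2589 F11445) (tt N2638 (iv F11679)) (tt N2362 F11446) (tt N2841 (iv F12455)) (tt N2645 (iv F11716)))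
theorem Q2591 : ∀ i, i < 2591 → P i := stepQ 2590 Q2590 (allL N2590 (tt N2345 F11447) (tt N2755 (iv F12165)) (tt N2702 (iv F11958)) (tt N2339 F11448) (tt N2765 (iv F12217)) (tt N2693 (iv F11912)) (tt N2341 F11449) (tt N2843 D2876) (tt N2338 (iv D2623)))
theorem Q2592 : ∀ i, i < 2592 → P i := stepQ 2591 Q2591 (allL N2591 (tt N2674 (iv F11829)) (tt N2340 (iv D2624)) (tt N2756 (iv F12169)) (tt N2342 F11450) (tt N2766 (iv F12220)) (tt N2591 F11451) (tt N2654 F11756) (tt N2591 F11452) (tt N2844 D2877))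
theorem Q2593 : ∀ i, i < 2593 → P i := stepQ 2592 Q2592 (allL N2592 (tt N2348 F11453) (tt N2844 (iv F12463)) (tt N2341 F11454) (tt N2343 F11455) (tt N2767 (iv F12225)) (tt N2592 F11456) (tt N2702 (iv F11961)) (tt N2845 D2878) (tt N2340 (iv D2625)))
theorem Q2594 : ∀ i, i < 2594 → P i := stepQ 2593 Q2593 (allL N2593 (tt N2351 F11457) (tt N2758 (iv F12180)) (tt N2845 (iv F12467)) (tt N2593 F11458) (tt N2768 (iv F12229)) (tt N2593 F11459) (tt N2843 (iv F12461)) (tt N2341 (iv D2626)) (tt N2593 F11460))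
theorem Q2595 : ∀ i, i < 2595 → P i := stepQ 2594 Q2594 (allL N2594 (tt N2803 (iv F12357)) (tt N2343 F11461) (tt N2594 F11462) (tt N2844 (iv F12464)) (tt N2821 (iv F12412)) (tt N2594 F11463) (tt N2698 (iv F11940)) (tt N2718 (iv F12028)) (tt N2342 (iv D2627)))
theorem Q2596 : ∀ i, i < 2596 → P i := stepQ 2595 Q2595 (allL N2595 (tt N2685 F11875) (tt N2595 F11464) (tt N2708 (iv F11985)) (tt N2352 F11465) (tt N2694 (iv F11917)) (tt N2344 (iv D2628)) (tt N2688 (iv F11888)) (tt N2595 F11466) (tt N2846 D2879))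
theorem Q2597 : ∀ i, i < 2597 → P i := stepQ 2596 Q2596 (allL N2596 (tt N2765 (iv F12214)) (tt N2596 F11467) (tt N2709 (iv F11988)) (tt N2353 F11468) (tt N2345 F11469) (tt N2846 (iv F12472)) (tt N2350 F11470) (tt N2847 D2880) (tt N2344 (iv D2629)))
theorem Q2598 : ∀ i, i < 2598 → P i := stepQ 2597 Q2597 (allL N2597 (tt N2843 (iv F12459)) (tt N2597 F11471) (tt N2710 (iv F11991)) (tt N2597 F11472) (tt N2847 (iv F12474)) (tt N2696 (iv F11927)) (tt N2351 F11473) (tt N2345 (iv D2630)) (tt N2597 F11474))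
theorem Q2599 : ∀ i, i < 2599 → P i := stepQ 2598 Q2598 (allL N2598 (tt N2746 (iv F12126)) (tt N2347 F11475) (tt N2598 F11476) (tt N2832 (iv F12433)) (tt N2346 (iv D2631)) (tt N2848 D2881) (tt N2632 (iv F11640)) (tt N2598 F11477) (tt N2849 D2882))
theorem Q2600 : ∀ i, i < 2600 → P i := stepQ 2599 Q2599 (allL N2599 (tt N2749 (iv F12136)) (tt N2348 F11478) (tt N2599 F11479) (tt N2356 F11480) (tt N2849 (iv F12483)) (tt N2599 F11481) (tt N2633 (iv F11647)) (tt N2850 D2883) (tt N2346 (iv D2632)))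
theorem Q2601 : ∀ i, i < 2601 → P i := stepQ 2600 Q2600 (allL N2600 (tt N2635 (iv F11655)) (tt N2848 (iv F12477)) (tt N2349 F11482) (tt N2834 (iv F12437)) (tt N2600 F11483) (tt N2347 (iv D2633)) (tt N2806 (iv F12371)) (tt N2600 F11484) (tt N2851 D2884))
theorem Q2602 : ∀ i, i < 2602 → P i := stepQ 2601 Q2601 (allL N2601 (tt N2767 (iv F12223)) (tt N2849 (iv F12481)) (tt N2350 F11485) (tt N2835 (iv F12439)) (tt N2348 F11486) (tt N2851 (iv F12490)) (tt N2709 (iv F11990)) (tt N2852 D2885) (tt N2347 (iv D2634)))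
theorem Q2603 : ∀ i, i < 2603 → P i := stepQ 2602 Q2602 (allL N2602 (tt N2845 (iv F12466)) (tt N2850 (iv F12484)) (tt N2351 F11487) (tt N2745 (iv F12122)) (tt N2852 (iv F12492)) (tt N2602 F11488) (tt N2710 (iv F11994)) (tt N2348 (iv D2635)) (tt N2602 F11489))
theorem Q2604 : ∀ i, i < 2604 → P i := stepQ 2603 Q2603 (allL N2603 (tt N2636 (iv F11661)) (tt N2603 F11490) (tt N2851 (iv F12488)) (tt N2354 F11491) (tt N2603 F11492) (tt N2350 F11493) (tt N2809 (iv F12383)) (tt N2853 D2886) (tt N2349 (iv D2636)))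
theorem Q2605 : ∀ i, i < 2605 → P i := stepQ 2604 Q2604 (allL N2604 (tt N2768 (iv F12226)) (tt N2604 F11494) (tt N2852 (iv F12491)) (tt N2788 (iv F12318)) (tt N2351 F11495) (tt N2853 (iv F12496)) (tt N2847 (iv F12475)) (tt N2350 (iv D2637)) (tt N2604 F11496))
theorem Q2606 : ∀ i, i < 2606 → P i := stepQ 2605 Q2605 (allL N2605 (tt N2753 (iv F12153)) (tt N2605 F11497) (tt N2839 (iv F12445)) (tt N2846 (iv F12471)) (tt N2605 F11498) (tt N2353 F11499) (tt N2754 (iv F12163)) (tt N2784 (iv F12303)) (tt N2352 (iv D2638)))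
theorem Q2607 : ∀ i, i < 2607 → P i := stepQ 2606 Q2606 (allL N2606 (tt N2629 (iv F11619)) (tt N2777 (iv F12269)) (tt N2606 F11500) (tt N2825 (iv F12420)) (tt N2606 F11501) (tt N2360 (iv D2639)) (tt N2841 (iv F12454)) (tt N2362 F11502) (tt N2854 D2887))
theorem Q2608 : ∀ i, i < 2608 → P i := stepQ 2607 Q2607 (allL N2607 (tt N2760 (iv F12190)) (tt N2779 (iv F12279)) (tt N2607 F11503) (tt N2826 (iv F12422)) (tt N2361 F11504) (tt N2854 (iv F12500)) (tt N2774 (iv F12255)) (tt N2776 (iv F12267)) (tt N2360 (iv D2640)))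
theorem Q2609 : ∀ i, i < 2609 → P i := stepQ 2608 Q2608 (allL N2608 (tt N2608 F11505) (tt N2366 F11506) (tt N2855 D2888) (tt N2364 (iv D2641)) (tt N2856 D2889) (tt N2378 F11507) (tt N2608 F11508) (tt N2608 F11509) (tt N2857 D2890))
theorem Q2610 : ∀ i, i < 2610 → P i := stepQ 2609 Q2609 (allL N2609 (tt N2609 F11510) (tt N2367 F11511) (tt N2609 F11512) (tt N2857 (iv F12517)) (tt N2609 F11513) (tt N2379 F11514) (tt N2609 F11515) (tt N2609 F11516) (tt N2364 (iv D2642)))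
theorem Q2611 : ∀ i, i < 2611 → P i := stepQ 2610 Q2610 (allL N2610 (tt N2371 F11517) (tt N2378 F11518) (tt N2399 F11519) (tt N2365 (iv D2643)) (tt N2422 F11520) (tt N2366 F11521) (tt N2375 F11522) (tt N2610 F11523) (tt N2858 D2891))
theorem Q2612 : ∀ i, i < 2612 → P i := stepQ 2611 Q2611 (allL N2611 (tt N2372 F11524) (tt N2379 F11525) (tt N2370 F11526) (tt N2858 (iv F12523)) (tt N2377 F11527) (tt N2367 F11528) (tt N2376 F11529) (tt N2611 F11530) (tt N2365 (iv D2644)))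
theorem Q2613 : ∀ i, i < 2613 → P i := stepQ 2612 Q2612 (allL N2612 (tt N2373 F11531) (tt N2856 (iv F12509)) (tt N2401 F11532) (tt N2612 F11533) (tt N2366 (iv D2645)) (tt N2859 D2892) (tt N2612 F11534) (tt N2612 F11535) (tt N2860 D2893))
theorem Q2614 : ∀ i, i < 2614 → P i := stepQ 2613 Q2613 (allL N2613 (tt N2374 F11536) (tt N2857 (iv F12516)) (tt N2402 F11537) (tt N2367 F11538) (tt N2860 (iv F12537)) (tt N2858 (iv F12525)) (tt N2613 F11539) (tt N2861 D2894) (tt N2366 (iv D2646)))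
theorem Q2615 : ∀ i, i < 2615 → P i := stepQ 2614 Q2614 (allL N2614 (tt N2375 F11540) (tt N2614 F11541) (tt N2414 F11542) (tt N2368 (iv D2647)) (tt N2405 F11543) (tt N2614 F11544) (tt N2371 F11545) (tt N2614 F11546) (tt N2862 D2895))
theorem Q2616 : ∀ i, i < 2616 → P i := stepQ 2615 Q2615 (allL N2615 (tt N2376 F11547) (tt N2615 F11548) (tt N2377 F11549) (tt N2862 (iv F12547)) (tt N2370 F11550) (tt N2615 F11551) (tt N2372 F11552) (tt N2615 F11553) (tt N2368 (iv D2648)))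
theorem Q2617 : ∀ i, i < 2617 → P i := stepQ 2616 Q2616 (allL N2616 (tt N2377 F11554) (tt N2616 F11555) (tt N2376 F11556) (tt N2407 F11557) (tt N2372 F11558) (tt N2616 F11559) (tt N2370 F11560) (tt N2616 F11561) (tt N2369 (iv D2649)))
theorem Q2618 : ∀ i, i < 2618 → P i := stepQ 2617 Q2617 (allL N2617 (tt N2422 F11562) (tt N2617 F11563) (tt N2416 F11564) (tt N2404 F11565) (tt N2371 (iv D2650)) (tt N2863 D2896) (tt N2405 F11566) (tt N2617 F11567) (tt N2864 D2897))
theorem Q2619 : ∀ i, i < 2619 → P i := stepQ 2618 Q2618 (allL N2618 (tt N2858 (iv F12520)) (tt N2618 F11568) (tt N2417 F11569) (tt N2372 F11570) (tt N2864 (iv F12562)) (tt N2374 F11571) (tt N2862 (iv F12550)) (tt N2865 D2898) (tt N2371 (iv D2651)))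
theorem Q2620 : ∀ i, i < 2620 → P i := stepQ 2619 Q2619 (allL N2619 (tt N2859 (iv F12527)) (tt N2619 F11572) (tt N2418 F11573) (tt N2619 F11574) (tt N2863 (iv F12555)) (tt N2373 (iv D2652)) (tt N2866 D2899) (tt N2619 F11575) (tt N2867 D2900))
theorem Q2621 : ∀ i, i < 2621 → P i := stepQ 2620 Q2620 (allL N2620 (tt N2860 (iv F12534)) (tt N2620 F11576) (tt N2419 F11577) (tt N2620 F11578) (tt N2374 F11579) (tt N2867 (iv F12579)) (tt N2620 F11580) (tt N2868 D2901) (tt N2373 (iv D2653)))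
theorem Q2622 : ∀ i, i < 2622 → P i := stepQ 2621 Q2621 (allL N2621 (tt N2861 (iv F12539)) (tt N2621 F11581) (tt N2420 F11582) (tt N2621 F11583) (tt N2868 (iv F12582)) (tt N2865 (iv F12567)) (tt N2621 F11584) (tt N2374 (iv D2654)) (tt N2621 F11585))
theorem Q2623 : ∀ i, i < 2623 → P i := stepQ 2622 Q2622 (allL N2622 (tt N2414 F11586) (tt N2869 D2902) (tt N2375 (iv D2655)) (tt N2398 F11587) (tt N2424 F11588) (tt N2622 F11589) (tt N2399 F11590) (tt N2622 F11591) (tt N2870 D2903))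
theorem Q2624 : ∀ i, i < 2624 → P i := stepQ 2623 Q2623 (allL N2623 (tt N2862 (iv F12544)) (tt N2381 F11592) (tt N2870 (iv F12593)) (tt N2376 F11593) (tt N2425 F11594) (tt N2623 F11595) (tt N2858 (iv F12526)) (tt N2871 D2904) (tt N2375 (iv D2656)))
theorem Q2625 : ∀ i, i < 2625 → P i := stepQ 2624 Q2624 (allL N2624 (tt N2624 F11596) (tt N2872 D2905) (tt N2378 (iv D2657)) (tt N2624 F11597) (tt N2428 F11598) (tt N2855 (iv F12504)) (tt N2380 F11599) (tt N2624 F11600) (tt N2873 D2906))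
theorem Q2626 : ∀ i, i < 2626 → P i := stepQ 2625 Q2625 (allL N2625 (tt N2625 F11601) (tt N2858 (iv F12521)) (tt N2873 (iv F12611)) (tt N2379 F11602) (tt N2429 F11603) (tt N2857 (iv F12518)) (tt N2381 F11604) (tt N2874 D2907) (tt N2378 (iv D2658)))
theorem Q2627 : ∀ i, i < 2627 → P i := stepQ 2626 Q2626 (allL N2626 (tt N2875 D2908) (tt N2380 (iv D2659)) (tt N2869 (iv F12586)) (tt N2626 F11605) (tt N2430 F11606) (tt N2626 F11607) (tt N2872 (iv F12607)) (tt N2626 F11608) (tt N2876 D2909))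
theorem Q2628 : ∀ i, i < 2628 → P i := stepQ 2627 Q2627 (allL N2627 (tt N2627 F11609) (tt N2876 (iv F12627)) (tt N2381 F11610) (tt N2627 F11611) (tt N2431 F11612) (tt N2627 F11613) (tt N2873 (iv F12614)) (tt N2877 D2910) (tt N2380 (iv D2660)))
theorem Q2629 : ∀ i, i < 2629 → P i := stepQ 2628 Q2628 (allL N2628 (tt N2628 F11614) (tt N2871 (iv F12598)) (tt N2877 (iv F12632)) (tt N2628 F11615) (tt N2432 F11616) (tt N2628 F11617) (tt N2874 (iv F12618)) (tt N2381 (iv D2661)) (tt N2628 F11618))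
theorem Q2630 : ∀ i, i < 2630 → P i := stepQ 2629 Q2629 (allL N2629 (tt N2606 F11619) (tt N2446 F11620) (tt N2629 F11621) (tt N2878 D2911) (tt N2629 F11622) (tt N2501 F11623) (tt N2587 F11624) (tt N2382 (iv D2662)) (tt N2879 D2912))
theorem Q2631 : ∀ i, i < 2631 → P i := stepQ 2630 Q2630 (allL N2630 (tt N2576 F11625) (tt N2447 F11626) (tt N2880 D2913) (tt N2383 (iv D2663)) (tt N2881 D2914) (tt N2503 F11627) (tt N2573 F11628) (tt N2878 (iv F12640)) (tt N2882 D2915))
theorem Q2632 : ∀ i, i < 2632 → P i := stepQ 2631 Q2631 (allL N2631 (tt N2582 F11629) (tt N2448 F11630) (tt N2388 F11631) (tt N2882 (iv F12660)) (tt N2385 F11632) (tt N2504 F11633) (tt N2584 F11634) (tt N2413 F11635) (tt N2383 (iv D2664)))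
theorem Q2633 : ∀ i, i < 2633 → P i := stepQ 2632 Q2632 (allL N2632 (tt N2481 F11636) (tt N2449 F11637) (tt N2632 F11638) (tt N2881 (iv F12655)) (tt N2384 (iv D2665)) (tt N2465 F11639) (tt N2598 F11640) (tt N2632 F11641) (tt N2883 D2916))
theorem Q2634 : ∀ i, i < 2634 → P i := stepQ 2633 Q2633 (allL N2633 (tt N2485 F11642) (tt N2450 F11643) (tt N2633 F11644) (tt N2385 F11645) (tt N2883 (iv F12666)) (tt N2386 F11646) (tt N2599 F11647) (tt N2884 D2917) (tt N2384 (iv D2666)))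
theorem Q2635 : ∀ i, i < 2635 → P i := stepQ 2634 Q2634 (allL N2634 (tt N2486 F11648) (tt N2453 F11649) (tt N2634 F11650) (tt N2420 F11651) (tt N2467 F11652) (tt N2884 (iv F12673)) (tt N2634 F11653) (tt N2386 (iv D2667)) (tt N2634 F11654))
theorem Q2636 : ∀ i, i < 2636 → P i := stepQ 2635 Q2635 (allL N2635 (tt N2600 F11655) (tt N2543 F11656) (tt N2387 (iv D2668)) (tt N2880 (iv F12650)) (tt N2635 F11657) (tt N2508 F11658) (tt N2545 F11659) (tt N2635 F11660) (tt N2885 D2918))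
theorem Q2637 : ∀ i, i < 2637 → P i := stepQ 2636 Q2636 (allL N2636 (tt N2603 F11661) (tt N2389 F11662) (tt N2885 (iv F12678)) (tt N2388 F11663) (tt N2636 F11664) (tt N2509 F11665) (tt N2550 F11666) (tt N2886 D2919) (tt N2387 (iv D2669)))
theorem Q2638 : ∀ i, i < 2638 → P i := stepQ 2637 Q2637 (allL N2637 (tt N2637 F11667) (tt N2886 (iv F12683)) (tt N2548 F11668) (tt N2432 F11669) (tt N2637 F11670) (tt N2513 F11671) (tt N2551 F11672) (tt N2389 (iv D2670)) (tt N2637 F11673))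
theorem Q2639 : ∀ i, i < 2639 → P i := stepQ 2638 Q2638 (allL N2638 (tt N2455 F11674) (tt N2396 F11675) (tt N2638 F11676) (tt N2496 F11677) (tt N2391 F11678) (tt N2589 F11679) (tt N2390 (iv D2671)) (tt N2887 D2920) (tt N2586 F11680))
theorem Q2640 : ∀ i, i < 2640 → P i := stepQ 2639 Q2639 (allL N2639 (tt N2456 F11681) (tt N2397 F11682) (tt N2639 F11683) (tt N2888 D2921) (tt N2392 F11684) (tt N2514 F11685) (tt N2887 (iv F12694)) (tt N2390 (iv D2672)) (tt N2889 D2922))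
theorem Q2641 : ∀ i, i < 2641 → P i := stepQ 2640 Q2640 (allL N2640 (tt N2457 F11686) (tt N2398 F11687) (tt N2640 F11688) (tt N2869 (iv F12587)) (tt N2887 (iv F12692)) (tt N2640 F11689) (tt N2392 F11690) (tt N2391 (iv D2673)) (tt N2890 D2923))
theorem Q2642 : ∀ i, i < 2642 → P i := stepQ 2641 Q2641 (allL N2641 (tt N2451 F11691) (tt N2399 F11692) (tt N2872 (iv F12603)) (tt N2392 (iv D2674)) (tt N2891 D2924) (tt N2393 F11693) (tt N2869 (iv F12590)) (tt N2641 F11694) (tt N2892 D2925))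
theorem Q2643 : ∀ i, i < 2643 → P i := stepQ 2642 Q2642 (allL N2642 (tt N2458 F11695) (tt N2400 F11696) (tt N2642 F11697) (tt N2892 (iv F12719)) (tt N2889 (iv F12702)) (tt N2394 F11698) (tt N2890 (iv F12709)) (tt N2541 F11699) (tt N2392 (iv D2675)))
theorem Q2644 : ∀ i, i < 2644 → P i := stepQ 2643 Q2643 (allL N2643 (tt N2436 F11700) (tt N2855 (iv F12502)) (tt N2393 (iv D2676)) (tt N2643 F11701) (tt N2434 F11702) (tt N2872 (iv F12606)) (tt N2643 F11703) (tt N2643 F11704) (tt N2893 D2926))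
theorem Q2645 : ∀ i, i < 2645 → P i := stepQ 2644 Q2644 (allL N2644 (tt N2452 F11705) (tt N2402 F11706) (tt N2893 (iv F12722)) (tt N2394 F11707) (tt N2444 F11708) (tt N2892 (iv F12720)) (tt N2644 F11709) (tt N2894 D2927) (tt N2393 (iv D2677)))
theorem Q2646 : ∀ i, i < 2646 → P i := stepQ 2645 Q2645 (allL N2645 (tt N2408 F11710) (tt N2496 F11711) (tt N2645 F11712) (tt N2396 F11713) (tt N2645 F11714) (tt N2586 F11715) (tt N2395 (iv D2678)) (tt N2895 D2928) (tt N2589 F11716))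
theorem Q2647 : ∀ i, i < 2647 → P i := stepQ 2646 Q2646 (allL N2646 (tt N2409 F11717) (tt N2579 F11718) (tt N2646 F11719) (tt N2896 D2929) (tt N2646 F11720) (tt N2516 F11721) (tt N2895 (iv F12737)) (tt N2395 (iv D2679)) (tt N2897 D2930))
theorem Q2648 : ∀ i, i < 2648 → P i := stepQ 2647 Q2647 (allL N2647 (tt N2410 F11722) (tt N2589 F11723) (tt N2403 F11724) (tt N2586 F11725) (tt N2647 F11726) (tt N2396 (iv D2680)) (tt N2517 F11727) (tt N2898 D2931) (tt N2496 F11728))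
theorem Q2649 : ∀ i, i < 2649 → P i := stepQ 2648 Q2648 (allL N2648 (tt N2411 F11729) (tt N2887 (iv F12690)) (tt N2404 F11730) (tt N2899 D2932) (tt N2398 F11731) (tt N2898 (iv F12752)) (tt N2397 F11732) (tt N2396 (iv D2681)) (tt N2900 D2933))
theorem Q2650 : ∀ i, i < 2650 → P i := stepQ 2649 Q2649 (allL N2649 (tt N2412 F11733) (tt N2888 (iv F12696)) (tt N2901 D2934) (tt N2397 (iv D2682)) (tt N2902 D2935) (tt N2519 F11734) (tt N2899 (iv F12757)) (tt N2896 (iv F12741)) (tt N2903 D2936))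
theorem Q2651 : ∀ i, i < 2651 → P i := stepQ 2650 Q2650 (allL N2650 (tt N2413 F11735) (tt N2889 (iv F12700)) (tt N2406 F11736) (tt N2903 (iv F12774)) (tt N2400 F11737) (tt N2520 F11738) (tt N2900 (iv F12761)) (tt N2582 F11739) (tt N2397 (iv D2683)))
theorem Q2652 : ∀ i, i < 2652 → P i := stepQ 2651 Q2651 (allL N2651 (tt N2415 F11740) (tt N2890 (iv F12706)) (tt N2407 F11741) (tt N2870 (iv F12594)) (tt N2900 (iv F12760)) (tt N2651 F11742) (tt N2400 F11743) (tt N2583 F11744) (tt N2398 (iv D2684)))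
theorem Q2653 : ∀ i, i < 2653 → P i := stepQ 2652 Q2652 (allL N2652 (tt N2416 F11745) (tt N2891 (iv F12712)) (tt N2422 F11746) (tt N2902 (iv F12771)) (tt N2399 (iv D2685)) (tt N2904 D2937) (tt N2424 F11747) (tt N2652 F11748) (tt N2905 D2938))
theorem Q2654 : ∀ i, i < 2654 → P i := stepQ 2653 Q2653 (allL N2653 (tt N2417 F11749) (tt N2892 (iv F12718)) (tt N2858 (iv F12522)) (tt N2400 F11750) (tt N2905 (iv F12784)) (tt N2402 F11751) (tt N2870 (iv F12597)) (tt N2906 D2939) (tt N2399 (iv D2686)))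
theorem Q2655 : ∀ i, i < 2655 → P i := stepQ 2654 Q2654 (allL N2654 (tt N2418 F11752) (tt N2442 F11753) (tt N2859 (iv F12529)) (tt N2439 F11754) (tt N2904 (iv F12779)) (tt N2401 (iv D2687)) (tt N2591 (iv F11756)) (tt N2654 F11755) (tt N2907 D2940))
theorem Q2656 : ∀ i, i < 2656 → P i := stepQ 2655 Q2655 (allL N2655 (tt N2419 F11757) (tt N2444 F11758) (tt N2860 (iv F12535)) (tt N2440 F11759) (tt N2402 F11760) (tt N2907 (iv F12793)) (tt N2655 F11761) (tt N2908 D2941) (tt N2401 (iv D2688)))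
theorem Q2657 : ∀ i, i < 2657 → P i := stepQ 2656 Q2656 (allL N2656 (tt N2420 F11762) (tt N2894 (iv F12727)) (tt N2861 (iv F12540)) (tt N2486 F11763) (tt N2908 (iv F12798)) (tt N2906 (iv F12788)) (tt N2656 F11764) (tt N2402 (iv D2689)) (tt N2656 F11765))
theorem Q2658 : ∀ i, i < 2658 → P i := stepQ 2657 Q2657 (allL N2657 (tt N2421 F11766) (tt N2657 F11767) (tt N2898 (iv F12750)) (tt N2863 (iv F12554)) (tt N2657 F11768) (tt N2404 F11769) (tt N2524 F11770) (tt N2403 (iv D2690)) (tt N2909 D2942))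
theorem Q2659 : ∀ i, i < 2659 → P i := stepQ 2658 Q2658 (allL N2658 (tt N2423 F11771) (tt N2658 F11772) (tt N2900 (iv F12759)) (tt N2864 (iv F12561)) (tt N2407 F11773) (tt N2909 (iv F12804)) (tt N2406 F11774) (tt N2585 F11775) (tt N2404 (iv D2691)))
theorem Q2660 : ∀ i, i < 2660 → P i := stepQ 2659 Q2659 (allL N2659 (tt N2424 F11776) (tt N2479 (iv F11781)) (tt N2405 (iv D2692)) (tt N2901 (iv F12764)) (tt N2414 F11777) (tt N2527 F11778) (tt N2416 F11779) (tt N2659 F11780) (tt N2910 D2943))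
theorem Q2661 : ∀ i, i < 2661 → P i := stepQ 2660 Q2660 (allL N2660 (tt N2425 F11782) (tt N2660 F11783) (tt N2910 (iv F12809)) (tt N2406 F11784) (tt N2862 (iv F12548)) (tt N2528 F11785) (tt N2864 (iv F12563)) (tt N2911 D2944) (tt N2405 (iv D2693)))
theorem Q2662 : ∀ i, i < 2662 → P i := stepQ 2661 Q2661 (allL N2661 (tt N2895 (iv F12732)) (tt N2469 F11786) (tt N2661 F11787) (tt N2912 D2945) (tt N2661 F11788) (tt N2566 F11789) (tt N2409 F11790) (tt N2408 (iv D2694)) (tt N2913 D2946))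
theorem Q2663 : ∀ i, i < 2663 → P i := stepQ 2662 Q2662 (allL N2662 (tt N2896 (iv F12738)) (tt N2471 F11791) (tt N2914 D2947) (tt N2409 (iv D2695)) (tt N2915 D2948) (tt N2529 F11792) (tt N2912 (iv F12820)) (tt N2412 F11793) (tt N2916 D2949))
theorem Q2664 : ∀ i, i < 2664 → P i := stepQ 2663 Q2663 (allL N2663 (tt N2897 (iv F12742)) (tt N2472 F11794) (tt N2663 F11795) (tt N2916 (iv F12835)) (tt N2663 F11796) (tt N2530 F11797) (tt N2913 (iv F12826)) (tt N2879 (iv F12647)) (tt N2409 (iv D2696)))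
theorem Q2665 : ∀ i, i < 2665 → P i := stepQ 2664 Q2664 (allL N2664 (tt N2898 (iv F12748)) (tt N2473 F11798) (tt N2421 F11799) (tt N2917 D2950) (tt N2664 F11800) (tt N2411 F11801) (tt N2531 F11802) (tt N2410 (iv D2697)) (tt N2918 D2951))
theorem Q2666 : ∀ i, i < 2666 → P i := stepQ 2665 Q2665 (allL N2665 (tt N2899 (iv F12754)) (tt N2474 F11803) (tt N2902 (iv F12770)) (tt N2411 (iv D2698)) (tt N2901 (iv F12768)) (tt N2917 (iv F12838)) (tt N2412 F11804) (tt N2912 (iv F12821)) (tt N2919 D2952))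
theorem Q2667 : ∀ i, i < 2667 → P i := stepQ 2666 Q2666 (allL N2666 (tt N2900 (iv F12758)) (tt N2475 F11805) (tt N2423 F11806) (tt N2919 (iv F12848)) (tt N2415 F11807) (tt N2918 (iv F12844)) (tt N2413 F11808) (tt N2584 F11809) (tt N2411 (iv D2699)))
theorem Q2668 : ∀ i, i < 2668 → P i := stepQ 2667 Q2667 (allL N2667 (tt N2901 (iv F12763)) (tt N2920 D2953) (tt N2412 (iv D2700)) (tt N2424 F11810) (tt N2899 (iv F12756)) (tt N2534 F11811) (tt N2902 (iv F12772)) (tt N2914 (iv F12830)) (tt N2921 D2954))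
theorem Q2669 : ∀ i, i < 2669 → P i := stepQ 2668 Q2668 (allL N2668 (tt N2902 (iv F12769)) (tt N2477 F11812) (tt N2899 (iv F12755)) (tt N2416 F11813) (tt N2412 (iv D2701)) (tt N2922 D2955) (tt N2901 (iv F12766)) (tt N2915 (iv F12833)) (tt N2923 D2956))
theorem Q2670 : ∀ i, i < 2670 → P i := stepQ 2669 Q2669 (allL N2669 (tt N2903 (iv F12773)) (tt N2478 F11814) (tt N2921 (iv F12853)) (tt N2413 F11815) (tt N2923 (iv F12861)) (tt N2536 F11816) (tt N2919 (iv F12849)) (tt N2924 D2957) (tt N2412 (iv D2702)))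
theorem Q2671 : ∀ i, i < 2671 → P i := stepQ 2670 Q2670 (allL N2670 (tt N2870 (iv F12592)) (tt N2480 F11817) (tt N2862 (iv F12546)) (tt N2415 F11818) (tt N2910 (iv F12810)) (tt N2670 F11819) (tt N2417 F11820) (tt N2925 D2958) (tt N2414 (iv D2703)))
theorem Q2672 : ∀ i, i < 2672 → P i := stepQ 2671 Q2671 (allL N2671 (tt N2904 (iv F12776)) (tt N2481 F11821) (tt N2863 (iv F12553)) (tt N2922 (iv F12857)) (tt N2418 F11822) (tt N2416 (iv D2704)) (tt N2926 D2959) (tt N2671 F11823) (tt N2927 D2960))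
theorem Q2673 : ∀ i, i < 2673 → P i := stepQ 2672 Q2672 (allL N2672 (tt N2905 (iv F12782)) (tt N2482 F11824) (tt N2864 (iv F12560)) (tt N2923 (iv F12860)) (tt N2417 F11825) (tt N2927 (iv F12877)) (tt N2910 (iv F12812)) (tt N2928 D2961) (tt N2416 (iv D2705)))
theorem Q2674 : ∀ i, i < 2674 → P i := stepQ 2673 Q2673 (allL N2673 (tt N2906 (iv F12786)) (tt N2483 F11826) (tt N2865 (iv F12565)) (tt N2884 (iv F12672)) (tt N2928 (iv F12879)) (tt N2420 F11827) (tt N2925 (iv F12867)) (tt N2417 (iv D2706)) (tt N2673 F11828))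
theorem Q2675 : ∀ i, i < 2675 → P i := stepQ 2674 Q2674 (allL N2674 (tt N2591 F11829) (tt N2484 F11830) (tt N2866 (iv F12571)) (tt N2540 F11831) (tt N2926 (iv F12872)) (tt N2674 F11832) (tt N2418 (iv D2707)) (tt N2674 F11833) (tt N2929 D2962))
theorem Q2676 : ∀ i, i < 2676 → P i := stepQ 2675 Q2675 (allL N2675 (tt N2907 (iv F12790)) (tt N2485 F11834) (tt N2867 (iv F12577)) (tt N2541 F11835) (tt N2927 (iv F12876)) (tt N2419 F11836) (tt N2929 (iv F12885)) (tt N2930 D2963) (tt N2418 (iv D2708)))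
theorem Q2677 : ∀ i, i < 2677 → P i := stepQ 2676 Q2676 (allL N2676 (tt N2908 (iv F12795)) (tt N2486 F11837) (tt N2868 (iv F12581)) (tt N2894 (iv F12728)) (tt N2420 F11838) (tt N2930 (iv F12887)) (tt N2676 F11839) (tt N2419 (iv D2709)) (tt N2676 F11840))
theorem Q2678 : ∀ i, i < 2678 → P i := stepQ 2677 Q2677 (allL N2677 (tt N2863 (iv F12551)) (tt N2426 F11841) (tt N2904 (iv F12778)) (tt N2421 (iv D2710)) (tt N2859 (iv F12531)) (tt N2422 F11842) (tt N2511 F11843) (tt N2677 F11844) (tt N2931 D2964))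
theorem Q2679 : ∀ i, i < 2679 → P i := stepQ 2678 Q2678 (allL N2678 (tt N2909 (iv F12801)) (tt N2427 F11845) (tt N2918 (iv F12842)) (tt N2931 (iv F12890)) (tt N2678 F11846) (tt N2423 F11847) (tt N2542 F11848) (tt N2494 F11849) (tt N2421 (iv D2711)))
theorem Q2680 : ∀ i, i < 2680 → P i := stepQ 2679 Q2679 (allL N2679 (tt N2864 (iv F12558)) (tt N2429 F11850) (tt N2905 (iv F12783)) (tt N2423 F11851) (tt N2858 (iv F12524)) (tt N2931 (iv F12891)) (tt N2425 F11852) (tt N2932 D2965) (tt N2422 (iv D2712)))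
theorem Q2681 : ∀ i, i < 2681 → P i := stepQ 2680 Q2680 (allL N2680 (tt N2933 D2966) (tt N2424 (iv D2713)) (tt N2430 F11853) (tt N2920 (iv F12851)) (tt N2869 (iv F12588)) (tt N2545 F11854) (tt N2891 (iv F12715)) (tt N2680 F11855) (tt N2934 D2967))
theorem Q2682 : ∀ i, i < 2682 → P i := stepQ 2681 Q2681 (allL N2681 (tt N2910 (iv F12807)) (tt N2934 (iv F12903)) (tt N2425 F11856) (tt N2921 (iv F12854)) (tt N2870 (iv F12595)) (tt N2546 F11857) (tt N2905 (iv F12785)) (tt N2935 D2968) (tt N2424 (iv D2714)))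
theorem Q2683 : ∀ i, i < 2683 → P i := stepQ 2682 Q2682 (allL N2682 (tt N2911 (iv F12813)) (tt N2432 F11858) (tt N2935 (iv F12906)) (tt N2886 (iv F12684)) (tt N2871 (iv F12600)) (tt N2547 F11859) (tt N2932 (iv F12895)) (tt N2425 (iv D2715)) (tt N2682 F11860))
theorem Q2684 : ∀ i, i < 2684 → P i := stepQ 2683 Q2683 (allL N2683 (tt N2683 F11861) (tt N2859 (iv F12528)) (tt N2497 F11862) (tt N2683 F11863) (tt N2426 (iv D2716)) (tt N2856 (iv F12512)) (tt N2499 F11864) (tt N2683 F11865) (tt N2936 D2969))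
theorem Q2685 : ∀ i, i < 2685 → P i := stepQ 2684 Q2684 (allL N2684 (tt N2684 F11866) (tt N2931 (iv F12889)) (tt N2510 F11867) (tt N2427 F11868) (tt N2936 (iv F12912)) (tt N2429 F11869) (tt N2512 F11870) (tt N2937 D2970) (tt N2426 (iv D2717)))
theorem Q2686 : ∀ i, i < 2686 → P i := stepQ 2685 Q2685 (allL N2685 (tt N2595 (iv F11875)) (tt N2428 (iv D2718)) (tt N2891 (iv F12713)) (tt N2491 F11871) (tt N2872 (iv F12605)) (tt N2506 F11872) (tt N2430 F11873) (tt N2685 F11874) (tt N2938 D2971))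
theorem Q2687 : ∀ i, i < 2687 → P i := stepQ 2686 Q2686 (allL N2686 (tt N2686 F11876) (tt N2938 (iv F12921)) (tt N2429 F11877) (tt N2492 F11878) (tt N2873 (iv F12613)) (tt N2510 F11879) (tt N2431 F11880) (tt N2939 D2972) (tt N2428 (iv D2719)))
theorem Q2688 : ∀ i, i < 2688 → P i := stepQ 2687 Q2687 (allL N2687 (tt N2687 F11881) (tt N2932 (iv F12893)) (tt N2939 (iv F12926)) (tt N2551 F11882) (tt N2874 (iv F12617)) (tt N2937 (iv F12917)) (tt N2432 F11883) (tt N2429 (iv D2720)) (tt N2687 F11884))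
theorem Q2689 : ∀ i, i < 2689 → P i := stepQ 2688 Q2688 (allL N2688 (tt N2430 (iv D2721)) (tt N2688 F11885) (tt N2933 (iv F12898)) (tt N2493 F11886) (tt N2875 (iv F12623)) (tt N2549 F11887) (tt N2595 F11888) (tt N2688 F11889) (tt N2940 D2973))
theorem Q2690 : ∀ i, i < 2690 → P i := stepQ 2689 Q2689 (allL N2689 (tt N2940 (iv F12931)) (tt N2431 F11890) (tt N2934 (iv F12904)) (tt N2494 F11891) (tt N2876 (iv F12629)) (tt N2550 F11892) (tt N2938 (iv F12924)) (tt N2941 D2974) (tt N2430 (iv D2722)))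
theorem Q2691 : ∀ i, i < 2691 → P i := stepQ 2690 Q2690 (allL N2690 (tt N2690 F11893) (tt N2941 (iv F12936)) (tt N2432 F11894) (tt N2937 (iv F12916)) (tt N2877 (iv F12633)) (tt N2551 F11895) (tt N2939 (iv F12929)) (tt N2431 (iv D2723)) (tt N2690 F11896))
theorem Q2692 : ∀ i, i < 2692 → P i := stepQ 2691 Q2691 (allL N2691 (tt N2691 F11897) (tt N2434 F11898) (tt N2856 (iv F12510)) (tt N2433 (iv D2724)) (tt N2855 F12507) (tt N2497 F11899) (tt N2691 F11900) (tt N2691 F11901) (tt N2942 D2975))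
theorem Q2693 : ∀ i, i < 2693 → P i := stepQ 2692 Q2692 (allL N2692 (tt N2692 F11902) (tt N2435 F11903) (tt N2692 F11904) (tt N2942 (iv F12941)) (tt N2692 F11905) (tt N2498 F11906) (tt N2692 F11907) (tt N2692 F11908) (tt N2433 (iv D2725)))
theorem Q2694 : ∀ i, i < 2694 → P i := stepQ 2693 Q2693 (allL N2693 (tt N2437 F11909) (tt N2942 (iv F12940)) (tt N2444 F11910) (tt N2435 F11911) (tt N2893 (iv F12724)) (tt N2590 F11912) (tt N2693 F11913) (tt N2943 D2976) (tt N2434 (iv D2726)))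
theorem Q2695 : ∀ i, i < 2695 → P i := stepQ 2694 Q2694 (allL N2694 (tt N2872 (iv F12609)) (tt N2694 F11914) (tt N2451 F11915) (tt N2694 F11916) (tt N2595 F11917) (tt N2436 (iv D2727)) (tt N2875 (iv F12625)) (tt N2694 F11918) (tt N2944 D2977))
theorem Q2696 : ∀ i, i < 2696 → P i := stepQ 2695 Q2695 (allL N2695 (tt N2893 (iv F12721)) (tt N2695 F11919) (tt N2452 F11920) (tt N2695 F11921) (tt N2437 F11922) (tt N2944 (iv F12954)) (tt N2695 F11923) (tt N2945 D2978) (tt N2436 (iv D2728)))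
theorem Q2697 : ∀ i, i < 2697 → P i := stepQ 2696 Q2696 (allL N2696 (tt N2943 (iv F12944)) (tt N2696 F11924) (tt N2453 F11925) (tt N2696 F11926) (tt N2945 (iv F12957)) (tt N2597 F11927) (tt N2696 F11928) (tt N2437 (iv D2729)) (tt N2696 F11929))
theorem Q2698 : ∀ i, i < 2698 → P i := stepQ 2697 Q2697 (allL N2697 (tt N2538 F11930) (tt N2441 F11931) (tt N2697 F11932) (tt N2946 D2979) (tt N2439 F11933) (tt N2522 F11934) (tt N2566 F11935) (tt N2438 (iv D2730)) (tt N2947 D2980))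
theorem Q2699 : ∀ i, i < 2699 → P i := stepQ 2698 Q2698 (allL N2698 (tt N2541 F11936) (tt N2443 F11937) (tt N2698 F11938) (tt N2907 (iv F12792)) (tt N2947 (iv F12968)) (tt N2440 F11939) (tt N2594 F11940) (tt N2458 F11941) (tt N2439 (iv D2731)))
theorem Q2700 : ∀ i, i < 2700 → P i := stepQ 2699 Q2699 (allL N2699 (tt N2447 F11942) (tt N2946 (iv F12961)) (tt N2554 F11943) (tt N2441 (iv D2732)) (tt N2948 D2981) (tt N2552 F11944) (tt N2564 F11945) (tt N2558 F11946) (tt N2949 D2982))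
theorem Q2701 : ∀ i, i < 2701 → P i := stepQ 2700 Q2700 (allL N2700 (tt N2448 F11947) (tt N2947 (iv F12966)) (tt N2445 F11948) (tt N2949 (iv F12979)) (tt N2443 F11949) (tt N2553 F11950) (tt N2567 F11951) (tt N2462 F11952) (tt N2441 (iv D2733)))
theorem Q2702 : ∀ i, i < 2702 → P i := stepQ 2701 Q2701 (allL N2701 (tt N2449 F11953) (tt N2904 (iv F12777)) (tt N2506 F11954) (tt N2948 (iv F12974)) (tt N2442 (iv D2734)) (tt N2891 (iv F12714)) (tt N2508 F11955) (tt N2701 F11956) (tt N2950 D2983))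
theorem Q2703 : ∀ i, i < 2703 → P i := stepQ 2702 Q2702 (allL N2702 (tt N2450 F11957) (tt N2907 (iv F12791)) (tt N2590 F11958) (tt N2443 F11959) (tt N2950 (iv F12984)) (tt N2444 F11960) (tt N2592 F11961) (tt N2951 D2984) (tt N2442 (iv D2735)))
theorem Q2704 : ∀ i, i < 2704 → P i := stepQ 2703 Q2703 (allL N2703 (tt N2453 F11962) (tt N2908 (iv F12796)) (tt N2943 (iv F12945)) (tt N2467 F11963) (tt N2894 (iv F12729)) (tt N2951 (iv F12989)) (tt N2703 F11964) (tt N2444 (iv D2736)) (tt N2703 F11965))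
theorem Q2705 : ∀ i, i < 2705 → P i := stepQ 2704 Q2704 (allL N2704 (tt N2558 F11966) (tt N2878 (iv F12637)) (tt N2552 F11967) (tt N2446 (iv D2737)) (tt N2952 D2985) (tt N2554 F11968) (tt N2568 F11969) (tt N2447 F11970) (tt N2953 D2986))
theorem Q2706 : ∀ i, i < 2706 → P i := stepQ 2705 Q2705 (allL N2705 (tt N2563 F11971) (tt N2879 (iv F12642)) (tt N2495 F11972) (tt N2953 (iv F12999)) (tt N2705 F11973) (tt N2555 F11974) (tt N2588 F11975) (tt N2472 F11976) (tt N2446 (iv D2738)))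
theorem Q2707 : ∀ i, i < 2707 → P i := stepQ 2706 Q2706 (allL N2706 (tt N2948 (iv F12972)) (tt N2881 (iv F12654)) (tt N2571 F11977) (tt N2449 F11978) (tt N2447 (iv D2739)) (tt N2954 D2987) (tt N2574 F11979) (tt N2952 (iv F12996)) (tt N2955 D2988))
theorem Q2708 : ∀ i, i < 2708 → P i := stepQ 2707 Q2707 (allL N2707 (tt N2949 (iv F12977)) (tt N2882 (iv F12659)) (tt N2572 F11980) (tt N2448 F11981) (tt N2955 (iv F13008)) (tt N2560 F11982) (tt N2575 F11983) (tt N2956 D2989) (tt N2447 (iv D2740)))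
theorem Q2709 : ∀ i, i < 2709 → P i := stepQ 2708 Q2708 (allL N2708 (tt N2891 (iv F12711)) (tt N2465 F11984) (tt N2595 F11985) (tt N2954 (iv F13004)) (tt N2451 F11986) (tt N2449 (iv D2741)) (tt N2933 (iv F12901)) (tt N2708 F11987) (tt N2957 D2990))
theorem Q2710 : ∀ i, i < 2710 → P i := stepQ 2709 Q2709 (allL N2709 (tt N2950 (iv F12982)) (tt N2883 (iv F12664)) (tt N2596 F11988) (tt N2955 (iv F13007)) (tt N2450 F11989) (tt N2957 (iv F13017)) (tt N2601 F11990) (tt N2958 D2991) (tt N2449 (iv D2742)))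
theorem Q2711 : ∀ i, i < 2711 → P i := stepQ 2710 Q2710 (allL N2710 (tt N2951 (iv F12986)) (tt N2884 (iv F12670)) (tt N2597 F11991) (tt N2483 F11992) (tt N2958 (iv F13019)) (tt N2453 F11993) (tt N2602 F11994) (tt N2450 (iv D2743)) (tt N2710 F11995))
theorem Q2712 : ∀ i, i < 2712 → P i := stepQ 2711 Q2711 (allL N2711 (tt N2869 (iv F12585)) (tt N2463 F11996) (tt N2875 (iv F12621)) (tt N2457 F11997) (tt N2933 (iv F12899)) (tt N2711 F11998) (tt N2451 (iv D2744)) (tt N2711 F11999) (tt N2959 D2992))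
theorem Q2713 : ∀ i, i < 2713 → P i := stepQ 2712 Q2712 (allL N2712 (tt N2892 (iv F12717)) (tt N2466 F12000) (tt N2944 (iv F12951)) (tt N2458 F12001) (tt N2957 (iv F13016)) (tt N2452 F12002) (tt N2959 (iv F13025)) (tt N2960 D2993) (tt N2451 (iv D2745)))
theorem Q2714 : ∀ i, i < 2714 → P i := stepQ 2713 Q2713 (allL N2713 (tt N2894 (iv F12726)) (tt N2467 F12003) (tt N2945 (iv F12956)) (tt N2908 (iv F12797)) (tt N2453 F12004) (tt N2960 (iv F13027)) (tt N2713 F12005) (tt N2452 (iv D2746)) (tt N2713 F12006))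
theorem Q2715 : ∀ i, i < 2715 → P i := stepQ 2714 Q2714 (allL N2714 (tt N2579 F12007) (tt N2459 F12008) (tt N2491 F12009) (tt N2961 D2994) (tt N2714 F12010) (tt N2502 F12011) (tt N2489 F12012) (tt N2454 (iv D2747)) (tt N2962 D2995))
theorem Q2716 : ∀ i, i < 2716 → P i := stepQ 2715 Q2715 (allL N2715 (tt N2887 (iv F12689)) (tt N2460 F12013) (tt N2715 F12014) (tt N2963 D2996) (tt N2457 F12015) (tt N2587 F12016) (tt N2456 F12017) (tt N2455 (iv D2748)) (tt N2964 D2997))
theorem Q2717 : ∀ i, i < 2717 → P i := stepQ 2716 Q2716 (allL N2716 (tt N2888 (iv F12695)) (tt N2461 F12018) (tt N2965 D2998) (tt N2456 (iv D2749)) (tt N2954 (iv F13005)) (tt N2559 F12019) (tt N2963 (iv F13043)) (tt N2961 (iv F13033)) (tt N2966 D2999))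
theorem Q2718 : ∀ i, i < 2718 → P i := stepQ 2717 Q2717 (allL N2717 (tt N2889 (iv F12699)) (tt N2462 F12020) (tt N2717 F12021) (tt N2966 (iv F13055)) (tt N2458 F12022) (tt N2562 F12023) (tt N2964 (iv F13049)) (tt N2947 (iv F12971)) (tt N2456 (iv D2750)))
theorem Q2719 : ∀ i, i < 2719 → P i := stepQ 2718 Q2718 (allL N2718 (tt N2890 (iv F12705)) (tt N2464 F12024) (tt N2718 F12025) (tt N2959 (iv F13023)) (tt N2964 (iv F13047)) (tt N2718 F12026) (tt N2458 F12027) (tt N2594 F12028) (tt N2457 (iv D2751)))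
theorem Q2720 : ∀ i, i < 2720 → P i := stepQ 2719 Q2719 (allL N2719 (tt N2471 F12029) (tt N2961 (iv F13030)) (tt N2474 F12030) (tt N2459 (iv D2752)) (tt N2967 D3000) (tt N2556 F12031) (tt N2476 F12032) (tt N2461 F12033) (tt N2968 D3001))
theorem Q2721 : ∀ i, i < 2721 → P i := stepQ 2720 Q2720 (allL N2720 (tt N2472 F12034) (tt N2962 (iv F13035)) (tt N2488 F12035) (tt N2968 (iv F13064)) (tt N2720 F12036) (tt N2557 F12037) (tt N2490 F12038) (tt N2563 F12039) (tt N2459 (iv D2753)))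
theorem Q2722 : ∀ i, i < 2722 → P i := stepQ 2721 Q2721 (allL N2721 (tt N2474 F12040) (tt N2963 (iv F13041)) (tt N2471 F12041) (tt N2460 (iv D2754)) (tt N2969 D3002) (tt N2568 F12042) (tt N2461 F12043) (tt N2476 F12044) (tt N2970 D3003))
theorem Q2723 : ∀ i, i < 2723 → P i := stepQ 2722 Q2722 (allL N2722 (tt N2475 F12045) (tt N2964 (iv F13045)) (tt N2468 F12046) (tt N2970 (iv F13074)) (tt N2464 F12047) (tt N2588 F12048) (tt N2462 F12049) (tt N2567 F12050) (tt N2460 (iv D2755)))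
theorem Q2724 : ∀ i, i < 2724 → P i := stepQ 2723 Q2723 (allL N2723 (tt N2476 F12051) (tt N2912 (iv F12818)) (tt N2461 (iv D2756)) (tt N2469 F12052) (tt N2971 D3004) (tt N2564 F12053) (tt N2471 F12054) (tt N2474 F12055) (tt N2972 D3005))
theorem Q2725 : ∀ i, i < 2725 → P i := stepQ 2724 Q2724 (allL N2724 (tt N2477 F12056) (tt N2954 (iv F13002)) (tt N2971 (iv F13078)) (tt N2465 F12057) (tt N2461 (iv D2757)) (tt N2881 (iv F12656)) (tt N2969 (iv F13070)) (tt N2967 (iv F13061)) (tt N2973 D3006))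
theorem Q2726 : ∀ i, i < 2726 → P i := stepQ 2725 Q2725 (allL N2725 (tt N2478 F12058) (tt N2966 (iv F13054)) (tt N2972 (iv F13083)) (tt N2462 F12059) (tt N2973 (iv F13089)) (tt N2565 F12060) (tt N2970 (iv F13076)) (tt N2974 D3007) (tt N2461 (iv D2758)))
theorem Q2727 : ∀ i, i < 2727 → P i := stepQ 2726 Q2726 (allL N2726 (tt N2479 F12061) (tt N2933 (iv F12897)) (tt N2726 F12062) (tt N2969 (iv F13069)) (tt N2463 (iv D2759)) (tt N2975 D3008) (tt N2465 F12063) (tt N2726 F12064) (tt N2976 D3009))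
theorem Q2728 : ∀ i, i < 2728 → P i := stepQ 2727 Q2727 (allL N2727 (tt N2480 F12065) (tt N2959 (iv F13022)) (tt N2727 F12066) (tt N2464 F12067) (tt N2976 (iv F13100)) (tt N2727 F12068) (tt N2466 F12069) (tt N2977 D3010) (tt N2463 (iv D2760)))
theorem Q2729 : ∀ i, i < 2729 → P i := stepQ 2728 Q2728 (allL N2728 (tt N2482 F12070) (tt N2957 (iv F13014)) (tt N2728 F12071) (tt N2973 (iv F13088)) (tt N2466 F12072) (tt N2883 (iv F12667)) (tt N2976 (iv F13101)) (tt N2978 D3011) (tt N2465 (iv D2761)))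
theorem Q2730 : ∀ i, i < 2730 → P i := stepQ 2729 Q2729 (allL N2729 (tt N2483 F12073) (tt N2960 (iv F13026)) (tt N2729 F12074) (tt N2951 (iv F12988)) (tt N2978 (iv F13110)) (tt N2467 F12075) (tt N2977 (iv F13106)) (tt N2466 (iv D2762)) (tt N2729 F12076))
theorem Q2731 : ∀ i, i < 2731 → P i := stepQ 2730 Q2730 (allL N2730 (tt N2490 F12077) (tt N2913 (iv F12822)) (tt N2470 F12078) (tt N2972 (iv F13084)) (tt N2730 F12079) (tt N2567 F12080) (tt N2472 F12081) (tt N2588 F12082) (tt N2469 (iv D2763)))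
theorem Q2732 : ∀ i, i < 2732 → P i := stepQ 2731 Q2731 (allL N2731 (tt N2967 (iv F13057)) (tt N2915 (iv F12831)) (tt N2969 (iv F13068)) (tt N2731 F12083) (tt N2471 (iv D2764)) (tt N2979 D3012) (tt N2971 (iv F13080)) (tt N2477 F12084) (tt N2980 D3013))
theorem Q2733 : ∀ i, i < 2733 → P i := stepQ 2732 Q2732 (allL N2732 (tt N2968 (iv F13062)) (tt N2916 (iv F12834)) (tt N2970 (iv F13073)) (tt N2472 F12085) (tt N2980 (iv F13116)) (tt N2570 F12086) (tt N2972 (iv F13086)) (tt N2981 D3014) (tt N2471 (iv D2765)))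
theorem Q2734 : ∀ i, i < 2734 → P i := stepQ 2733 Q2733 (allL N2733 (tt N2568 F12087) (tt N2917 (iv F12837)) (tt N2556 F12088) (tt N2473 (iv D2766)) (tt N2982 D3015) (tt N2474 F12089) (tt N2558 F12090) (tt N2564 F12091) (tt N2983 D3016))
theorem Q2735 : ∀ i, i < 2735 → P i := stepQ 2734 Q2734 (allL N2734 (tt N2588 F12092) (tt N2918 (iv F12841)) (tt N2487 F12093) (tt N2983 (iv F13126)) (tt N2734 F12094) (tt N2475 F12095) (tt N2563 F12096) (tt N2490 F12097) (tt N2473 (iv D2767)))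
theorem Q2736 : ∀ i, i < 2736 → P i := stepQ 2735 Q2735 (allL N2735 (tt N2969 (iv F13067)) (tt N2901 F12767) (tt N2967 (iv F13058)) (tt N2479 F12098) (tt N2474 (iv D2768)) (tt N2984 D3017) (tt N2477 F12099) (tt N2971 (iv F13081)) (tt N2985 D3018))
theorem Q2737 : ∀ i, i < 2737 → P i := stepQ 2736 Q2736 (allL N2736 (tt N2970 (iv F13072)) (tt N2919 (iv F12847)) (tt N2968 (iv F13063)) (tt N2475 F12100) (tt N2985 (iv F13132)) (tt N2983 (iv F13127)) (tt N2478 F12101) (tt N2986 D3019) (tt N2474 (iv D2769)))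
theorem Q2738 : ∀ i, i < 2738 → P i := stepQ 2737 Q2737 (allL N2737 (tt N2987 D3020) (tt N2476 (iv D2770)) (tt N2920 (iv F12850)) (tt N2489 F12102) (tt N2988 D3021) (tt N2573 F12103) (tt N2961 (iv F13032)) (tt N2963 (iv F13044)) (tt N2989 D3022))
theorem Q2739 : ∀ i, i < 2739 → P i := stepQ 2738 Q2738 (allL N2738 (tt N2971 (iv F13077)) (tt N2988 (iv F13139)) (tt N2477 F12104) (tt N2738 F12105) (tt N2476 (iv D2771)) (tt N2990 D3023) (tt N2967 (iv F13060)) (tt N2969 (iv F13071)) (tt N2991 D3024))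
theorem Q2740 : ∀ i, i < 2740 → P i := stepQ 2739 Q2739 (allL N2739 (tt N2972 (iv F13082)) (tt N2989 (iv F13141)) (tt N2478 F12106) (tt N2490 F12107) (tt N2991 (iv F13149)) (tt N2575 F12108) (tt N2968 (iv F13066)) (tt N2992 D3025) (tt N2476 (iv D2772)))
theorem Q2741 : ∀ i, i < 2741 → P i := stepQ 2740 Q2740 (allL N2740 (tt N2881 (iv F12653)) (tt N2922 (iv F12856)) (tt N2990 (iv F13144)) (tt N2481 F12109) (tt N2576 F12110) (tt N2477 (iv D2773)) (tt N2993 D3026) (tt N2979 (iv F13114)) (tt N2994 D3027))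
theorem Q2742 : ∀ i, i < 2742 → P i := stepQ 2741 Q2741 (allL N2741 (tt N2973 (iv F13087)) (tt N2923 (iv F12859)) (tt N2991 (iv F13147)) (tt N2482 F12111) (tt N2478 F12112) (tt N2994 (iv F13157)) (tt N2985 (iv F13133)) (tt N2995 D3028) (tt N2477 (iv D2774)))
theorem Q2743 : ∀ i, i < 2743 → P i := stepQ 2742 Q2742 (allL N2742 (tt N2974 (iv F13090)) (tt N2924 (iv F12862)) (tt N2992 (iv F13150)) (tt N2956 (iv F13011)) (tt N2995 (iv F13158)) (tt N2578 F12113) (tt N2986 (iv F13135)) (tt N2478 (iv D2775)) (tt N2981 (iv F13118)))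
theorem Q2744 : ∀ i, i < 2744 → P i := stepQ 2743 Q2743 (allL N2743 (tt N2975 (iv F13092)) (tt N2527 F12114) (tt N2743 F12115) (tt N2984 (iv F13130)) (tt N2743 F12116) (tt N2479 (iv D2776)) (tt N2996 D3029) (tt N2743 F12117) (tt N2997 D3030))
theorem Q2745 : ∀ i, i < 2745 → P i := stepQ 2744 Q2744 (allL N2744 (tt N2976 (iv F13098)) (tt N2910 (iv F12808)) (tt N2744 F12118) (tt N2985 (iv F13131)) (tt N2480 F12119) (tt N2997 (iv F13168)) (tt N2482 F12120) (tt N2998 D3031) (tt N2479 (iv D2777)))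
theorem Q2746 : ∀ i, i < 2746 → P i := stepQ 2745 Q2745 (allL N2745 (tt N2977 (iv F13102)) (tt N2925 (iv F12864)) (tt N2745 F12121) (tt N2602 F12122) (tt N2998 (iv F13170)) (tt N2745 F12123) (tt N2483 F12124) (tt N2480 (iv D2778)) (tt N2745 F12125))
theorem Q2747 : ∀ i, i < 2747 → P i := stepQ 2746 Q2746 (allL N2746 (tt N2598 F12126) (tt N2926 (iv F12870)) (tt N2746 F12127) (tt N2993 (iv F13153)) (tt N2484 F12128) (tt N2996 (iv F13163)) (tt N2481 (iv D2779)) (tt N2746 F12129) (tt N2999 D3032))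
theorem Q2748 : ∀ i, i < 2748 → P i := stepQ 2747 Q2747 (allL N2747 (tt N2883 (iv F12663)) (tt N2927 (iv F12875)) (tt N2747 F12130) (tt N2994 (iv F13155)) (tt N2485 F12131) (tt N2482 F12132) (tt N2999 (iv F13176)) (tt N3000 D3033) (tt N2481 (iv D2780)))
theorem Q2749 : ∀ i, i < 2749 → P i := stepQ 2748 Q2748 (allL N2748 (tt N2978 (iv F13108)) (tt N2928 (iv F12878)) (tt N2748 F12133) (tt N3001 D3034) (tt N2483 F12134) (tt N3000 (iv F13179)) (tt N2998 (iv F13171)) (tt N2482 (iv D2781)) (tt N2748 F12135))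
theorem Q2750 : ∀ i, i < 2750 → P i := stepQ 2749 Q2749 (allL N2749 (tt N2599 F12136) (tt N2929 (iv F12882)) (tt N2749 F12137) (tt N2583 F12138) (tt N2999 (iv F13175)) (tt N2749 F12139) (tt N2485 F12140) (tt N3002 D3035) (tt N2484 (iv D2782)))
theorem Q2751 : ∀ i, i < 2751 → P i := stepQ 2750 Q2750 (allL N2750 (tt N2884 (iv F12669)) (tt N2930 (iv F12886)) (tt N2750 F12141) (tt N2906 (iv F12787)) (tt N3000 (iv F13178)) (tt N2486 F12142) (tt N3002 (iv F13185)) (tt N2485 (iv D2783)) (tt N2750 F12143))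
theorem Q2752 : ∀ i, i < 2752 → P i := stepQ 2751 Q2751 (allL N2751 (tt N2489 (iv D2784)) (tt N2895 (iv F12733)) (tt N2493 F12144) (tt N2987 (iv F13136)) (tt N2751 F12145) (tt N2581 F12146) (tt N2579 F12147) (tt N2496 F12148) (tt N3003 D3036))
theorem Q2753 : ∀ i, i < 2753 → P i := stepQ 2752 Q2752 (allL N2752 (tt N3003 (iv F13187)) (tt N2490 F12149) (tt N2494 F12150) (tt N2989 (iv F13142)) (tt N2752 F12151) (tt N2584 F12152) (tt N2962 (iv F13039)) (tt N2918 (iv F12846)) (tt N2489 (iv D2785)))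
theorem Q2754 : ∀ i, i < 2754 → P i := stepQ 2753 Q2753 (allL N2753 (tt N2605 F12153) (tt N2492 F12154) (tt N2962 (iv F13036)) (tt N2938 (iv F12922)) (tt N2753 F12155) (tt N2507 F12156) (tt N2494 F12157) (tt N2542 F12158) (tt N2491 (iv D2786)))
theorem Q2755 : ∀ i, i < 2755 → P i := stepQ 2754 Q2754 (allL N2754 (tt N2494 F12159) (tt N2754 F12160) (tt N3003 (iv F13188)) (tt N2940 (iv F12933)) (tt N2754 F12161) (tt N2585 F12162) (tt N2605 F12163) (tt N2909 (iv F12806)) (tt N2493 (iv D2787)))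
theorem Q2756 : ∀ i, i < 2756 → P i := stepQ 2755 Q2755 (allL N2755 (tt N2755 F12164) (tt N2590 F12165) (tt N2936 (iv F12910)) (tt N2498 F12166) (tt N2510 F12167) (tt N2942 (iv F12942)) (tt N2500 F12168) (tt N3004 D3037) (tt N2497 (iv D2788)))
theorem Q2757 : ∀ i, i < 2757 → P i := stepQ 2756 Q2756 (allL N2756 (tt N2866 (iv F12569)) (tt N2499 (iv D2789)) (tt N2591 F12169) (tt N2756 F12170) (tt N2511 F12171) (tt N2756 F12172) (tt N2859 F12533) (tt N2756 F12173) (tt N3005 D3038))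
theorem Q2758 : ∀ i, i < 2758 → P i := stepQ 2757 Q2757 (allL N2757 (tt N2757 F12174) (tt N3005 (iv F13198)) (tt N2500 F12175) (tt N2757 F12176) (tt N2512 F12177) (tt N2757 F12178) (tt N2936 (iv F12913)) (tt N3006 D3039) (tt N2499 (iv D2790)))
theorem Q2759 : ∀ i, i < 2759 → P i := stepQ 2758 Q2758 (allL N2758 (tt N2758 F12179) (tt N2593 F12180) (tt N3006 (iv F13204)) (tt N2758 F12181) (tt N2513 F12182) (tt N2758 F12183) (tt N3004 (iv F13196)) (tt N2500 (iv D2791)) (tt N2758 F12184))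
theorem Q2760 : ∀ i, i < 2760 → P i := stepQ 2759 Q2759 (allL N2759 (tt N2569 F12185) (tt N2554 F12186) (tt N2982 (iv F13120)) (tt N2501 (iv D2792)) (tt N2556 F12187) (tt N2878 (iv F12638)) (tt N2559 F12188) (tt N2503 F12189) (tt N3007 D3040))
theorem Q2761 : ∀ i, i < 2761 → P i := stepQ 2760 Q2760 (allL N2760 (tt N2607 F12190) (tt N2555 F12191) (tt N2760 F12192) (tt N3007 (iv F13210)) (tt N2561 F12193) (tt N2879 (iv F12645)) (tt N2562 F12194) (tt N2530 F12195) (tt N2501 (iv D2793)))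
theorem Q2762 : ∀ i, i < 2762 → P i := stepQ 2761 Q2761 (allL N2761 (tt N2571 F12196) (tt N2556 F12197) (tt N2948 (iv F12973)) (tt N2502 (iv D2794)) (tt N2554 F12198) (tt N2961 (iv F13031)) (tt N2503 F12199) (tt N2559 F12200) (tt N3008 D3041))
theorem Q2763 : ∀ i, i < 2763 → P i := stepQ 2762 Q2762 (allL N2762 (tt N2580 F12201) (tt N2557 F12202) (tt N2507 F12203) (tt N3008 (iv F13215)) (tt N2505 F12204) (tt N2962 (iv F13038)) (tt N2504 F12205) (tt N2533 F12206) (tt N2502 (iv D2795)))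
theorem Q2764 : ∀ i, i < 2764 → P i := stepQ 2763 Q2763 (allL N2763 (tt N2574 F12207) (tt N3009 D3042) (tt N2503 (iv D2796)) (tt N2508 F12208) (tt N2564 F12209) (tt N2880 (iv F12651)) (tt N2948 (iv F12975)) (tt N2982 (iv F13123)) (tt N3010 D3043))
theorem Q2765 : ∀ i, i < 2765 → P i := stepQ 2764 Q2764 (allL N2764 (tt N2577 F12210) (tt N2560 F12211) (tt N3010 (iv F13223)) (tt N2504 F12212) (tt N2565 F12213) (tt N2882 (iv F12661)) (tt N3008 (iv F13217)) (tt N3011 D3044) (tt N2503 (iv D2797)))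
theorem Q2766 : ∀ i, i < 2766 → P i := stepQ 2765 Q2765 (allL N2765 (tt N2596 F12214) (tt N2510 F12215) (tt N2950 (iv F12983)) (tt N2507 F12216) (tt N2590 F12217) (tt N2938 (iv F12923)) (tt N2509 F12218) (tt N3012 D3045) (tt N2506 (iv D2798)))
theorem Q2767 : ∀ i, i < 2767 → P i := stepQ 2766 Q2766 (allL N2766 (tt N2926 (iv F12869)) (tt N2508 (iv D2799)) (tt N2511 F12219) (tt N3009 (iv F13219)) (tt N2591 F12220) (tt N2543 F12221) (tt N2904 (iv F12780)) (tt N2766 F12222) (tt N3013 D3046))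
theorem Q2768 : ∀ i, i < 2768 → P i := stepQ 2767 Q2767 (allL N2767 (tt N2601 F12223) (tt N3013 (iv F13236)) (tt N2509 F12224) (tt N3010 (iv F13224)) (tt N2592 F12225) (tt N2885 (iv F12680)) (tt N2950 (iv F12985)) (tt N3014 D3047) (tt N2508 (iv D2800)))
theorem Q2769 : ∀ i, i < 2769 → P i := stepQ 2768 Q2768 (allL N2768 (tt N2604 F12226) (tt N2513 F12227) (tt N3014 (iv F13241)) (tt N2547 F12228) (tt N2593 F12229) (tt N2886 (iv F12686)) (tt N3012 (iv F13234)) (tt N2509 (iv D2801)) (tt N2768 F12230))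
theorem Q2770 : ∀ i, i < 2770 → P i := stepQ 2769 Q2769 (allL N2769 (tt N2769 F12231) (tt N3012 (iv F13231)) (tt N2937 (iv F12915)) (tt N2548 F12232) (tt N3004 (iv F13195)) (tt N2939 (iv F12928)) (tt N2513 F12233) (tt N2510 (iv D2802)) (tt N2769 F12234))
theorem Q2771 : ∀ i, i < 2771 → P i := stepQ 2770 Q2770 (allL N2770 (tt N2511 (iv D2803)) (tt N2770 F12235) (tt N2926 (iv F12871)) (tt N2524 F12236) (tt N2866 (iv F12573)) (tt N2525 F12237) (tt N2863 (iv F12556)) (tt N2770 F12238) (tt N3015 D3048))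
theorem Q2772 : ∀ i, i < 2772 → P i := stepQ 2771 Q2771 (allL N2771 (tt N3015 (iv F13244)) (tt N2512 F12239) (tt N3013 (iv F13237)) (tt N2542 F12240) (tt N3005 (iv F13201)) (tt N2544 F12241) (tt N2931 (iv F12892)) (tt N3016 D3049) (tt N2511 (iv D2804)))
theorem Q2773 : ∀ i, i < 2773 → P i := stepQ 2772 Q2772 (allL N2772 (tt N2772 F12242) (tt N3016 (iv F13248)) (tt N2513 F12243) (tt N2939 (iv F12927)) (tt N3006 (iv F13205)) (tt N2548 F12244) (tt N2937 (iv F12918)) (tt N2512 (iv D2805)) (tt N2772 F12245))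
theorem Q2774 : ∀ i, i < 2774 → P i := stepQ 2773 Q2773 (allL N2773 (tt N2559 F12246) (tt N2519 F12247) (tt N2952 (iv F12993)) (tt N2514 (iv D2806)) (tt N2552 F12248) (tt N2888 (iv F12697)) (tt N2569 F12249) (tt N2571 F12250) (tt N3017 D3050))
theorem Q2775 : ∀ i, i < 2775 → P i := stepQ 2774 Q2774 (allL N2774 (tt N2562 F12251) (tt N2520 F12252) (tt N2774 F12253) (tt N3017 (iv F13253)) (tt N2515 F12254) (tt N2889 (iv F12703)) (tt N2607 F12255) (tt N2539 F12256) (tt N2514 (iv D2807)))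
theorem Q2776 : ∀ i, i < 2776 → P i := stepQ 2775 Q2775 (allL N2775 (tt N2529 F12257) (tt N2571 F12258) (tt N3018 D3051) (tt N2516 (iv D2808)) (tt N2532 F12259) (tt N2896 (iv F12740)) (tt N2535 F12260) (tt N2519 F12261) (tt N3019 D3052))
theorem Q2777 : ∀ i, i < 2777 → P i := stepQ 2776 Q2776 (allL N2776 (tt N2530 F12262) (tt N2580 F12263) (tt N2776 F12264) (tt N3019 (iv F13263)) (tt N2537 F12265) (tt N2897 (iv F12746)) (tt N2539 F12266) (tt N2607 F12267) (tt N2516 (iv D2809)))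
theorem Q2778 : ∀ i, i < 2778 → P i := stepQ 2777 Q2777 (allL N2777 (tt N2531 F12268) (tt N2606 F12269) (tt N2524 F12270) (tt N3020 D3053) (tt N2777 F12271) (tt N2518 F12272) (tt N2898 (iv F12753)) (tt N2517 (iv D2810)) (tt N3021 D3054))
theorem Q2779 : ∀ i, i < 2779 → P i := stepQ 2778 Q2778 (allL N2778 (tt N2532 F12273) (tt N2569 F12274) (tt N3022 D3055) (tt N2518 (iv D2811)) (tt N2529 F12275) (tt N3020 (iv F13268)) (tt N2519 F12276) (tt N2535 F12277) (tt N3023 D3056))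
theorem Q2780 : ∀ i, i < 2780 → P i := stepQ 2779 Q2779 (allL N2779 (tt N2533 F12278) (tt N2607 F12279) (tt N2526 F12280) (tt N3023 (iv F13283)) (tt N2521 F12281) (tt N3021 (iv F13274)) (tt N2520 F12282) (tt N2580 F12283) (tt N2518 (iv D2812)))
theorem Q2781 : ∀ i, i < 2781 → P i := stepQ 2780 Q2780 (allL N2780 (tt N2534 F12284) (tt N2984 (iv F13129)) (tt N2519 (iv D2813)) (tt N2527 F12285) (tt N3024 D3057) (tt N2901 (iv F12765)) (tt N3022 (iv F13279)) (tt N3018 (iv F13260)) (tt N3025 D3058))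
theorem Q2782 : ∀ i, i < 2782 → P i := stepQ 2781 Q2781 (allL N2781 (tt N2535 F12286) (tt N2552 F12287) (tt N3024 (iv F13287)) (tt N2522 F12288) (tt N2519 (iv D2814)) (tt N2946 (iv F12962)) (tt N2529 F12289) (tt N2532 F12290) (tt N3026 D3059))
theorem Q2783 : ∀ i, i < 2783 → P i := stepQ 2782 Q2782 (allL N2782 (tt N2536 F12291) (tt N3017 (iv F13252)) (tt N3025 (iv F13292)) (tt N2520 F12292) (tt N3026 (iv F13297)) (tt N2903 (iv F12775)) (tt N3023 (iv F13285)) (tt N3027 D3060) (tt N2519 (iv D2815)))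
theorem Q2784 : ∀ i, i < 2784 → P i := stepQ 2783 Q2783 (allL N2783 (tt N2539 F12293) (tt N2553 F12294) (tt N2783 F12295) (tt N3026 (iv F13296)) (tt N2523 F12296) (tt N2947 (iv F12969)) (tt N2530 F12297) (tt N2562 F12298) (tt N2522 (iv D2816)))
theorem Q2785 : ∀ i, i < 2785 → P i := stepQ 2784 Q2784 (allL N2784 (tt N2542 F12299) (tt N2784 F12300) (tt N3021 (iv F13272)) (tt N3015 (iv F13246)) (tt N2784 F12301) (tt N2526 F12302) (tt N2909 (iv F12805)) (tt N2605 F12303) (tt N2524 (iv D2817)))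
theorem Q2786 : ∀ i, i < 2786 → P i := stepQ 2785 Q2785 (allL N2785 (tt N2543 F12304) (tt N2996 (iv F13160)) (tt N2525 (iv D2818)) (tt N3022 (iv F13277)) (tt N2785 F12305) (tt N2926 (iv F12873)) (tt N2527 F12306) (tt N2785 F12307) (tt N3028 D3061))
theorem Q2787 : ∀ i, i < 2787 → P i := stepQ 2786 Q2786 (allL N2786 (tt N2544 F12308) (tt N2786 F12309) (tt N3028 (iv F13302)) (tt N2526 F12310) (tt N2786 F12311) (tt N3015 (iv F13247)) (tt N2528 F12312) (tt N3029 D3062) (tt N2525 (iv D2819)))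
theorem Q2788 : ∀ i, i < 2788 → P i := stepQ 2787 Q2787 (allL N2787 (tt N2546 F12313) (tt N2997 (iv F13165)) (tt N2528 F12314) (tt N3025 (iv F13293)) (tt N2787 F12315) (tt N2910 (iv F12811)) (tt N3028 (iv F13304)) (tt N3030 D3063) (tt N2527 (iv D2820)))
theorem Q2789 : ∀ i, i < 2789 → P i := stepQ 2788 Q2788 (allL N2788 (tt N2547 F12316) (tt N2788 F12317) (tt N3030 (iv F13312)) (tt N2604 F12318) (tt N2788 F12319) (tt N2911 (iv F12816)) (tt N3029 (iv F13309)) (tt N2528 (iv D2821)) (tt N2788 F12320))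
theorem Q2790 : ∀ i, i < 2790 → P i := stepQ 2789 Q2789 (allL N2789 (tt N3018 (iv F13256)) (tt N3031 D3064) (tt N2529 (iv D2822)) (tt N2789 F12321) (tt N3022 (iv F13278)) (tt N2914 (iv F12829)) (tt N3024 (iv F13289)) (tt N2534 F12322) (tt N3032 D3065))
theorem Q2791 : ∀ i, i < 2791 → P i := stepQ 2790 Q2790 (allL N2790 (tt N3019 (iv F13261)) (tt N2570 F12323) (tt N3032 (iv F13318)) (tt N2530 F12324) (tt N3023 (iv F13284)) (tt N2916 (iv F12836)) (tt N3026 (iv F13298)) (tt N3033 D3066) (tt N2529 (iv D2823)))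
theorem Q2792 : ∀ i, i < 2792 → P i := stepQ 2791 Q2791 (allL N2791 (tt N3020 (iv F13266)) (tt N2558 F12325) (tt N3009 (iv F13218)) (tt N2531 (iv D2824)) (tt N3034 D3067) (tt N2532 F12326) (tt N2917 (iv F12839)) (tt N2946 (iv F12964)) (tt N3035 D3068))
theorem Q2793 : ∀ i, i < 2793 → P i := stepQ 2792 Q2792 (allL N2792 (tt N3021 (iv F13270)) (tt N2563 F12327) (tt N2542 F12328) (tt N3035 (iv F13326)) (tt N2792 F12329) (tt N2533 F12330) (tt N2918 (iv F12845)) (tt N2962 (iv F13040)) (tt N2531 (iv D2825)))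
theorem Q2794 : ∀ i, i < 2794 → P i := stepQ 2793 Q2793 (allL N2793 (tt N3022 (iv F13276)) (tt N2880 (iv F12649)) (tt N2532 (iv D2826)) (tt N2543 F12331) (tt N3018 (iv F13258)) (tt N3009 (iv F13221)) (tt N2534 F12332) (tt N3024 (iv F13290)) (tt N3036 D3069))
theorem Q2795 : ∀ i, i < 2795 → P i := stepQ 2794 Q2794 (allL N2794 (tt N3023 (iv F13281)) (tt N2572 F12333) (tt N3036 (iv F13328)) (tt N2533 F12334) (tt N3019 (iv F13264)) (tt N3035 (iv F13327)) (tt N2536 F12335) (tt N3037 D3070) (tt N2532 (iv D2827)))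
theorem Q2796 : ∀ i, i < 2796 → P i := stepQ 2795 Q2795 (allL N2795 (tt N3038 D3071) (tt N2534 (iv D2828)) (tt N2573 F12336) (tt N2545 F12337) (tt N3039 D3072) (tt N2920 (iv F12852)) (tt N2880 (iv F12652)) (tt N3031 (iv F13317)) (tt N3040 D3073))
theorem Q2797 : ∀ i, i < 2797 → P i := stepQ 2796 Q2796 (allL N2796 (tt N3024 (iv F13286)) (tt N3039 (iv F13336)) (tt N2535 F12338) (tt N2796 F12339) (tt N2534 (iv D2829)) (tt N3041 D3074) (tt N3018 (iv F13259)) (tt N3022 (iv F13280)) (tt N3042 D3075))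
theorem Q2798 : ∀ i, i < 2798 → P i := stepQ 2797 Q2797 (allL N2797 (tt N3025 (iv F13291)) (tt N3040 (iv F13339)) (tt N2536 F12340) (tt N2546 F12341) (tt N3042 (iv F13346)) (tt N2921 (iv F12855)) (tt N3036 (iv F13330)) (tt N3043 D3076) (tt N2534 (iv D2830)))
theorem Q2799 : ∀ i, i < 2799 → P i := stepQ 2798 Q2798 (allL N2798 (tt N2946 (iv F12960)) (tt N2576 F12342) (tt N3041 (iv F13342)) (tt N2538 F12343) (tt N2922 (iv F12858)) (tt N2535 (iv D2831)) (tt N3044 D3077) (tt N3020 (iv F13269)) (tt N3045 D3078))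
theorem Q2800 : ∀ i, i < 2800 → P i := stepQ 2799 Q2799 (allL N2799 (tt N3026 (iv F13294)) (tt N2577 F12344) (tt N3042 (iv F13344)) (tt N2539 F12345) (tt N2536 F12346) (tt N3045 (iv F13353)) (tt N3019 (iv F13265)) (tt N3046 D3079) (tt N2535 (iv D2832)))
theorem Q2801 : ∀ i, i < 2801 → P i := stepQ 2800 Q2800 (allL N2800 (tt N3027 (iv F13299)) (tt N2578 F12347) (tt N3043 (iv F13347)) (tt N3011 (iv F13228)) (tt N3046 (iv F13355)) (tt N2924 (iv F12863)) (tt N3037 (iv F13332)) (tt N2536 (iv D2833)) (tt N3033 (iv F13321)))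
theorem Q2802 : ∀ i, i < 2802 → P i := stepQ 2801 Q2801 (allL N2801 (tt N2566 F12348) (tt N2581 F12349) (tt N2801 F12350) (tt N3044 (iv F13350)) (tt N2540 F12351) (tt N2895 (iv F12736)) (tt N2538 (iv D2834)) (tt N2586 F12352) (tt N3047 D3080))
theorem Q2803 : ∀ i, i < 2803 → P i := stepQ 2802 Q2802 (allL N2802 (tt N2947 (iv F12965)) (tt N2582 F12353) (tt N2802 F12354) (tt N3045 (iv F13352)) (tt N2541 F12355) (tt N2539 F12356) (tt N3047 (iv F13360)) (tt N2889 (iv F12704)) (tt N2538 (iv D2835)))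
theorem Q2804 : ∀ i, i < 2804 → P i := stepQ 2803 Q2803 (allL N2803 (tt N2594 F12357) (tt N2583 F12358) (tt N2803 F12359) (tt N2929 (iv F12883)) (tt N3047 (iv F13359)) (tt N2803 F12360) (tt N2541 F12361) (tt N2890 (iv F12710)) (tt N2540 (iv D2836)))
theorem Q2805 : ∀ i, i < 2805 → P i := stepQ 2804 Q2804 (allL N2804 (tt N3028 (iv F13301)) (tt N2885 (iv F12677)) (tt N2544 F12362) (tt N3036 (iv F13329)) (tt N2804 F12363) (tt N3013 (iv F13239)) (tt N2546 F12364) (tt N3048 D3081) (tt N2543 (iv D2837)))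
theorem Q2806 : ∀ i, i < 2806 → P i := stepQ 2805 Q2805 (allL N2805 (tt N3029 (iv F13305)) (tt N2548 F12365) (tt N3048 (iv F13361)) (tt N3012 (iv F13232)) (tt N2805 F12366) (tt N3016 (iv F13249)) (tt N2547 F12367) (tt N2544 (iv D2838)) (tt N2805 F12368))
theorem Q2807 : ∀ i, i < 2807 → P i := stepQ 2806 Q2806 (allL N2806 (tt N2545 (iv D2839)) (tt N2975 (iv F13093)) (tt N2549 F12369) (tt N3038 (iv F13334)) (tt N2806 F12370) (tt N2933 (iv F12900)) (tt N2600 F12371) (tt N2806 F12372) (tt N3049 D3082))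
theorem Q2808 : ∀ i, i < 2808 → P i := stepQ 2807 Q2807 (allL N2807 (tt N3049 (iv F13365)) (tt N2546 F12373) (tt N2550 F12374) (tt N3040 (iv F13341)) (tt N2807 F12375) (tt N2934 (iv F12905)) (tt N2885 (iv F12681)) (tt N3050 D3083) (tt N2545 (iv D2840)))
theorem Q2809 : ∀ i, i < 2809 → P i := stepQ 2808 Q2808 (allL N2808 (tt N3030 (iv F13311)) (tt N3050 (iv F13369)) (tt N2547 F12376) (tt N3051 D3084) (tt N2808 F12377) (tt N2935 (iv F12907)) (tt N3048 (iv F13363)) (tt N2546 (iv D2841)) (tt N2808 F12378))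
theorem Q2810 : ∀ i, i < 2810 → P i := stepQ 2809 Q2809 (allL N2809 (tt N2550 F12379) (tt N2809 F12380) (tt N3049 (iv F13366)) (tt N2585 F12381) (tt N2809 F12382) (tt N2940 (iv F12934)) (tt N2603 F12383) (tt N3052 D3085) (tt N2549 (iv D2842)))
theorem Q2811 : ∀ i, i < 2811 → P i := stepQ 2810 Q2810 (allL N2810 (tt N3052 (iv F13374)) (tt N2551 F12384) (tt N3050 (iv F13370)) (tt N2932 (iv F12894)) (tt N2810 F12385) (tt N2941 (iv F12937)) (tt N2886 (iv F12687)) (tt N2550 (iv D2843)) (tt N2810 F12386))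
theorem Q2812 : ∀ i, i < 2812 → P i := stepQ 2811 Q2811 (allL N2811 (tt N2560 F12387) (tt N3026 (iv F13295)) (tt N2953 (iv F12998)) (tt N2553 F12388) (tt N3017 (iv F13254)) (tt N2949 (iv F12980)) (tt N2570 F12389) (tt N3053 D3086) (tt N2552 (iv D2844)))
theorem Q2813 : ∀ i, i < 2813 → P i := stepQ 2812 Q2812 (allL N2812 (tt N2572 F12390) (tt N3007 (iv F13209)) (tt N2949 (iv F12978)) (tt N2555 F12391) (tt N3008 (iv F13216)) (tt N2953 (iv F13000)) (tt N2565 F12392) (tt N3054 D3087) (tt N2554 (iv D2845)))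
theorem Q2814 : ∀ i, i < 2814 → P i := stepQ 2813 Q2813 (allL N2813 (tt N2570 F12393) (tt N3008 (iv F13214)) (tt N2983 (iv F13125)) (tt N2557 F12394) (tt N3007 (iv F13211)) (tt N2968 (iv F13065)) (tt N2560 F12395) (tt N3055 D3088) (tt N2556 (iv D2846)))
theorem Q2815 : ∀ i, i < 2815 → P i := stepQ 2814 Q2814 (allL N2814 (tt N2952 (iv F12992)) (tt N3034 (iv F13322)) (tt N2559 F12396) (tt N2814 F12397) (tt N2558 (iv D2847)) (tt N2965 (iv F13053)) (tt N2982 (iv F13122)) (tt N2948 (iv F12976)) (tt N3056 D3089))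
theorem Q2816 : ∀ i, i < 2816 → P i := stepQ 2815 Q2815 (allL N2815 (tt N2953 (iv F12997)) (tt N3035 (iv F13325)) (tt N2560 F12398) (tt N2563 F12399) (tt N3056 (iv F13393)) (tt N2572 F12400) (tt N2983 (iv F13128)) (tt N3057 D3090) (tt N2558 (iv D2848)))
theorem Q2817 : ∀ i, i < 2817 → P i := stepQ 2816 Q2816 (allL N2816 (tt N3017 (iv F13251)) (tt N2565 F12401) (tt N3056 (iv F13391)) (tt N2562 F12402) (tt N2560 F12403) (tt N2966 (iv F13056)) (tt N3007 (iv F13212)) (tt N3058 D3091) (tt N2559 (iv D2849)))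
theorem Q2818 : ∀ i, i < 2818 → P i := stepQ 2817 Q2817 (allL N2817 (tt N3053 (iv F13379)) (tt N3011 (iv F13227)) (tt N3057 (iv F13394)) (tt N2578 F12404) (tt N3058 (iv F13397)) (tt N2956 (iv F13012)) (tt N3055 (iv F13389)) (tt N2560 (iv D2850)) (tt N3054 (iv F13386)))
theorem Q2819 : ∀ i, i < 2819 → P i := stepQ 2818 Q2818 (allL N2818 (tt N3044 (iv F13348)) (tt N2564 (iv D2851)) (tt N3034 (iv F13323)) (tt N2566 F12405) (tt N3009 (iv F13220)) (tt N2912 (iv F12819)) (tt N2946 (iv F12963)) (tt N2917 (iv F12840)) (tt N3059 D3092))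
theorem Q2820 : ∀ i, i < 2820 → P i := stepQ 2819 Q2819 (allL N2819 (tt N2575 F12406) (tt N3059 (iv F13398)) (tt N2565 F12407) (tt N2567 F12408) (tt N3010 (iv F13225)) (tt N2972 (iv F13085)) (tt N2949 (iv F12981)) (tt N3060 D3093) (tt N2564 (iv D2852)))
theorem Q2821 : ∀ i, i < 2821 → P i := stepQ 2820 Q2820 (allL N2820 (tt N2578 F12409) (tt N3058 (iv F13396)) (tt N3060 (iv F13401)) (tt N3053 (iv F13380)) (tt N3011 (iv F13229)) (tt N2974 (iv F13091)) (tt N3054 (iv F13385)) (tt N2565 (iv D2853)) (tt N3055 (iv F13390)))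
theorem Q2822 : ∀ i, i < 2822 → P i := stepQ 2821 Q2821 (allL N2821 (tt N3047 (iv F13356)) (tt N2567 F12410) (tt N2821 F12411) (tt N3059 (iv F13399)) (tt N2594 F12412) (tt N2913 (iv F12825)) (tt N2947 (iv F12970)) (tt N2964 (iv F13050)) (tt N2566 (iv D2854)))
theorem Q2823 : ∀ i, i < 2823 → P i := stepQ 2822 Q2822 (allL N2822 (tt N3061 D3094) (tt N2568 (iv D2855)) (tt N3031 (iv F13315)) (tt N2587 F12413) (tt N3062 D3095) (tt N2963 (iv F13042)) (tt N2878 (iv F12639)) (tt N2573 F12414) (tt N3063 D3096))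
theorem Q2824 : ∀ i, i < 2824 → P i := stepQ 2823 Q2823 (allL N2823 (tt N2982 (iv F13119)) (tt N3062 (iv F13405)) (tt N2569 F12415) (tt N2823 F12416) (tt N2568 (iv D2856)) (tt N3064 D3097) (tt N2952 (iv F12995)) (tt N2574 F12417) (tt N3065 D3098))
theorem Q2825 : ∀ i, i < 2825 → P i := stepQ 2824 Q2824 (allL N2824 (tt N2983 (iv F13124)) (tt N3063 (iv F13408)) (tt N2570 F12418) (tt N2588 F12419) (tt N3065 (iv F13415)) (tt N2970 (iv F13075)) (tt N2953 (iv F13001)) (tt N3066 D3099) (tt N2568 (iv D2857)))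
theorem Q2826 : ∀ i, i < 2826 → P i := stepQ 2825 Q2825 (allL N2825 (tt N2878 (iv F12636)) (tt N3020 (iv F13267)) (tt N3064 (iv F13410)) (tt N2606 F12420) (tt N2979 (iv F13113)) (tt N2569 (iv D2858)) (tt N3061 (iv F13403)) (tt N2576 F12421) (tt N3067 D3100))
theorem Q2827 : ∀ i, i < 2827 → P i := stepQ 2826 Q2826 (allL N2826 (tt N3007 (iv F13208)) (tt N3023 (iv F13282)) (tt N3065 (iv F13413)) (tt N2607 F12422) (tt N2570 F12423) (tt N3067 (iv F13419)) (tt N3017 (iv F13255)) (tt N3068 D3101) (tt N2569 (iv D2859)))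
theorem Q2828 : ∀ i, i < 2828 → P i := stepQ 2827 Q2827 (allL N2827 (tt N3055 (iv F13387)) (tt N3033 (iv F13320)) (tt N3066 (iv F13416)) (tt N3054 (iv F13384)) (tt N3068 (iv F13420)) (tt N2981 (iv F13117)) (tt N3053 (iv F13381)) (tt N2570 (iv D2860)) (tt N2578 F12424))
theorem Q2829 : ∀ i, i < 2829 → P i := stepQ 2828 Q2828 (allL N2828 (tt N2961 (iv F13029)) (tt N2896 (iv F12739)) (tt N2954 (iv F13003)) (tt N2579 F12425) (tt N2965 (iv F13052)) (tt N2571 (iv D2861)) (tt N2987 (iv F13138)) (tt N2888 (iv F12698)) (tt N3069 D3102))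
theorem Q2830 : ∀ i, i < 2830 → P i := stepQ 2829 Q2829 (allL N2829 (tt N3008 (iv F13213)) (tt N3019 (iv F13262)) (tt N2955 (iv F13006)) (tt N2580 F12426) (tt N2572 F12427) (tt N3069 (iv F13423)) (tt N2577 F12428) (tt N3070 D3103) (tt N2571 (iv D2862)))
theorem Q2831 : ∀ i, i < 2831 → P i := stepQ 2830 Q2830 (allL N2830 (tt N3054 (iv F13383)) (tt N3037 (iv F13331)) (tt N2956 (iv F13010)) (tt N3055 (iv F13388)) (tt N3070 (iv F13424)) (tt N3057 (iv F13395)) (tt N2578 F12429) (tt N2572 (iv D2863)) (tt N3053 (iv F13382)))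
theorem Q2832 : ∀ i, i < 2832 → P i := stepQ 2831 Q2831 (allL N2831 (tt N2573 (iv D2864)) (tt N3044 (iv F13349)) (tt N3038 (iv F13333)) (tt N2581 F12430) (tt N2993 (iv F13154)) (tt N2987 (iv F13137)) (tt N2576 F12431) (tt N3061 (iv F13404)) (tt N3071 D3104))
theorem Q2833 : ∀ i, i < 2833 → P i := stepQ 2832 Q2832 (allL N2832 (tt N2993 (iv F13152)) (tt N2574 F12432) (tt N3039 (iv F13337)) (tt N2598 F12433) (tt N2573 (iv D2865)) (tt N3072 D3105) (tt N2881 (iv F12657)) (tt N3062 (iv F13407)) (tt N3073 D3106))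
theorem Q2834 : ∀ i, i < 2834 → P i := stepQ 2833 Q2833 (allL N2833 (tt N3071 (iv F13426)) (tt N2575 F12434) (tt N3040 (iv F13340)) (tt N2584 F12435) (tt N3073 (iv F13433)) (tt N2989 (iv F13143)) (tt N2882 (iv F12662)) (tt N3074 D3107) (tt N2573 (iv D2866)))
theorem Q2835 : ∀ i, i < 2835 → P i := stepQ 2834 Q2834 (allL N2834 (tt N2880 (iv F12648)) (tt N3072 (iv F13429)) (tt N2576 F12436) (tt N2600 F12437) (tt N2990 (iv F13146)) (tt N2574 (iv D2867)) (tt N3038 (iv F13335)) (tt N3064 (iv F13412)) (tt N3075 D3108))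
theorem Q2836 : ∀ i, i < 2836 → P i := stepQ 2835 Q2835 (allL N2835 (tt N3010 (iv F13222)) (tt N3073 (iv F13431)) (tt N2577 F12438) (tt N2601 F12439) (tt N2575 F12440) (tt N3075 (iv F13437)) (tt N2955 (iv F13009)) (tt N3076 D3109) (tt N2574 (iv D2868)))
theorem Q2837 : ∀ i, i < 2837 → P i := stepQ 2836 Q2836 (allL N2836 (tt N3060 (iv F13400)) (tt N3074 (iv F13434)) (tt N2578 F12441) (tt N2986 (iv F13134)) (tt N3076 (iv F13439)) (tt N2992 (iv F13151)) (tt N2956 (iv F13013)) (tt N2575 (iv D2869)) (tt N3066 (iv F13417)))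
theorem Q2838 : ∀ i, i < 2838 → P i := stepQ 2837 Q2837 (allL N2837 (tt N2882 (iv F12658)) (tt N3045 (iv F13351)) (tt N3075 (iv F13435)) (tt N2582 F12442) (tt N2994 (iv F13156)) (tt N2577 F12443) (tt N3071 (iv F13428)) (tt N3077 D3110) (tt N2576 (iv D2870)))
theorem Q2839 : ∀ i, i < 2839 → P i := stepQ 2838 Q2838 (allL N2838 (tt N3011 (iv F13226)) (tt N3046 (iv F13354)) (tt N3076 (iv F13438)) (tt N3027 (iv F13300)) (tt N2578 F12444) (tt N3077 (iv F13440)) (tt N3070 (iv F13425)) (tt N2577 (iv D2871)) (tt N3068 (iv F13421)))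
theorem Q2840 : ∀ i, i < 2840 → P i := stepQ 2839 Q2839 (allL N2839 (tt N2962 (iv F13034)) (tt N2897 (iv F12743)) (tt N2605 F12445) (tt N3069 (iv F13422)) (tt N2839 F12446) (tt N2580 F12447) (tt N3003 (iv F13191)) (tt N3021 (iv F13275)) (tt N2579 (iv D2872)))
theorem Q2841 : ∀ i, i < 2841 → P i := stepQ 2840 Q2840 (allL N2840 (tt N2584 F12448) (tt N3047 (iv F13357)) (tt N2585 F12449) (tt N3071 (iv F13427)) (tt N2583 F12450) (tt N3003 (iv F13190)) (tt N2582 F12451) (tt N2900 (iv F12762)) (tt N2581 (iv D2873)))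
theorem Q2842 : ∀ i, i < 2842 → P i := stepQ 2841 Q2841 (allL N2841 (tt N2587 (iv D2874)) (tt N2898 (iv F12749)) (tt N2841 F12452) (tt N3061 (iv F13402)) (tt N2841 F12453) (tt N2887 (iv F12693)) (tt N2606 F12454) (tt N2589 F12455) (tt N3078 D3111))
theorem Q2843 : ∀ i, i < 2843 → P i := stepQ 2842 Q2842 (allL N2842 (tt N3078 (iv F13441)) (tt N2588 F12456) (tt N2842 F12457) (tt N3063 (iv F13409)) (tt N2842 F12458) (tt N2964 (iv F13048)) (tt N2879 (iv F12646)) (tt N2913 (iv F12827)) (tt N2587 (iv D2875)))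
theorem Q2844 : ∀ i, i < 2844 → P i := stepQ 2843 Q2843 (allL N2843 (tt N2597 F12459) (tt N3004 (iv F13193)) (tt N2951 (iv F12987)) (tt N2843 F12460) (tt N3012 (iv F13233)) (tt N2943 (iv F12947)) (tt N2593 F12461) (tt N2590 (iv D2876)) (tt N2843 F12462))
theorem Q2845 : ∀ i, i < 2845 → P i := stepQ 2844 Q2844 (allL N2844 (tt N2929 (iv F12881)) (tt N2592 F12463) (tt N3005 (iv F13199)) (tt N2594 F12464) (tt N3013 (iv F13238)) (tt N2844 F12465) (tt N2907 (iv F12794)) (tt N3079 D3112) (tt N2591 (iv D2877)))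
theorem Q2846 : ∀ i, i < 2846 → P i := stepQ 2845 Q2845 (allL N2845 (tt N2602 F12466) (tt N3079 (iv F13445)) (tt N2593 F12467) (tt N2977 (iv F13104)) (tt N3014 (iv F13242)) (tt N2845 F12468) (tt N2951 (iv F12990)) (tt N2592 (iv D2878)) (tt N2845 F12469))
theorem Q2847 : ∀ i, i < 2847 → P i := stepQ 2846 Q2846 (allL N2846 (tt N2938 (iv F12920)) (tt N2846 F12470) (tt N2957 (iv F13015)) (tt N2605 F12471) (tt N2944 (iv F12953)) (tt N2596 F12472) (tt N2940 (iv F12935)) (tt N3080 D3113) (tt N2595 (iv D2879)))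
theorem Q2848 : ∀ i, i < 2848 → P i := stepQ 2847 Q2847 (allL N2847 (tt N3012 (iv F13230)) (tt N2847 F12473) (tt N2958 (iv F13018)) (tt N3029 (iv F13307)) (tt N2597 F12474) (tt N3080 (iv F13449)) (tt N2604 F12475) (tt N2596 (iv D2880)) (tt N2847 F12476))
theorem Q2849 : ∀ i, i < 2849 → P i := stepQ 2848 Q2848 (allL N2848 (tt N2996 (iv F13159)) (tt N2600 F12477) (tt N2848 F12478) (tt N3072 (iv F13430)) (tt N2848 F12479) (tt N2598 (iv D2881)) (tt N2975 (iv F13096)) (tt N2848 F12480) (tt N3081 D3114))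
theorem Q2850 : ∀ i, i < 2850 → P i := stepQ 2849 Q2849 (allL N2849 (tt N2999 (iv F13173)) (tt N2601 F12481) (tt N2849 F12482) (tt N3073 (iv F13432)) (tt N2599 F12483) (tt N3081 (iv F13454)) (tt N2883 (iv F12668)) (tt N3082 D3115) (tt N2598 (iv D2882)))
theorem Q2851 : ∀ i, i < 2851 → P i := stepQ 2850 Q2850 (allL N2850 (tt N3002 (iv F13182)) (tt N2602 F12484) (tt N2850 F12485) (tt N2925 (iv F12865)) (tt N3082 (iv F13457)) (tt N2850 F12486) (tt N2884 (iv F12674)) (tt N2599 (iv D2883)) (tt N2850 F12487))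
theorem Q2852 : ∀ i, i < 2852 → P i := stepQ 2851 Q2851 (allL N2851 (tt N2885 (iv F12676)) (tt N3081 (iv F13451)) (tt N2603 F12488) (tt N3075 (iv F13436)) (tt N2851 F12489) (tt N2601 F12490) (tt N3049 (iv F13368)) (tt N3083 D3116) (tt N2600 (iv D2884)))
theorem Q2853 : ∀ i, i < 2853 → P i := stepQ 2852 Q2852 (allL N2852 (tt N3014 (iv F13240)) (tt N3082 (iv F13455)) (tt N2604 F12491) (tt N3084 D3117) (tt N2602 F12492) (tt N3083 (iv F13461)) (tt N2958 (iv F13020)) (tt N2601 (iv D2885)) (tt N2852 F12493))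
theorem Q2854 : ∀ i, i < 2854 → P i := stepQ 2853 Q2853 (allL N2853 (tt N2886 (iv F12682)) (tt N2853 F12494) (tt N3083 (iv F13459)) (tt N2911 (iv F12815)) (tt N2853 F12495) (tt N2604 F12496) (tt N3052 (iv F13377)) (tt N2603 (iv D2886)) (tt N2853 F12497))
theorem Q2855 : ∀ i, i < 2855 → P i := stepQ 2854 Q2854 (allL N2854 (tt N2879 (iv F12641)) (tt N3021 (iv F13271)) (tt N2854 F12498) (tt N3067 (iv F13418)) (tt N2854 F12499) (tt N2607 F12500) (tt N3078 (iv F13444)) (tt N2897 (iv F12747)) (tt N2606 (iv D2887)))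
theorem Q2856 : ∀ i, i < 2856 → P i := stepQ 2855 Q2855 (allL N2855 (tt N2855 F12501) (tt N2643 F12502) (tt N2608 (iv D2888)) (tt N2855 F12503) (tt N2691 (iv F12507)) (tt N2624 F12504) (tt N2855 F12505) (tt N2855 F12506) (tt N3085 D3118))
theorem Q2857 : ∀ i, i < 2857 → P i := stepQ 2856 Q2856 (allL N2856 (tt N2856 F12508) (tt N2612 F12509) (tt N2691 F12510) (tt N2856 F12511) (tt N2608 (iv D2889)) (tt N2683 F12512) (tt N2856 F12513) (tt N2856 F12514) (tt N3086 D3119))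
theorem Q2858 : ∀ i, i < 2858 → P i := stepQ 2857 Q2857 (allL N2857 (tt N2857 F12515) (tt N2613 F12516) (tt N3085 (iv F13466)) (tt N2609 F12517) (tt N3086 (iv F13475)) (tt N2625 F12518) (tt N2857 F12519) (tt N3087 D3120) (tt N2608 (iv D2890)))
theorem Q2859 : ∀ i, i < 2859 → P i := stepQ 2858 Q2858 (allL N2858 (tt N2618 F12520) (tt N2625 F12521) (tt N2653 F12522) (tt N2611 F12523) (tt N2679 F12524) (tt N2613 F12525) (tt N2623 F12526) (tt N3088 D3121) (tt N2610 (iv D2891)))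
theorem Q2860 : ∀ i, i < 2860 → P i := stepQ 2859 Q2859 (allL N2859 (tt N2619 F12527) (tt N2683 F12528) (tt N2654 F12529) (tt N2859 F12530) (tt N2677 F12531) (tt N2612 (iv D2892)) (tt N2756 (iv F12533)) (tt N2859 F12532) (tt N3089 D3122))
theorem Q2861 : ∀ i, i < 2861 → P i := stepQ 2860 Q2860 (allL N2860 (tt N2620 F12534) (tt N3086 (iv F13472)) (tt N2655 F12535) (tt N2860 F12536) (tt N2613 F12537) (tt N3089 (iv F13497)) (tt N2860 F12538) (tt N3090 D3123) (tt N2612 (iv D2893)))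
theorem Q2862 : ∀ i, i < 2862 → P i := stepQ 2861 Q2861 (allL N2861 (tt N2621 F12539) (tt N3087 (iv F13479)) (tt N2656 F12540) (tt N2861 F12541) (tt N3090 (iv F13501)) (tt N3088 (iv F13489)) (tt N2861 F12542) (tt N2613 (iv D2894)) (tt N2861 F12543))
theorem Q2863 : ∀ i, i < 2863 → P i := stepQ 2862 Q2862 (allL N2862 (tt N2623 F12544) (tt N2862 F12545) (tt N2670 F12546) (tt N2615 F12547) (tt N2660 F12548) (tt N2862 F12549) (tt N2618 F12550) (tt N3091 D3124) (tt N2614 (iv D2895)))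
theorem Q2864 : ∀ i, i < 2864 → P i := stepQ 2863 Q2863 (allL N2863 (tt N2677 F12551) (tt N2863 F12552) (tt N2671 F12553) (tt N2657 F12554) (tt N2619 F12555) (tt N2617 (iv D2896)) (tt N2770 F12556) (tt N2863 F12557) (tt N3092 D3125))
theorem Q2865 : ∀ i, i < 2865 → P i := stepQ 2864 Q2864 (allL N2864 (tt N2679 F12558) (tt N2864 F12559) (tt N2672 F12560) (tt N2658 F12561) (tt N2618 F12562) (tt N3092 (iv F13517)) (tt N2660 F12563) (tt N3093 D3126) (tt N2617 (iv D2897)))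
theorem Q2866 : ∀ i, i < 2866 → P i := stepQ 2865 Q2865 (allL N2865 (tt N3088 (iv F13484)) (tt N2865 F12564) (tt N2673 F12565) (tt N2865 F12566) (tt N3093 (iv F13523)) (tt N2621 F12567) (tt N3091 (iv F13510)) (tt N2618 (iv D2898)) (tt N2865 F12568))
theorem Q2867 : ∀ i, i < 2867 → P i := stepQ 2866 Q2866 (allL N2866 (tt N2756 F12569) (tt N2866 F12570) (tt N2674 F12571) (tt N2866 F12572) (tt N2770 F12573) (tt N2866 F12574) (tt N2619 (iv D2899)) (tt N2866 F12575) (tt N3094 D3127))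
theorem Q2868 : ∀ i, i < 2868 → P i := stepQ 2867 Q2867 (allL N2867 (tt N3089 (iv F13492)) (tt N2867 F12576) (tt N2675 F12577) (tt N2867 F12578) (tt N3092 (iv F13516)) (tt N2620 F12579) (tt N3094 (iv F13532)) (tt N3095 D3128) (tt N2619 (iv D2900)))
theorem Q2869 : ∀ i, i < 2869 → P i := stepQ 2868 Q2868 (allL N2868 (tt N3090 (iv F13499)) (tt N2868 F12580) (tt N2676 F12581) (tt N3096 D3129) (tt N2621 F12582) (tt N3095 (iv F13535)) (tt N2868 F12583) (tt N2620 (iv D2901)) (tt N2868 F12584))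
theorem Q2870 : ∀ i, i < 2870 → P i := stepQ 2869 Q2869 (allL N2869 (tt N2711 F12585) (tt N2622 (iv D2902)) (tt N2626 F12586) (tt N2640 F12587) (tt N2680 F12588) (tt N2869 F12589) (tt N2641 F12590) (tt N2869 F12591) (tt N3097 D3130))
theorem Q2871 : ∀ i, i < 2871 → P i := stepQ 2870 Q2870 (allL N2870 (tt N2670 F12592) (tt N3097 (iv F13543)) (tt N2623 F12593) (tt N2651 F12594) (tt N2681 F12595) (tt N2870 F12596) (tt N2653 F12597) (tt N3098 D3131) (tt N2622 (iv D2903)))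
theorem Q2872 : ∀ i, i < 2872 → P i := stepQ 2871 Q2871 (allL N2871 (tt N3091 (iv F13504)) (tt N2628 F12598) (tt N3098 (iv F13550)) (tt N2871 F12599) (tt N2682 F12600) (tt N2871 F12601) (tt N3088 (iv F13490)) (tt N2623 (iv D2904)) (tt N2871 F12602))
theorem Q2873 : ∀ i, i < 2873 → P i := stepQ 2872 Q2872 (allL N2872 (tt N2694 F12609) (tt N2624 (iv D2905)) (tt N2641 F12603) (tt N2872 F12604) (tt N2685 F12605) (tt N2643 F12606) (tt N2626 F12607) (tt N2872 F12608) (tt N3099 D3132))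
theorem Q2874 : ∀ i, i < 2874 → P i := stepQ 2873 Q2873 (allL N2873 (tt N2873 F12610) (tt N3099 (iv F13557)) (tt N2625 F12611) (tt N2873 F12612) (tt N2686 F12613) (tt N3085 (iv F13469)) (tt N2627 F12614) (tt N3100 D3133) (tt N2624 (iv D2906)))
theorem Q2875 : ∀ i, i < 2875 → P i := stepQ 2874 Q2874 (allL N2874 (tt N2874 F12615) (tt N3088 (iv F13485)) (tt N3100 (iv F13564)) (tt N2874 F12616) (tt N2687 F12617) (tt N3087 (iv F13481)) (tt N2628 F12618) (tt N2625 (iv D2907)) (tt N2874 F12619))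
theorem Q2876 : ∀ i, i < 2876 → P i := stepQ 2875 Q2875 (allL N2875 (tt N2626 (iv D2908)) (tt N2875 F12620) (tt N2711 F12621) (tt N2875 F12622) (tt N2688 F12623) (tt N2875 F12624) (tt N2694 F12625) (tt N2875 F12626) (tt N3101 D3134))
theorem Q2877 : ∀ i, i < 2877 → P i := stepQ 2876 Q2876 (allL N2876 (tt N3101 (iv F13568)) (tt N2627 F12627) (tt N3097 (iv F13544)) (tt N2876 F12628) (tt N2689 F12629) (tt N2876 F12630) (tt N3099 (iv F13562)) (tt N3102 D3135) (tt N2626 (iv D2909)))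
theorem Q2878 : ∀ i, i < 2878 → P i := stepQ 2877 Q2877 (allL N2877 (tt N2877 F12631) (tt N3102 (iv F13575)) (tt N2628 F12632) (tt N3103 D3136) (tt N2690 F12633) (tt N2877 F12634) (tt N3100 (iv F13566)) (tt N2627 (iv D2910)) (tt N2877 F12635))
theorem Q2879 : ∀ i, i < 2879 → P i := stepQ 2878 Q2878 (allL N2878 (tt N2825 F12636) (tt N2704 F12637) (tt N3104 D3137) (tt N2629 (iv D2911)) (tt N3105 D3138) (tt N2759 F12638) (tt N2822 F12639) (tt N2630 F12640) (tt N3106 D3139))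
theorem Q2880 : ∀ i, i < 2880 → P i := stepQ 2879 Q2879 (allL N2879 (tt N2854 F12641) (tt N2705 F12642) (tt N2879 F12643) (tt N3106 (iv F13600)) (tt N2879 F12644) (tt N2760 F12645) (tt N2842 F12646) (tt N2663 F12647) (tt N2629 (iv D2912)))
theorem Q2881 : ∀ i, i < 2881 → P i := stepQ 2880 Q2880 (allL N2880 (tt N2834 F12648) (tt N2793 F12649) (tt N2630 (iv D2913)) (tt N2635 F12650) (tt N3107 D3140) (tt N2763 F12651) (tt N2795 F12652) (tt N3104 (iv F13589)) (tt N3108 D3141))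
theorem Q2882 : ∀ i, i < 2882 → P i := stepQ 2881 Q2881 (allL N2881 (tt N2740 F12653) (tt N2706 F12654) (tt N3107 (iv F13605)) (tt N2632 F12655) (tt N2630 (iv D2914)) (tt N2724 F12656) (tt N2832 F12657) (tt N3105 (iv F13597)) (tt N3109 D3142))
theorem Q2883 : ∀ i, i < 2883 → P i := stepQ 2882 Q2882 (allL N2882 (tt N2837 F12658) (tt N2707 F12659) (tt N3108 (iv F13612)) (tt N2631 F12660) (tt N3109 (iv F13619)) (tt N2764 F12661) (tt N2833 F12662) (tt N3110 D3143) (tt N2630 (iv D2915)))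
theorem Q2884 : ∀ i, i < 2884 → P i := stepQ 2883 Q2883 (allL N2883 (tt N2747 F12663) (tt N2709 F12664) (tt N2883 F12665) (tt N3109 (iv F13618)) (tt N2633 F12666) (tt N2728 F12667) (tt N2849 F12668) (tt N3111 D3144) (tt N2632 (iv D2916)))
theorem Q2885 : ∀ i, i < 2885 → P i := stepQ 2884 Q2884 (allL N2884 (tt N2750 F12669) (tt N2710 F12670) (tt N2884 F12671) (tt N2673 F12672) (tt N3111 (iv F13630)) (tt N2634 F12673) (tt N2850 F12674) (tt N2633 (iv D2917)) (tt N2884 F12675))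
theorem Q2886 : ∀ i, i < 2886 → P i := stepQ 2885 Q2885 (allL N2885 (tt N2851 F12676) (tt N2804 F12677) (tt N2636 F12678) (tt N3108 (iv F13613)) (tt N2885 F12679) (tt N2767 F12680) (tt N2807 F12681) (tt N3112 D3145) (tt N2635 (iv D2918)))
theorem Q2887 : ∀ i, i < 2887 → P i := stepQ 2886 Q2886 (allL N2886 (tt N2853 F12682) (tt N2637 F12683) (tt N3112 (iv F13636)) (tt N2682 F12684) (tt N2886 F12685) (tt N2768 F12686) (tt N2810 F12687) (tt N2636 (iv D2919)) (tt N2886 F12688))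
theorem Q2888 : ∀ i, i < 2888 → P i := stepQ 2887 Q2887 (allL N2887 (tt N2715 F12689) (tt N2648 F12690) (tt N2887 F12691) (tt N3113 D3146) (tt N2640 F12692) (tt N2841 F12693) (tt N2639 F12694) (tt N2638 (iv D2920)) (tt N3114 D3147))
theorem Q2889 : ∀ i, i < 2889 → P i := stepQ 2888 Q2888 (allL N2888 (tt N2716 F12695) (tt N2649 F12696) (tt N3115 D3148) (tt N2639 (iv D2921)) (tt N3116 D3149) (tt N2773 F12697) (tt N3113 (iv F13645)) (tt N2828 F12698) (tt N3117 D3150))
theorem Q2890 : ∀ i, i < 2890 → P i := stepQ 2889 Q2889 (allL N2889 (tt N2717 F12699) (tt N2650 F12700) (tt N2889 F12701) (tt N3117 (iv F13671)) (tt N2642 F12702) (tt N2774 F12703) (tt N3114 (iv F13653)) (tt N2802 F12704) (tt N2639 (iv D2922)))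
theorem Q2891 : ∀ i, i < 2891 → P i := stepQ 2890 Q2890 (allL N2890 (tt N2718 F12705) (tt N2651 F12706) (tt N2890 F12707) (tt N3097 (iv F13545)) (tt N3114 (iv F13651)) (tt N2890 F12708) (tt N2642 F12709) (tt N2803 F12710) (tt N2640 (iv D2923)))
theorem Q2892 : ∀ i, i < 2892 → P i := stepQ 2891 Q2891 (allL N2891 (tt N2708 F12711) (tt N2652 F12712) (tt N2685 F12713) (tt N3116 (iv F13665)) (tt N2641 (iv D2924)) (tt N2701 F12714) (tt N2680 F12715) (tt N2891 F12716) (tt N3118 D3151))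
theorem Q2893 : ∀ i, i < 2893 → P i := stepQ 2892 Q2892 (allL N2892 (tt N2712 F12717) (tt N2653 F12718) (tt N3099 (iv F13558)) (tt N2642 F12719) (tt N3118 (iv F13676)) (tt N2644 F12720) (tt N3097 (iv F13548)) (tt N3119 D3152) (tt N2641 (iv D2925)))
theorem Q2894 : ∀ i, i < 2894 → P i := stepQ 2893 Q2893 (allL N2893 (tt N2695 F12721) (tt N3085 (iv F13465)) (tt N2644 F12722) (tt N2893 F12723) (tt N2693 F12724) (tt N3099 (iv F13561)) (tt N2893 F12725) (tt N3120 D3153) (tt N2643 (iv D2926)))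
theorem Q2895 : ∀ i, i < 2895 → P i := stepQ 2894 Q2894 (allL N2894 (tt N2713 F12726) (tt N2656 F12727) (tt N3120 (iv F13685)) (tt N2676 F12728) (tt N2703 F12729) (tt N3119 (iv F13682)) (tt N2894 F12730) (tt N2644 (iv D2927)) (tt N2894 F12731))
theorem Q2896 : ∀ i, i < 2896 → P i := stepQ 2895 Q2895 (allL N2895 (tt N2661 F12732) (tt N2751 F12733) (tt N2895 F12734) (tt N3121 D3154) (tt N2895 F12735) (tt N2801 F12736) (tt N2646 F12737) (tt N2645 (iv D2928)) (tt N3122 D3155))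
theorem Q2897 : ∀ i, i < 2897 → P i := stepQ 2896 Q2896 (allL N2896 (tt N2662 F12738) (tt N2828 F12739) (tt N3123 D3156) (tt N2646 (iv D2929)) (tt N3124 D3157) (tt N2775 F12740) (tt N3121 (iv F13692)) (tt N2649 F12741) (tt N3125 D3158))
theorem Q2898 : ∀ i, i < 2898 → P i := stepQ 2897 Q2897 (allL N2897 (tt N2663 F12742) (tt N2839 F12743) (tt N2897 F12744) (tt N3125 (iv F13719)) (tt N2897 F12745) (tt N2776 F12746) (tt N3122 (iv F13701)) (tt N2854 F12747) (tt N2646 (iv D2930)))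
theorem Q2899 : ∀ i, i < 2899 → P i := stepQ 2898 Q2898 (allL N2898 (tt N2664 F12748) (tt N2841 F12749) (tt N2657 F12750) (tt N3126 D3159) (tt N2898 F12751) (tt N2648 F12752) (tt N2777 F12753) (tt N2647 (iv D2931)) (tt N3127 D3160))
theorem Q2900 : ∀ i, i < 2900 → P i := stepQ 2899 Q2899 (allL N2899 (tt N2665 F12754) (tt N3113 (iv F13642)) (tt N2668 F12755) (tt N2648 (iv D2932)) (tt N2667 F12756) (tt N3126 (iv F13724)) (tt N2649 F12757) (tt N3121 (iv F13693)) (tt N3128 D3161))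
theorem Q2901 : ∀ i, i < 2901 → P i := stepQ 2900 Q2900 (allL N2900 (tt N2666 F12758) (tt N3114 (iv F13649)) (tt N2658 F12759) (tt N3128 (iv F13737)) (tt N2651 F12760) (tt N3127 (iv F13732)) (tt N2650 F12761) (tt N2840 F12762) (tt N2648 (iv D2933)))
theorem Q2902 : ∀ i, i < 2902 → P i := stepQ 2901 Q2901 (allL N2901 (tt N2667 F12763) (tt N2735 (iv F12767)) (tt N2649 (iv D2934)) (tt N2659 F12764) (tt N2665 F12768) (tt N2780 F12765) (tt N2668 F12766) (tt N3123 (iv F13708)) (tt N3129 D3162))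
theorem Q2903 : ∀ i, i < 2903 → P i := stepQ 2902 Q2902 (allL N2902 (tt N2668 F12769) (tt N3116 (iv F13663)) (tt N2665 F12770) (tt N2652 F12771) (tt N2649 (iv D2935)) (tt N3130 D3163) (tt N2667 F12772) (tt N3124 (iv F13716)) (tt N3131 D3164))
theorem Q2904 : ∀ i, i < 2904 → P i := stepQ 2903 Q2903 (allL N2903 (tt N2669 F12773) (tt N3117 (iv F13670)) (tt N3129 (iv F13742)) (tt N2650 F12774) (tt N3131 (iv F13757)) (tt N2782 F12775) (tt N3128 (iv F13739)) (tt N3132 D3165) (tt N2649 (iv D2936)))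
theorem Q2905 : ∀ i, i < 2905 → P i := stepQ 2904 Q2904 (allL N2904 (tt N2671 F12776) (tt N2701 F12777) (tt N2677 F12778) (tt N3130 (iv F13750)) (tt N2654 F12779) (tt N2652 (iv D2937)) (tt N2766 F12780) (tt N2904 F12781) (tt N3133 D3166))
theorem Q2906 : ∀ i, i < 2906 → P i := stepQ 2905 Q2905 (allL N2905 (tt N2672 F12782) (tt N3118 (iv F13674)) (tt N2679 F12783) (tt N3131 (iv F13756)) (tt N2653 F12784) (tt N3133 (iv F13766)) (tt N2681 F12785) (tt N3134 D3167) (tt N2652 (iv D2938)))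
theorem Q2907 : ∀ i, i < 2907 → P i := stepQ 2906 Q2906 (allL N2906 (tt N2673 F12786) (tt N3119 (iv F13680)) (tt N3088 (iv F13486)) (tt N2750 F12787) (tt N3134 (iv F13770)) (tt N2656 F12788) (tt N3098 (iv F13554)) (tt N2653 (iv D2939)) (tt N2906 F12789))
theorem Q2908 : ∀ i, i < 2908 → P i := stepQ 2907 Q2907 (allL N2907 (tt N2675 F12790) (tt N2702 F12791) (tt N3089 (iv F13494)) (tt N2698 F12792) (tt N3133 (iv F13765)) (tt N2655 F12793) (tt N2844 F12794) (tt N3135 D3168) (tt N2654 (iv D2940)))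
theorem Q2909 : ∀ i, i < 2909 → P i := stepQ 2908 Q2908 (allL N2908 (tt N2676 F12795) (tt N2703 F12796) (tt N3090 (iv F13500)) (tt N2713 F12797) (tt N2656 F12798) (tt N3135 (iv F13776)) (tt N2908 F12799) (tt N2655 (iv D2941)) (tt N2908 F12800))
theorem Q2910 : ∀ i, i < 2910 → P i := stepQ 2909 Q2909 (allL N2909 (tt N2678 F12801) (tt N2909 F12802) (tt N3127 (iv F13730)) (tt N3092 (iv F13515)) (tt N2909 F12803) (tt N2658 F12804) (tt N2784 F12805) (tt N2754 F12806) (tt N2657 (iv D2942)))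
theorem Q2911 : ∀ i, i < 2911 → P i := stepQ 2910 Q2910 (allL N2910 (tt N2681 F12807) (tt N2744 F12808) (tt N2660 F12809) (tt N3129 (iv F13743)) (tt N2670 F12810) (tt N2787 F12811) (tt N2672 F12812) (tt N3136 D3169) (tt N2659 (iv D2943)))
theorem Q2912 : ∀ i, i < 2912 → P i := stepQ 2911 Q2911 (allL N2911 (tt N2682 F12813) (tt N2911 F12814) (tt N3136 (iv F13781)) (tt N2853 F12815) (tt N3091 (iv F13508)) (tt N2788 F12816) (tt N3093 (iv F13524)) (tt N2660 (iv D2944)) (tt N2911 F12817))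
theorem Q2913 : ∀ i, i < 2913 → P i := stepQ 2912 Q2912 (allL N2912 (tt N3121 (iv F13689)) (tt N2723 F12818) (tt N3124 (iv F13712)) (tt N2661 (iv D2945)) (tt N3123 F13709) (tt N2818 F12819) (tt N2662 F12820) (tt N2665 F12821) (tt N3137 D3170))
theorem Q2914 : ∀ i, i < 2914 → P i := stepQ 2913 Q2913 (allL N2913 (tt N3122 (iv F13696)) (tt N2730 F12822) (tt N2913 F12823) (tt N3137 (iv F13787)) (tt N2913 F12824) (tt N2821 F12825) (tt N2663 F12826) (tt N2842 F12827) (tt N2661 (iv D2946)))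
theorem Q2915 : ∀ i, i < 2915 → P i := stepQ 2914 Q2914 (allL N2914 (tt N3123 (iv F13703)) (tt N3138 D3171) (tt N2662 (iv D2947)) (tt N2914 F12828) (tt N3121 F13695) (tt N2789 F12829) (tt N3124 (iv F13715)) (tt N2667 F12830) (tt N3139 D3172))
theorem Q2916 : ∀ i, i < 2916 → P i := stepQ 2915 Q2915 (allL N2915 (tt N3124 (iv F13710)) (tt N2731 F12831) (tt N3121 (iv F13694)) (tt N2915 F12832) (tt N2662 (iv D2948)) (tt N3140 D3173) (tt N3123 (iv F13707)) (tt N2668 F12833) (tt N3141 D3174))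
theorem Q2917 : ∀ i, i < 2917 → P i := stepQ 2916 Q2916 (allL N2916 (tt N3125 (iv F13717)) (tt N2732 F12834) (tt N3139 (iv F13797)) (tt N2663 F12835) (tt N3141 (iv F13809)) (tt N2790 F12836) (tt N3137 (iv F13789)) (tt N3142 D3175) (tt N2662 (iv D2949)))
theorem Q2918 : ∀ i, i < 2918 → P i := stepQ 2917 Q2917 (allL N2917 (tt N3126 (iv F13721)) (tt N2733 F12837) (tt N3130 (iv F13749)) (tt N2664 (iv D2950)) (tt N3143 D3176) (tt N2665 F12838) (tt N2791 F12839) (tt N2818 F12840) (tt N3144 D3177))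
theorem Q2919 : ∀ i, i < 2919 → P i := stepQ 2918 Q2918 (allL N2918 (tt N3127 (iv F13728)) (tt N2734 F12841) (tt N2678 F12842) (tt N3144 (iv F13821)) (tt N2918 F12843) (tt N2666 F12844) (tt N2792 F12845) (tt N2752 F12846) (tt N2664 (iv D2951)))
theorem Q2920 : ∀ i, i < 2920 → P i := stepQ 2919 Q2919 (allL N2919 (tt N3128 (iv F13735)) (tt N2736 F12847) (tt N3131 (iv F13755)) (tt N2666 F12848) (tt N3129 (iv F13744)) (tt N3144 (iv F13822)) (tt N2669 F12849) (tt N3145 D3178) (tt N2665 (iv D2952)))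
theorem Q2921 : ∀ i, i < 2921 → P i := stepQ 2920 Q2920 (allL N2920 (tt N3146 D3179) (tt N2667 (iv D2953)) (tt N2737 F12850) (tt N2680 F12851) (tt N3113 (iv F13643)) (tt N2795 F12852) (tt N3116 (iv F13667)) (tt N3138 (iv F13796)) (tt N3147 D3180))
theorem Q2922 : ∀ i, i < 2922 → P i := stepQ 2921 Q2921 (allL N2921 (tt N3129 (iv F13740)) (tt N3147 (iv F13834)) (tt N2669 F12853) (tt N2681 F12854) (tt N3128 (iv F13738)) (tt N2797 F12855) (tt N3131 (iv F13758)) (tt N3148 D3181) (tt N2667 (iv D2954)))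
theorem Q2923 : ∀ i, i < 2923 → P i := stepQ 2922 Q2922 (allL N2922 (tt N3130 (iv F13747)) (tt N2740 F12856) (tt N3126 (iv F13723)) (tt N2671 F12857) (tt N2798 F12858) (tt N2668 (iv D2955)) (tt N3149 D3182) (tt N3140 (iv F13806)) (tt N3150 D3183))
theorem Q2924 : ∀ i, i < 2924 → P i := stepQ 2923 Q2923 (allL N2923 (tt N3131 (iv F13754)) (tt N2741 F12859) (tt N3128 (iv F13736)) (tt N2672 F12860) (tt N2669 F12861) (tt N3150 (iv F13850)) (tt N3129 (iv F13746)) (tt N3151 D3184) (tt N2668 (iv D2956)))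
theorem Q2925 : ∀ i, i < 2925 → P i := stepQ 2924 Q2924 (allL N2924 (tt N3132 (iv F13759)) (tt N2742 F12862) (tt N3148 (iv F13838)) (tt N3110 (iv F13624)) (tt N3151 (iv F13852)) (tt N2800 F12863) (tt N3145 (iv F13826)) (tt N2669 (iv D2957)) (tt N3142 (iv F13812)))
theorem Q2926 : ∀ i, i < 2926 → P i := stepQ 2925 Q2925 (allL N2925 (tt N3098 (iv F13549)) (tt N2745 F12864) (tt N3091 (iv F13506)) (tt N2850 F12865) (tt N3136 (iv F13782)) (tt N2925 F12866) (tt N2673 F12867) (tt N2670 (iv D2958)) (tt N2925 F12868))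
theorem Q2927 : ∀ i, i < 2927 → P i := stepQ 2926 Q2926 (allL N2926 (tt N2766 F12869) (tt N2746 F12870) (tt N2770 F12871) (tt N3149 (iv F13843)) (tt N2674 F12872) (tt N2785 F12873) (tt N2671 (iv D2959)) (tt N2926 F12874) (tt N3152 D3185))
theorem Q2928 : ∀ i, i < 2928 → P i := stepQ 2927 Q2927 (allL N2927 (tt N3133 (iv F13762)) (tt N2747 F12875) (tt N3092 (iv F13514)) (tt N3150 (iv F13848)) (tt N2675 F12876) (tt N2672 F12877) (tt N3152 (iv F13858)) (tt N3153 D3186) (tt N2671 (iv D2960)))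
theorem Q2929 : ∀ i, i < 2929 → P i := stepQ 2928 Q2928 (allL N2928 (tt N3134 (iv F13768)) (tt N2748 F12878) (tt N3093 (iv F13521)) (tt N3154 D3187) (tt N2673 F12879) (tt N3153 (iv F13861)) (tt N3136 (iv F13784)) (tt N2672 (iv D2961)) (tt N2928 F12880))
theorem Q2930 : ∀ i, i < 2930 → P i := stepQ 2929 Q2929 (allL N2929 (tt N2844 F12881) (tt N2749 F12882) (tt N3094 (iv F13528)) (tt N2803 F12883) (tt N3152 (iv F13856)) (tt N2929 F12884) (tt N2675 F12885) (tt N3155 D3188) (tt N2674 (iv D2962)))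
theorem Q2931 : ∀ i, i < 2931 → P i := stepQ 2930 Q2930 (allL N2930 (tt N3135 (iv F13773)) (tt N2750 F12886) (tt N3095 (iv F13534)) (tt N3119 (iv F13681)) (tt N3153 (iv F13860)) (tt N2676 F12887) (tt N3155 (iv F13868)) (tt N2675 (iv D2963)) (tt N2930 F12888))
theorem Q2932 : ∀ i, i < 2932 → P i := stepQ 2931 Q2931 (allL N2931 (tt N3092 (iv F13512)) (tt N2684 F12889) (tt N3133 (iv F13764)) (tt N2678 F12890) (tt N3089 (iv F13496)) (tt N2679 F12891) (tt N2771 F12892) (tt N3156 D3189) (tt N2677 (iv D2964)))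
theorem Q2933 : ∀ i, i < 2933 → P i := stepQ 2932 Q2932 (allL N2932 (tt N3093 (iv F13519)) (tt N2687 F12893) (tt N3134 (iv F13769)) (tt N2810 F12894) (tt N3088 (iv F13488)) (tt N3156 (iv F13872)) (tt N2682 F12895) (tt N2679 (iv D2965)) (tt N2932 F12896))
theorem Q2934 : ∀ i, i < 2934 → P i := stepQ 2933 Q2933 (allL N2933 (tt N2680 (iv D2966)) (tt N2726 F12897) (tt N2688 F12898) (tt N3146 (iv F13829)) (tt N2711 F12899) (tt N2806 F12900) (tt N2708 F12901) (tt N2933 F12902) (tt N3157 D3190))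
theorem Q2935 : ∀ i, i < 2935 → P i := stepQ 2934 Q2934 (allL N2934 (tt N3157 (iv F13875)) (tt N2681 F12903) (tt N2689 F12904) (tt N3147 (iv F13836)) (tt N3097 (iv F13546)) (tt N2807 F12905) (tt N3118 (iv F13678)) (tt N3158 D3191) (tt N2680 (iv D2967)))
theorem Q2936 : ∀ i, i < 2936 → P i := stepQ 2935 Q2935 (allL N2935 (tt N3136 (iv F13779)) (tt N3158 (iv F13881)) (tt N2682 F12906) (tt N3159 D3192) (tt N3098 (iv F13552)) (tt N2808 F12907) (tt N3134 (iv F13771)) (tt N2681 (iv D2968)) (tt N2935 F12908))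
theorem Q2937 : ∀ i, i < 2937 → P i := stepQ 2936 Q2936 (allL N2936 (tt N2936 F12909) (tt N3089 (iv F13493)) (tt N2755 F12910) (tt N2936 F12911) (tt N2684 F12912) (tt N3086 (iv F13476)) (tt N2757 F12913) (tt N3160 D3193) (tt N2683 (iv D2969)))
theorem Q2938 : ∀ i, i < 2938 → P i := stepQ 2937 Q2937 (allL N2937 (tt N2937 F12914) (tt N3156 (iv F13870)) (tt N2769 F12915) (tt N2690 F12916) (tt N3160 (iv F13889)) (tt N2687 F12917) (tt N2772 F12918) (tt N2684 (iv D2970)) (tt N2937 F12919))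
theorem Q2939 : ∀ i, i < 2939 → P i := stepQ 2938 Q2938 (allL N2938 (tt N2846 F12920) (tt N2686 F12921) (tt N3118 (iv F13675)) (tt N2753 F12922) (tt N3099 (iv F13560)) (tt N2765 F12923) (tt N2689 F12924) (tt N3161 D3194) (tt N2685 (iv D2971)))
theorem Q2940 : ∀ i, i < 2940 → P i := stepQ 2939 Q2939 (allL N2939 (tt N2939 F12925) (tt N3161 (iv F13893)) (tt N2687 F12926) (tt N2772 F12927) (tt N3100 (iv F13565)) (tt N2769 F12928) (tt N2690 F12929) (tt N2686 (iv D2972)) (tt N2939 F12930))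
theorem Q2941 : ∀ i, i < 2941 → P i := stepQ 2940 Q2940 (allL N2940 (tt N2689 F12931) (tt N2940 F12932) (tt N3157 (iv F13877)) (tt N2754 F12933) (tt N3101 (iv F13572)) (tt N2809 F12934) (tt N2846 F12935) (tt N3162 D3195) (tt N2688 (iv D2973)))
theorem Q2942 : ∀ i, i < 2942 → P i := stepQ 2941 Q2941 (allL N2941 (tt N3162 (iv F13898)) (tt N2690 F12936) (tt N3158 (iv F13882)) (tt N3156 (iv F13871)) (tt N3102 (iv F13576)) (tt N2810 F12937) (tt N3161 (iv F13896)) (tt N2689 (iv D2974)) (tt N2941 F12938))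
theorem Q2943 : ∀ i, i < 2943 → P i := stepQ 2942 Q2942 (allL N2942 (tt N2942 F12939) (tt N2693 F12940) (tt N3086 (iv F13473)) (tt N2692 F12941) (tt N3085 (iv F13468)) (tt N2755 F12942) (tt N2942 F12943) (tt N3163 D3196) (tt N2691 (iv D2975)))
theorem Q2944 : ∀ i, i < 2944 → P i := stepQ 2943 Q2943 (allL N2943 (tt N2696 F12944) (tt N3163 (iv F13904)) (tt N2703 F12945) (tt N2943 F12946) (tt N3120 (iv F13686)) (tt N2843 F12947) (tt N2943 F12948) (tt N2693 (iv D2976)) (tt N2943 F12949))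
theorem Q2945 : ∀ i, i < 2945 → P i := stepQ 2944 Q2944 (allL N2944 (tt N3099 (iv F13556)) (tt N2944 F12950) (tt N2712 F12951) (tt N2944 F12952) (tt N2846 F12953) (tt N2695 F12954) (tt N3101 (iv F13574)) (tt N3164 D3197) (tt N2694 (iv D2977)))
theorem Q2946 : ∀ i, i < 2946 → P i := stepQ 2945 Q2945 (allL N2945 (tt N3120 (iv F13684)) (tt N2945 F12955) (tt N2713 F12956) (tt N3165 D3198) (tt N2696 F12957) (tt N3164 (iv F13912)) (tt N2945 F12958) (tt N2695 (iv D2978)) (tt N2945 F12959))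
theorem Q2947 : ∀ i, i < 2947 → P i := stepQ 2946 Q2946 (allL N2946 (tt N2798 F12960) (tt N2699 F12961) (tt N3143 (iv F13815)) (tt N2697 (iv D2979)) (tt N3130 (iv F13751)) (tt N2781 F12962) (tt N2818 F12963) (tt N2791 F12964) (tt N3166 D3199))
theorem Q2948 : ∀ i, i < 2948 → P i := stepQ 2947 Q2947 (allL N2947 (tt N2802 F12965) (tt N2700 F12966) (tt N2947 F12967) (tt N3166 (iv F13921)) (tt N2698 F12968) (tt N2783 F12969) (tt N2821 F12970) (tt N2717 F12971) (tt N2697 (iv D2980)))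
theorem Q2949 : ∀ i, i < 2949 → P i := stepQ 2948 Q2948 (allL N2948 (tt N2706 F12972) (tt N3130 (iv F13748)) (tt N2761 F12973) (tt N2701 F12974) (tt N2699 (iv D2981)) (tt N3116 (iv F13666)) (tt N2763 F12975) (tt N2814 F12976) (tt N3167 D3200))
theorem Q2950 : ∀ i, i < 2950 → P i := stepQ 2949 Q2949 (allL N2949 (tt N2707 F12977) (tt N3166 (iv F13920)) (tt N2812 F12978) (tt N2700 F12979) (tt N3167 (iv F13927)) (tt N2811 F12980) (tt N2819 F12981) (tt N3168 D3201) (tt N2699 (iv D2982)))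
theorem Q2951 : ∀ i, i < 2951 → P i := stepQ 2950 Q2950 (allL N2950 (tt N2709 F12982) (tt N3133 (iv F13763)) (tt N2765 F12983) (tt N3167 (iv F13926)) (tt N2702 F12984) (tt N3118 (iv F13677)) (tt N2767 F12985) (tt N3169 D3202) (tt N2701 (iv D2983)))
theorem Q2952 : ∀ i, i < 2952 → P i := stepQ 2951 Q2951 (allL N2951 (tt N2710 F12986) (tt N3135 (iv F13774)) (tt N2843 F12987) (tt N2729 F12988) (tt N3169 (iv F13937)) (tt N2703 F12989) (tt N2845 F12990) (tt N2702 (iv D2984)) (tt N2951 F12991))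
theorem Q2953 : ∀ i, i < 2953 → P i := stepQ 2952 Q2952 (allL N2952 (tt N2814 F12992) (tt N3105 (iv F13592)) (tt N2773 F12993) (tt N2952 F12994) (tt N2704 (iv D2985)) (tt N3115 (iv F13658)) (tt N2823 F12995) (tt N2706 F12996) (tt N3170 D3203))
theorem Q2954 : ∀ i, i < 2954 → P i := stepQ 2953 Q2953 (allL N2953 (tt N2815 F12997) (tt N3106 (iv F13599)) (tt N2811 F12998) (tt N2705 F12999) (tt N3170 (iv F13943)) (tt N2812 F13000) (tt N2824 F13001) (tt N3171 D3204) (tt N2704 (iv D2986)))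
theorem Q2955 : ∀ i, i < 2955 → P i := stepQ 2954 Q2954 (allL N2954 (tt N3116 (iv F13662)) (tt N2724 F13002) (tt N2828 F13003) (tt N2708 F13004) (tt N2716 F13005) (tt N2706 (iv D2987)) (tt N3146 (iv F13832)) (tt N3115 (iv F13660)) (tt N3172 D3205))
theorem Q2956 : ∀ i, i < 2956 → P i := stepQ 2955 Q2955 (allL N2955 (tt N3167 (iv F13924)) (tt N3109 (iv F13617)) (tt N2829 F13006) (tt N2709 F13007) (tt N2707 F13008) (tt N3172 (iv F13955)) (tt N2835 F13009) (tt N3173 D3206) (tt N2706 (iv D2988)))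
theorem Q2957 : ∀ i, i < 2957 → P i := stepQ 2956 Q2956 (allL N2956 (tt N3168 (iv F13929)) (tt N3110 (iv F13623)) (tt N2830 F13010) (tt N2742 F13011) (tt N3173 (iv F13957)) (tt N2817 F13012) (tt N2836 F13013) (tt N2707 (iv D2989)) (tt N3171 (iv F13950)))
theorem Q2958 : ∀ i, i < 2958 → P i := stepQ 2957 Q2957 (allL N2957 (tt N3118 (iv F13673)) (tt N2728 F13014) (tt N2846 F13015) (tt N3172 (iv F13953)) (tt N2712 F13016) (tt N2709 F13017) (tt N3157 (iv F13880)) (tt N3174 D3207) (tt N2708 (iv D2990)))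
theorem Q2959 : ∀ i, i < 2959 → P i := stepQ 2958 Q2958 (allL N2958 (tt N3169 (iv F13935)) (tt N3111 (iv F13628)) (tt N2847 F13018) (tt N3175 D3208) (tt N2710 F13019) (tt N3174 (iv F13962)) (tt N2852 F13020) (tt N2709 (iv D2991)) (tt N2958 F13021))
theorem Q2960 : ∀ i, i < 2960 → P i := stepQ 2959 Q2959 (allL N2959 (tt N3097 (iv F13542)) (tt N2727 F13022) (tt N3101 (iv F13570)) (tt N2718 F13023) (tt N3157 (iv F13878)) (tt N2959 F13024) (tt N2712 F13025) (tt N3176 D3209) (tt N2711 (iv D2992)))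
theorem Q2961 : ∀ i, i < 2961 → P i := stepQ 2960 Q2960 (allL N2960 (tt N3119 (iv F13679)) (tt N2729 F13026) (tt N3164 (iv F13910)) (tt N3135 (iv F13775)) (tt N3174 (iv F13961)) (tt N2713 F13027) (tt N3176 (iv F13970)) (tt N2712 (iv D2993)) (tt N2960 F13028))
theorem Q2962 : ∀ i, i < 2962 → P i := stepQ 2961 Q2961 (allL N2961 (tt N2828 F13029) (tt N2719 F13030) (tt N3116 (iv F13664)) (tt N2714 (iv D2994)) (tt N3115 F13661) (tt N2761 F13031) (tt N2737 F13032) (tt N2716 F13033) (tt N3177 D3210))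
theorem Q2963 : ∀ i, i < 2963 → P i := stepQ 2962 Q2962 (allL N2962 (tt N2839 F13034) (tt N2720 F13035) (tt N2753 F13036) (tt N3177 (iv F13974)) (tt N2962 F13037) (tt N2762 F13038) (tt N2752 F13039) (tt N2792 F13040) (tt N2714 (iv D2995)))
theorem Q2964 : ∀ i, i < 2964 → P i := stepQ 2963 Q2963 (allL N2963 (tt N3113 (iv F13641)) (tt N2721 F13041) (tt N3138 (iv F13791)) (tt N2715 (iv D2996)) (tt N3146 (iv F13830)) (tt N2822 F13042) (tt N2716 F13043) (tt N2737 F13044) (tt N3178 D3211))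
theorem Q2965 : ∀ i, i < 2965 → P i := stepQ 2964 Q2964 (allL N2964 (tt N3114 (iv F13648)) (tt N2722 F13045) (tt N2964 F13046) (tt N3178 (iv F13978)) (tt N2718 F13047) (tt N2842 F13048) (tt N2717 F13049) (tt N2821 F13050) (tt N2715 (iv D2997)))
theorem Q2966 : ∀ i, i < 2966 → P i := stepQ 2965 Q2965 (allL N2965 (tt N3115 (iv F13655)) (tt N3124 (iv F13711)) (tt N2716 (iv D2998)) (tt N2965 F13051) (tt N2828 F13052) (tt N2814 F13053) (tt N3138 (iv F13795)) (tt N3116 (iv F13668)) (tt N3179 D3212))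
theorem Q2967 : ∀ i, i < 2967 → P i := stepQ 2966 Q2966 (allL N2966 (tt N3117 (iv F13669)) (tt N2725 F13054) (tt N3179 (iv F13981)) (tt N2717 F13055) (tt N3172 (iv F13954)) (tt N2816 F13056) (tt N3178 (iv F13980)) (tt N3180 D3213) (tt N2716 (iv D2999)))
theorem Q2968 : ∀ i, i < 2968 → P i := stepQ 2967 Q2967 (allL N2967 (tt N2731 F13057) (tt N3115 (iv F13656)) (tt N2735 F13058) (tt N2967 F13059) (tt N2719 (iv D3000)) (tt N3105 (iv F13595)) (tt N2738 F13060) (tt N2724 F13061) (tt N3181 D3214))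
theorem Q2969 : ∀ i, i < 2969 → P i := stepQ 2968 Q2968 (allL N2968 (tt N2732 F13062) (tt N3177 (iv F13973)) (tt N2736 F13063) (tt N2720 F13064) (tt N3181 (iv F13990)) (tt N2813 F13065) (tt N2739 F13066) (tt N3182 D3215) (tt N2719 (iv D3001)))
theorem Q2970 : ∀ i, i < 2970 → P i := stepQ 2969 Q2969 (allL N2969 (tt N2735 F13067) (tt N3146 (iv F13827)) (tt N2731 F13068) (tt N2726 F13069) (tt N2721 (iv D3002)) (tt N3183 D3216) (tt N2724 F13070) (tt N2738 F13071) (tt N3184 D3217))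
theorem Q2971 : ∀ i, i < 2971 → P i := stepQ 2970 Q2970 (allL N2970 (tt N2736 F13072) (tt N3178 (iv F13977)) (tt N2732 F13073) (tt N2722 F13074) (tt N3184 (iv F14008)) (tt N2824 F13075) (tt N2725 F13076) (tt N3185 D3218) (tt N2721 (iv D3003)))
theorem Q2972 : ∀ i, i < 2972 → P i := stepQ 2971 Q2971 (allL N2971 (tt N2738 F13077) (tt N3123 (iv F13704)) (tt N2724 F13078) (tt N2971 F13079) (tt N2723 (iv D3004)) (tt N3107 (iv F13607)) (tt N2731 F13080) (tt N2735 F13081) (tt N3186 D3219))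
theorem Q2973 : ∀ i, i < 2973 → P i := stepQ 2972 Q2972 (allL N2972 (tt N2739 F13082) (tt N3137 (iv F13786)) (tt N2725 F13083) (tt N2730 F13084) (tt N3186 (iv F14019)) (tt N2819 F13085) (tt N2732 F13086) (tt N3187 D3220) (tt N2723 (iv D3005)))
theorem Q2974 : ∀ i, i < 2974 → P i := stepQ 2973 Q2973 (allL N2973 (tt N2741 F13087) (tt N3172 (iv F13951)) (tt N3186 (iv F14017)) (tt N2728 F13088) (tt N2725 F13089) (tt N3109 (iv F13620)) (tt N3184 (iv F14009)) (tt N3188 D3221) (tt N2724 (iv D3006)))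
theorem Q2975 : ∀ i, i < 2975 → P i := stepQ 2974 Q2974 (allL N2974 (tt N2742 F13090) (tt N3180 (iv F13985)) (tt N3187 (iv F14022)) (tt N3168 (iv F13931)) (tt N3188 (iv F14028)) (tt N2820 F13091) (tt N3185 (iv F14014)) (tt N2725 (iv D3007)) (tt N3182 (iv F13997)))
theorem Q2976 : ∀ i, i < 2976 → P i := stepQ 2975 Q2975 (allL N2975 (tt N2743 F13092) (tt N2806 F13093) (tt N2975 F13094) (tt N3183 (iv F14001)) (tt N2975 F13095) (tt N2726 (iv D3008)) (tt N2848 F13096) (tt N2975 F13097) (tt N3189 D3222))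
theorem Q2977 : ∀ i, i < 2977 → P i := stepQ 2976 Q2976 (allL N2976 (tt N2744 F13098) (tt N3157 (iv F13876)) (tt N2976 F13099) (tt N3184 (iv F14007)) (tt N2727 F13100) (tt N3189 (iv F14033)) (tt N2728 F13101) (tt N3190 D3223) (tt N2726 (iv D3009)))
theorem Q2978 : ∀ i, i < 2978 → P i := stepQ 2977 Q2977 (allL N2977 (tt N2745 F13102) (tt N3176 (iv F13967)) (tt N2977 F13103) (tt N2845 F13104) (tt N3190 (iv F14037)) (tt N2977 F13105) (tt N2729 F13106) (tt N2727 (iv D3010)) (tt N2977 F13107))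
theorem Q2979 : ∀ i, i < 2979 → P i := stepQ 2978 Q2978 (allL N2978 (tt N2748 F13108) (tt N3174 (iv F13959)) (tt N2978 F13109) (tt N3191 D3224) (tt N2729 F13110) (tt N3111 (iv F13631)) (tt N3190 (iv F14038)) (tt N2728 (iv D3011)) (tt N2978 F13111))
theorem Q2980 : ∀ i, i < 2980 → P i := stepQ 2979 Q2979 (allL N2979 (tt N3105 (iv F13591)) (tt N3140 (iv F13801)) (tt N3183 (iv F14000)) (tt N2979 F13112) (tt N2825 F13113) (tt N2731 (iv D3012)) (tt N3192 D3225) (tt N2740 F13114) (tt N3193 D3226))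
theorem Q2981 : ∀ i, i < 2981 → P i := stepQ 2980 Q2980 (allL N2980 (tt N3181 (iv F13987)) (tt N3141 (iv F13807)) (tt N3184 (iv F14006)) (tt N2980 F13115) (tt N2732 F13116) (tt N3193 (iv F14051)) (tt N3186 (iv F14020)) (tt N3194 D3227) (tt N2731 (iv D3013)))
theorem Q2982 : ∀ i, i < 2982 → P i := stepQ 2981 Q2981 (allL N2981 (tt N3182 (iv F13992)) (tt N3142 (iv F13810)) (tt N3185 (iv F14011)) (tt N3171 (iv F13947)) (tt N3194 (iv F14052)) (tt N2827 F13117) (tt N3187 (iv F14025)) (tt N2732 (iv D3014)) (tt N2742 F13118))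
theorem Q2983 : ∀ i, i < 2983 → P i := stepQ 2982 Q2982 (allL N2982 (tt N2823 F13119) (tt N3143 (iv F13814)) (tt N2759 F13120) (tt N2982 F13121) (tt N2733 (iv D3015)) (tt N3104 (iv F13587)) (tt N2814 F13122) (tt N2763 F13123) (tt N3195 D3228))
theorem Q2984 : ∀ i, i < 2984 → P i := stepQ 2983 Q2983 (allL N2983 (tt N2824 F13124) (tt N3144 (iv F13820)) (tt N2813 F13125) (tt N2734 F13126) (tt N3195 (iv F14057)) (tt N2736 F13127) (tt N2815 F13128) (tt N3196 D3229) (tt N2733 (iv D3016)))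
theorem Q2985 : ∀ i, i < 2985 → P i := stepQ 2984 Q2984 (allL N2984 (tt N3183 (iv F13998)) (tt N2780 F13129) (tt N3105 (iv F13593)) (tt N2743 F13130) (tt N3104 F13590) (tt N2735 (iv D3017)) (tt N3197 D3230) (tt N3107 (iv F13609)) (tt N3198 D3231))
theorem Q2986 : ∀ i, i < 2986 → P i := stepQ 2985 Q2985 (allL N2985 (tt N3184 (iv F14005)) (tt N3129 (iv F13741)) (tt N3181 (iv F13988)) (tt N2744 F13131) (tt N2736 F13132) (tt N3198 (iv F14074)) (tt N2741 F13133) (tt N3199 D3232) (tt N2735 (iv D3018)))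
theorem Q2987 : ∀ i, i < 2987 → P i := stepQ 2986 Q2986 (allL N2986 (tt N3185 (iv F14010)) (tt N3145 (iv F13824)) (tt N3182 (iv F13993)) (tt N2836 F13134) (tt N3199 (iv F14075)) (tt N3196 (iv F14062)) (tt N2742 F13135) (tt N2736 (iv D3019)) (tt N3187 (iv F14026)))
theorem Q2988 : ∀ i, i < 2988 → P i := stepQ 2987 Q2987 (allL N2987 (tt N2737 (iv D3020)) (tt N3121 (iv F13690)) (tt N3146 (iv F13828)) (tt N2751 F13136) (tt N3138 (iv F13793)) (tt N2831 F13137) (tt N2828 F13138) (tt N3113 (iv F13646)) (tt N3200 D3233))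
theorem Q2989 : ∀ i, i < 2989 → P i := stepQ 2988 Q2988 (allL N2988 (tt N3138 (iv F13790)) (tt N2738 F13139) (tt N3113 (iv F13647)) (tt N2988 F13140) (tt N2737 (iv D3021)) (tt N3201 D3234) (tt N3115 (iv F13659)) (tt N3146 (iv F13833)) (tt N3202 D3235))
theorem Q2990 : ∀ i, i < 2990 → P i := stepQ 2989 Q2989 (allL N2989 (tt N3200 (iv F14077)) (tt N2739 F13141) (tt N3147 (iv F13835)) (tt N2752 F13142) (tt N3202 (iv F14090)) (tt N2833 F13143) (tt N3177 (iv F13976)) (tt N3203 D3236) (tt N2737 (iv D3022)))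
theorem Q2991 : ∀ i, i < 2991 → P i := stepQ 2990 Q2990 (allL N2990 (tt N3107 (iv F13603)) (tt N3201 (iv F14082)) (tt N2740 F13144) (tt N2990 F13145) (tt N2834 F13146) (tt N2738 (iv D3023)) (tt N3204 D3237) (tt N3183 (iv F14004)) (tt N3205 D3238))
theorem Q2992 : ∀ i, i < 2992 → P i := stepQ 2991 Q2991 (allL N2991 (tt N3186 (iv F14016)) (tt N3202 (iv F14088)) (tt N2741 F13147) (tt N2991 F13148) (tt N2739 F13149) (tt N3205 (iv F14103)) (tt N3181 (iv F13991)) (tt N3206 D3239) (tt N2738 (iv D3024)))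
theorem Q2993 : ∀ i, i < 2993 → P i := stepQ 2992 Q2992 (allL N2992 (tt N3187 (iv F14021)) (tt N3203 (iv F14091)) (tt N2742 F13150) (tt N3196 (iv F14061)) (tt N3206 (iv F14105)) (tt N2836 F13151) (tt N3182 (iv F13996)) (tt N2739 (iv D3025)) (tt N3185 (iv F14015)))
theorem Q2994 : ∀ i, i < 2994 → P i := stepQ 2993 Q2993 (allL N2993 (tt N2832 F13152) (tt N3149 (iv F13841)) (tt N3204 (iv F14095)) (tt N2746 F13153) (tt N2831 F13154) (tt N3197 (iv F14070)) (tt N2740 (iv D3026)) (tt N3192 (iv F14048)) (tt N3207 D3240))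
theorem Q2995 : ∀ i, i < 2995 → P i := stepQ 2994 Q2994 (allL N2994 (tt N3109 (iv F13616)) (tt N3150 (iv F13847)) (tt N3205 (iv F14100)) (tt N2747 F13155) (tt N2837 F13156) (tt N2741 F13157) (tt N3207 (iv F14109)) (tt N3208 D3241) (tt N2740 (iv D3027)))
theorem Q2996 : ∀ i, i < 2996 → P i := stepQ 2995 Q2995 (allL N2995 (tt N3188 (iv F14027)) (tt N3151 (iv F13851)) (tt N3206 (iv F14104)) (tt N3209 D3242) (tt N2742 F13158) (tt N3208 (iv F14111)) (tt N3199 (iv F14076)) (tt N2741 (iv D3028)) (tt N3194 (iv F14053)))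
theorem Q2997 : ∀ i, i < 2997 → P i := stepQ 2996 Q2996 (allL N2996 (tt N2848 F13159) (tt N2785 F13160) (tt N2996 F13161) (tt N3197 (iv F14068)) (tt N2996 F13162) (tt N2746 F13163) (tt N2743 (iv D3029)) (tt N2996 F13164) (tt N3210 D3243))
theorem Q2998 : ∀ i, i < 2998 → P i := stepQ 2997 Q2997 (allL N2997 (tt N3189 (iv F14029)) (tt N2787 F13165) (tt N2997 F13166) (tt N3198 (iv F14073)) (tt N2997 F13167) (tt N2744 F13168) (tt N3210 (iv F14118)) (tt N3211 D3244) (tt N2743 (iv D3030)))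
theorem Q2999 : ∀ i, i < 2999 → P i := stepQ 2998 Q2998 (allL N2998 (tt N3190 (iv F14035)) (tt N3136 (iv F13780)) (tt N2998 F13169) (tt N3212 D3245) (tt N2745 F13170) (tt N3211 (iv F14122)) (tt N2748 F13171) (tt N2744 (iv D3031)) (tt N2998 F13172))
theorem Q3000 : ∀ i, i < 3000 → P i := stepQ 2999 Q2999 (allL N2999 (tt N2849 F13173) (tt N3152 (iv F13854)) (tt N2999 F13174) (tt N3207 (iv F14107)) (tt N2749 F13175) (tt N3210 (iv F14117)) (tt N2747 F13176) (tt N3213 D3246) (tt N2746 (iv D3032)))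
theorem Q3001 : ∀ i, i < 3001 → P i := stepQ 3000 Q3000 (allL N3000 (tt N3111 (iv F13627)) (tt N3153 (iv F13859)) (tt N3000 F13177) (tt N3214 D3247) (tt N2750 F13178) (tt N2748 F13179) (tt N3213 (iv F14130)) (tt N2747 (iv D3033)) (tt N3000 F13180))
theorem Q3002 : ∀ i, i < 3002 → P i := stepQ 3001 Q3001 (allL N3001 (tt N3191 (iv F14040)) (tt N3154 (iv F13863)) (tt N3215 D3248) (tt N2748 (iv D3034)) (tt N3175 (iv F13964)) (tt N3214 (iv F14132)) (tt N3212 (iv F14125)) (tt N3209 (iv F14112)) (tt N3001 F13181))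
theorem Q3003 : ∀ i, i < 3003 → P i := stepQ 3002 Q3002 (allL N3002 (tt N2850 F13182) (tt N3155 (iv F13866)) (tt N3002 F13183) (tt N3098 (iv F13551)) (tt N3213 (iv F14129)) (tt N3002 F13184) (tt N2750 F13185) (tt N2749 (iv D3035)) (tt N3002 F13186))
theorem Q3004 : ∀ i, i < 3004 → P i := stepQ 3003 Q3003 (allL N3003 (tt N2752 F13187) (tt N3122 (iv F13697)) (tt N2754 F13188) (tt N3200 (iv F14078)) (tt N3003 F13189) (tt N2840 F13190) (tt N2839 F13191) (tt N3127 (iv F13734)) (tt N2751 (iv D3036)))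
theorem Q3005 : ∀ i, i < 3005 → P i := stepQ 3004 Q3004 (allL N3004 (tt N3004 F13192) (tt N2843 F13193) (tt N3160 (iv F13888)) (tt N3004 F13194) (tt N2769 F13195) (tt N3163 (iv F13906)) (tt N2758 F13196) (tt N2755 (iv D3037)) (tt N3004 F13197))
theorem Q3006 : ∀ i, i < 3006 → P i := stepQ 3005 Q3005 (allL N3005 (tt N3094 (iv F13526)) (tt N2757 F13198) (tt N2844 F13199) (tt N3005 F13200) (tt N2771 F13201) (tt N3005 F13202) (tt N3089 (iv F13498)) (tt N3216 D3249) (tt N2756 (iv D3038)))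
theorem Q3007 : ∀ i, i < 3007 → P i := stepQ 3006 Q3006 (allL N3006 (tt N3006 F13203) (tt N3216 (iv F14136)) (tt N2758 F13204) (tt N3217 D3250) (tt N2772 F13205) (tt N3006 F13206) (tt N3160 (iv F13890)) (tt N2757 (iv D3039)) (tt N3006 F13207))
theorem Q3008 : ∀ i, i < 3008 → P i := stepQ 3007 Q3007 (allL N3007 (tt N2826 F13208) (tt N2812 F13209) (tt N3195 (iv F14055)) (tt N2760 F13210) (tt N2813 F13211) (tt N3106 (iv F13601)) (tt N2816 F13212) (tt N3218 D3251) (tt N2759 (iv D3040)))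
theorem Q3009 : ∀ i, i < 3009 → P i := stepQ 3008 Q3008 (allL N3008 (tt N2829 F13213) (tt N2813 F13214) (tt N3167 (iv F13925)) (tt N2762 F13215) (tt N2812 F13216) (tt N3177 (iv F13975)) (tt N2764 F13217) (tt N3219 D3252) (tt N2761 (iv D3041)))
theorem Q3010 : ∀ i, i < 3010 → P i := stepQ 3009 Q3009 (allL N3009 (tt N3149 (iv F13840)) (tt N2763 (iv D3042)) (tt N2791 F13218) (tt N2766 F13219) (tt N2818 F13220) (tt N2793 F13221) (tt N3130 (iv F13752)) (tt N3143 (iv F13819)) (tt N3220 D3253))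
theorem Q3011 : ∀ i, i < 3011 → P i := stepQ 3010 Q3010 (allL N3010 (tt N2835 F13222) (tt N3220 (iv F14158)) (tt N2764 F13223) (tt N2767 F13224) (tt N2819 F13225) (tt N3108 (iv F13614)) (tt N3167 (iv F13928)) (tt N3221 D3254) (tt N2763 (iv D3043)))
theorem Q3012 : ∀ i, i < 3012 → P i := stepQ 3011 Q3011 (allL N3011 (tt N2838 F13226) (tt N2817 F13227) (tt N3221 (iv F14164)) (tt N2800 F13228) (tt N2820 F13229) (tt N3110 (iv F13625)) (tt N3219 (iv F14156)) (tt N2764 (iv D3044)) (tt N3218 (iv F14151)))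
theorem Q3013 : ∀ i, i < 3013 → P i := stepQ 3012 Q3012 (allL N3012 (tt N2847 F13230) (tt N2769 F13231) (tt N3169 (iv F13936)) (tt N2805 F13232) (tt N2843 F13233) (tt N3161 (iv F13895)) (tt N2768 F13234) (tt N2765 (iv D3045)) (tt N3012 F13235))
theorem Q3014 : ∀ i, i < 3014 → P i := stepQ 3013 Q3013 (allL N3013 (tt N3152 (iv F13853)) (tt N2767 F13236) (tt N2771 F13237) (tt N3220 (iv F14160)) (tt N2844 F13238) (tt N2804 F13239) (tt N3133 (iv F13767)) (tt N3222 D3255) (tt N2766 (iv D3046)))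
theorem Q3015 : ∀ i, i < 3015 → P i := stepQ 3014 Q3014 (allL N3014 (tt N2852 F13240) (tt N3222 (iv F14166)) (tt N2768 F13241) (tt N3223 D3256) (tt N2845 F13242) (tt N3112 (iv F13638)) (tt N3169 (iv F13938)) (tt N2767 (iv D3047)) (tt N3014 F13243))
theorem Q3016 : ∀ i, i < 3016 → P i := stepQ 3015 Q3015 (allL N3015 (tt N2771 F13244) (tt N3015 F13245) (tt N3152 (iv F13855)) (tt N2784 F13246) (tt N3094 (iv F13530)) (tt N2786 F13247) (tt N3092 (iv F13518)) (tt N3224 D3257) (tt N2770 (iv D3048)))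
theorem Q3017 : ∀ i, i < 3017 → P i := stepQ 3016 Q3016 (allL N3016 (tt N3224 (iv F14174)) (tt N2772 F13248) (tt N3222 (iv F14167)) (tt N3161 (iv F13894)) (tt N3216 (iv F14138)) (tt N2805 F13249) (tt N3156 (iv F13873)) (tt N2771 (iv D3049)) (tt N3016 F13250))
theorem Q3018 : ∀ i, i < 3018 → P i := stepQ 3017 Q3017 (allL N3017 (tt N2816 F13251) (tt N2782 F13252) (tt N3170 (iv F13941)) (tt N2774 F13253) (tt N2811 F13254) (tt N3117 (iv F13672)) (tt N2826 F13255) (tt N3225 D3258) (tt N2773 (iv D3050)))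
theorem Q3019 : ∀ i, i < 3019 → P i := stepQ 3018 Q3018 (allL N3018 (tt N2789 F13256) (tt N3107 (iv F13604)) (tt N2775 (iv D3051)) (tt N3018 F13257) (tt N2793 F13258) (tt N3123 (iv F13706)) (tt N2796 F13259) (tt N2780 F13260) (tt N3226 D3259))
theorem Q3020 : ∀ i, i < 3020 → P i := stepQ 3019 Q3019 (allL N3019 (tt N2790 F13261) (tt N2829 F13262) (tt N3226 (iv F14186)) (tt N2776 F13263) (tt N2794 F13264) (tt N3125 (iv F13720)) (tt N2799 F13265) (tt N3227 D3260) (tt N2775 (iv D3052)))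
theorem Q3021 : ∀ i, i < 3021 → P i := stepQ 3020 Q3020 (allL N3020 (tt N2791 F13266) (tt N2825 F13267) (tt N3149 (iv F13842)) (tt N2777 (iv D3053)) (tt N3140 (iv F13804)) (tt N2778 F13268) (tt N3126 (iv F13725)) (tt N2798 F13269) (tt N3228 D3261))
theorem Q3022 : ∀ i, i < 3022 → P i := stepQ 3021 Q3021 (allL N3021 (tt N2792 F13270) (tt N2854 F13271) (tt N2784 F13272) (tt N3228 (iv F14198)) (tt N3021 F13273) (tt N2779 F13274) (tt N3127 (iv F13733)) (tt N2839 F13275) (tt N2777 (iv D3054)))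
theorem Q3023 : ∀ i, i < 3023 → P i := stepQ 3022 Q3022 (allL N3022 (tt N2793 F13276) (tt N3197 (iv F14066)) (tt N2778 (iv D3055)) (tt N2785 F13277) (tt N2789 F13278) (tt N3149 (iv F13845)) (tt N2780 F13279) (tt N2796 F13280) (tt N3229 D3262))
theorem Q3024 : ∀ i, i < 3024 → P i := stepQ 3023 Q3023 (allL N3023 (tt N2794 F13281) (tt N2826 F13282) (tt N3229 (iv F14201)) (tt N2779 F13283) (tt N2790 F13284) (tt N3228 (iv F14199)) (tt N2782 F13285) (tt N3230 D3263) (tt N2778 (iv D3056)))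
theorem Q3025 : ∀ i, i < 3025 → P i := stepQ 3024 Q3024 (allL N3024 (tt N2796 F13286) (tt N3104 (iv F13585)) (tt N2781 F13287) (tt N3024 F13288) (tt N2780 (iv D3057)) (tt N3143 (iv F13817)) (tt N2789 F13289) (tt N2793 F13290) (tt N3231 D3264))
theorem Q3026 : ∀ i, i < 3026 → P i := stepQ 3025 Q3025 (allL N3025 (tt N2797 F13291) (tt N3198 (iv F14072)) (tt N2782 F13292) (tt N2787 F13293) (tt N3231 (iv F14214)) (tt N3129 (iv F13745)) (tt N3229 (iv F14204)) (tt N3232 D3265) (tt N2780 (iv D3058)))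
theorem Q3027 : ∀ i, i < 3027 → P i := stepQ 3026 Q3026 (allL N3026 (tt N2799 F13294) (tt N2811 F13295) (tt N3231 (iv F14212)) (tt N2783 F13296) (tt N2782 F13297) (tt N3166 (iv F13922)) (tt N2790 F13298) (tt N3233 D3266) (tt N2781 (iv D3059)))
theorem Q3028 : ∀ i, i < 3028 → P i := stepQ 3027 Q3027 (allL N3027 (tt N2800 F13299) (tt N3225 (iv F14180)) (tt N3232 (iv F14217)) (tt N2838 F13300) (tt N3233 (iv F14221)) (tt N3132 (iv F13761)) (tt N3230 (iv F14209)) (tt N2782 (iv D3060)) (tt N3227 (iv F14195)))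
theorem Q3029 : ∀ i, i < 3029 → P i := stepQ 3028 Q3028 (allL N3028 (tt N2804 F13301) (tt N3210 (iv F14114)) (tt N2786 F13302) (tt N3229 (iv F14202)) (tt N3028 F13303) (tt N3152 (iv F13857)) (tt N2787 F13304) (tt N3234 D3267) (tt N2785 (iv D3061)))
theorem Q3030 : ∀ i, i < 3030 → P i := stepQ 3029 Q3029 (allL N3029 (tt N2805 F13305) (tt N3029 F13306) (tt N3234 (iv F14225)) (tt N2847 F13307) (tt N3029 F13308) (tt N3224 (iv F14177)) (tt N2788 F13309) (tt N2786 (iv D3062)) (tt N3029 F13310))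
theorem Q3031 : ∀ i, i < 3031 → P i := stepQ 3030 Q3030 (allL N3030 (tt N2808 F13311) (tt N3211 (iv F14119)) (tt N2788 F13312) (tt N3235 D3268) (tt N3030 F13313) (tt N3136 (iv F13783)) (tt N3234 (iv F14227)) (tt N2787 (iv D3063)) (tt N3030 F13314))
theorem Q3032 : ∀ i, i < 3032 → P i := stepQ 3031 Q3031 (allL N3031 (tt N3201 (iv F14081)) (tt N2789 (iv D3064)) (tt N2822 F13315) (tt N3031 F13316) (tt N3197 (iv F14069)) (tt N3138 (iv F13794)) (tt N3104 (iv F13588)) (tt N2795 F13317) (tt N3236 D3269))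
theorem Q3033 : ∀ i, i < 3033 → P i := stepQ 3032 Q3032 (allL N3032 (tt N3226 (iv F14185)) (tt N3236 (iv F14232)) (tt N2790 F13318) (tt N3032 F13319) (tt N3229 (iv F14203)) (tt N3139 (iv F13799)) (tt N3231 (iv F14215)) (tt N3237 D3270) (tt N2789 (iv D3065)))
theorem Q3034 : ∀ i, i < 3034 → P i := stepQ 3033 Q3033 (allL N3033 (tt N3227 (iv F14190)) (tt N2827 F13320) (tt N3237 (iv F14235)) (tt N3218 (iv F14148)) (tt N3230 (iv F14208)) (tt N3142 (iv F13811)) (tt N3233 (iv F14222)) (tt N2790 (iv D3066)) (tt N2800 F13321))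
theorem Q3035 : ∀ i, i < 3035 → P i := stepQ 3034 Q3034 (allL N3034 (tt N3140 (iv F13800)) (tt N2814 F13322) (tt N2818 F13323) (tt N3034 F13324) (tt N2791 (iv D3067)) (tt N3124 (iv F13714)) (tt N3143 (iv F13818)) (tt N3130 (iv F13753)) (tt N3238 D3271))
theorem Q3036 : ∀ i, i < 3036 → P i := stepQ 3035 Q3035 (allL N3035 (tt N3228 (iv F14196)) (tt N2815 F13325) (tt N3220 (iv F14159)) (tt N2792 F13326) (tt N3238 (iv F14240)) (tt N2794 F13327) (tt N3144 (iv F13823)) (tt N3239 D3272) (tt N2791 (iv D3068)))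
theorem Q3037 : ∀ i, i < 3037 → P i := stepQ 3036 Q3036 (allL N3036 (tt N3229 (iv F14200)) (tt N3108 (iv F13611)) (tt N2794 F13328) (tt N2804 F13329) (tt N3226 (iv F14188)) (tt N3220 (iv F14162)) (tt N2797 F13330) (tt N3240 D3273) (tt N2793 (iv D3069)))
theorem Q3038 : ∀ i, i < 3038 → P i := stepQ 3037 Q3037 (allL N3037 (tt N3230 (iv F14205)) (tt N2830 F13331) (tt N3240 (iv F14243)) (tt N3219 (iv F14154)) (tt N3227 (iv F14193)) (tt N3239 (iv F14242)) (tt N2800 F13332) (tt N2794 (iv D3070)) (tt N3233 (iv F14223)))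
theorem Q3039 : ∀ i, i < 3039 → P i := stepQ 3038 Q3038 (allL N3038 (tt N2795 (iv D3071)) (tt N3183 (iv F13999)) (tt N2831 F13333) (tt N2806 F13334) (tt N3204 (iv F14097)) (tt N3146 (iv F13831)) (tt N2834 F13335) (tt N3201 (iv F14087)) (tt N3241 D3274))
theorem Q3040 : ∀ i, i < 3040 → P i := stepQ 3039 Q3039 (allL N3039 (tt N3204 (iv F14093)) (tt N2796 F13336) (tt N2832 F13337) (tt N3039 F13338) (tt N2795 (iv D3072)) (tt N3192 (iv F14047)) (tt N3107 (iv F13608)) (tt N3197 (iv F14071)) (tt N3242 D3275))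
theorem Q3041 : ∀ i, i < 3041 → P i := stepQ 3040 Q3040 (allL N3040 (tt N3241 (iv F14245)) (tt N2797 F13339) (tt N2833 F13340) (tt N2807 F13341) (tt N3242 (iv F14252)) (tt N3147 (iv F13837)) (tt N3108 (iv F13615)) (tt N3243 D3276) (tt N2795 (iv D3073)))
theorem Q3042 : ∀ i, i < 3042 → P i := stepQ 3041 Q3041 (allL N3041 (tt N3143 (iv F13813)) (tt N3192 (iv F14043)) (tt N2798 F13342) (tt N3041 F13343) (tt N3126 F13727) (tt N2796 (iv D3074)) (tt N3140 (iv F13805)) (tt N3149 (iv F13846)) (tt N3244 D3277))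
theorem Q3043 : ∀ i, i < 3043 → P i := stepQ 3042 Q3042 (allL N3042 (tt N3231 (iv F14211)) (tt N3242 (iv F14249)) (tt N2799 F13344) (tt N3042 F13345) (tt N2797 F13346) (tt N3244 (iv F14257)) (tt N3226 (iv F14189)) (tt N3245 D3278) (tt N2796 (iv D3075)))
theorem Q3044 : ∀ i, i < 3044 → P i := stepQ 3043 Q3043 (allL N3043 (tt N3232 (iv F14216)) (tt N3243 (iv F14253)) (tt N2800 F13347) (tt N3246 D3279) (tt N3245 (iv F14259)) (tt N3148 (iv F13839)) (tt N3240 (iv F14244)) (tt N2797 (iv D3076)) (tt N3237 (iv F14236)))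
theorem Q3045 : ∀ i, i < 3045 → P i := stepQ 3044 Q3044 (allL N3044 (tt N2818 F13348) (tt N2831 F13349) (tt N3140 (iv F13802)) (tt N2801 F13350) (tt N3149 (iv F13844)) (tt N3121 (iv F13691)) (tt N2798 (iv D3077)) (tt N3126 (iv F13726)) (tt N3247 D3280))
theorem Q3046 : ∀ i, i < 3046 → P i := stepQ 3045 Q3045 (allL N3045 (tt N3166 (iv F13919)) (tt N2837 F13351) (tt N3244 (iv F14255)) (tt N2802 F13352) (tt N3150 (iv F13849)) (tt N2799 F13353) (tt N3247 (iv F14264)) (tt N3248 D3281) (tt N2798 (iv D3078)))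
theorem Q3047 : ∀ i, i < 3047 → P i := stepQ 3046 Q3046 (allL N3046 (tt N3233 (iv F14218)) (tt N2838 F13354) (tt N3245 (iv F14258)) (tt N3225 (iv F14181)) (tt N2800 F13355) (tt N3248 (iv F14266)) (tt N3227 (iv F14194)) (tt N2799 (iv D3079)) (tt N3230 (iv F14210)))
theorem Q3048 : ∀ i, i < 3048 → P i := stepQ 3047 Q3047 (allL N3047 (tt N2821 F13356) (tt N2840 F13357) (tt N3047 F13358) (tt N3247 (iv F14263)) (tt N2803 F13359) (tt N3122 (iv F13700)) (tt N2802 F13360) (tt N3114 (iv F13654)) (tt N2801 (iv D3080)))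
theorem Q3049 : ∀ i, i < 3049 → P i := stepQ 3048 Q3048 (allL N3048 (tt N3234 (iv F14224)) (tt N3112 (iv F13635)) (tt N2805 F13361) (tt N3249 D3282) (tt N3048 F13362) (tt N3222 (iv F14169)) (tt N2808 F13363) (tt N2804 (iv D3081)) (tt N3048 F13364))
theorem Q3050 : ∀ i, i < 3050 → P i := stepQ 3049 Q3049 (allL N3049 (tt N2807 F13365) (tt N3189 (iv F14030)) (tt N2809 F13366) (tt N3241 (iv F14247)) (tt N3049 F13367) (tt N3157 (iv F13879)) (tt N2851 F13368) (tt N3250 D3283) (tt N2806 (iv D3082)))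
theorem Q3051 : ∀ i, i < 3051 → P i := stepQ 3050 Q3050 (allL N3050 (tt N3250 (iv F14269)) (tt N2808 F13369) (tt N2810 F13370) (tt N3251 D3284) (tt N3050 F13371) (tt N3158 (iv F13883)) (tt N3112 (iv F13639)) (tt N2807 (iv D3083)) (tt N3050 F13372))
theorem Q3052 : ∀ i, i < 3052 → P i := stepQ 3051 Q3051 (allL N3051 (tt N3235 (iv F14229)) (tt N3251 (iv F14274)) (tt N3223 (iv F14172)) (tt N2808 (iv D3084)) (tt N3252 D3285) (tt N3159 (iv F13885)) (tt N3249 (iv F14267)) (tt N3246 (iv F14260)) (tt N3051 F13373))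
theorem Q3053 : ∀ i, i < 3053 → P i := stepQ 3052 Q3052 (allL N3052 (tt N2810 F13374) (tt N3052 F13375) (tt N3250 (iv F14270)) (tt N3093 (iv F13522)) (tt N3052 F13376) (tt N3162 (iv F13900)) (tt N2853 F13377) (tt N2809 (iv D3085)) (tt N3052 F13378))
theorem Q3054 : ∀ i, i < 3054 → P i := stepQ 3053 Q3053 (allL N3053 (tt N2817 F13379) (tt N3233 (iv F14219)) (tt N3171 (iv F13946)) (tt N2820 F13380) (tt N3225 (iv F14182)) (tt N3168 (iv F13932)) (tt N2827 F13381) (tt N2811 (iv D3086)) (tt N2830 F13382))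
theorem Q3055 : ∀ i, i < 3055 → P i := stepQ 3054 Q3054 (allL N3054 (tt N2830 F13383) (tt N3218 (iv F14147)) (tt N3168 (iv F13930)) (tt N2827 F13384) (tt N3219 (iv F14155)) (tt N3171 (iv F13948)) (tt N2820 F13385) (tt N2812 (iv D3087)) (tt N2817 F13386))
theorem Q3056 : ∀ i, i < 3056 → P i := stepQ 3055 Q3055 (allL N3055 (tt N2827 F13387) (tt N3219 (iv F14153)) (tt N3196 (iv F14060)) (tt N2830 F13388) (tt N3218 (iv F14149)) (tt N3182 (iv F13995)) (tt N2817 F13389) (tt N2813 (iv D3088)) (tt N2820 F13390))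
theorem Q3057 : ∀ i, i < 3057 → P i := stepQ 3056 Q3056 (allL N3056 (tt N3170 (iv F13940)) (tt N3238 (iv F14237)) (tt N2816 F13391) (tt N3056 F13392) (tt N2815 F13393) (tt N3179 (iv F13984)) (tt N3195 (iv F14058)) (tt N3253 D3286) (tt N2814 (iv D3089)))
theorem Q3058 : ∀ i, i < 3058 → P i := stepQ 3057 Q3057 (allL N3057 (tt N3171 (iv F13945)) (tt N3239 (iv F14241)) (tt N2817 F13394) (tt N3182 (iv F13994)) (tt N3253 (iv F14279)) (tt N2830 F13395) (tt N3196 (iv F14063)) (tt N2815 (iv D3090)) (tt N3168 (iv F13934)))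
theorem Q3059 : ∀ i, i < 3059 → P i := stepQ 3058 Q3058 (allL N3058 (tt N3225 (iv F14179)) (tt N2820 F13396) (tt N3253 (iv F14278)) (tt N3233 (iv F14220)) (tt N2817 F13397) (tt N3180 (iv F13986)) (tt N3218 (iv F14150)) (tt N2816 (iv D3091)) (tt N3219 (iv F14157)))
theorem Q3060 : ∀ i, i < 3060 → P i := stepQ 3059 Q3059 (allL N3059 (tt N3247 (iv F14261)) (tt N2819 F13398) (tt N3238 (iv F14238)) (tt N2821 F13399) (tt N3220 (iv F14161)) (tt N3137 (iv F13788)) (tt N3166 (iv F13923)) (tt N3254 D3287) (tt N2818 (iv D3092)))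
theorem Q3061 : ∀ i, i < 3061 → P i := stepQ 3060 Q3060 (allL N3060 (tt N2836 F13400) (tt N3254 (iv F14280)) (tt N2820 F13401) (tt N3185 (iv F14012)) (tt N3221 (iv F14165)) (tt N3187 (iv F14024)) (tt N3168 (iv F13933)) (tt N2819 (iv D3093)) (tt N3196 (iv F14064)))
theorem Q3062 : ∀ i, i < 3062 → P i := stepQ 3061 Q3061 (allL N3061 (tt N2822 (iv D3094)) (tt N3126 (iv F13722)) (tt N3201 (iv F14083)) (tt N2841 F13402) (tt N3192 (iv F14046)) (tt N3113 (iv F13644)) (tt N2825 F13403) (tt N2831 F13404) (tt N3255 D3288))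
theorem Q3063 : ∀ i, i < 3063 → P i := stepQ 3062 Q3062 (allL N3062 (tt N3192 (iv F14042)) (tt N2823 F13405) (tt N3197 (iv F14067)) (tt N3062 F13406) (tt N2822 (iv D3095)) (tt N3204 (iv F14098)) (tt N3105 (iv F13596)) (tt N2832 F13407) (tt N3256 D3289))
theorem Q3064 : ∀ i, i < 3064 → P i := stepQ 3063 Q3063 (allL N3063 (tt N3255 (iv F14281)) (tt N2824 F13408) (tt N3236 (iv F14233)) (tt N2842 F13409) (tt N3256 (iv F14286)) (tt N3178 (iv F13979)) (tt N3106 (iv F13602)) (tt N3257 D3290) (tt N2822 (iv D3096)))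
theorem Q3065 : ∀ i, i < 3065 → P i := stepQ 3064 Q3064 (allL N3064 (tt N3104 (iv F13584)) (tt N3204 (iv F14094)) (tt N2825 F13410) (tt N3064 F13411) (tt N3183 (iv F14002)) (tt N2823 (iv D3097)) (tt N3201 (iv F14086)) (tt N2834 F13412) (tt N3258 D3291))
theorem Q3066 : ∀ i, i < 3066 → P i := stepQ 3065 Q3065 (allL N3065 (tt N3195 (iv F14054)) (tt N3256 (iv F14284)) (tt N2826 F13413) (tt N3065 F13414) (tt N2824 F13415) (tt N3258 (iv F14291)) (tt N3170 (iv F13944)) (tt N3259 D3292) (tt N2823 (iv D3098)))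
theorem Q3067 : ∀ i, i < 3067 → P i := stepQ 3066 Q3066 (allL N3066 (tt N3196 (iv F14059)) (tt N3257 (iv F14287)) (tt N2827 F13416) (tt N3187 (iv F14023)) (tt N3259 (iv F14293)) (tt N3185 (iv F14013)) (tt N3171 (iv F13949)) (tt N2824 (iv D3099)) (tt N2836 F13417))
theorem Q3068 : ∀ i, i < 3068 → P i := stepQ 3067 Q3067 (allL N3067 (tt N3106 (iv F13598)) (tt N3228 (iv F14197)) (tt N3258 (iv F14289)) (tt N2854 F13418) (tt N3193 (iv F14050)) (tt N2826 F13419) (tt N3255 (iv F14283)) (tt N3260 D3293) (tt N2825 (iv D3100)))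
theorem Q3069 : ∀ i, i < 3069 → P i := stepQ 3068 Q3068 (allL N3068 (tt N3218 (iv F14146)) (tt N3230 (iv F14206)) (tt N3259 (iv F14292)) (tt N3227 (iv F14192)) (tt N2827 F13420) (tt N3260 (iv F14295)) (tt N3225 (iv F14183)) (tt N2826 (iv D3101)) (tt N2838 F13421))
theorem Q3070 : ∀ i, i < 3070 → P i := stepQ 3069 Q3069 (allL N3069 (tt N3177 (iv F13972)) (tt N3125 (iv F13718)) (tt N3172 (iv F13952)) (tt N2839 F13422) (tt N3179 (iv F13983)) (tt N2829 F13423) (tt N3200 (iv F14080)) (tt N3261 D3294) (tt N2828 (iv D3102)))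
theorem Q3071 : ∀ i, i < 3071 → P i := stepQ 3070 Q3070 (allL N3070 (tt N3219 (iv F14152)) (tt N3227 (iv F14191)) (tt N3173 (iv F13956)) (tt N3230 (iv F14207)) (tt N2830 F13424) (tt N3261 (iv F14297)) (tt N2838 F13425) (tt N2829 (iv D3103)) (tt N3225 (iv F14184)))
theorem Q3072 : ∀ i, i < 3072 → P i := stepQ 3071 Q3071 (allL N3071 (tt N2833 F13426) (tt N3247 (iv F14262)) (tt N3241 (iv F14246)) (tt N2840 F13427) (tt N3207 (iv F14108)) (tt N3200 (iv F14079)) (tt N2837 F13428) (tt N3262 D3295) (tt N2831 (iv D3104)))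
theorem Q3073 : ∀ i, i < 3073 → P i := stepQ 3072 Q3072 (allL N3072 (tt N3197 (iv F14065)) (tt N2834 F13429) (tt N3192 (iv F14044)) (tt N2848 F13430) (tt N3201 (iv F14085)) (tt N2832 (iv D3105)) (tt N3183 (iv F14003)) (tt N3204 (iv F14099)) (tt N3263 D3296))
theorem Q3074 : ∀ i, i < 3074 → P i := stepQ 3073 Q3073 (allL N3073 (tt N3207 (iv F14106)) (tt N2835 F13431) (tt N3242 (iv F14250)) (tt N2849 F13432) (tt N2833 F13433) (tt N3263 (iv F14302)) (tt N3109 (iv F13621)) (tt N3264 D3297) (tt N2832 (iv D3106)))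
theorem Q3075 : ∀ i, i < 3075 → P i := stepQ 3074 Q3074 (allL N3074 (tt N3262 (iv F14298)) (tt N2836 F13434) (tt N3243 (iv F14254)) (tt N3145 (iv F13825)) (tt N3264 (iv F14304)) (tt N3203 (iv F14092)) (tt N3110 (iv F13626)) (tt N2833 (iv D3107)) (tt N3257 (iv F14288)))
theorem Q3076 : ∀ i, i < 3076 → P i := stepQ 3075 Q3075 (allL N3075 (tt N3108 (iv F13610)) (tt N3263 (iv F14300)) (tt N2837 F13435) (tt N2851 F13436) (tt N3205 (iv F14102)) (tt N2835 F13437) (tt N3241 (iv F14248)) (tt N3265 D3298) (tt N2834 (iv D3108)))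
theorem Q3077 : ∀ i, i < 3077 → P i := stepQ 3076 Q3076 (allL N3076 (tt N3221 (iv F14163)) (tt N3264 (iv F14303)) (tt N2838 F13438) (tt N3266 D3299) (tt N2836 F13439) (tt N3265 (iv F14306)) (tt N3173 (iv F13958)) (tt N2835 (iv D3109)) (tt N3259 (iv F14294)))
theorem Q3078 : ∀ i, i < 3078 → P i := stepQ 3077 Q3077 (allL N3077 (tt N3110 (iv F13622)) (tt N3248 (iv F14265)) (tt N3265 (iv F14305)) (tt N3132 (iv F13760)) (tt N3208 (iv F14110)) (tt N2838 F13440) (tt N3262 (iv F14299)) (tt N2837 (iv D3110)) (tt N3260 (iv F14296)))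
theorem Q3079 : ∀ i, i < 3079 → P i := stepQ 3078 Q3078 (allL N3078 (tt N2842 F13441) (tt N3127 (iv F13729)) (tt N3078 F13442) (tt N3255 (iv F14282)) (tt N3078 F13443) (tt N3114 (iv F13652)) (tt N2854 F13444) (tt N3122 (iv F13702)) (tt N2841 (iv D3111)))
theorem Q3080 : ∀ i, i < 3080 → P i := stepQ 3079 Q3079 (allL N3079 (tt N3155 (iv F13865)) (tt N2845 F13445) (tt N3216 (iv F14137)) (tt N3176 (iv F13968)) (tt N3222 (iv F14168)) (tt N3079 F13446) (tt N3135 (iv F13777)) (tt N2844 (iv D3112)) (tt N3079 F13447))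
theorem Q3081 : ∀ i, i < 3081 → P i := stepQ 3080 Q3080 (allL N3080 (tt N3161 (iv F13892)) (tt N3080 F13448) (tt N3174 (iv F13960)) (tt N3224 (iv F14176)) (tt N3164 (iv F13911)) (tt N2847 F13449) (tt N3162 (iv F13901)) (tt N2846 (iv D3113)) (tt N3080 F13450))
theorem Q3082 : ∀ i, i < 3082 → P i := stepQ 3081 Q3081 (allL N3081 (tt N3210 (iv F14113)) (tt N2851 F13451) (tt N3081 F13452) (tt N3263 (iv F14301)) (tt N3081 F13453) (tt N2849 F13454) (tt N3189 (iv F14034)) (tt N3267 D3300) (tt N2848 (iv D3114)))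
theorem Q3083 : ∀ i, i < 3083 → P i := stepQ 3082 Q3082 (allL N3082 (tt N3213 (iv F14127)) (tt N2852 F13455) (tt N3082 F13456) (tt N3268 D3301) (tt N2850 F13457) (tt N3267 (iv F14311)) (tt N3111 (iv F13632)) (tt N2849 (iv D3115)) (tt N3082 F13458))
theorem Q3084 : ∀ i, i < 3084 → P i := stepQ 3083 Q3083 (allL N3083 (tt N3112 (iv F13634)) (tt N3267 (iv F14308)) (tt N2853 F13459) (tt N3269 D3302) (tt N3083 F13460) (tt N2852 F13461) (tt N3250 (iv F14272)) (tt N2851 (iv D3116)) (tt N3083 F13462))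
theorem Q3085 : ∀ i, i < 3085 → P i := stepQ 3084 Q3084 (allL N3084 (tt N3223 (iv F14171)) (tt N3268 (iv F14313)) (tt N3235 (iv F14230)) (tt N2852 (iv D3117)) (tt N3212 (iv F14124)) (tt N3269 (iv F14315)) (tt N3175 (iv F13965)) (tt N3266 (iv F14307)) (tt N3084 F13463))
theorem Q3086 : ∀ i, i < 3086 → P i := stepQ 3085 Q3085 (allL N3085 (tt N3085 F13464) (tt N2893 F13465) (tt N2857 F13466) (tt N3085 F13467) (tt N2942 F13468) (tt N2873 F13469) (tt N3085 F13470) (tt N3270 D3303) (tt N2855 (iv D3118)))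
theorem Q3087 : ∀ i, i < 3087 → P i := stepQ 3086 Q3086 (allL N3086 (tt N3086 F13471) (tt N2860 F13472) (tt N2942 F13473) (tt N3086 F13474) (tt N2857 F13475) (tt N2936 F13476) (tt N3086 F13477) (tt N3271 D3304) (tt N2856 (iv D3119)))
theorem Q3088 : ∀ i, i < 3088 → P i := stepQ 3087 Q3087 (allL N3087 (tt N3087 F13478) (tt N2861 F13479) (tt N3270 (iv F14319)) (tt N3087 F13480) (tt N3271 (iv F14327)) (tt N2874 F13481) (tt N3087 F13482) (tt N2857 (iv D3120)) (tt N3087 F13483))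
theorem Q3089 : ∀ i, i < 3089 → P i := stepQ 3088 Q3088 (allL N3088 (tt N2865 F13484) (tt N2874 F13485) (tt N2906 F13486) (tt N3088 F13487) (tt N2932 F13488) (tt N2861 F13489) (tt N2871 F13490) (tt N2858 (iv D3121)) (tt N3088 F13491))
theorem Q3090 : ∀ i, i < 3090 → P i := stepQ 3089 Q3089 (allL N3089 (tt N2867 F13492) (tt N2936 F13493) (tt N2907 F13494) (tt N3089 F13495) (tt N2931 F13496) (tt N2860 F13497) (tt N3005 F13498) (tt N3272 D3305) (tt N2859 (iv D3122)))
theorem Q3091 : ∀ i, i < 3091 → P i := stepQ 3090 Q3090 (allL N3090 (tt N2868 F13499) (tt N3271 (iv F14325)) (tt N2908 F13500) (tt N3273 D3306) (tt N2861 F13501) (tt N3272 (iv F14335)) (tt N3090 F13502) (tt N2860 (iv D3123)) (tt N3090 F13503))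
theorem Q3092 : ∀ i, i < 3092 → P i := stepQ 3091 Q3091 (allL N3091 (tt N2871 F13504) (tt N3091 F13505) (tt N2925 F13506) (tt N3091 F13507) (tt N2911 F13508) (tt N3091 F13509) (tt N2865 F13510) (tt N2862 (iv D3124)) (tt N3091 F13511))
theorem Q3093 : ∀ i, i < 3093 → P i := stepQ 3092 Q3092 (allL N3092 (tt N2931 F13512) (tt N3092 F13513) (tt N2927 F13514) (tt N2909 F13515) (tt N2867 F13516) (tt N2864 F13517) (tt N3015 F13518) (tt N3274 D3307) (tt N2863 (iv D3125)))
theorem Q3094 : ∀ i, i < 3094 → P i := stepQ 3093 Q3093 (allL N3093 (tt N2932 F13519) (tt N3093 F13520) (tt N2928 F13521) (tt N3052 F13522) (tt N2865 F13523) (tt N3274 (iv F14349)) (tt N2911 F13524) (tt N2864 (iv D3126)) (tt N3093 F13525))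
theorem Q3095 : ∀ i, i < 3095 → P i := stepQ 3094 Q3094 (allL N3094 (tt N3005 F13526) (tt N3094 F13527) (tt N2929 F13528) (tt N3094 F13529) (tt N3015 F13530) (tt N3094 F13531) (tt N2867 F13532) (tt N3275 D3308) (tt N2866 (iv D3127)))
theorem Q3096 : ∀ i, i < 3096 → P i := stepQ 3095 Q3095 (allL N3095 (tt N3272 (iv F14331)) (tt N3095 F13533) (tt N2930 F13534) (tt N3276 D3309) (tt N3274 (iv F14348)) (tt N2868 F13535) (tt N3275 (iv F14357)) (tt N2867 (iv D3128)) (tt N3095 F13536))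
theorem Q3097 : ∀ i, i < 3097 → P i := stepQ 3096 Q3096 (allL N3096 (tt N3273 (iv F14338)) (tt N3096 F13537) (tt N3277 D3310) (tt N2868 (iv D3129)) (tt N3096 F13538) (tt N3276 (iv F14360)) (tt N3096 F13539) (tt N3096 F13540) (tt N3096 F13541))
theorem Q3098 : ∀ i, i < 3098 → P i := stepQ 3097 Q3097 (allL N3097 (tt N2959 F13542) (tt N2870 F13543) (tt N2876 F13544) (tt N2890 F13545) (tt N2934 F13546) (tt N3097 F13547) (tt N2892 F13548) (tt N3278 D3311) (tt N2869 (iv D3130)))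
theorem Q3099 : ∀ i, i < 3099 → P i := stepQ 3098 Q3098 (allL N3098 (tt N2925 F13549) (tt N3278 (iv F14370)) (tt N2871 F13550) (tt N3002 F13551) (tt N2935 F13552) (tt N3098 F13553) (tt N2906 F13554) (tt N2870 (iv D3131)) (tt N3098 F13555))
theorem Q3100 : ∀ i, i < 3100 → P i := stepQ 3099 Q3099 (allL N3099 (tt N2944 F13556) (tt N2873 F13557) (tt N2892 F13558) (tt N3099 F13559) (tt N2938 F13560) (tt N2893 F13561) (tt N2876 F13562) (tt N3279 D3312) (tt N2872 (iv D3132)))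
theorem Q3101 : ∀ i, i < 3101 → P i := stepQ 3100 Q3100 (allL N3100 (tt N3100 F13563) (tt N3279 (iv F14378)) (tt N2874 F13564) (tt N3280 D3313) (tt N2939 F13565) (tt N3270 (iv F14321)) (tt N2877 F13566) (tt N2873 (iv D3133)) (tt N3100 F13567))
theorem Q3102 : ∀ i, i < 3102 → P i := stepQ 3101 Q3101 (allL N3101 (tt N2876 F13568) (tt N3101 F13569) (tt N2959 F13570) (tt N3101 F13571) (tt N2940 F13572) (tt N3101 F13573) (tt N2944 F13574) (tt N3281 D3314) (tt N2875 (iv D3134)))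
theorem Q3103 : ∀ i, i < 3103 → P i := stepQ 3102 Q3102 (allL N3102 (tt N3281 (iv F14390)) (tt N2877 F13575) (tt N3278 (iv F14371)) (tt N3282 D3315) (tt N2941 F13576) (tt N3102 F13577) (tt N3279 (iv F14382)) (tt N2876 (iv D3135)) (tt N3102 F13578))
theorem Q3104 : ∀ i, i < 3104 → P i := stepQ 3103 Q3103 (allL N3103 (tt N3103 F13579) (tt N3282 (iv F14397)) (tt N3103 F13580) (tt N2877 (iv D3136)) (tt N3283 D3316) (tt N3103 F13581) (tt N3280 (iv F14387)) (tt N3103 F13582) (tt N3103 F13583))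
theorem Q3105 : ∀ i, i < 3105 → P i := stepQ 3104 Q3104 (allL N3104 (tt N3064 F13584) (tt N3024 F13585) (tt N2878 (iv D3137)) (tt N3104 F13586) (tt N2984 (iv F13590)) (tt N2982 F13587) (tt N3031 F13588) (tt N2880 F13589) (tt N3284 D3317))
theorem Q3106 : ∀ i, i < 3106 → P i := stepQ 3105 Q3105 (allL N3105 (tt N2979 F13591) (tt N2952 F13592) (tt N2984 F13593) (tt N3105 F13594) (tt N2878 (iv D3138)) (tt N2967 F13595) (tt N3062 F13596) (tt N2881 F13597) (tt N3285 D3318))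
theorem Q3107 : ∀ i, i < 3107 → P i := stepQ 3106 Q3106 (allL N3106 (tt N3067 F13598) (tt N2953 F13599) (tt N3284 (iv F14409)) (tt N2879 F13600) (tt N3285 (iv F14418)) (tt N3007 F13601) (tt N3063 F13602) (tt N3286 D3319) (tt N2878 (iv D3139)))
theorem Q3108 : ∀ i, i < 3108 → P i := stepQ 3107 Q3107 (allL N3107 (tt N2990 F13603) (tt N3018 F13604) (tt N2881 F13605) (tt N3107 F13606) (tt N2880 (iv D3140)) (tt N2971 F13607) (tt N3039 F13608) (tt N2984 F13609) (tt N3287 D3320))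
theorem Q3109 : ∀ i, i < 3109 → P i := stepQ 3108 Q3108 (allL N3108 (tt N3075 F13610) (tt N3036 F13611) (tt N2882 F13612) (tt N2885 F13613) (tt N3287 (iv F14431)) (tt N3010 F13614) (tt N3040 F13615) (tt N3288 D3321) (tt N2880 (iv D3141)))
theorem Q3110 : ∀ i, i < 3110 → P i := stepQ 3109 Q3109 (allL N3109 (tt N2994 F13616) (tt N2955 F13617) (tt N3287 (iv F14429)) (tt N2883 F13618) (tt N2882 F13619) (tt N2973 F13620) (tt N3073 F13621) (tt N3289 D3322) (tt N2881 (iv D3142)))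
theorem Q3111 : ∀ i, i < 3111 → P i := stepQ 3110 Q3110 (allL N3110 (tt N3077 F13622) (tt N2956 F13623) (tt N3288 (iv F14436)) (tt N2924 F13624) (tt N3289 (iv F14441)) (tt N3011 F13625) (tt N3074 F13626) (tt N2882 (iv D3143)) (tt N3286 (iv F14426)))
theorem Q3112 : ∀ i, i < 3112 → P i := stepQ 3111 Q3111 (allL N3111 (tt N3000 F13627) (tt N2958 F13628) (tt N3111 F13629) (tt N3290 D3323) (tt N2884 F13630) (tt N2978 F13631) (tt N3082 F13632) (tt N2883 (iv D3144)) (tt N3111 F13633))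
theorem Q3113 : ∀ i, i < 3113 → P i := stepQ 3112 Q3112 (allL N3112 (tt N3083 F13634) (tt N3048 F13635) (tt N2886 F13636) (tt N3291 D3324) (tt N3112 F13637) (tt N3014 F13638) (tt N3050 F13639) (tt N2885 (iv D3145)) (tt N3112 F13640))
theorem Q3114 : ∀ i, i < 3114 → P i := stepQ 3113 Q3113 (allL N3113 (tt N2963 F13641) (tt N2899 F13642) (tt N2988 F13647) (tt N2887 (iv D3146)) (tt N2920 F13643) (tt N3061 F13644) (tt N2888 F13645) (tt N2987 F13646) (tt N3292 D3325))
theorem Q3115 : ∀ i, i < 3115 → P i := stepQ 3114 Q3114 (allL N3114 (tt N2964 F13648) (tt N2900 F13649) (tt N3114 F13650) (tt N3292 (iv F14459)) (tt N2890 F13651) (tt N3078 F13652) (tt N2889 F13653) (tt N3047 F13654) (tt N2887 (iv D3147)))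
theorem Q3116 : ∀ i, i < 3116 → P i := stepQ 3115 Q3115 (allL N3115 (tt N2965 F13655) (tt N2967 F13656) (tt N2888 (iv D3148)) (tt N3115 F13657) (tt N2961 (iv F13661)) (tt N2952 F13658) (tt N2988 F13659) (tt N2954 F13660) (tt N3293 D3326))
theorem Q3117 : ∀ i, i < 3117 → P i := stepQ 3116 Q3116 (allL N3116 (tt N2954 F13662) (tt N2902 F13663) (tt N2961 F13664) (tt N2891 F13665) (tt N2888 (iv D3149)) (tt N2948 F13666) (tt N2920 F13667) (tt N2965 F13668) (tt N3294 D3327))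
theorem Q3118 : ∀ i, i < 3118 → P i := stepQ 3117 Q3117 (allL N3117 (tt N2966 F13669) (tt N2903 F13670) (tt N3293 (iv F14465)) (tt N2889 F13671) (tt N3294 (iv F14474)) (tt N3017 F13672) (tt N3292 (iv F14462)) (tt N3295 D3328) (tt N2888 (iv D3150)))
theorem Q3119 : ∀ i, i < 3119 → P i := stepQ 3118 Q3118 (allL N3118 (tt N2957 F13673) (tt N2905 F13674) (tt N2938 F13675) (tt N3294 (iv F14473)) (tt N2892 F13676) (tt N2950 F13677) (tt N2934 F13678) (tt N3296 D3329) (tt N2891 (iv D3151)))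
theorem Q3120 : ∀ i, i < 3120 → P i := stepQ 3119 Q3119 (allL N3119 (tt N2960 F13679) (tt N2906 F13680) (tt N3279 (iv F14379)) (tt N2930 F13681) (tt N3296 (iv F14485)) (tt N2894 F13682) (tt N3278 (iv F14375)) (tt N2892 (iv D3152)) (tt N3119 F13683))
theorem Q3121 : ∀ i, i < 3121 → P i := stepQ 3120 Q3120 (allL N3120 (tt N2945 F13684) (tt N3270 (iv F14318)) (tt N2894 F13685) (tt N3277 (iv F14364)) (tt N2943 F13686) (tt N3279 (iv F14381)) (tt N3120 F13687) (tt N2893 (iv D3153)) (tt N3120 F13688))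
theorem Q3122 : ∀ i, i < 3122 → P i := stepQ 3121 Q3121 (allL N3121 (tt N2912 F13689) (tt N2987 F13690) (tt N2915 F13694) (tt N2895 (iv D3154)) (tt N2914 (iv F13695)) (tt N3044 F13691) (tt N2896 F13692) (tt N2899 F13693) (tt N3297 D3330))
theorem Q3123 : ∀ i, i < 3123 → P i := stepQ 3122 Q3122 (allL N3122 (tt N2913 F13696) (tt N3003 F13697) (tt N3122 F13698) (tt N3297 (iv F14492)) (tt N3122 F13699) (tt N3047 F13700) (tt N2897 F13701) (tt N3078 F13702) (tt N2895 (iv D3155)))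
theorem Q3124 : ∀ i, i < 3124 → P i := stepQ 3123 Q3123 (allL N3123 (tt N2914 F13703) (tt N2971 F13704) (tt N2896 (iv D3156)) (tt N3123 F13705) (tt N2912 (iv F13709)) (tt N3018 F13706) (tt N2915 F13707) (tt N2901 F13708) (tt N3298 D3331))
theorem Q3125 : ∀ i, i < 3125 → P i := stepQ 3124 Q3124 (allL N3124 (tt N2915 F13710) (tt N2965 F13711) (tt N2912 F13712) (tt N3124 F13713) (tt N2896 (iv D3157)) (tt N3034 F13714) (tt N2914 F13715) (tt N2902 F13716) (tt N3299 D3332))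
theorem Q3126 : ∀ i, i < 3126 → P i := stepQ 3125 Q3125 (allL N3125 (tt N2916 F13717) (tt N3069 F13718) (tt N3298 (iv F14498)) (tt N2897 F13719) (tt N3299 (iv F14507)) (tt N3019 F13720) (tt N3297 (iv F14495)) (tt N3300 D3333) (tt N2896 (iv D3158)))
theorem Q3127 : ∀ i, i < 3127 → P i := stepQ 3126 Q3126 (allL N3126 (tt N2917 F13721) (tt N3061 F13722) (tt N2922 F13723) (tt N2898 (iv D3159)) (tt N3041 (iv F13727)) (tt N2899 F13724) (tt N3020 F13725) (tt N3044 F13726) (tt N3301 D3334))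
theorem Q3128 : ∀ i, i < 3128 → P i := stepQ 3127 Q3127 (allL N3127 (tt N2918 F13728) (tt N3078 F13729) (tt N2909 F13730) (tt N3301 (iv F14518)) (tt N3127 F13731) (tt N2900 F13732) (tt N3021 F13733) (tt N3003 F13734) (tt N2898 (iv D3160)))
theorem Q3129 : ∀ i, i < 3129 → P i := stepQ 3128 Q3128 (allL N3128 (tt N2919 F13735) (tt N3292 (iv F14457)) (tt N2923 F13736) (tt N2900 F13737) (tt N2921 F13738) (tt N3301 (iv F14520)) (tt N2903 F13739) (tt N3302 D3335) (tt N2899 (iv D3161)))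
theorem Q3130 : ∀ i, i < 3130 → P i := stepQ 3129 Q3129 (allL N3129 (tt N2921 F13740) (tt N2985 F13741) (tt N2903 F13742) (tt N2910 F13743) (tt N2919 F13744) (tt N3025 F13745) (tt N2923 F13746) (tt N3303 D3336) (tt N2901 (iv D3162)))
theorem Q3131 : ∀ i, i < 3131 → P i := stepQ 3130 Q3130 (allL N3130 (tt N2922 F13747) (tt N2948 F13748) (tt N2917 F13749) (tt N2904 F13750) (tt N2946 F13751) (tt N2902 (iv D3163)) (tt N3009 F13752) (tt N3034 F13753) (tt N3304 D3337))
theorem Q3132 : ∀ i, i < 3132 → P i := stepQ 3131 Q3131 (allL N3131 (tt N2923 F13754) (tt N3294 (iv F14471)) (tt N2919 F13755) (tt N2905 F13756) (tt N2903 F13757) (tt N3304 (iv F14538)) (tt N2921 F13758) (tt N3305 D3338) (tt N2902 (iv D3164)))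
theorem Q3133 : ∀ i, i < 3133 → P i := stepQ 3132 Q3132 (allL N3132 (tt N2924 F13759) (tt N3295 (iv F14478)) (tt N3303 (iv F14529)) (tt N3077 F13760) (tt N3305 (iv F14542)) (tt N3027 F13761) (tt N3302 (iv F14526)) (tt N2903 (iv D3165)) (tt N3300 (iv F14514)))
theorem Q3134 : ∀ i, i < 3134 → P i := stepQ 3133 Q3133 (allL N3133 (tt N2927 F13762) (tt N2950 F13763) (tt N2931 F13764) (tt N3304 (iv F14536)) (tt N2907 F13765) (tt N2905 F13766) (tt N3013 F13767) (tt N3306 D3339) (tt N2904 (iv D3166)))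
theorem Q3135 : ∀ i, i < 3135 → P i := stepQ 3134 Q3134 (allL N3134 (tt N2928 F13768) (tt N3296 (iv F14483)) (tt N2932 F13769) (tt N3307 D3340) (tt N2906 F13770) (tt N3306 (iv F14548)) (tt N2935 F13771) (tt N2905 (iv D3167)) (tt N3134 F13772))
theorem Q3136 : ∀ i, i < 3136 → P i := stepQ 3135 Q3135 (allL N3135 (tt N2930 F13773) (tt N2951 F13774) (tt N3272 (iv F14333)) (tt N2960 F13775) (tt N3306 (iv F14547)) (tt N2908 F13776) (tt N3079 F13777) (tt N2907 (iv D3168)) (tt N3135 F13778))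
theorem Q3137 : ∀ i, i < 3137 → P i := stepQ 3136 Q3136 (allL N3136 (tt N2935 F13779) (tt N2998 F13780) (tt N2911 F13781) (tt N3308 D3341) (tt N2925 F13782) (tt N3030 F13783) (tt N2928 F13784) (tt N2910 (iv D3169)) (tt N3136 F13785))
theorem Q3138 : ∀ i, i < 3138 → P i := stepQ 3137 Q3137 (allL N3137 (tt N3297 (iv F14489)) (tt N2972 F13786) (tt N3299 (iv F14505)) (tt N2913 F13787) (tt N3298 (iv F14500)) (tt N3059 F13788) (tt N2916 F13789) (tt N3309 D3342) (tt N2912 (iv D3170)))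
theorem Q3139 : ∀ i, i < 3139 → P i := stepQ 3138 Q3138 (allL N3138 (tt N2988 F13790) (tt N2914 (iv D3171)) (tt N2963 F13791) (tt N3138 F13792) (tt N2987 F13793) (tt N3031 F13794) (tt N2965 F13795) (tt N2920 F13796) (tt N3310 D3343))
theorem Q3140 : ∀ i, i < 3140 → P i := stepQ 3139 Q3139 (allL N3139 (tt N3298 (iv F14496)) (tt N3310 (iv F14569)) (tt N2916 F13797) (tt N3139 F13798) (tt N3297 (iv F14493)) (tt N3032 F13799) (tt N3299 (iv F14509)) (tt N3311 D3344) (tt N2914 (iv D3172)))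
theorem Q3141 : ∀ i, i < 3141 → P i := stepQ 3140 Q3140 (allL N3140 (tt N3034 F13800) (tt N2979 F13801) (tt N3044 F13802) (tt N3140 F13803) (tt N3020 F13804) (tt N2915 (iv D3173)) (tt N3041 F13805) (tt N2922 F13806) (tt N3312 D3345))
theorem Q3142 : ∀ i, i < 3142 → P i := stepQ 3141 Q3141 (allL N3141 (tt N3299 (iv F14503)) (tt N2980 F13807) (tt N3297 (iv F14491)) (tt N3141 F13808) (tt N2916 F13809) (tt N3312 (iv F14583)) (tt N3298 (iv F14502)) (tt N3313 D3346) (tt N2915 (iv D3174)))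
theorem Q3143 : ∀ i, i < 3143 → P i := stepQ 3142 Q3142 (allL N3142 (tt N3300 (iv F14510)) (tt N2981 F13810) (tt N3311 (iv F14575)) (tt N3286 (iv F14423)) (tt N3313 (iv F14586)) (tt N3033 F13811) (tt N3309 (iv F14566)) (tt N2916 (iv D3175)) (tt N2924 F13812))
theorem Q3144 : ∀ i, i < 3144 → P i := stepQ 3143 Q3143 (allL N3143 (tt N3041 F13813) (tt N2982 F13814) (tt N2946 F13815) (tt N3143 F13816) (tt N2917 (iv D3176)) (tt N3024 F13817) (tt N3034 F13818) (tt N3009 F13819) (tt N3314 D3347))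
theorem Q3145 : ∀ i, i < 3145 → P i := stepQ 3144 Q3144 (allL N3144 (tt N3301 (iv F14515)) (tt N2983 F13820) (tt N3304 (iv F14535)) (tt N2918 F13821) (tt N3314 (iv F14592)) (tt N2919 F13822) (tt N3035 F13823) (tt N3315 D3348) (tt N2917 (iv D3177)))
theorem Q3146 : ∀ i, i < 3146 → P i := stepQ 3145 Q3145 (allL N3145 (tt N3302 (iv F14522)) (tt N2986 F13824) (tt N3305 (iv F14541)) (tt N3074 F13825) (tt N3303 (iv F14530)) (tt N3315 (iv F14597)) (tt N2924 F13826) (tt N2919 (iv D3178)) (tt N3309 (iv F14567)))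
theorem Q3147 : ∀ i, i < 3147 → P i := stepQ 3146 Q3146 (allL N3146 (tt N2920 (iv D3179)) (tt N2969 F13827) (tt N2987 F13828) (tt N2933 F13829) (tt N2963 F13830) (tt N3038 F13831) (tt N2954 F13832) (tt N2988 F13833) (tt N3316 D3349))
theorem Q3148 : ∀ i, i < 3148 → P i := stepQ 3147 Q3147 (allL N3147 (tt N3316 (iv F14600)) (tt N2921 F13834) (tt N2989 F13835) (tt N2934 F13836) (tt N3292 (iv F14460)) (tt N3040 F13837) (tt N3294 (iv F14476)) (tt N3317 D3350) (tt N2920 (iv D3180)))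
theorem Q3149 : ∀ i, i < 3149 → P i := stepQ 3148 Q3148 (allL N3148 (tt N3303 (iv F14527)) (tt N3317 (iv F14607)) (tt N2924 F13838) (tt N3318 D3351) (tt N3302 (iv F14525)) (tt N3043 F13839) (tt N3305 (iv F14543)) (tt N2921 (iv D3181)) (tt N3311 (iv F14577)))
theorem Q3150 : ∀ i, i < 3150 → P i := stepQ 3149 Q3149 (allL N3149 (tt N3009 F13840) (tt N2993 F13841) (tt N3020 F13842) (tt N2926 F13843) (tt N3044 F13844) (tt N3022 F13845) (tt N2922 (iv D3182)) (tt N3041 F13846) (tt N3319 D3352))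
theorem Q3151 : ∀ i, i < 3151 → P i := stepQ 3150 Q3150 (allL N3150 (tt N3304 (iv F14533)) (tt N2994 F13847) (tt N3301 (iv F14517)) (tt N2927 F13848) (tt N3045 F13849) (tt N2923 F13850) (tt N3319 (iv F14618)) (tt N3320 D3353) (tt N2922 (iv D3183)))
theorem Q3152 : ∀ i, i < 3152 → P i := stepQ 3151 Q3151 (allL N3151 (tt N3305 (iv F14540)) (tt N2995 F13851) (tt N3302 (iv F14523)) (tt N3321 D3354) (tt N2924 F13852) (tt N3320 (iv F14621)) (tt N3303 (iv F14532)) (tt N2923 (iv D3184)) (tt N3313 (iv F14587)))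
theorem Q3153 : ∀ i, i < 3153 → P i := stepQ 3152 Q3152 (allL N3152 (tt N3013 F13853) (tt N2999 F13854) (tt N3015 F13855) (tt N3319 (iv F14615)) (tt N2929 F13856) (tt N3028 F13857) (tt N2927 F13858) (tt N3322 D3355) (tt N2926 (iv D3185)))
theorem Q3154 : ∀ i, i < 3154 → P i := stepQ 3153 Q3153 (allL N3153 (tt N3306 (iv F14544)) (tt N3000 F13859) (tt N3274 (iv F14346)) (tt N3323 D3356) (tt N2930 F13860) (tt N2928 F13861) (tt N3322 (iv F14629)) (tt N2927 (iv D3186)) (tt N3153 F13862))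
theorem Q3155 : ∀ i, i < 3155 → P i := stepQ 3154 Q3154 (allL N3154 (tt N3307 (iv F14551)) (tt N3001 F13863) (tt N3324 D3357) (tt N2928 (iv D3187)) (tt N3290 (iv F14446)) (tt N3323 (iv F14632)) (tt N3308 (iv F14561)) (tt N3321 (iv F14623)) (tt N3154 F13864))
theorem Q3156 : ∀ i, i < 3156 → P i := stepQ 3155 Q3155 (allL N3155 (tt N3079 F13865) (tt N3002 F13866) (tt N3275 (iv F14354)) (tt N3278 (iv F14372)) (tt N3322 (iv F14627)) (tt N3155 F13867) (tt N2930 F13868) (tt N2929 (iv D3188)) (tt N3155 F13869))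
theorem Q3157 : ∀ i, i < 3157 → P i := stepQ 3156 Q3156 (allL N3156 (tt N3274 (iv F14344)) (tt N2937 F13870) (tt N3306 (iv F14546)) (tt N2941 F13871) (tt N3272 (iv F14334)) (tt N2932 F13872) (tt N3016 F13873) (tt N2931 (iv D3189)) (tt N3156 F13874))
theorem Q3158 : ∀ i, i < 3158 → P i := stepQ 3157 Q3157 (allL N3157 (tt N2934 F13875) (tt N2976 F13876) (tt N2940 F13877) (tt N3316 (iv F14603)) (tt N2959 F13878) (tt N3049 F13879) (tt N2957 F13880) (tt N3325 D3358) (tt N2933 (iv D3190)))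
theorem Q3159 : ∀ i, i < 3159 → P i := stepQ 3158 Q3158 (allL N3158 (tt N3325 (iv F14638)) (tt N2935 F13881) (tt N2941 F13882) (tt N3326 D3359) (tt N3278 (iv F14373)) (tt N3050 F13883) (tt N3296 (iv F14487)) (tt N2934 (iv D3191)) (tt N3158 F13884))
theorem Q3160 : ∀ i, i < 3160 → P i := stepQ 3159 Q3159 (allL N3159 (tt N3308 (iv F14556)) (tt N3326 (iv F14645)) (tt N3291 (iv F14452)) (tt N2935 (iv D3192)) (tt N3327 D3360) (tt N3051 F13885) (tt N3307 (iv F14554)) (tt N3318 (iv F14611)) (tt N3159 F13886))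
theorem Q3161 : ∀ i, i < 3161 → P i := stepQ 3160 Q3160 (allL N3160 (tt N3160 F13887) (tt N3272 (iv F14332)) (tt N3004 F13888) (tt N3283 (iv F14403)) (tt N2937 F13889) (tt N3271 (iv F14328)) (tt N3006 F13890) (tt N2936 (iv D3193)) (tt N3160 F13891))
theorem Q3162 : ∀ i, i < 3162 → P i := stepQ 3161 Q3161 (allL N3161 (tt N3080 F13892) (tt N2939 F13893) (tt N3296 (iv F14484)) (tt N3016 F13894) (tt N3279 (iv F14380)) (tt N3012 F13895) (tt N2941 F13896) (tt N2938 (iv D3194)) (tt N3161 F13897))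
theorem Q3163 : ∀ i, i < 3163 → P i := stepQ 3162 Q3162 (allL N3162 (tt N2941 F13898) (tt N3162 F13899) (tt N3325 (iv F14640)) (tt N3274 (iv F14347)) (tt N3281 (iv F14393)) (tt N3052 F13900) (tt N3080 F13901) (tt N2940 (iv D3195)) (tt N3162 F13902))
theorem Q3164 : ∀ i, i < 3164 → P i := stepQ 3163 Q3163 (allL N3163 (tt N3163 F13903) (tt N2943 F13904) (tt N3271 (iv F14326)) (tt N3163 F13905) (tt N3270 (iv F14320)) (tt N3004 F13906) (tt N3163 F13907) (tt N2942 (iv D3196)) (tt N3163 F13908))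
theorem Q3165 : ∀ i, i < 3165 → P i := stepQ 3164 Q3164 (allL N3164 (tt N3279 (iv F14377)) (tt N3164 F13909) (tt N2960 F13910) (tt N3328 D3361) (tt N3080 F13911) (tt N2945 F13912) (tt N3281 (iv F14395)) (tt N2944 (iv D3197)) (tt N3164 F13913))
theorem Q3166 : ∀ i, i < 3166 → P i := stepQ 3165 Q3165 (allL N3165 (tt N3277 (iv F14363)) (tt N3165 F13914) (tt N3273 (iv F14339)) (tt N2945 (iv D3198)) (tt N3165 F13915) (tt N3328 (iv F14653)) (tt N3165 F13916) (tt N3165 F13917) (tt N3165 F13918))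
theorem Q3167 : ∀ i, i < 3167 → P i := stepQ 3166 Q3166 (allL N3166 (tt N3045 F13919) (tt N2949 F13920) (tt N3314 (iv F14590)) (tt N2947 F13921) (tt N3304 (iv F14537)) (tt N3026 F13922) (tt N3059 F13923) (tt N3329 D3362) (tt N2946 (iv D3199)))
theorem Q3168 : ∀ i, i < 3168 → P i := stepQ 3167 Q3167 (allL N3167 (tt N2955 F13924) (tt N3304 (iv F14534)) (tt N3008 F13925) (tt N2950 F13926) (tt N2949 F13927) (tt N3294 (iv F14475)) (tt N3010 F13928) (tt N3330 D3363) (tt N2948 (iv D3200)))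
theorem Q3169 : ∀ i, i < 3169 → P i := stepQ 3168 Q3168 (allL N3168 (tt N2956 F13929) (tt N3329 (iv F14657)) (tt N3054 F13930) (tt N2974 F13931) (tt N3330 (iv F14664)) (tt N3053 F13932) (tt N3060 F13933) (tt N2949 (iv D3201)) (tt N3057 F13934))
theorem Q3170 : ∀ i, i < 3170 → P i := stepQ 3169 Q3169 (allL N3169 (tt N2958 F13935) (tt N3306 (iv F14545)) (tt N3012 F13936) (tt N3331 D3364) (tt N2951 F13937) (tt N3296 (iv F14486)) (tt N3014 F13938) (tt N2950 (iv D3202)) (tt N3169 F13939))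
theorem Q3171 : ∀ i, i < 3171 → P i := stepQ 3170 Q3170 (allL N3170 (tt N3056 F13940) (tt N3285 (iv F14415)) (tt N3017 F13941) (tt N3170 F13942) (tt N2953 F13943) (tt N3293 (iv F14468)) (tt N3065 F13944) (tt N3332 D3365) (tt N2952 (iv D3203)))
theorem Q3172 : ∀ i, i < 3172 → P i := stepQ 3171 Q3171 (allL N3171 (tt N3057 F13945) (tt N3286 (iv F14422)) (tt N3053 F13946) (tt N2981 F13947) (tt N3332 (iv F14674)) (tt N3054 F13948) (tt N3066 F13949) (tt N2953 (iv D3204)) (tt N2956 F13950))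
theorem Q3173 : ∀ i, i < 3173 → P i := stepQ 3172 Q3172 (allL N3172 (tt N3294 (iv F14470)) (tt N2973 F13951) (tt N3069 F13952) (tt N2957 F13953) (tt N2966 F13954) (tt N2955 F13955) (tt N3316 (iv F14606)) (tt N3333 D3366) (tt N2954 (iv D3205)))
theorem Q3174 : ∀ i, i < 3174 → P i := stepQ 3173 Q3173 (allL N3173 (tt N3330 (iv F14662)) (tt N3289 (iv F14440)) (tt N3070 F13956) (tt N3334 D3367) (tt N2956 F13957) (tt N3333 (iv F14680)) (tt N3076 F13958) (tt N2955 (iv D3206)) (tt N3332 (iv F14676)))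
theorem Q3175 : ∀ i, i < 3175 → P i := stepQ 3174 Q3174 (allL N3174 (tt N3296 (iv F14482)) (tt N2978 F13959) (tt N3080 F13960) (tt N3335 D3368) (tt N2960 F13961) (tt N2958 F13962) (tt N3325 (iv F14643)) (tt N2957 (iv D3207)) (tt N3174 F13963))
theorem Q3176 : ∀ i, i < 3176 → P i := stepQ 3175 Q3175 (allL N3175 (tt N3331 (iv F14667)) (tt N3290 (iv F14445)) (tt N3336 D3369) (tt N2958 (iv D3208)) (tt N3001 F13964) (tt N3335 (iv F14685)) (tt N3084 F13965) (tt N3334 (iv F14683)) (tt N3175 F13966))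
theorem Q3177 : ∀ i, i < 3177 → P i := stepQ 3176 Q3176 (allL N3176 (tt N3278 (iv F14369)) (tt N2977 F13967) (tt N3281 (iv F14392)) (tt N3079 F13968) (tt N3325 (iv F14641)) (tt N3176 F13969) (tt N2960 F13970) (tt N2959 (iv D3209)) (tt N3176 F13971))
theorem Q3178 : ∀ i, i < 3178 → P i := stepQ 3177 Q3177 (allL N3177 (tt N3069 F13972) (tt N2968 F13973) (tt N3294 (iv F14472)) (tt N2962 F13974) (tt N3293 (iv F14467)) (tt N3008 F13975) (tt N2989 F13976) (tt N3337 D3370) (tt N2961 (iv D3210)))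
theorem Q3179 : ∀ i, i < 3179 → P i := stepQ 3178 Q3178 (allL N3178 (tt N3292 (iv F14456)) (tt N2970 F13977) (tt N3310 (iv F14570)) (tt N2964 F13978) (tt N3316 (iv F14604)) (tt N3063 F13979) (tt N2966 F13980) (tt N3338 D3371) (tt N2963 (iv D3211)))
theorem Q3180 : ∀ i, i < 3180 → P i := stepQ 3179 Q3179 (allL N3179 (tt N3293 (iv F14463)) (tt N3299 (iv F14504)) (tt N2966 F13981) (tt N3179 F13982) (tt N3069 F13983) (tt N3056 F13984) (tt N3310 (iv F14574)) (tt N3339 D3372) (tt N2965 (iv D3212)))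
theorem Q3181 : ∀ i, i < 3181 → P i := stepQ 3180 Q3180 (allL N3180 (tt N3295 (iv F14477)) (tt N2974 F13985) (tt N3339 (iv F14703)) (tt N3329 (iv F14658)) (tt N3333 (iv F14679)) (tt N3058 F13986) (tt N3338 (iv F14701)) (tt N2966 (iv D3213)) (tt N3337 (iv F14697)))
theorem Q3182 : ∀ i, i < 3182 → P i := stepQ 3181 Q3181 (allL N3181 (tt N2980 F13987) (tt N3293 (iv F14464)) (tt N2985 F13988) (tt N3181 F13989) (tt N2968 F13990) (tt N3285 (iv F14419)) (tt N2991 F13991) (tt N3340 D3373) (tt N2967 (iv D3214)))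
theorem Q3183 : ∀ i, i < 3183 → P i := stepQ 3182 Q3182 (allL N3182 (tt N2981 F13992) (tt N3337 (iv F14693)) (tt N2986 F13993) (tt N3057 F13994) (tt N3340 (iv F14708)) (tt N3055 F13995) (tt N2992 F13996) (tt N2968 (iv D3215)) (tt N2974 F13997))
theorem Q3184 : ∀ i, i < 3184 → P i := stepQ 3183 Q3183 (allL N3183 (tt N2984 F13998) (tt N3038 F13999) (tt N2979 F14000) (tt N2975 F14001) (tt N3064 F14002) (tt N2969 (iv D3216)) (tt N3072 F14003) (tt N2990 F14004) (tt N3341 D3374))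
theorem Q3185 : ∀ i, i < 3185 → P i := stepQ 3184 Q3184 (allL N3184 (tt N2985 F14005) (tt N3316 (iv F14601)) (tt N2980 F14006) (tt N2976 F14007) (tt N2970 F14008) (tt N3341 (iv F14716)) (tt N2973 F14009) (tt N3342 D3375) (tt N2969 (iv D3217)))
theorem Q3186 : ∀ i, i < 3186 → P i := stepQ 3185 Q3185 (allL N3185 (tt N2986 F14010) (tt N3338 (iv F14698)) (tt N2981 F14011) (tt N3060 F14012) (tt N3342 (iv F14720)) (tt N3066 F14013) (tt N2974 F14014) (tt N2970 (iv D3218)) (tt N2992 F14015))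
theorem Q3187 : ∀ i, i < 3187 → P i := stepQ 3186 Q3186 (allL N3186 (tt N2991 F14016) (tt N3298 (iv F14497)) (tt N2973 F14017) (tt N3186 F14018) (tt N2972 F14019) (tt N3287 (iv F14432)) (tt N2980 F14020) (tt N3343 D3376) (tt N2971 (iv D3219)))
theorem Q3188 : ∀ i, i < 3188 → P i := stepQ 3187 Q3187 (allL N3187 (tt N2992 F14021) (tt N3309 (iv F14563)) (tt N2974 F14022) (tt N3066 F14023) (tt N3343 (iv F14725)) (tt N3060 F14024) (tt N2981 F14025) (tt N2972 (iv D3220)) (tt N2986 F14026))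
theorem Q3189 : ∀ i, i < 3189 → P i := stepQ 3188 Q3188 (allL N3188 (tt N2995 F14027) (tt N3333 (iv F14677)) (tt N3343 (iv F14724)) (tt N3344 D3377) (tt N2974 F14028) (tt N3289 (iv F14442)) (tt N3342 (iv F14721)) (tt N2973 (iv D3221)) (tt N3340 (iv F14710)))
theorem Q3190 : ∀ i, i < 3190 → P i := stepQ 3189 Q3189 (allL N3189 (tt N2997 F14029) (tt N3049 F14030) (tt N3189 F14031) (tt N3341 (iv F14714)) (tt N3189 F14032) (tt N2976 F14033) (tt N3081 F14034) (tt N3345 D3378) (tt N2975 (iv D3222)))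
theorem Q3191 : ∀ i, i < 3191 → P i := stepQ 3190 Q3190 (allL N3190 (tt N2998 F14035) (tt N3325 (iv F14639)) (tt N3190 F14036) (tt N3346 D3379) (tt N2977 F14037) (tt N3345 (iv F14734)) (tt N2978 F14038) (tt N2976 (iv D3223)) (tt N3190 F14039))
theorem Q3192 : ∀ i, i < 3192 → P i := stepQ 3191 Q3191 (allL N3191 (tt N3001 F14040) (tt N3335 (iv F14684)) (tt N3347 D3380) (tt N2978 (iv D3224)) (tt N3331 (iv F14669)) (tt N3290 (iv F14447)) (tt N3346 (iv F14739)) (tt N3344 (iv F14729)) (tt N3191 F14041))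
theorem Q3193 : ∀ i, i < 3193 → P i := stepQ 3192 Q3192 (allL N3192 (tt N3062 F14042) (tt N3041 F14043) (tt N3072 F14044) (tt N3192 F14045) (tt N3061 F14046) (tt N3039 F14047) (tt N2979 (iv D3225)) (tt N2993 F14048) (tt N3348 D3381))
theorem Q3194 : ∀ i, i < 3194 → P i := stepQ 3193 Q3193 (allL N3193 (tt N3285 (iv F14414)) (tt N3312 (iv F14579)) (tt N3341 (iv F14713)) (tt N3193 F14049) (tt N3067 F14050) (tt N2980 F14051) (tt N3348 (iv F14753)) (tt N3349 D3382) (tt N2979 (iv D3226)))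
theorem Q3195 : ∀ i, i < 3195 → P i := stepQ 3194 Q3194 (allL N3194 (tt N3340 (iv F14706)) (tt N3313 (iv F14585)) (tt N3342 (iv F14719)) (tt N3350 D3383) (tt N2981 F14052) (tt N3349 (iv F14755)) (tt N3343 (iv F14726)) (tt N2980 (iv D3227)) (tt N2995 F14053))
theorem Q3196 : ∀ i, i < 3196 → P i := stepQ 3195 Q3195 (allL N3195 (tt N3065 F14054) (tt N3314 (iv F14589)) (tt N3007 F14055) (tt N3195 F14056) (tt N2983 F14057) (tt N3284 (iv F14412)) (tt N3056 F14058) (tt N3351 D3384) (tt N2982 (iv D3228)))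
theorem Q3197 : ∀ i, i < 3197 → P i := stepQ 3196 Q3196 (allL N3196 (tt N3066 F14059) (tt N3315 (iv F14595)) (tt N3055 F14060) (tt N2992 F14061) (tt N3351 (iv F14761)) (tt N2986 F14062) (tt N3057 F14063) (tt N2983 (iv D3229)) (tt N3060 F14064))
theorem Q3198 : ∀ i, i < 3198 → P i := stepQ 3197 Q3197 (allL N3197 (tt N3072 F14065) (tt N3022 F14066) (tt N3062 F14067) (tt N2996 F14068) (tt N3031 F14069) (tt N2993 F14070) (tt N2984 (iv D3230)) (tt N3039 F14071) (tt N3352 D3385))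
theorem Q3199 : ∀ i, i < 3199 → P i := stepQ 3198 Q3198 (allL N3198 (tt N3341 (iv F14711)) (tt N3025 F14072) (tt N3285 (iv F14416)) (tt N2997 F14073) (tt N3284 (iv F14411)) (tt N2985 F14074) (tt N3352 (iv F14770)) (tt N3353 D3386) (tt N2984 (iv D3231)))
theorem Q3200 : ∀ i, i < 3200 → P i := stepQ 3199 Q3199 (allL N3199 (tt N3342 (iv F14718)) (tt N3303 (iv F14528)) (tt N3340 (iv F14707)) (tt N3354 D3387) (tt N2986 F14075) (tt N3353 (iv F14772)) (tt N2995 F14076) (tt N2985 (iv D3232)) (tt N3343 (iv F14727)))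
theorem Q3201 : ∀ i, i < 3201 → P i := stepQ 3200 Q3200 (allL N3200 (tt N2989 F14077) (tt N3297 (iv F14490)) (tt N3316 (iv F14602)) (tt N3003 F14078) (tt N3310 (iv F14572)) (tt N3071 F14079) (tt N3069 F14080) (tt N3355 D3388) (tt N2987 (iv D3233)))
theorem Q3202 : ∀ i, i < 3202 → P i := stepQ 3201 Q3201 (allL N3201 (tt N3031 F14081) (tt N2990 F14082) (tt N3061 F14083) (tt N3201 F14084) (tt N3072 F14085) (tt N2988 (iv D3234)) (tt N3064 F14086) (tt N3038 F14087) (tt N3356 D3389))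
theorem Q3203 : ∀ i, i < 3203 → P i := stepQ 3202 Q3202 (allL N3202 (tt N3310 (iv F14568)) (tt N2991 F14088) (tt N3292 (iv F14458)) (tt N3202 F14089) (tt N2989 F14090) (tt N3356 (iv F14784)) (tt N3293 (iv F14469)) (tt N3357 D3390) (tt N2988 (iv D3235)))
theorem Q3204 : ∀ i, i < 3204 → P i := stepQ 3203 Q3203 (allL N3203 (tt N3355 (iv F14776)) (tt N2992 F14091) (tt N3317 (iv F14608)) (tt N3315 (iv F14596)) (tt N3357 (iv F14787)) (tt N3074 F14092) (tt N3337 (iv F14696)) (tt N2989 (iv D3236)) (tt N3338 (iv F14702)))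
theorem Q3205 : ∀ i, i < 3205 → P i := stepQ 3204 Q3204 (allL N3204 (tt N3039 F14093) (tt N3064 F14094) (tt N2993 F14095) (tt N3204 F14096) (tt N3038 F14097) (tt N3062 F14098) (tt N2990 (iv D3237)) (tt N3072 F14099) (tt N3358 D3391))
theorem Q3206 : ∀ i, i < 3206 → P i := stepQ 3205 Q3205 (allL N3205 (tt N3287 (iv F14427)) (tt N3356 (iv F14780)) (tt N2994 F14100) (tt N3205 F14101) (tt N3075 F14102) (tt N2991 F14103) (tt N3358 (iv F14794)) (tt N3359 D3392) (tt N2990 (iv D3238)))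
theorem Q3207 : ∀ i, i < 3207 → P i := stepQ 3206 Q3206 (allL N3206 (tt N3343 (iv F14723)) (tt N3357 (iv F14786)) (tt N2995 F14104) (tt N3360 D3393) (tt N2992 F14105) (tt N3359 (iv F14797)) (tt N3340 (iv F14709)) (tt N2991 (iv D3239)) (tt N3342 (iv F14722)))
theorem Q3208 : ∀ i, i < 3208 → P i := stepQ 3207 Q3207 (allL N3207 (tt N3073 F14106) (tt N3319 (iv F14613)) (tt N3358 (iv F14790)) (tt N2999 F14107) (tt N3071 F14108) (tt N3352 (iv F14769)) (tt N2994 F14109) (tt N3361 D3394) (tt N2993 (iv D3240)))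
theorem Q3209 : ∀ i, i < 3209 → P i := stepQ 3208 Q3208 (allL N3208 (tt N3289 (iv F14439)) (tt N3320 (iv F14619)) (tt N3359 (iv F14795)) (tt N3362 D3395) (tt N3077 F14110) (tt N2995 F14111) (tt N3361 (iv F14801)) (tt N2994 (iv D3241)) (tt N3349 (iv F14756)))
theorem Q3210 : ∀ i, i < 3210 → P i := stepQ 3209 Q3209 (allL N3209 (tt N3344 (iv F14728)) (tt N3321 (iv F14622)) (tt N3363 D3396) (tt N2995 (iv D3242)) (tt N3334 (iv F14681)) (tt N3362 (iv F14802)) (tt N3354 (iv F14774)) (tt N3001 F14112) (tt N3350 (iv F14758)))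
theorem Q3211 : ∀ i, i < 3211 → P i := stepQ 3210 Q3210 (allL N3210 (tt N3081 F14113) (tt N3028 F14114) (tt N3210 F14115) (tt N3352 (iv F14767)) (tt N3210 F14116) (tt N2999 F14117) (tt N2997 F14118) (tt N3364 D3397) (tt N2996 (iv D3243)))
theorem Q3212 : ∀ i, i < 3212 → P i := stepQ 3211 Q3211 (allL N3211 (tt N3345 (iv F14730)) (tt N3030 F14119) (tt N3211 F14120) (tt N3365 D3398) (tt N3211 F14121) (tt N2998 F14122) (tt N3364 (iv F14810)) (tt N2997 (iv D3244)) (tt N3211 F14123))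
theorem Q3213 : ∀ i, i < 3213 → P i := stepQ 3212 Q3212 (allL N3212 (tt N3346 (iv F14737)) (tt N3308 (iv F14557)) (tt N3366 D3399) (tt N2998 (iv D3245)) (tt N3084 F14124) (tt N3365 (iv F14813)) (tt N3001 F14125) (tt N3354 (iv F14775)) (tt N3212 F14126))
theorem Q3214 : ∀ i, i < 3214 → P i := stepQ 3213 Q3213 (allL N3213 (tt N3082 F14127) (tt N3322 (iv F14625)) (tt N3213 F14128) (tt N3327 (iv F14649)) (tt N3002 F14129) (tt N3364 (iv F14809)) (tt N3000 F14130) (tt N2999 (iv D3246)) (tt N3213 F14131))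
theorem Q3215 : ∀ i, i < 3215 → P i := stepQ 3214 Q3214 (allL N3214 (tt N3290 (iv F14444)) (tt N3323 (iv F14631)) (tt N3367 D3400) (tt N3000 (iv D3247)) (tt N3307 (iv F14553)) (tt N3001 F14132) (tt N3327 (iv F14650)) (tt N3362 (iv F14803)) (tt N3214 F14133))
theorem Q3216 : ∀ i, i < 3216 → P i := stepQ 3215 Q3215 (allL N3215 (tt N3347 (iv F14742)) (tt N3368 D3401) (tt N3001 (iv D3248)) (tt N3215 F14134) (tt N3336 (iv F14689)) (tt N3367 (iv F14822)) (tt N3366 (iv F14818)) (tt N3363 (iv F14804)) (tt N3215 F14135))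
theorem Q3217 : ∀ i, i < 3217 → P i := stepQ 3216 Q3216 (allL N3216 (tt N3275 (iv F14352)) (tt N3006 F14136) (tt N3079 F14137) (tt N3369 D3402) (tt N3016 F14138) (tt N3216 F14139) (tt N3272 (iv F14336)) (tt N3005 (iv D3249)) (tt N3216 F14140))
theorem Q3218 : ∀ i, i < 3218 → P i := stepQ 3217 Q3217 (allL N3217 (tt N3217 F14141) (tt N3369 (iv F14828)) (tt N3217 F14142) (tt N3006 (iv D3250)) (tt N3280 (iv F14386)) (tt N3217 F14143) (tt N3283 (iv F14404)) (tt N3217 F14144) (tt N3217 F14145))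
theorem Q3219 : ∀ i, i < 3219 → P i := stepQ 3218 Q3218 (allL N3218 (tt N3068 F14146) (tt N3054 F14147) (tt N3351 (iv F14760)) (tt N3033 F14148) (tt N3055 F14149) (tt N3286 (iv F14424)) (tt N3058 F14150) (tt N3007 (iv D3251)) (tt N3011 F14151))
theorem Q3220 : ∀ i, i < 3220 → P i := stepQ 3219 Q3219 (allL N3219 (tt N3070 F14152) (tt N3055 F14153) (tt N3330 (iv F14663)) (tt N3037 F14154) (tt N3054 F14155) (tt N3337 (iv F14695)) (tt N3011 F14156) (tt N3008 (iv D3252)) (tt N3058 F14157))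
theorem Q3221 : ∀ i, i < 3221 → P i := stepQ 3220 Q3220 (allL N3220 (tt N3319 (iv F14612)) (tt N3010 F14158) (tt N3035 F14159) (tt N3013 F14160) (tt N3059 F14161) (tt N3036 F14162) (tt N3304 (iv F14539)) (tt N3370 D3403) (tt N3009 (iv D3253)))
theorem Q3222 : ∀ i, i < 3222 → P i := stepQ 3221 Q3221 (allL N3221 (tt N3076 F14163) (tt N3370 (iv F14832)) (tt N3011 F14164) (tt N3371 D3404) (tt N3060 F14165) (tt N3288 (iv F14437)) (tt N3330 (iv F14665)) (tt N3010 (iv D3254)) (tt N3351 (iv F14763)))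
theorem Q3223 : ∀ i, i < 3223 → P i := stepQ 3222 Q3222 (allL N3222 (tt N3322 (iv F14624)) (tt N3014 F14166) (tt N3016 F14167) (tt N3372 D3405) (tt N3079 F14168) (tt N3048 F14169) (tt N3306 (iv F14549)) (tt N3013 (iv D3255)) (tt N3222 F14170))
theorem Q3224 : ∀ i, i < 3224 → P i := stepQ 3223 Q3223 (allL N3223 (tt N3084 F14171) (tt N3372 (iv F14839)) (tt N3051 F14172) (tt N3014 (iv D3256)) (tt N3346 (iv F14738)) (tt N3291 (iv F14453)) (tt N3331 (iv F14670)) (tt N3371 (iv F14838)) (tt N3223 F14173))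
theorem Q3225 : ∀ i, i < 3225 → P i := stepQ 3224 Q3224 (allL N3224 (tt N3016 F14174) (tt N3224 F14175) (tt N3322 (iv F14626)) (tt N3080 F14176) (tt N3275 (iv F14355)) (tt N3029 F14177) (tt N3274 (iv F14350)) (tt N3015 (iv D3257)) (tt N3224 F14178))
theorem Q3226 : ∀ i, i < 3226 → P i := stepQ 3225 Q3225 (allL N3225 (tt N3058 F14179) (tt N3027 F14180) (tt N3332 (iv F14673)) (tt N3046 F14181) (tt N3053 F14182) (tt N3295 (iv F14480)) (tt N3068 F14183) (tt N3017 (iv D3258)) (tt N3070 F14184))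
theorem Q3227 : ∀ i, i < 3227 → P i := stepQ 3226 Q3226 (allL N3226 (tt N3032 F14185) (tt N3287 (iv F14428)) (tt N3019 F14186) (tt N3226 F14187) (tt N3036 F14188) (tt N3298 (iv F14501)) (tt N3042 F14189) (tt N3373 D3406) (tt N3018 (iv D3259)))
theorem Q3228 : ∀ i, i < 3228 → P i := stepQ 3227 Q3227 (allL N3227 (tt N3033 F14190) (tt N3070 F14191) (tt N3373 (iv F14843)) (tt N3068 F14192) (tt N3037 F14193) (tt N3300 (iv F14513)) (tt N3046 F14194) (tt N3019 (iv D3260)) (tt N3027 F14195))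
theorem Q3229 : ∀ i, i < 3229 → P i := stepQ 3228 Q3228 (allL N3228 (tt N3035 F14196) (tt N3067 F14197) (tt N3319 (iv F14614)) (tt N3021 F14198) (tt N3312 (iv F14582)) (tt N3023 F14199) (tt N3301 (iv F14521)) (tt N3374 D3407) (tt N3020 (iv D3261)))
theorem Q3230 : ∀ i, i < 3230 → P i := stepQ 3229 Q3229 (allL N3229 (tt N3036 F14200) (tt N3352 (iv F14765)) (tt N3023 F14201) (tt N3028 F14202) (tt N3032 F14203) (tt N3319 (iv F14617)) (tt N3025 F14204) (tt N3375 D3408) (tt N3022 (iv D3262)))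
theorem Q3231 : ∀ i, i < 3231 → P i := stepQ 3230 Q3230 (allL N3230 (tt N3037 F14205) (tt N3068 F14206) (tt N3375 (iv F14853)) (tt N3070 F14207) (tt N3033 F14208) (tt N3374 (iv F14850)) (tt N3027 F14209) (tt N3023 (iv D3263)) (tt N3046 F14210))
theorem Q3232 : ∀ i, i < 3232 → P i := stepQ 3231 Q3231 (allL N3231 (tt N3042 F14211) (tt N3284 (iv F14408)) (tt N3026 F14212) (tt N3231 F14213) (tt N3025 F14214) (tt N3314 (iv F14593)) (tt N3032 F14215) (tt N3376 D3409) (tt N3024 (iv D3264)))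
theorem Q3233 : ∀ i, i < 3233 → P i := stepQ 3232 Q3232 (allL N3232 (tt N3043 F14216) (tt N3353 (iv F14771)) (tt N3027 F14217) (tt N3377 D3410) (tt N3376 (iv F14859)) (tt N3303 (iv F14531)) (tt N3375 (iv F14855)) (tt N3025 (iv D3265)) (tt N3373 (iv F14846)))
theorem Q3234 : ∀ i, i < 3234 → P i := stepQ 3233 Q3233 (allL N3233 (tt N3046 F14218) (tt N3053 F14219) (tt N3376 (iv F14858)) (tt N3058 F14220) (tt N3027 F14221) (tt N3329 (iv F14659)) (tt N3033 F14222) (tt N3026 (iv D3266)) (tt N3037 F14223))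
theorem Q3235 : ∀ i, i < 3235 → P i := stepQ 3234 Q3234 (allL N3234 (tt N3048 F14224) (tt N3364 (iv F14806)) (tt N3029 F14225) (tt N3336 (iv F14688)) (tt N3234 F14226) (tt N3322 (iv F14628)) (tt N3030 F14227) (tt N3028 (iv D3267)) (tt N3234 F14228))
theorem Q3236 : ∀ i, i < 3236 → P i := stepQ 3235 Q3235 (allL N3235 (tt N3051 F14229) (tt N3365 (iv F14812)) (tt N3084 F14230) (tt N3030 (iv D3268)) (tt N3366 (iv F14817)) (tt N3308 (iv F14560)) (tt N3336 (iv F14690)) (tt N3377 (iv F14864)) (tt N3235 F14231))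
theorem Q3237 : ∀ i, i < 3237 → P i := stepQ 3236 Q3236 (allL N3236 (tt N3356 (iv F14779)) (tt N3032 F14232) (tt N3063 F14233) (tt N3236 F14234) (tt N3352 (iv F14768)) (tt N3310 (iv F14573)) (tt N3284 (iv F14413)) (tt N3378 D3411) (tt N3031 (iv D3269)))
theorem Q3238 : ∀ i, i < 3238 → P i := stepQ 3237 Q3237 (allL N3237 (tt N3373 (iv F14842)) (tt N3378 (iv F14865)) (tt N3033 F14235) (tt N3379 D3412) (tt N3375 (iv F14854)) (tt N3311 (iv F14576)) (tt N3376 (iv F14860)) (tt N3032 (iv D3270)) (tt N3043 F14236))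
theorem Q3239 : ∀ i, i < 3239 → P i := stepQ 3238 Q3238 (allL N3238 (tt N3312 (iv F14578)) (tt N3056 F14237) (tt N3059 F14238) (tt N3238 F14239) (tt N3035 F14240) (tt N3299 (iv F14508)) (tt N3314 (iv F14594)) (tt N3380 D3413) (tt N3034 (iv D3271)))
theorem Q3240 : ∀ i, i < 3240 → P i := stepQ 3239 Q3239 (allL N3239 (tt N3374 (iv F14847)) (tt N3057 F14241) (tt N3370 (iv F14833)) (tt N3337 (iv F14694)) (tt N3380 (iv F14872)) (tt N3037 F14242) (tt N3315 (iv F14598)) (tt N3035 (iv D3272)) (tt N3329 (iv F14661)))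
theorem Q3241 : ∀ i, i < 3241 → P i := stepQ 3240 Q3240 (allL N3240 (tt N3375 (iv F14852)) (tt N3288 (iv F14435)) (tt N3037 F14243) (tt N3381 D3414) (tt N3373 (iv F14844)) (tt N3370 (iv F14835)) (tt N3043 F14244) (tt N3036 (iv D3273)) (tt N3376 (iv F14861)))
theorem Q3242 : ∀ i, i < 3242 → P i := stepQ 3241 Q3241 (allL N3241 (tt N3040 F14245) (tt N3341 (iv F14712)) (tt N3071 F14246) (tt N3049 F14247) (tt N3358 (iv F14792)) (tt N3316 (iv F14605)) (tt N3075 F14248) (tt N3382 D3415) (tt N3038 (iv D3274)))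
theorem Q3243 : ∀ i, i < 3243 → P i := stepQ 3242 Q3242 (allL N3242 (tt N3358 (iv F14788)) (tt N3042 F14249) (tt N3073 F14250) (tt N3242 F14251) (tt N3040 F14252) (tt N3348 (iv F14752)) (tt N3287 (iv F14433)) (tt N3383 D3416) (tt N3039 (iv D3275)))
theorem Q3244 : ∀ i, i < 3244 → P i := stepQ 3243 Q3243 (allL N3243 (tt N3382 (iv F14875)) (tt N3043 F14253) (tt N3074 F14254) (tt N3384 D3417) (tt N3383 (iv F14880)) (tt N3317 (iv F14609)) (tt N3288 (iv F14438)) (tt N3040 (iv D3276)) (tt N3378 (iv F14867)))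
theorem Q3245 : ∀ i, i < 3245 → P i := stepQ 3244 Q3244 (allL N3244 (tt N3314 (iv F14588)) (tt N3348 (iv F14748)) (tt N3045 F14255) (tt N3244 F14256) (tt N3301 (iv F14519)) (tt N3042 F14257) (tt N3312 (iv F14584)) (tt N3385 D3418) (tt N3041 (iv D3277)))
theorem Q3246 : ∀ i, i < 3246 → P i := stepQ 3245 Q3245 (allL N3245 (tt N3376 (iv F14857)) (tt N3383 (iv F14878)) (tt N3046 F14258) (tt N3386 D3419) (tt N3043 F14259) (tt N3385 (iv F14884)) (tt N3373 (iv F14845)) (tt N3042 (iv D3278)) (tt N3375 (iv F14856)))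
theorem Q3247 : ∀ i, i < 3247 → P i := stepQ 3246 Q3246 (allL N3246 (tt N3377 (iv F14862)) (tt N3384 (iv F14881)) (tt N3371 (iv F14837)) (tt N3043 (iv D3279)) (tt N3387 D3420) (tt N3318 (iv F14610)) (tt N3381 (iv F14873)) (tt N3051 F14260) (tt N3379 (iv F14869)))
theorem Q3248 : ∀ i, i < 3248 → P i := stepQ 3247 Q3247 (allL N3247 (tt N3059 F14261) (tt N3071 F14262) (tt N3312 (iv F14580)) (tt N3047 F14263) (tt N3319 (iv F14616)) (tt N3297 (iv F14494)) (tt N3045 F14264) (tt N3388 D3421) (tt N3044 (iv D3280)))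
theorem Q3249 : ∀ i, i < 3249 → P i := stepQ 3248 Q3248 (allL N3248 (tt N3329 (iv F14656)) (tt N3077 F14265) (tt N3385 (iv F14883)) (tt N3295 (iv F14479)) (tt N3320 (iv F14620)) (tt N3046 F14266) (tt N3388 (iv F14889)) (tt N3045 (iv D3281)) (tt N3374 (iv F14851)))
theorem Q3250 : ∀ i, i < 3250 → P i := stepQ 3249 Q3249 (allL N3249 (tt N3336 (iv F14687)) (tt N3291 (iv F14451)) (tt N3331 (iv F14668)) (tt N3048 (iv D3282)) (tt N3347 (iv F14744)) (tt N3372 (iv F14840)) (tt N3051 F14267) (tt N3381 (iv F14874)) (tt N3249 F14268))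
theorem Q3251 : ∀ i, i < 3251 → P i := stepQ 3250 Q3250 (allL N3250 (tt N3050 F14269) (tt N3345 (iv F14731)) (tt N3052 F14270) (tt N3324 (iv F14635)) (tt N3250 F14271) (tt N3325 (iv F14642)) (tt N3083 F14272) (tt N3049 (iv D3283)) (tt N3250 F14273))
theorem Q3252 : ∀ i, i < 3252 → P i := stepQ 3251 Q3251 (allL N3251 (tt N3324 (iv F14634)) (tt N3051 F14274) (tt N3307 (iv F14552)) (tt N3050 (iv D3284)) (tt N3367 (iv F14821)) (tt N3326 (iv F14646)) (tt N3291 (iv F14454)) (tt N3384 (iv F14882)) (tt N3251 F14275))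
theorem Q3253 : ∀ i, i < 3253 → P i := stepQ 3252 Q3252 (allL N3252 (tt N3366 (iv F14815)) (tt N3367 F14824) (tt N3346 F14741) (tt N3252 F14276) (tt N3051 (iv D3285)) (tt N3368 (iv F14826)) (tt N3347 (iv F14745)) (tt N3387 (iv F14886)) (tt N3252 F14277))
theorem Q3254 : ∀ i, i < 3254 → P i := stepQ 3253 Q3253 (allL N3253 (tt N3332 (iv F14672)) (tt N3380 (iv F14870)) (tt N3058 F14278) (tt N3389 D3422) (tt N3057 F14279) (tt N3339 (iv F14705)) (tt N3351 (iv F14762)) (tt N3056 (iv D3286)) (tt N3330 (iv F14666)))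
theorem Q3255 : ∀ i, i < 3255 → P i := stepQ 3254 Q3254 (allL N3254 (tt N3388 (iv F14887)) (tt N3060 F14280) (tt N3380 (iv F14871)) (tt N3338 (iv F14699)) (tt N3370 (iv F14834)) (tt N3309 (iv F14565)) (tt N3329 (iv F14660)) (tt N3059 (iv D3287)) (tt N3315 (iv F14599)))
theorem Q3256 : ∀ i, i < 3256 → P i := stepQ 3255 Q3255 (allL N3255 (tt N3063 F14281) (tt N3301 (iv F14516)) (tt N3356 (iv F14781)) (tt N3078 F14282) (tt N3348 (iv F14751)) (tt N3292 (iv F14461)) (tt N3067 F14283) (tt N3390 D3423) (tt N3061 (iv D3288)))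
theorem Q3257 : ∀ i, i < 3257 → P i := stepQ 3256 Q3256 (allL N3256 (tt N3348 (iv F14747)) (tt N3065 F14284) (tt N3352 (iv F14766)) (tt N3256 F14285) (tt N3063 F14286) (tt N3358 (iv F14793)) (tt N3285 (iv F14420)) (tt N3391 D3424) (tt N3062 (iv D3289)))
theorem Q3258 : ∀ i, i < 3258 → P i := stepQ 3257 Q3257 (allL N3257 (tt N3390 (iv F14891)) (tt N3066 F14287) (tt N3378 (iv F14866)) (tt N3309 (iv F14564)) (tt N3391 (iv F14895)) (tt N3338 (iv F14700)) (tt N3286 (iv F14425)) (tt N3063 (iv D3290)) (tt N3074 F14288))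
theorem Q3259 : ∀ i, i < 3259 → P i := stepQ 3258 Q3258 (allL N3258 (tt N3284 (iv F14407)) (tt N3358 (iv F14789)) (tt N3067 F14289) (tt N3258 F14290) (tt N3341 (iv F14715)) (tt N3065 F14291) (tt N3356 (iv F14785)) (tt N3392 D3425) (tt N3064 (iv D3291)))
theorem Q3260 : ∀ i, i < 3260 → P i := stepQ 3259 Q3259 (allL N3259 (tt N3351 (iv F14759)) (tt N3391 (iv F14894)) (tt N3068 F14292) (tt N3393 D3426) (tt N3066 F14293) (tt N3392 (iv F14898)) (tt N3332 (iv F14675)) (tt N3065 (iv D3292)) (tt N3076 F14294))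
theorem Q3261 : ∀ i, i < 3261 → P i := stepQ 3260 Q3260 (allL N3260 (tt N3286 (iv F14421)) (tt N3374 (iv F14848)) (tt N3392 (iv F14897)) (tt N3300 (iv F14512)) (tt N3349 (iv F14754)) (tt N3068 F14295) (tt N3390 (iv F14892)) (tt N3067 (iv D3293)) (tt N3077 F14296))
theorem Q3262 : ∀ i, i < 3262 → P i := stepQ 3261 Q3261 (allL N3261 (tt N3337 (iv F14692)) (tt N3300 (iv F14511)) (tt N3333 (iv F14678)) (tt N3374 (iv F14849)) (tt N3339 (iv F14704)) (tt N3070 F14297) (tt N3355 (iv F14778)) (tt N3069 (iv D3294)) (tt N3295 (iv F14481)))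
theorem Q3263 : ∀ i, i < 3263 → P i := stepQ 3262 Q3262 (allL N3262 (tt N3074 F14298) (tt N3388 (iv F14888)) (tt N3382 (iv F14876)) (tt N3302 (iv F14524)) (tt N3361 (iv F14800)) (tt N3355 (iv F14777)) (tt N3077 F14299) (tt N3071 (iv D3295)) (tt N3390 (iv F14893)))
theorem Q3264 : ∀ i, i < 3264 → P i := stepQ 3263 Q3263 (allL N3263 (tt N3352 (iv F14764)) (tt N3075 F14300) (tt N3348 (iv F14749)) (tt N3081 F14301) (tt N3356 (iv F14783)) (tt N3073 F14302) (tt N3341 (iv F14717)) (tt N3394 D3427) (tt N3072 (iv D3296)))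
theorem Q3265 : ∀ i, i < 3265 → P i := stepQ 3264 Q3264 (allL N3264 (tt N3361 (iv F14799)) (tt N3076 F14303) (tt N3383 (iv F14879)) (tt N3395 D3428) (tt N3074 F14304) (tt N3394 (iv F14903)) (tt N3289 (iv F14443)) (tt N3073 (iv D3297)) (tt N3391 (iv F14896)))
theorem Q3266 : ∀ i, i < 3266 → P i := stepQ 3265 Q3265 (allL N3265 (tt N3288 (iv F14434)) (tt N3394 (iv F14902)) (tt N3077 F14305) (tt N3396 D3429) (tt N3359 (iv F14796)) (tt N3076 F14306) (tt N3382 (iv F14877)) (tt N3075 (iv D3298)) (tt N3392 (iv F14899)))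
theorem Q3267 : ∀ i, i < 3267 → P i := stepQ 3266 Q3266 (allL N3266 (tt N3371 (iv F14836)) (tt N3395 (iv F14904)) (tt N3377 (iv F14863)) (tt N3076 (iv D3299)) (tt N3354 (iv F14773)) (tt N3396 (iv F14906)) (tt N3334 (iv F14682)) (tt N3084 F14307) (tt N3393 (iv F14901)))
theorem Q3268 : ∀ i, i < 3268 → P i := stepQ 3267 Q3267 (allL N3267 (tt N3364 (iv F14805)) (tt N3083 F14308) (tt N3267 F14309) (tt N3397 D3430) (tt N3267 F14310) (tt N3082 F14311) (tt N3345 (iv F14735)) (tt N3081 (iv D3300)) (tt N3267 F14312))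
theorem Q3269 : ∀ i, i < 3269 → P i := stepQ 3268 Q3268 (allL N3268 (tt N3327 (iv F14648)) (tt N3084 F14313) (tt N3398 D3431) (tt N3082 (iv D3301)) (tt N3308 (iv F14559)) (tt N3397 (iv F14909)) (tt N3290 (iv F14448)) (tt N3395 (iv F14905)) (tt N3268 F14314))
theorem Q3270 : ∀ i, i < 3270 → P i := stepQ 3269 Q3269 (allL N3269 (tt N3291 (iv F14450)) (tt N3397 (iv F14908)) (tt N3308 (iv F14558)) (tt N3083 (iv D3302)) (tt N3398 (iv F14912)) (tt N3084 F14315) (tt N3324 (iv F14636)) (tt N3396 (iv F14907)) (tt N3269 F14316))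
theorem Q3271 : ∀ i, i < 3271 → P i := stepQ 3270 Q3270 (allL N3270 (tt N3270 F14317) (tt N3120 F14318) (tt N3087 F14319) (tt N3399 D3432) (tt N3163 F14320) (tt N3100 F14321) (tt N3270 F14322) (tt N3085 (iv D3303)) (tt N3270 F14323))
theorem Q3272 : ∀ i, i < 3272 → P i := stepQ 3271 Q3271 (allL N3271 (tt N3271 F14324) (tt N3090 F14325) (tt N3163 F14326) (tt N3400 D3433) (tt N3087 F14327) (tt N3160 F14328) (tt N3271 F14329) (tt N3086 (iv D3304)) (tt N3271 F14330))
theorem Q3273 : ∀ i, i < 3273 → P i := stepQ 3272 Q3272 (allL N3272 (tt N3095 F14331) (tt N3160 F14332) (tt N3135 F14333) (tt N3401 D3434) (tt N3156 F14334) (tt N3090 F14335) (tt N3216 F14336) (tt N3089 (iv D3305)) (tt N3272 F14337))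
theorem Q3274 : ∀ i, i < 3274 → P i := stepQ 3273 Q3273 (allL N3273 (tt N3096 F14338) (tt N3400 (iv F14923)) (tt N3165 F14339) (tt N3090 (iv D3306)) (tt N3273 F14340) (tt N3401 (iv F14934)) (tt N3273 F14341) (tt N3273 F14342) (tt N3273 F14343))
theorem Q3275 : ∀ i, i < 3275 → P i := stepQ 3274 Q3274 (allL N3274 (tt N3156 F14344) (tt N3274 F14345) (tt N3153 F14346) (tt N3162 F14347) (tt N3095 F14348) (tt N3093 F14349) (tt N3224 F14350) (tt N3092 (iv D3307)) (tt N3274 F14351))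
theorem Q3276 : ∀ i, i < 3276 → P i := stepQ 3275 Q3275 (allL N3275 (tt N3216 F14352) (tt N3275 F14353) (tt N3155 F14354) (tt N3402 D3435) (tt N3224 F14355) (tt N3275 F14356) (tt N3095 F14357) (tt N3094 (iv D3308)) (tt N3275 F14358))
theorem Q3277 : ∀ i, i < 3277 → P i := stepQ 3276 Q3276 (allL N3276 (tt N3401 (iv F14930)) (tt N3276 F14359) (tt N3403 D3436) (tt N3095 (iv D3309)) (tt N3404 D3437) (tt N3096 F14360) (tt N3402 (iv F14943)) (tt N3276 F14361) (tt N3276 F14362))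
theorem Q3278 : ∀ i, i < 3278 → P i := stepQ 3277 Q3277 (allL N3277 (tt N3165 F14363) (tt N3399 (iv F14915)) (tt N3096 (iv D3310)) (tt N3120 F14364) (tt N3277 F14365) (tt N3403 (iv F14948)) (tt N3277 F14366) (tt N3277 F14367) (tt N3277 F14368))
theorem Q3279 : ∀ i, i < 3279 → P i := stepQ 3278 Q3278 (allL N3278 (tt N3176 F14369) (tt N3098 F14370) (tt N3102 F14371) (tt N3155 F14372) (tt N3158 F14373) (tt N3278 F14374) (tt N3119 F14375) (tt N3097 (iv D3311)) (tt N3278 F14376))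
theorem Q3280 : ∀ i, i < 3280 → P i := stepQ 3279 Q3279 (allL N3279 (tt N3164 F14377) (tt N3100 F14378) (tt N3119 F14379) (tt N3403 (iv F14947)) (tt N3161 F14380) (tt N3120 F14381) (tt N3102 F14382) (tt N3099 (iv D3312)) (tt N3279 F14383))
theorem Q3281 : ∀ i, i < 3281 → P i := stepQ 3280 Q3280 (allL N3280 (tt N3280 F14384) (tt N3403 F14952) (tt N3280 F14385) (tt N3100 (iv D3313)) (tt N3217 F14386) (tt N3399 (iv F14918)) (tt N3103 F14387) (tt N3280 F14388) (tt N3280 F14389))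
theorem Q3282 : ∀ i, i < 3282 → P i := stepQ 3281 Q3281 (allL N3281 (tt N3102 F14390) (tt N3281 F14391) (tt N3176 F14392) (tt N3404 (iv F14957)) (tt N3162 F14393) (tt N3281 F14394) (tt N3164 F14395) (tt N3101 (iv D3314)) (tt N3281 F14396))
theorem Q3283 : ∀ i, i < 3283 → P i := stepQ 3282 Q3282 (allL N3282 (tt N3404 (iv F14954)) (tt N3103 F14397) (tt N3402 (iv F14940)) (tt N3102 (iv D3315)) (tt N3401 (iv F14933)) (tt N3282 F14398) (tt N3403 (iv F14949)) (tt N3282 F14399) (tt N3282 F14400))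
theorem Q3284 : ∀ i, i < 3284 → P i := stepQ 3283 Q3283 (allL N3283 (tt N3283 F14401) (tt N3401 (iv F14931)) (tt N3283 F14402) (tt N3160 F14403) (tt N3103 (iv D3316)) (tt N3400 (iv F14926)) (tt N3217 F14404) (tt N3283 F14405) (tt N3283 F14406))
theorem Q3285 : ∀ i, i < 3285 → P i := stepQ 3284 Q3284 (allL N3284 (tt N3258 F14407) (tt N3231 F14408) (tt N3106 F14409) (tt N3284 F14410) (tt N3198 F14411) (tt N3195 F14412) (tt N3236 F14413) (tt N3405 D3438) (tt N3104 (iv D3317)))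
theorem Q3286 : ∀ i, i < 3286 → P i := stepQ 3285 Q3285 (allL N3285 (tt N3193 F14414) (tt N3170 F14415) (tt N3198 F14416) (tt N3285 F14417) (tt N3106 F14418) (tt N3181 F14419) (tt N3256 F14420) (tt N3406 D3439) (tt N3105 (iv D3318)))
theorem Q3287 : ∀ i, i < 3287 → P i := stepQ 3286 Q3286 (allL N3286 (tt N3260 F14421) (tt N3171 F14422) (tt N3405 (iv F14964)) (tt N3142 F14423) (tt N3406 (iv F14972)) (tt N3218 F14424) (tt N3257 F14425) (tt N3106 (iv D3319)) (tt N3110 F14426))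
theorem Q3288 : ∀ i, i < 3288 → P i := stepQ 3287 Q3287 (allL N3287 (tt N3205 F14427) (tt N3226 F14428) (tt N3109 F14429) (tt N3287 F14430) (tt N3108 F14431) (tt N3186 F14432) (tt N3242 F14433) (tt N3407 D3440) (tt N3107 (iv D3320)))
theorem Q3289 : ∀ i, i < 3289 → P i := stepQ 3288 Q3288 (allL N3288 (tt N3265 F14434) (tt N3240 F14435) (tt N3110 F14436) (tt N3408 D3441) (tt N3407 (iv F14979)) (tt N3221 F14437) (tt N3243 F14438) (tt N3108 (iv D3321)) (tt N3405 (iv F14968)))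
theorem Q3290 : ∀ i, i < 3290 → P i := stepQ 3289 Q3289 (allL N3289 (tt N3208 F14439) (tt N3173 F14440) (tt N3407 (iv F14978)) (tt N3409 D3442) (tt N3110 F14441) (tt N3188 F14442) (tt N3264 F14443) (tt N3109 (iv D3322)) (tt N3406 (iv F14975)))
theorem Q3291 : ∀ i, i < 3291 → P i := stepQ 3290 Q3290 (allL N3290 (tt N3214 F14444) (tt N3175 F14445) (tt N3410 D3443) (tt N3111 (iv D3323)) (tt N3154 F14446) (tt N3191 F14447) (tt N3268 F14448) (tt N3409 (iv F14994)) (tt N3290 F14449))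
theorem Q3292 : ∀ i, i < 3292 → P i := stepQ 3291 Q3291 (allL N3291 (tt N3269 F14450) (tt N3249 F14451) (tt N3159 F14452) (tt N3112 (iv D3324)) (tt N3411 D3444) (tt N3223 F14453) (tt N3251 F14454) (tt N3408 (iv F14988)) (tt N3291 F14455))
theorem Q3293 : ∀ i, i < 3293 → P i := stepQ 3292 Q3292 (allL N3292 (tt N3178 F14456) (tt N3128 F14457) (tt N3202 F14458) (tt N3114 F14459) (tt N3147 F14460) (tt N3255 F14461) (tt N3117 F14462) (tt N3412 D3445) (tt N3113 (iv D3325)))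
theorem Q3294 : ∀ i, i < 3294 → P i := stepQ 3293 Q3293 (allL N3293 (tt N3179 F14463) (tt N3181 F14464) (tt N3117 F14465) (tt N3293 F14466) (tt N3177 F14467) (tt N3170 F14468) (tt N3202 F14469) (tt N3413 D3446) (tt N3115 (iv D3326)))
theorem Q3295 : ∀ i, i < 3295 → P i := stepQ 3294 Q3294 (allL N3294 (tt N3172 F14470) (tt N3131 F14471) (tt N3177 F14472) (tt N3118 F14473) (tt N3117 F14474) (tt N3167 F14475) (tt N3147 F14476) (tt N3414 D3447) (tt N3116 (iv D3327)))
theorem Q3296 : ∀ i, i < 3296 → P i := stepQ 3295 Q3295 (allL N3295 (tt N3180 F14477) (tt N3132 F14478) (tt N3413 (iv F15017)) (tt N3248 F14479) (tt N3414 (iv F15025)) (tt N3225 F14480) (tt N3412 (iv F15013)) (tt N3117 (iv D3328)) (tt N3261 F14481))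
theorem Q3297 : ∀ i, i < 3297 → P i := stepQ 3296 Q3296 (allL N3296 (tt N3174 F14482) (tt N3134 F14483) (tt N3161 F14484) (tt N3415 D3448) (tt N3119 F14485) (tt N3169 F14486) (tt N3158 F14487) (tt N3118 (iv D3329)) (tt N3296 F14488))
theorem Q3298 : ∀ i, i < 3298 → P i := stepQ 3297 Q3297 (allL N3297 (tt N3137 F14489) (tt N3200 F14490) (tt N3141 F14491) (tt N3122 F14492) (tt N3139 F14493) (tt N3247 F14494) (tt N3125 F14495) (tt N3416 D3449) (tt N3121 (iv D3330)))
theorem Q3299 : ∀ i, i < 3299 → P i := stepQ 3298 Q3298 (allL N3298 (tt N3139 F14496) (tt N3186 F14497) (tt N3125 F14498) (tt N3298 F14499) (tt N3137 F14500) (tt N3226 F14501) (tt N3141 F14502) (tt N3417 D3450) (tt N3123 (iv D3331)))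
theorem Q3300 : ∀ i, i < 3300 → P i := stepQ 3299 Q3299 (allL N3299 (tt N3141 F14503) (tt N3179 F14504) (tt N3137 F14505) (tt N3299 F14506) (tt N3125 F14507) (tt N3238 F14508) (tt N3139 F14509) (tt N3418 D3451) (tt N3124 (iv D3332)))
theorem Q3301 : ∀ i, i < 3301 → P i := stepQ 3300 Q3300 (allL N3300 (tt N3142 F14510) (tt N3261 F14511) (tt N3417 (iv F15046)) (tt N3260 F14512) (tt N3418 (iv F15054)) (tt N3227 F14513) (tt N3416 (iv F15042)) (tt N3125 (iv D3333)) (tt N3132 F14514))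
theorem Q3302 : ∀ i, i < 3302 → P i := stepQ 3301 Q3301 (allL N3301 (tt N3144 F14515) (tt N3255 F14516) (tt N3150 F14517) (tt N3127 F14518) (tt N3244 F14519) (tt N3128 F14520) (tt N3228 F14521) (tt N3419 D3452) (tt N3126 (iv D3334)))
theorem Q3303 : ∀ i, i < 3303 → P i := stepQ 3302 Q3302 (allL N3302 (tt N3145 F14522) (tt N3412 (iv F15008)) (tt N3151 F14523) (tt N3262 F14524) (tt N3148 F14525) (tt N3419 (iv F15063)) (tt N3132 F14526) (tt N3128 (iv D3335)) (tt N3416 (iv F15043)))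
theorem Q3304 : ∀ i, i < 3304 → P i := stepQ 3303 Q3303 (allL N3303 (tt N3148 F14527) (tt N3199 F14528) (tt N3132 F14529) (tt N3420 D3453) (tt N3145 F14530) (tt N3232 F14531) (tt N3151 F14532) (tt N3129 (iv D3336)) (tt N3417 (iv F15050)))
theorem Q3305 : ∀ i, i < 3305 → P i := stepQ 3304 Q3304 (allL N3304 (tt N3150 F14533) (tt N3167 F14534) (tt N3144 F14535) (tt N3133 F14536) (tt N3166 F14537) (tt N3131 F14538) (tt N3220 F14539) (tt N3421 D3454) (tt N3130 (iv D3337)))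
theorem Q3306 : ∀ i, i < 3306 → P i := stepQ 3305 Q3305 (allL N3305 (tt N3151 F14540) (tt N3414 (iv F15023)) (tt N3145 F14541) (tt N3422 D3455) (tt N3132 F14542) (tt N3421 (iv F15077)) (tt N3148 F14543) (tt N3131 (iv D3338)) (tt N3418 (iv F15057)))
theorem Q3307 : ∀ i, i < 3307 → P i := stepQ 3306 Q3306 (allL N3306 (tt N3153 F14544) (tt N3169 F14545) (tt N3156 F14546) (tt N3423 D3456) (tt N3135 F14547) (tt N3134 F14548) (tt N3222 F14549) (tt N3133 (iv D3339)) (tt N3306 F14550))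
theorem Q3308 : ∀ i, i < 3308 → P i := stepQ 3307 Q3307 (allL N3307 (tt N3154 F14551) (tt N3415 (iv F15030)) (tt N3251 F14552) (tt N3134 (iv D3340)) (tt N3214 F14553) (tt N3423 (iv F15089)) (tt N3159 F14554) (tt N3422 (iv F15084)) (tt N3307 F14555))
theorem Q3309 : ∀ i, i < 3309 → P i := stepQ 3308 Q3308 (allL N3308 (tt N3159 F14556) (tt N3212 F14557) (tt N3269 F14558) (tt N3136 (iv D3341)) (tt N3268 F14559) (tt N3235 F14560) (tt N3154 F14561) (tt N3420 (iv F15072)) (tt N3308 F14562))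
theorem Q3310 : ∀ i, i < 3310 → P i := stepQ 3309 Q3309 (allL N3309 (tt N3416 (iv F15036)) (tt N3187 F14563) (tt N3418 (iv F15053)) (tt N3257 F14564) (tt N3417 (iv F15047)) (tt N3254 F14565) (tt N3142 F14566) (tt N3137 (iv D3342)) (tt N3145 F14567))
theorem Q3311 : ∀ i, i < 3311 → P i := stepQ 3310 Q3310 (allL N3310 (tt N3202 F14568) (tt N3139 F14569) (tt N3178 F14570) (tt N3310 F14571) (tt N3200 F14572) (tt N3236 F14573) (tt N3179 F14574) (tt N3424 D3457) (tt N3138 (iv D3343)))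
theorem Q3312 : ∀ i, i < 3312 → P i := stepQ 3311 Q3311 (allL N3311 (tt N3417 (iv F15044)) (tt N3424 (iv F15093)) (tt N3142 F14575) (tt N3425 D3458) (tt N3416 (iv F15040)) (tt N3237 F14576) (tt N3418 (iv F15056)) (tt N3139 (iv D3344)) (tt N3148 F14577))
theorem Q3313 : ∀ i, i < 3313 → P i := stepQ 3312 Q3312 (allL N3312 (tt N3238 F14578) (tt N3193 F14579) (tt N3247 F14580) (tt N3312 F14581) (tt N3228 F14582) (tt N3141 F14583) (tt N3244 F14584) (tt N3426 D3459) (tt N3140 (iv D3345)))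
theorem Q3314 : ∀ i, i < 3314 → P i := stepQ 3313 Q3313 (allL N3313 (tt N3418 (iv F15051)) (tt N3194 F14585) (tt N3416 (iv F15038)) (tt N3427 D3460) (tt N3142 F14586) (tt N3426 (iv F15106)) (tt N3417 (iv F15049)) (tt N3141 (iv D3346)) (tt N3151 F14587))
theorem Q3315 : ∀ i, i < 3315 → P i := stepQ 3314 Q3314 (allL N3314 (tt N3244 F14588) (tt N3195 F14589) (tt N3166 F14590) (tt N3314 F14591) (tt N3144 F14592) (tt N3231 F14593) (tt N3238 F14594) (tt N3428 D3461) (tt N3143 (iv D3347)))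
theorem Q3316 : ∀ i, i < 3316 → P i := stepQ 3315 Q3315 (allL N3315 (tt N3419 (iv F15058)) (tt N3196 F14595) (tt N3421 (iv F15075)) (tt N3203 F14596) (tt N3428 (iv F15115)) (tt N3145 F14597) (tt N3239 F14598) (tt N3144 (iv D3348)) (tt N3254 F14599))
theorem Q3317 : ∀ i, i < 3317 → P i := stepQ 3316 Q3316 (allL N3316 (tt N3147 F14600) (tt N3184 F14601) (tt N3200 F14602) (tt N3157 F14603) (tt N3178 F14604) (tt N3241 F14605) (tt N3172 F14606) (tt N3429 D3462) (tt N3146 (iv D3349)))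
theorem Q3318 : ∀ i, i < 3318 → P i := stepQ 3317 Q3317 (allL N3317 (tt N3429 (iv F15119)) (tt N3148 F14607) (tt N3203 F14608) (tt N3430 D3463) (tt N3412 (iv F15011)) (tt N3243 F14609) (tt N3414 (iv F15027)) (tt N3147 (iv D3350)) (tt N3424 (iv F15098)))
theorem Q3319 : ∀ i, i < 3319 → P i := stepQ 3318 Q3318 (allL N3318 (tt N3420 (iv F15066)) (tt N3430 (iv F15126)) (tt N3408 (iv F14985)) (tt N3148 (iv D3351)) (tt N3431 D3464) (tt N3246 F14610) (tt N3422 (iv F15083)) (tt N3159 F14611) (tt N3425 (iv F15101)))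
theorem Q3320 : ∀ i, i < 3320 → P i := stepQ 3319 Q3319 (allL N3319 (tt N3220 F14612) (tt N3207 F14613) (tt N3228 F14614) (tt N3152 F14615) (tt N3247 F14616) (tt N3229 F14617) (tt N3150 F14618) (tt N3432 D3465) (tt N3149 (iv D3352)))
theorem Q3321 : ∀ i, i < 3321 → P i := stepQ 3320 Q3320 (allL N3320 (tt N3421 (iv F15073)) (tt N3208 F14619) (tt N3419 (iv F15060)) (tt N3433 D3466) (tt N3248 F14620) (tt N3151 F14621) (tt N3432 (iv F15138)) (tt N3150 (iv D3353)) (tt N3426 (iv F15108)))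
theorem Q3322 : ∀ i, i < 3322 → P i := stepQ 3321 Q3321 (allL N3321 (tt N3422 (iv F15080)) (tt N3209 F14622) (tt N3434 D3467) (tt N3151 (iv D3354)) (tt N3409 (iv F14991)) (tt N3433 (iv F15141)) (tt N3420 (iv F15071)) (tt N3154 F14623) (tt N3427 (iv F15111)))
theorem Q3323 : ∀ i, i < 3323 → P i := stepQ 3322 Q3322 (allL N3322 (tt N3222 F14624) (tt N3213 F14625) (tt N3224 F14626) (tt N3435 D3468) (tt N3155 F14627) (tt N3234 F14628) (tt N3153 F14629) (tt N3152 (iv D3355)) (tt N3322 F14630))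
theorem Q3324 : ∀ i, i < 3324 → P i := stepQ 3323 Q3323 (allL N3323 (tt N3423 (iv F15085)) (tt N3214 F14631) (tt N3436 D3469) (tt N3153 (iv D3356)) (tt N3415 (iv F15032)) (tt N3154 F14632) (tt N3435 (iv F15152)) (tt N3433 (iv F15142)) (tt N3323 F14633))
theorem Q3325 : ∀ i, i < 3325 → P i := stepQ 3324 Q3324 (allL N3324 (tt N3251 F14634) (tt N3437 D3470) (tt N3154 (iv D3357)) (tt N3250 F14635) (tt N3410 (iv F14997)) (tt N3436 (iv F15158)) (tt N3269 F14636) (tt N3434 (iv F15146)) (tt N3324 F14637))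
theorem Q3326 : ∀ i, i < 3326 → P i := stepQ 3325 Q3325 (allL N3325 (tt N3158 F14638) (tt N3190 F14639) (tt N3162 F14640) (tt N3436 (iv F15156)) (tt N3176 F14641) (tt N3250 F14642) (tt N3174 F14643) (tt N3157 (iv D3358)) (tt N3325 F14644))
theorem Q3327 : ∀ i, i < 3327 → P i := stepQ 3326 Q3326 (allL N3326 (tt N3436 (iv F15154)) (tt N3159 F14645) (tt N3423 (iv F15087)) (tt N3158 (iv D3359)) (tt N3435 (iv F15150)) (tt N3251 F14646) (tt N3415 (iv F15034)) (tt N3430 (iv F15128)) (tt N3326 F14647))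
theorem Q3328 : ∀ i, i < 3328 → P i := stepQ 3327 Q3327 (allL N3327 (tt N3268 F14648) (tt N3435 (iv F15148)) (tt N3411 (iv F15003)) (tt N3213 F14649) (tt N3159 (iv D3360)) (tt N3438 D3471) (tt N3214 F14650) (tt N3431 (iv F15132)) (tt N3327 F14651))
theorem Q3329 : ∀ i, i < 3329 → P i := stepQ 3328 Q3328 (allL N3328 (tt N3403 (iv F14946)) (tt N3328 F14652) (tt N3401 (iv F14932)) (tt N3164 (iv D3361)) (tt N3402 (iv F14941)) (tt N3165 F14653) (tt N3404 (iv F14959)) (tt N3328 F14654) (tt N3328 F14655))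
theorem Q3330 : ∀ i, i < 3330 → P i := stepQ 3329 Q3329 (allL N3329 (tt N3248 F14656) (tt N3168 F14657) (tt N3428 (iv F15114)) (tt N3180 F14658) (tt N3421 (iv F15076)) (tt N3233 F14659) (tt N3254 F14660) (tt N3166 (iv D3362)) (tt N3239 F14661))
theorem Q3331 : ∀ i, i < 3331 → P i := stepQ 3330 Q3330 (allL N3330 (tt N3173 F14662) (tt N3421 (iv F15074)) (tt N3219 F14663) (tt N3439 D3472) (tt N3168 F14664) (tt N3414 (iv F15026)) (tt N3221 F14665) (tt N3167 (iv D3363)) (tt N3253 F14666))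
theorem Q3332 : ∀ i, i < 3332 → P i := stepQ 3331 Q3331 (allL N3331 (tt N3175 F14667) (tt N3423 (iv F15086)) (tt N3249 F14668) (tt N3169 (iv D3364)) (tt N3191 F14669) (tt N3415 (iv F15033)) (tt N3223 F14670) (tt N3439 (iv F15177)) (tt N3331 F14671))
theorem Q3333 : ∀ i, i < 3333 → P i := stepQ 3332 Q3332 (allL N3332 (tt N3253 F14672) (tt N3406 (iv F14970)) (tt N3225 F14673) (tt N3440 D3473) (tt N3171 F14674) (tt N3413 (iv F15019)) (tt N3259 F14675) (tt N3170 (iv D3365)) (tt N3173 F14676))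
theorem Q3334 : ∀ i, i < 3334 → P i := stepQ 3333 Q3333 (allL N3333 (tt N3414 (iv F15022)) (tt N3188 F14677) (tt N3261 F14678) (tt N3441 D3474) (tt N3180 F14679) (tt N3173 F14680) (tt N3429 (iv F15124)) (tt N3172 (iv D3366)) (tt N3413 (iv F15021)))
theorem Q3335 : ∀ i, i < 3335 → P i := stepQ 3334 Q3334 (allL N3334 (tt N3439 (iv F15173)) (tt N3409 (iv F14990)) (tt N3442 D3475) (tt N3173 (iv D3367)) (tt N3209 F14681) (tt N3441 (iv F15186)) (tt N3266 F14682) (tt N3175 F14683) (tt N3440 (iv F15184)))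
theorem Q3336 : ∀ i, i < 3336 → P i := stepQ 3335 Q3335 (allL N3335 (tt N3415 (iv F15029)) (tt N3191 F14684) (tt N3435 (iv F15149)) (tt N3174 (iv D3368)) (tt N3423 (iv F15088)) (tt N3175 F14685) (tt N3436 (iv F15159)) (tt N3441 (iv F15187)) (tt N3335 F14686))
theorem Q3337 : ∀ i, i < 3337 → P i := stepQ 3336 Q3336 (allL N3336 (tt N3249 F14687) (tt N3438 (iv F15168)) (tt N3175 (iv D3369)) (tt N3234 F14688) (tt N3215 F14689) (tt N3435 (iv F15151)) (tt N3235 F14690) (tt N3442 (iv F15192)) (tt N3336 F14691))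
theorem Q3338 : ∀ i, i < 3338 → P i := stepQ 3337 Q3337 (allL N3337 (tt N3261 F14692) (tt N3182 F14693) (tt N3414 (iv F15024)) (tt N3239 F14694) (tt N3413 (iv F15018)) (tt N3219 F14695) (tt N3203 F14696) (tt N3177 (iv D3370)) (tt N3180 F14697))
theorem Q3339 : ∀ i, i < 3339 → P i := stepQ 3338 Q3338 (allL N3338 (tt N3412 (iv F15007)) (tt N3185 F14698) (tt N3424 (iv F15094)) (tt N3254 F14699) (tt N3429 (iv F15122)) (tt N3257 F14700) (tt N3180 F14701) (tt N3178 (iv D3371)) (tt N3203 F14702))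
theorem Q3340 : ∀ i, i < 3340 → P i := stepQ 3339 Q3339 (allL N3339 (tt N3413 (iv F15015)) (tt N3418 (iv F15052)) (tt N3180 F14703) (tt N3443 D3476) (tt N3261 F14704) (tt N3253 F14705) (tt N3424 (iv F15097)) (tt N3179 (iv D3372)) (tt N3414 (iv F15028)))
theorem Q3341 : ∀ i, i < 3341 → P i := stepQ 3340 Q3340 (allL N3340 (tt N3194 F14706) (tt N3413 (iv F15016)) (tt N3199 F14707) (tt N3444 D3477) (tt N3182 F14708) (tt N3406 (iv F14973)) (tt N3206 F14709) (tt N3181 (iv D3373)) (tt N3188 F14710))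
theorem Q3342 : ∀ i, i < 3342 → P i := stepQ 3341 Q3341 (allL N3341 (tt N3198 F14711) (tt N3241 F14712) (tt N3193 F14713) (tt N3189 F14714) (tt N3258 F14715) (tt N3184 F14716) (tt N3263 F14717) (tt N3445 D3478) (tt N3183 (iv D3374)))
theorem Q3343 : ∀ i, i < 3343 → P i := stepQ 3342 Q3342 (allL N3342 (tt N3199 F14718) (tt N3429 (iv F15120)) (tt N3194 F14719) (tt N3446 D3479) (tt N3185 F14720) (tt N3445 (iv F15205)) (tt N3188 F14721) (tt N3184 (iv D3375)) (tt N3206 F14722))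
theorem Q3344 : ∀ i, i < 3344 → P i := stepQ 3343 Q3343 (allL N3343 (tt N3206 F14723) (tt N3417 (iv F15045)) (tt N3188 F14724) (tt N3447 D3480) (tt N3187 F14725) (tt N3407 (iv F14980)) (tt N3194 F14726) (tt N3186 (iv D3376)) (tt N3199 F14727))
theorem Q3345 : ∀ i, i < 3345 → P i := stepQ 3344 Q3344 (allL N3344 (tt N3209 F14728) (tt N3441 (iv F15185)) (tt N3448 D3481) (tt N3188 (iv D3377)) (tt N3439 (iv F15175)) (tt N3409 (iv F14992)) (tt N3446 (iv F15210)) (tt N3191 F14729) (tt N3444 (iv F15200)))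
theorem Q3346 : ∀ i, i < 3346 → P i := stepQ 3345 Q3345 (allL N3345 (tt N3211 F14730) (tt N3250 F14731) (tt N3345 F14732) (tt N3437 (iv F15163)) (tt N3345 F14733) (tt N3190 F14734) (tt N3267 F14735) (tt N3189 (iv D3378)) (tt N3345 F14736))
theorem Q3347 : ∀ i, i < 3347 → P i := stepQ 3346 Q3346 (allL N3346 (tt N3212 F14737) (tt N3436 (iv F15155)) (tt N3252 (iv F14741)) (tt N3190 (iv D3379)) (tt N3223 F14738) (tt N3437 (iv F15164)) (tt N3191 F14739) (tt N3446 (iv F15211)) (tt N3346 F14740))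
theorem Q3348 : ∀ i, i < 3348 → P i := stepQ 3347 Q3347 (allL N3347 (tt N3215 F14742) (tt N3411 (iv F15002)) (tt N3191 (iv D3380)) (tt N3347 F14743) (tt N3249 F14744) (tt N3410 (iv F14998)) (tt N3252 F14745) (tt N3448 (iv F15222)) (tt N3347 F14746))
theorem Q3349 : ∀ i, i < 3349 → P i := stepQ 3348 Q3348 (allL N3348 (tt N3256 F14747) (tt N3244 F14748) (tt N3263 F14749) (tt N3348 F14750) (tt N3255 F14751) (tt N3242 F14752) (tt N3193 F14753) (tt N3449 D3482) (tt N3192 (iv D3381)))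
theorem Q3350 : ∀ i, i < 3350 → P i := stepQ 3349 Q3349 (allL N3349 (tt N3406 (iv F14969)) (tt N3426 (iv F15103)) (tt N3445 (iv F15203)) (tt N3450 D3483) (tt N3260 F14754) (tt N3194 F14755) (tt N3449 (iv F15228)) (tt N3193 (iv D3382)) (tt N3208 F14756))
theorem Q3351 : ∀ i, i < 3351 → P i := stepQ 3350 Q3350 (allL N3350 (tt N3444 (iv F15196)) (tt N3427 (iv F15109)) (tt N3451 D3484) (tt N3194 (iv D3383)) (tt N3440 (iv F15181)) (tt N3450 (iv F15230)) (tt N3447 (iv F15216)) (tt N3350 F14757) (tt N3209 F14758))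
theorem Q3352 : ∀ i, i < 3352 → P i := stepQ 3351 Q3351 (allL N3351 (tt N3259 F14759) (tt N3428 (iv F15113)) (tt N3218 F14760) (tt N3452 D3485) (tt N3196 F14761) (tt N3405 (iv F14966)) (tt N3253 F14762) (tt N3195 (iv D3384)) (tt N3221 F14763))
theorem Q3353 : ∀ i, i < 3353 → P i := stepQ 3352 Q3352 (allL N3352 (tt N3263 F14764) (tt N3229 F14765) (tt N3256 F14766) (tt N3210 F14767) (tt N3236 F14768) (tt N3207 F14769) (tt N3198 F14770) (tt N3453 D3486) (tt N3197 (iv D3385)))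
theorem Q3354 : ∀ i, i < 3354 → P i := stepQ 3353 Q3353 (allL N3353 (tt N3445 (iv F15201)) (tt N3232 F14771) (tt N3406 (iv F14971)) (tt N3454 D3487) (tt N3405 (iv F14965)) (tt N3199 F14772) (tt N3453 (iv F15248)) (tt N3198 (iv D3386)) (tt N3407 (iv F14982)))
theorem Q3355 : ∀ i, i < 3355 → P i := stepQ 3354 Q3354 (allL N3354 (tt N3446 (iv F15208)) (tt N3420 (iv F15067)) (tt N3455 D3488) (tt N3199 (iv D3387)) (tt N3266 F14773) (tt N3454 (iv F15251)) (tt N3209 F14774) (tt N3212 F14775) (tt N3447 (iv F15218)))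
theorem Q3356 : ∀ i, i < 3356 → P i := stepQ 3355 Q3355 (allL N3355 (tt N3203 F14776) (tt N3416 (iv F15037)) (tt N3429 (iv F15121)) (tt N3419 (iv F15061)) (tt N3424 (iv F15095)) (tt N3262 F14777) (tt N3261 F14778) (tt N3200 (iv D3388)) (tt N3412 (iv F15014)))
theorem Q3357 : ∀ i, i < 3357 → P i := stepQ 3356 Q3356 (allL N3356 (tt N3236 F14779) (tt N3205 F14780) (tt N3255 F14781) (tt N3356 F14782) (tt N3263 F14783) (tt N3202 F14784) (tt N3258 F14785) (tt N3456 D3489) (tt N3201 (iv D3389)))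
theorem Q3358 : ∀ i, i < 3358 → P i := stepQ 3357 Q3357 (allL N3357 (tt N3424 (iv F15092)) (tt N3206 F14786) (tt N3412 (iv F15009)) (tt N3457 D3490) (tt N3203 F14787) (tt N3456 (iv F15261)) (tt N3413 (iv F15020)) (tt N3202 (iv D3390)) (tt N3429 (iv F15125)))
theorem Q3359 : ∀ i, i < 3359 → P i := stepQ 3358 Q3358 (allL N3358 (tt N3242 F14788) (tt N3258 F14789) (tt N3207 F14790) (tt N3358 F14791) (tt N3241 F14792) (tt N3256 F14793) (tt N3205 F14794) (tt N3458 D3491) (tt N3204 (iv D3391)))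
theorem Q3360 : ∀ i, i < 3360 → P i := stepQ 3359 Q3359 (allL N3359 (tt N3407 (iv F14976)) (tt N3456 (iv F15258)) (tt N3208 F14795) (tt N3459 D3492) (tt N3265 F14796) (tt N3206 F14797) (tt N3458 (iv F15271)) (tt N3205 (iv D3392)) (tt N3445 (iv F15207)))
theorem Q3361 : ∀ i, i < 3361 → P i := stepQ 3360 Q3360 (allL N3360 (tt N3447 (iv F15214)) (tt N3457 (iv F15264)) (tt N3460 D3493) (tt N3206 (iv D3393)) (tt N3452 (iv F15239)) (tt N3459 (iv F15273)) (tt N3444 (iv F15198)) (tt N3360 F14798) (tt N3446 (iv F15212)))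
theorem Q3362 : ∀ i, i < 3362 → P i := stepQ 3361 Q3361 (allL N3361 (tt N3264 F14799) (tt N3432 (iv F15134)) (tt N3458 (iv F15268)) (tt N3431 (iv F15130)) (tt N3262 F14800) (tt N3453 (iv F15247)) (tt N3208 F14801) (tt N3207 (iv D3394)) (tt N3449 (iv F15229)))
theorem Q3363 : ∀ i, i < 3363 → P i := stepQ 3362 Q3362 (allL N3362 (tt N3409 (iv F14989)) (tt N3433 (iv F15140)) (tt N3461 D3494) (tt N3208 (iv D3395)) (tt N3422 (iv F15082)) (tt N3209 F14802) (tt N3431 (iv F15131)) (tt N3214 F14803) (tt N3450 (iv F15232)))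
theorem Q3364 : ∀ i, i < 3364 → P i := stepQ 3363 Q3363 (allL N3363 (tt N3448 (iv F15219)) (tt N3462 D3495) (tt N3209 (iv D3396)) (tt N3460 (iv F15275)) (tt N3442 (iv F15190)) (tt N3461 (iv F15280)) (tt N3455 (iv F15255)) (tt N3215 F14804) (tt N3451 (iv F15236)))
theorem Q3365 : ∀ i, i < 3365 → P i := stepQ 3364 Q3364 (allL N3364 (tt N3267 F14805) (tt N3234 F14806) (tt N3364 F14807) (tt N3438 (iv F15169)) (tt N3364 F14808) (tt N3213 F14809) (tt N3211 F14810) (tt N3210 (iv D3397)) (tt N3364 F14811))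
theorem Q3366 : ∀ i, i < 3366 → P i := stepQ 3365 Q3365 (allL N3365 (tt N3437 (iv F15161)) (tt N3235 F14812) (tt N3463 D3496) (tt N3211 (iv D3398)) (tt N3464 D3497) (tt N3212 F14813) (tt N3438 (iv F15171)) (tt N3454 (iv F15252)) (tt N3365 F14814))
theorem Q3367 : ∀ i, i < 3367 → P i := stepQ 3366 Q3366 (allL N3366 (tt N3252 F14815) (tt N3464 (iv F15291)) (tt N3212 (iv D3399)) (tt N3366 F14816) (tt N3235 F14817) (tt N3463 (iv F15288)) (tt N3215 F14818) (tt N3455 (iv F15256)) (tt N3366 F14819))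
theorem Q3368 : ∀ i, i < 3368 → P i := stepQ 3367 Q3367 (allL N3367 (tt N3410 (iv F14995)) (tt N3252 (iv F14824)) (tt N3214 (iv D3400)) (tt N3367 F14820) (tt N3251 F14821) (tt N3215 F14822) (tt N3411 (iv F15005)) (tt N3461 (iv F15281)) (tt N3367 F14823))
theorem Q3369 : ∀ i, i < 3369 → P i := stepQ 3368 Q3368 (allL N3368 (tt N3463 (iv F15285)) (tt N3215 (iv D3401)) (tt N3437 (iv F15162)) (tt N3368 F14825) (tt N3438 (iv F15170)) (tt N3252 F14826) (tt N3464 (iv F15295)) (tt N3462 (iv F15284)) (tt N3368 F14827))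
theorem Q3370 : ∀ i, i < 3370 → P i := stepQ 3369 Q3369 (allL N3369 (tt N3402 (iv F14938)) (tt N3217 F14828) (tt N3404 (iv F14956)) (tt N3216 (iv D3402)) (tt N3403 F14953) (tt N3369 F14829) (tt N3401 (iv F14935)) (tt N3369 F14830) (tt N3369 F14831))
theorem Q3371 : ∀ i, i < 3371 → P i := stepQ 3370 Q3370 (allL N3370 (tt N3432 (iv F15133)) (tt N3221 F14832) (tt N3239 F14833) (tt N3465 D3498) (tt N3254 F14834) (tt N3240 F14835) (tt N3421 (iv F15078)) (tt N3220 (iv D3403)) (tt N3428 (iv F15118)))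
theorem Q3372 : ∀ i, i < 3372 → P i := stepQ 3371 Q3371 (allL N3371 (tt N3266 F14836) (tt N3465 (iv F15297)) (tt N3246 F14837) (tt N3221 (iv D3404)) (tt N3446 (iv F15209)) (tt N3408 (iv F14986)) (tt N3439 (iv F15176)) (tt N3223 F14838) (tt N3452 (iv F15242)))
theorem Q3373 : ∀ i, i < 3373 → P i := stepQ 3372 Q3372 (allL N3372 (tt N3435 (iv F15147)) (tt N3223 F14839) (tt N3415 (iv F15031)) (tt N3222 (iv D3405)) (tt N3436 (iv F15157)) (tt N3249 F14840) (tt N3423 (iv F15090)) (tt N3465 (iv F15299)) (tt N3372 F14841))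
theorem Q3374 : ∀ i, i < 3374 → P i := stepQ 3373 Q3373 (allL N3373 (tt N3237 F14842) (tt N3407 (iv F14977)) (tt N3227 F14843) (tt N3466 D3499) (tt N3240 F14844) (tt N3417 (iv F15048)) (tt N3245 F14845) (tt N3226 (iv D3406)) (tt N3232 F14846))
theorem Q3375 : ∀ i, i < 3375 → P i := stepQ 3374 Q3374 (allL N3374 (tt N3239 F14847) (tt N3260 F14848) (tt N3432 (iv F15135)) (tt N3261 F14849) (tt N3426 (iv F15105)) (tt N3230 F14850) (tt N3419 (iv F15064)) (tt N3228 (iv D3407)) (tt N3248 F14851))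
theorem Q3376 : ∀ i, i < 3376 → P i := stepQ 3375 Q3375 (allL N3375 (tt N3240 F14852) (tt N3453 (iv F15244)) (tt N3230 F14853) (tt N3442 (iv F15189)) (tt N3237 F14854) (tt N3432 (iv F15137)) (tt N3232 F14855) (tt N3229 (iv D3408)) (tt N3245 F14856))
theorem Q3377 : ∀ i, i < 3377 → P i := stepQ 3376 Q3376 (allL N3376 (tt N3245 F14857) (tt N3405 (iv F14963)) (tt N3233 F14858) (tt N3467 D3500) (tt N3232 F14859) (tt N3428 (iv F15116)) (tt N3237 F14860) (tt N3231 (iv D3409)) (tt N3240 F14861))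
theorem Q3378 : ∀ i, i < 3378 → P i := stepQ 3377 Q3377 (allL N3377 (tt N3246 F14862) (tt N3454 (iv F15250)) (tt N3266 F14863) (tt N3232 (iv D3410)) (tt N3455 (iv F15254)) (tt N3420 (iv F15070)) (tt N3442 (iv F15191)) (tt N3235 F14864) (tt N3466 (iv F15304)))
theorem Q3379 : ∀ i, i < 3379 → P i := stepQ 3378 Q3378 (allL N3378 (tt N3456 (iv F15257)) (tt N3237 F14865) (tt N3257 F14866) (tt N3468 D3501) (tt N3453 (iv F15246)) (tt N3424 (iv F15096)) (tt N3405 (iv F14967)) (tt N3236 (iv D3411)) (tt N3243 F14867))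
theorem Q3380 : ∀ i, i < 3380 → P i := stepQ 3379 Q3379 (allL N3379 (tt N3466 (iv F15300)) (tt N3468 (iv F15310)) (tt N3452 (iv F15238)) (tt N3237 (iv D3412)) (tt N3460 (iv F15276)) (tt N3425 (iv F15099)) (tt N3467 (iv F15307)) (tt N3379 F14868) (tt N3246 F14869))
theorem Q3381 : ∀ i, i < 3381 → P i := stepQ 3380 Q3380 (allL N3380 (tt N3426 (iv F15102)) (tt N3253 F14870) (tt N3254 F14871) (tt N3469 D3502) (tt N3239 F14872) (tt N3418 (iv F15055)) (tt N3428 (iv F15117)) (tt N3238 (iv D3413)) (tt N3421 (iv F15079)))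
theorem Q3382 : ∀ i, i < 3382 → P i := stepQ 3381 Q3381 (allL N3381 (tt N3442 (iv F15188)) (tt N3408 (iv F14984)) (tt N3439 (iv F15174)) (tt N3240 (iv D3414)) (tt N3448 (iv F15220)) (tt N3465 (iv F15298)) (tt N3246 F14873) (tt N3249 F14874) (tt N3467 (iv F15309)))
theorem Q3383 : ∀ i, i < 3383 → P i := stepQ 3382 Q3382 (allL N3382 (tt N3243 F14875) (tt N3445 (iv F15202)) (tt N3262 F14876) (tt N3434 (iv F15144)) (tt N3458 (iv F15269)) (tt N3429 (iv F15123)) (tt N3265 F14877) (tt N3241 (iv D3415)) (tt N3456 (iv F15263)))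
theorem Q3384 : ∀ i, i < 3384 → P i := stepQ 3383 Q3383 (allL N3383 (tt N3458 (iv F15266)) (tt N3245 F14878) (tt N3264 F14879) (tt N3470 D3503) (tt N3243 F14880) (tt N3449 (iv F15227)) (tt N3407 (iv F14981)) (tt N3242 (iv D3416)) (tt N3453 (iv F15249)))
theorem Q3385 : ∀ i, i < 3385 → P i := stepQ 3384 Q3384 (allL N3384 (tt N3434 (iv F15143)) (tt N3246 F14881) (tt N3422 (iv F15081)) (tt N3243 (iv D3417)) (tt N3461 (iv F15279)) (tt N3430 (iv F15127)) (tt N3408 (iv F14987)) (tt N3251 F14882) (tt N3468 (iv F15312)))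
theorem Q3386 : ∀ i, i < 3386 → P i := stepQ 3385 Q3385 (allL N3385 (tt N3428 (iv F15112)) (tt N3449 (iv F15224)) (tt N3248 F14883) (tt N3471 D3504) (tt N3419 (iv F15062)) (tt N3245 F14884) (tt N3426 (iv F15107)) (tt N3244 (iv D3418)) (tt N3432 (iv F15139)))
theorem Q3387 : ∀ i, i < 3387 → P i := stepQ 3386 Q3386 (allL N3386 (tt N3467 (iv F15305)) (tt N3470 (iv F15315)) (tt N3440 (iv F15180)) (tt N3245 (iv D3419)) (tt N3451 (iv F15234)) (tt N3471 (iv F15317)) (tt N3466 (iv F15302)) (tt N3386 F14885) (tt N3442 (iv F15193)))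
theorem Q3388 : ∀ i, i < 3388 → P i := stepQ 3387 Q3387 (allL N3387 (tt N3455 (iv F15253)) (tt N3461 (iv F15282)) (tt N3446 F15213) (tt N3451 (iv F15233)) (tt N3246 (iv D3420)) (tt N3462 (iv F15283)) (tt N3448 (iv F15221)) (tt N3252 F14886) (tt N3460 (iv F15278)))
theorem Q3389 : ∀ i, i < 3389 → P i := stepQ 3388 Q3388 (allL N3388 (tt N3254 F14887) (tt N3262 F14888) (tt N3426 (iv F15104)) (tt N3412 (iv F15010)) (tt N3432 (iv F15136)) (tt N3416 (iv F15041)) (tt N3248 F14889) (tt N3247 (iv D3421)) (tt N3419 (iv F15065)))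
theorem Q3390 : ∀ i, i < 3390 → P i := stepQ 3389 Q3389 (allL N3389 (tt N3440 (iv F15179)) (tt N3469 (iv F15313)) (tt N3467 (iv F15306)) (tt N3253 (iv D3422)) (tt N3444 (iv F15197)) (tt N3443 (iv F15194)) (tt N3452 (iv F15240)) (tt N3389 F14890) (tt N3439 (iv F15178)))
theorem Q3391 : ∀ i, i < 3391 → P i := stepQ 3390 Q3390 (allL N3390 (tt N3257 F14891) (tt N3419 (iv F15059)) (tt N3456 (iv F15259)) (tt N3416 (iv F15039)) (tt N3449 (iv F15226)) (tt N3412 (iv F15012)) (tt N3260 F14892) (tt N3255 (iv D3423)) (tt N3262 F14893))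
theorem Q3392 : ∀ i, i < 3392 → P i := stepQ 3391 Q3391 (allL N3391 (tt N3449 (iv F15223)) (tt N3259 F14894) (tt N3453 (iv F15245)) (tt N3472 D3505) (tt N3257 F14895) (tt N3458 (iv F15270)) (tt N3406 (iv F14974)) (tt N3256 (iv D3424)) (tt N3264 F14896))
theorem Q3393 : ∀ i, i < 3393 → P i := stepQ 3392 Q3392 (allL N3392 (tt N3405 (iv F14962)) (tt N3458 (iv F15267)) (tt N3260 F14897) (tt N3473 D3506) (tt N3445 (iv F15204)) (tt N3259 F14898) (tt N3456 (iv F15262)) (tt N3258 (iv D3425)) (tt N3265 F14899))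
theorem Q3394 : ∀ i, i < 3394 → P i := stepQ 3393 Q3393 (allL N3393 (tt N3452 (iv F15237)) (tt N3472 (iv F15319)) (tt N3466 (iv F15301)) (tt N3259 (iv D3426)) (tt N3447 (iv F15215)) (tt N3473 (iv F15322)) (tt N3440 (iv F15182)) (tt N3393 F14900) (tt N3266 F14901))
theorem Q3395 : ∀ i, i < 3395 → P i := stepQ 3394 Q3394 (allL N3394 (tt N3453 (iv F15243)) (tt N3265 F14902) (tt N3449 (iv F15225)) (tt N3474 D3507) (tt N3456 (iv F15260)) (tt N3264 F14903) (tt N3445 (iv F15206)) (tt N3263 (iv D3427)) (tt N3458 (iv F15272)))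
theorem Q3396 : ∀ i, i < 3396 → P i := stepQ 3395 Q3395 (allL N3395 (tt N3431 (iv F15129)) (tt N3266 F14904) (tt N3475 D3508) (tt N3264 (iv D3428)) (tt N3420 (iv F15069)) (tt N3474 (iv F15326)) (tt N3409 (iv F14993)) (tt N3268 F14905) (tt N3472 (iv F15321)))
theorem Q3397 : ∀ i, i < 3397 → P i := stepQ 3396 Q3396 (allL N3396 (tt N3408 (iv F14983)) (tt N3474 (iv F15325)) (tt N3420 (iv F15068)) (tt N3265 (iv D3429)) (tt N3475 (iv F15328)) (tt N3266 F14906) (tt N3434 (iv F15145)) (tt N3269 F14907) (tt N3473 (iv F15324)))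
theorem Q3398 : ∀ i, i < 3398 → P i := stepQ 3397 Q3397 (allL N3397 (tt N3438 (iv F15167)) (tt N3269 F14908) (tt N3464 (iv F15292)) (tt N3267 (iv D3430)) (tt N3463 F15290) (tt N3268 F14909) (tt N3437 (iv F15165)) (tt N3474 (iv F15327)) (tt N3397 F14910))
theorem Q3399 : ∀ i, i < 3399 → P i := stepQ 3398 Q3398 (allL N3398 (tt N3411 (iv F15001)) (tt N3463 (iv F15286)) (tt N3268 (iv D3431)) (tt N3398 F14911) (tt N3269 F14912) (tt N3464 (iv F15294)) (tt N3410 (iv F14999)) (tt N3475 (iv F15329)) (tt N3398 F14913))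
theorem Q3400 : ∀ i, i < 3400 → P i := stepQ 3399 Q3399 (allL N3399 (tt N3399 F14914) (tt N3277 F14915) (tt N3399 F14916) (tt N3270 (iv D3432)) (tt N3399 F14917) (tt N3280 F14918) (tt N3399 F14919) (tt N3399 F14920) (tt N3399 F14921))
theorem Q3401 : ∀ i, i < 3401 → P i := stepQ 3400 Q3400 (allL N3400 (tt N3400 F14922) (tt N3273 F14923) (tt N3400 F14924) (tt N3271 (iv D3433)) (tt N3400 F14925) (tt N3283 F14926) (tt N3400 F14927) (tt N3400 F14928) (tt N3400 F14929))
theorem Q3402 : ∀ i, i < 3402 → P i := stepQ 3401 Q3401 (allL N3401 (tt N3276 F14930) (tt N3283 F14931) (tt N3328 F14932) (tt N3272 (iv D3434)) (tt N3282 F14933) (tt N3273 F14934) (tt N3369 F14935) (tt N3401 F14936) (tt N3401 F14937))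
theorem Q3403 : ∀ i, i < 3403 → P i := stepQ 3402 Q3402 (allL N3402 (tt N3369 F14938) (tt N3402 F14939) (tt N3282 F14940) (tt N3275 (iv D3435)) (tt N3328 F14941) (tt N3402 F14942) (tt N3276 F14943) (tt N3402 F14944) (tt N3402 F14945))
theorem Q3404 : ∀ i, i < 3404 → P i := stepQ 3403 Q3403 (allL N3403 (tt N3328 F14946) (tt N3280 (iv F14952)) (tt N3276 (iv D3436)) (tt N3279 F14947) (tt N3369 (iv F14953)) (tt N3277 F14948) (tt N3282 F14949) (tt N3403 F14950) (tt N3403 F14951))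
theorem Q3405 : ∀ i, i < 3405 → P i := stepQ 3404 Q3404 (allL N3404 (tt N3282 F14954) (tt N3404 F14955) (tt N3369 F14956) (tt N3281 F14957) (tt N3276 (iv D3437)) (tt N3404 F14958) (tt N3328 F14959) (tt N3404 F14960) (tt N3404 F14961))
theorem Q3406 : ∀ i, i < 3406 → P i := stepQ 3405 Q3405 (allL N3405 (tt N3392 F14962) (tt N3376 F14963) (tt N3286 F14964) (tt N3476 D3509) (tt N3353 F14965) (tt N3351 F14966) (tt N3378 F14967) (tt N3284 (iv D3438)) (tt N3288 F14968))
theorem Q3407 : ∀ i, i < 3407 → P i := stepQ 3406 Q3406 (allL N3406 (tt N3349 F14969) (tt N3332 F14970) (tt N3353 F14971) (tt N3477 D3510) (tt N3286 F14972) (tt N3340 F14973) (tt N3391 F14974) (tt N3285 (iv D3439)) (tt N3289 F14975))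
theorem Q3408 : ∀ i, i < 3408 → P i := stepQ 3407 Q3407 (allL N3407 (tt N3359 F14976) (tt N3373 F14977) (tt N3289 F14978) (tt N3478 D3511) (tt N3288 F14979) (tt N3343 F14980) (tt N3383 F14981) (tt N3287 (iv D3440)) (tt N3353 F14982))
theorem Q3409 : ∀ i, i < 3409 → P i := stepQ 3408 Q3408 (allL N3408 (tt N3396 F14983) (tt N3381 F14984) (tt N3318 F14985) (tt N3288 (iv D3441)) (tt N3479 D3512) (tt N3371 F14986) (tt N3384 F14987) (tt N3291 F14988) (tt N3476 (iv F15336)))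
theorem Q3410 : ∀ i, i < 3410 → P i := stepQ 3409 Q3409 (allL N3409 (tt N3362 F14989) (tt N3334 F14990) (tt N3480 D3513) (tt N3289 (iv D3442)) (tt N3321 F14991) (tt N3344 F14992) (tt N3395 F14993) (tt N3290 F14994) (tt N3477 (iv F15343)))
theorem Q3411 : ∀ i, i < 3411 → P i := stepQ 3410 Q3410 (allL N3410 (tt N3367 F14995) (tt N3481 D3514) (tt N3290 (iv D3443)) (tt N3410 F14996) (tt N3324 F14997) (tt N3347 F14998) (tt N3398 F14999) (tt N3480 (iv F15359)) (tt N3410 F15000))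
theorem Q3412 : ∀ i, i < 3412 → P i := stepQ 3411 Q3411 (allL N3411 (tt N3398 F15001) (tt N3347 F15002) (tt N3327 F15003) (tt N3411 F15004) (tt N3291 (iv D3444)) (tt N3481 (iv F15364)) (tt N3367 F15005) (tt N3479 (iv F15354)) (tt N3411 F15006))
theorem Q3413 : ∀ i, i < 3413 → P i := stepQ 3412 Q3412 (allL N3412 (tt N3338 F15007) (tt N3302 F15008) (tt N3357 F15009) (tt N3388 F15010) (tt N3317 F15011) (tt N3390 F15012) (tt N3295 F15013) (tt N3292 (iv D3445)) (tt N3355 F15014))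
theorem Q3414 : ∀ i, i < 3414 → P i := stepQ 3413 Q3413 (allL N3413 (tt N3339 F15015) (tt N3340 F15016) (tt N3295 F15017) (tt N3482 D3515) (tt N3337 F15018) (tt N3332 F15019) (tt N3357 F15020) (tt N3293 (iv D3446)) (tt N3333 F15021))
theorem Q3415 : ∀ i, i < 3415 → P i := stepQ 3414 Q3414 (allL N3414 (tt N3333 F15022) (tt N3305 F15023) (tt N3337 F15024) (tt N3483 D3516) (tt N3295 F15025) (tt N3330 F15026) (tt N3317 F15027) (tt N3294 (iv D3447)) (tt N3339 F15028))
theorem Q3416 : ∀ i, i < 3416 → P i := stepQ 3415 Q3415 (allL N3415 (tt N3335 F15029) (tt N3307 F15030) (tt N3372 F15031) (tt N3296 (iv D3448)) (tt N3323 F15032) (tt N3331 F15033) (tt N3326 F15034) (tt N3483 (iv F15381)) (tt N3415 F15035))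
theorem Q3417 : ∀ i, i < 3417 → P i := stepQ 3416 Q3416 (allL N3416 (tt N3309 F15036) (tt N3355 F15037) (tt N3313 F15038) (tt N3390 F15039) (tt N3311 F15040) (tt N3388 F15041) (tt N3300 F15042) (tt N3297 (iv D3449)) (tt N3302 F15043))
theorem Q3418 : ∀ i, i < 3418 → P i := stepQ 3417 Q3417 (allL N3417 (tt N3311 F15044) (tt N3343 F15045) (tt N3300 F15046) (tt N3484 D3517) (tt N3309 F15047) (tt N3373 F15048) (tt N3313 F15049) (tt N3298 (iv D3450)) (tt N3303 F15050))
theorem Q3419 : ∀ i, i < 3419 → P i := stepQ 3418 Q3418 (allL N3418 (tt N3313 F15051) (tt N3339 F15052) (tt N3309 F15053) (tt N3485 D3518) (tt N3300 F15054) (tt N3380 F15055) (tt N3311 F15056) (tt N3299 (iv D3451)) (tt N3305 F15057))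
theorem Q3420 : ∀ i, i < 3420 → P i := stepQ 3419 Q3419 (allL N3419 (tt N3315 F15058) (tt N3390 F15059) (tt N3320 F15060) (tt N3355 F15061) (tt N3385 F15062) (tt N3302 F15063) (tt N3374 F15064) (tt N3301 (iv D3452)) (tt N3388 F15065))
theorem Q3421 : ∀ i, i < 3421 → P i := stepQ 3420 Q3420 (allL N3420 (tt N3318 F15066) (tt N3354 F15067) (tt N3396 F15068) (tt N3303 (iv D3453)) (tt N3395 F15069) (tt N3377 F15070) (tt N3321 F15071) (tt N3308 F15072) (tt N3484 (iv F15390)))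
theorem Q3422 : ∀ i, i < 3422 → P i := stepQ 3421 Q3421 (allL N3421 (tt N3320 F15073) (tt N3330 F15074) (tt N3315 F15075) (tt N3486 D3519) (tt N3329 F15076) (tt N3305 F15077) (tt N3370 F15078) (tt N3304 (iv D3454)) (tt N3380 F15079))
theorem Q3423 : ∀ i, i < 3423 → P i := stepQ 3422 Q3422 (allL N3422 (tt N3321 F15080) (tt N3483 (iv F15376)) (tt N3384 F15081) (tt N3305 (iv D3455)) (tt N3362 F15082) (tt N3486 (iv F15403)) (tt N3318 F15083) (tt N3307 F15084) (tt N3485 (iv F15398)))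
theorem Q3424 : ∀ i, i < 3424 → P i := stepQ 3423 Q3423 (allL N3423 (tt N3323 F15085) (tt N3331 F15086) (tt N3326 F15087) (tt N3306 (iv D3456)) (tt N3335 F15088) (tt N3307 F15089) (tt N3372 F15090) (tt N3486 (iv F15405)) (tt N3423 F15091))
theorem Q3425 : ∀ i, i < 3425 → P i := stepQ 3424 Q3424 (allL N3424 (tt N3357 F15092) (tt N3311 F15093) (tt N3338 F15094) (tt N3487 D3520) (tt N3355 F15095) (tt N3378 F15096) (tt N3339 F15097) (tt N3310 (iv D3457)) (tt N3317 F15098))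
theorem Q3426 : ∀ i, i < 3426 → P i := stepQ 3425 Q3425 (allL N3425 (tt N3484 (iv F15383)) (tt N3487 (iv F15408)) (tt N3476 (iv F15332)) (tt N3311 (iv D3458)) (tt N3488 D3521) (tt N3379 F15099) (tt N3485 (iv F15396)) (tt N3425 F15100) (tt N3318 F15101))
theorem Q3427 : ∀ i, i < 3427 → P i := stepQ 3426 Q3426 (allL N3426 (tt N3380 F15102) (tt N3349 F15103) (tt N3388 F15104) (tt N3489 D3522) (tt N3374 F15105) (tt N3313 F15106) (tt N3385 F15107) (tt N3312 (iv D3459)) (tt N3320 F15108))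
theorem Q3428 : ∀ i, i < 3428 → P i := stepQ 3427 Q3427 (allL N3427 (tt N3485 (iv F15391)) (tt N3350 F15109) (tt N3490 D3523) (tt N3313 (iv D3460)) (tt N3477 (iv F15339)) (tt N3489 (iv F15426)) (tt N3484 (iv F15388)) (tt N3427 F15110) (tt N3321 F15111))
theorem Q3429 : ∀ i, i < 3429 → P i := stepQ 3428 Q3428 (allL N3428 (tt N3385 F15112) (tt N3351 F15113) (tt N3329 F15114) (tt N3491 D3524) (tt N3315 F15115) (tt N3376 F15116) (tt N3380 F15117) (tt N3314 (iv D3461)) (tt N3370 F15118))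
theorem Q3430 : ∀ i, i < 3430 → P i := stepQ 3429 Q3429 (allL N3429 (tt N3317 F15119) (tt N3342 F15120) (tt N3355 F15121) (tt N3492 D3525) (tt N3338 F15122) (tt N3382 F15123) (tt N3333 F15124) (tt N3316 (iv D3462)) (tt N3357 F15125))
theorem Q3431 : ∀ i, i < 3431 → P i := stepQ 3430 Q3430 (allL N3430 (tt N3492 (iv F15445)) (tt N3318 F15126) (tt N3486 (iv F15401)) (tt N3317 (iv D3463)) (tt N3493 D3526) (tt N3384 F15127) (tt N3483 (iv F15380)) (tt N3326 F15128) (tt N3487 (iv F15414)))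
theorem Q3432 : ∀ i, i < 3432 → P i := stepQ 3431 Q3431 (allL N3431 (tt N3395 F15129) (tt N3493 (iv F15454)) (tt N3479 (iv F15352)) (tt N3361 F15130) (tt N3318 (iv D3464)) (tt N3494 D3527) (tt N3362 F15131) (tt N3327 F15132) (tt N3488 (iv F15420)))
theorem Q3433 : ∀ i, i < 3433 → P i := stepQ 3432 Q3432 (allL N3432 (tt N3370 F15133) (tt N3361 F15134) (tt N3374 F15135) (tt N3493 (iv F15456)) (tt N3388 F15136) (tt N3375 F15137) (tt N3320 F15138) (tt N3319 (iv D3465)) (tt N3385 F15139))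
theorem Q3434 : ∀ i, i < 3434 → P i := stepQ 3433 Q3433 (allL N3433 (tt N3486 (iv F15399)) (tt N3362 F15140) (tt N3492 (iv F15447)) (tt N3320 (iv D3466)) (tt N3483 (iv F15378)) (tt N3321 F15141) (tt N3493 (iv F15458)) (tt N3323 F15142) (tt N3489 (iv F15429)))
theorem Q3435 : ∀ i, i < 3435 → P i := stepQ 3434 Q3434 (allL N3434 (tt N3384 F15143) (tt N3495 D3528) (tt N3321 (iv D3467)) (tt N3382 F15144) (tt N3480 (iv F15356)) (tt N3492 (iv F15449)) (tt N3396 F15145) (tt N3324 F15146) (tt N3490 (iv F15435)))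
theorem Q3436 : ∀ i, i < 3436 → P i := stepQ 3435 Q3435 (allL N3435 (tt N3372 F15147) (tt N3327 F15148) (tt N3335 F15149) (tt N3322 (iv D3468)) (tt N3326 F15150) (tt N3336 F15151) (tt N3323 F15152) (tt N3493 (iv F15459)) (tt N3435 F15153))
theorem Q3437 : ∀ i, i < 3437 → P i := stepQ 3436 Q3436 (allL N3436 (tt N3326 F15154) (tt N3346 F15155) (tt N3323 (iv D3469)) (tt N3325 F15156) (tt N3372 F15157) (tt N3324 F15158) (tt N3335 F15159) (tt N3492 (iv F15451)) (tt N3436 F15160))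
theorem Q3438 : ∀ i, i < 3438 → P i := stepQ 3437 Q3437 (allL N3437 (tt N3365 F15161) (tt N3324 (iv D3470)) (tt N3368 F15162) (tt N3345 F15163) (tt N3481 (iv F15363)) (tt N3346 F15164) (tt N3397 F15165) (tt N3495 (iv F15473)) (tt N3437 F15166))
theorem Q3439 : ∀ i, i < 3439 → P i := stepQ 3438 Q3438 (allL N3438 (tt N3397 F15167) (tt N3336 F15168) (tt N3481 (iv F15361)) (tt N3364 F15169) (tt N3368 F15170) (tt N3327 (iv D3471)) (tt N3365 F15171) (tt N3494 (iv F15466)) (tt N3438 F15172))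
theorem Q3440 : ∀ i, i < 3440 → P i := stepQ 3439 Q3439 (allL N3439 (tt N3334 F15173) (tt N3486 (iv F15400)) (tt N3381 F15174) (tt N3330 (iv D3472)) (tt N3344 F15175) (tt N3483 (iv F15379)) (tt N3371 F15176) (tt N3331 F15177) (tt N3389 F15178))
theorem Q3441 : ∀ i, i < 3441 → P i := stepQ 3440 Q3440 (allL N3440 (tt N3389 F15179) (tt N3477 (iv F15338)) (tt N3386 F15180) (tt N3332 (iv D3473)) (tt N3350 F15181) (tt N3482 (iv F15371)) (tt N3393 F15182) (tt N3440 F15183) (tt N3334 F15184))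
theorem Q3442 : ∀ i, i < 3442 → P i := stepQ 3441 Q3441 (allL N3441 (tt N3483 (iv F15375)) (tt N3344 F15185) (tt N3493 (iv F15455)) (tt N3333 (iv D3474)) (tt N3486 (iv F15402)) (tt N3334 F15186) (tt N3492 (iv F15450)) (tt N3335 F15187) (tt N3482 (iv F15374)))
theorem Q3443 : ∀ i, i < 3443 → P i := stepQ 3442 Q3442 (allL N3442 (tt N3381 F15188) (tt N3494 (iv F15462)) (tt N3334 (iv D3475)) (tt N3375 F15189) (tt N3363 F15190) (tt N3493 (iv F15457)) (tt N3377 F15191) (tt N3336 F15192) (tt N3386 F15193))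
theorem Q3444 : ∀ i, i < 3444 → P i := stepQ 3443 Q3443 (allL N3443 (tt N3482 (iv F15367)) (tt N3485 (iv F15392)) (tt N3491 (iv F15439)) (tt N3339 (iv D3476)) (tt N3489 (iv F15425)) (tt N3389 F15194) (tt N3487 (iv F15412)) (tt N3443 F15195) (tt N3483 (iv F15382)))
theorem Q3445 : ∀ i, i < 3445 → P i := stepQ 3444 Q3444 (allL N3444 (tt N3350 F15196) (tt N3482 (iv F15368)) (tt N3496 D3529) (tt N3340 (iv D3477)) (tt N3389 F15197) (tt N3477 (iv F15340)) (tt N3360 F15198) (tt N3444 F15199) (tt N3344 F15200))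
theorem Q3446 : ∀ i, i < 3446 → P i := stepQ 3445 Q3445 (allL N3445 (tt N3353 F15201) (tt N3382 F15202) (tt N3349 F15203) (tt N3495 (iv F15470)) (tt N3392 F15204) (tt N3342 F15205) (tt N3394 F15206) (tt N3341 (iv D3478)) (tt N3359 F15207))
theorem Q3447 : ∀ i, i < 3447 → P i := stepQ 3446 Q3446 (allL N3446 (tt N3354 F15208) (tt N3492 (iv F15446)) (tt N3387 (iv F15213)) (tt N3342 (iv D3479)) (tt N3371 F15209) (tt N3495 (iv F15471)) (tt N3344 F15210) (tt N3346 F15211) (tt N3360 F15212))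
theorem Q3448 : ∀ i, i < 3448 → P i := stepQ 3447 Q3447 (allL N3447 (tt N3360 F15214) (tt N3484 (iv F15384)) (tt N3497 D3530) (tt N3343 (iv D3480)) (tt N3393 F15215) (tt N3478 (iv F15346)) (tt N3350 F15216) (tt N3447 F15217) (tt N3354 F15218))
theorem Q3449 : ∀ i, i < 3449 → P i := stepQ 3448 Q3448 (allL N3448 (tt N3363 F15219) (tt N3479 (iv F15351)) (tt N3344 (iv D3481)) (tt N3497 (iv F15482)) (tt N3381 F15220) (tt N3480 (iv F15357)) (tt N3387 F15221) (tt N3347 F15222) (tt N3496 (iv F15480)))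
theorem Q3450 : ∀ i, i < 3450 → P i := stepQ 3449 Q3449 (allL N3449 (tt N3391 F15223) (tt N3385 F15224) (tt N3394 F15225) (tt N3488 (iv F15417)) (tt N3390 F15226) (tt N3383 F15227) (tt N3349 F15228) (tt N3348 (iv D3482)) (tt N3361 F15229))
theorem Q3451 : ∀ i, i < 3451 → P i := stepQ 3450 Q3450 (allL N3450 (tt N3477 (iv F15337)) (tt N3489 (iv F15423)) (tt N3498 D3531) (tt N3349 (iv D3483)) (tt N3485 (iv F15394)) (tt N3350 F15230) (tt N3488 (iv F15418)) (tt N3450 F15231) (tt N3362 F15232))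
theorem Q3452 : ∀ i, i < 3452 → P i := stepQ 3451 Q3451 (allL N3451 (tt N3496 (iv F15475)) (tt N3499 D3532) (tt N3350 (iv D3484)) (tt N3387 F15233) (tt N3386 F15234) (tt N3498 (iv F15490)) (tt N3497 (iv F15484)) (tt N3451 F15235) (tt N3363 F15236))
theorem Q3453 : ∀ i, i < 3453 → P i := stepQ 3452 Q3452 (allL N3452 (tt N3393 F15237) (tt N3491 (iv F15438)) (tt N3379 F15238) (tt N3351 (iv D3485)) (tt N3360 F15239) (tt N3476 (iv F15333)) (tt N3389 F15240) (tt N3452 F15241) (tt N3371 F15242))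
theorem Q3454 : ∀ i, i < 3454 → P i := stepQ 3453 Q3453 (allL N3453 (tt N3394 F15243) (tt N3375 F15244) (tt N3391 F15245) (tt N3494 (iv F15463)) (tt N3378 F15246) (tt N3361 F15247) (tt N3353 F15248) (tt N3352 (iv D3486)) (tt N3383 F15249))
theorem Q3455 : ∀ i, i < 3455 → P i := stepQ 3454 Q3454 (allL N3454 (tt N3495 (iv F15468)) (tt N3377 F15250) (tt N3500 D3533) (tt N3353 (iv D3487)) (tt N3501 D3534) (tt N3354 F15251) (tt N3494 (iv F15465)) (tt N3365 F15252) (tt N3478 (iv F15349)))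
theorem Q3456 : ∀ i, i < 3456 → P i := stepQ 3455 Q3455 (allL N3455 (tt N3387 F15253) (tt N3501 (iv F15504)) (tt N3354 (iv D3488)) (tt N3496 (iv F15476)) (tt N3377 F15254) (tt N3500 (iv F15501)) (tt N3363 F15255) (tt N3366 F15256) (tt N3497 (iv F15486)))
theorem Q3457 : ∀ i, i < 3457 → P i := stepQ 3456 Q3456 (allL N3456 (tt N3378 F15257) (tt N3359 F15258) (tt N3390 F15259) (tt N3490 (iv F15431)) (tt N3394 F15260) (tt N3357 F15261) (tt N3392 F15262) (tt N3356 (iv D3489)) (tt N3382 F15263))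
theorem Q3458 : ∀ i, i < 3458 → P i := stepQ 3457 Q3457 (allL N3457 (tt N3487 (iv F15407)) (tt N3360 F15264) (tt N3489 (iv F15424)) (tt N3357 (iv D3490)) (tt N3491 (iv F15440)) (tt N3490 (iv F15432)) (tt N3482 (iv F15372)) (tt N3457 F15265) (tt N3492 (iv F15452)))
theorem Q3459 : ∀ i, i < 3459 → P i := stepQ 3458 Q3458 (allL N3458 (tt N3383 F15266) (tt N3392 F15267) (tt N3361 F15268) (tt N3502 D3535) (tt N3382 F15269) (tt N3391 F15270) (tt N3359 F15271) (tt N3358 (iv D3491)) (tt N3394 F15272))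
theorem Q3460 : ∀ i, i < 3460 → P i := stepQ 3459 Q3459 (allL N3459 (tt N3478 (iv F15344)) (tt N3490 F15436) (tt N3499 (iv F15493)) (tt N3359 (iv D3492)) (tt N3503 D3536) (tt N3360 F15273) (tt N3502 (iv F15512)) (tt N3459 F15274) (tt N3495 (iv F15474)))
theorem Q3461 : ∀ i, i < 3461 → P i := stepQ 3460 Q3460 (allL N3460 (tt N3497 (iv F15481)) (tt N3498 (iv F15487)) (tt N3360 (iv D3493)) (tt N3363 F15275) (tt N3379 F15276) (tt N3499 (iv F15496)) (tt N3496 (iv F15478)) (tt N3460 F15277) (tt N3387 F15278))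
theorem Q3462 : ∀ i, i < 3462 → P i := stepQ 3461 Q3461 (allL N3461 (tt N3480 (iv F15355)) (tt N3387 F15282) (tt N3362 (iv D3494)) (tt N3499 (iv F15494)) (tt N3384 F15279) (tt N3363 F15280) (tt N3479 (iv F15353)) (tt N3367 F15281) (tt N3498 (iv F15492)))
theorem Q3463 : ∀ i, i < 3463 → P i := stepQ 3462 Q3462 (allL N3462 (tt N3500 (iv F15499)) (tt N3363 (iv D3495)) (tt N3495 (iv F15469)) (tt N3498 (iv F15488)) (tt N3494 (iv F15464)) (tt N3387 F15283) (tt N3501 (iv F15507)) (tt N3368 F15284) (tt N3499 (iv F15498)))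
theorem Q3464 : ∀ i, i < 3464 → P i := stepQ 3463 Q3463 (allL N3463 (tt N3368 F15285) (tt N3398 F15286) (tt N3365 (iv D3496)) (tt N3463 F15287) (tt N3397 (iv F15290)) (tt N3366 F15288) (tt N3481 (iv F15365)) (tt N3500 (iv F15502)) (tt N3463 F15289))
theorem Q3465 : ∀ i, i < 3465 → P i := stepQ 3464 Q3464 (allL N3464 (tt N3481 (iv F15360)) (tt N3366 F15291) (tt N3397 F15292) (tt N3464 F15293) (tt N3365 (iv D3497)) (tt N3398 F15294) (tt N3368 F15295) (tt N3501 (iv F15508)) (tt N3464 F15296))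
theorem Q3466 : ∀ i, i < 3466 → P i := stepQ 3465 Q3465 (allL N3465 (tt N3493 (iv F15453)) (tt N3371 F15297) (tt N3483 (iv F15377)) (tt N3370 (iv D3498)) (tt N3492 (iv F15448)) (tt N3381 F15298) (tt N3486 (iv F15404)) (tt N3372 F15299) (tt N3491 (iv F15444)))
theorem Q3467 : ∀ i, i < 3467 → P i := stepQ 3466 Q3466 (allL N3466 (tt N3379 F15300) (tt N3478 (iv F15345)) (tt N3393 F15301) (tt N3373 (iv D3499)) (tt N3497 (iv F15483)) (tt N3484 (iv F15387)) (tt N3386 F15302) (tt N3466 F15303) (tt N3377 F15304))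
theorem Q3468 : ∀ i, i < 3468 → P i := stepQ 3467 Q3467 (allL N3467 (tt N3386 F15305) (tt N3476 (iv F15331)) (tt N3389 F15306) (tt N3376 (iv D3500)) (tt N3496 (iv F15477)) (tt N3491 (iv F15441)) (tt N3379 F15307) (tt N3467 F15308) (tt N3381 F15309))
theorem Q3469 : ∀ i, i < 3469 → P i := stepQ 3468 Q3468 (allL N3468 (tt N3490 (iv F15430)) (tt N3379 F15310) (tt N3485 (iv F15393)) (tt N3378 (iv D3501)) (tt N3498 (iv F15489)) (tt N3487 (iv F15411)) (tt N3476 (iv F15334)) (tt N3468 F15311) (tt N3384 F15312))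
theorem Q3470 : ∀ i, i < 3470 → P i := stepQ 3469 Q3469 (allL N3469 (tt N3489 (iv F15422)) (tt N3389 F15313) (tt N3487 (iv F15409)) (tt N3380 (iv D3502)) (tt N3482 (iv F15370)) (tt N3485 (iv F15395)) (tt N3491 (iv F15442)) (tt N3469 F15314) (tt N3486 (iv F15406)))
theorem Q3471 : ∀ i, i < 3471 → P i := stepQ 3470 Q3470 (allL N3470 (tt N3502 (iv F15509)) (tt N3386 F15315) (tt N3503 (iv F15515)) (tt N3383 (iv D3503)) (tt N3499 (iv F15495)) (tt N3488 F15421) (tt N3478 (iv F15347)) (tt N3470 F15316) (tt N3494 (iv F15467)))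
theorem Q3472 : ∀ i, i < 3472 → P i := stepQ 3471 Q3471 (allL N3471 (tt N3491 (iv F15437)) (tt N3488 (iv F15416)) (tt N3482 (iv F15369)) (tt N3385 (iv D3504)) (tt N3487 (iv F15410)) (tt N3386 F15317) (tt N3489 (iv F15427)) (tt N3471 F15318) (tt N3493 (iv F15460)))
theorem Q3473 : ∀ i, i < 3473 → P i := stepQ 3472 Q3472 (allL N3472 (tt N3488 (iv F15415)) (tt N3393 F15319) (tt N3504 D3537) (tt N3391 (iv D3505)) (tt N3484 (iv F15386)) (tt N3502 (iv F15511)) (tt N3477 (iv F15341)) (tt N3472 F15320) (tt N3395 F15321))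
theorem Q3474 : ∀ i, i < 3474 → P i := stepQ 3473 Q3473 (allL N3473 (tt N3476 (iv F15330)) (tt N3502 (iv F15510)) (tt N3484 (iv F15385)) (tt N3392 (iv D3506)) (tt N3504 (iv F15518)) (tt N3393 F15322) (tt N3490 (iv F15433)) (tt N3473 F15323) (tt N3396 F15324))
theorem Q3475 : ∀ i, i < 3475 → P i := stepQ 3474 Q3474 (allL N3474 (tt N3494 (iv F15461)) (tt N3396 F15325) (tt N3501 (iv F15505)) (tt N3394 (iv D3507)) (tt N3500 F15503) (tt N3395 F15326) (tt N3495 (iv F15472)) (tt N3397 F15327) (tt N3502 (iv F15514)))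
theorem Q3476 : ∀ i, i < 3476 → P i := stepQ 3475 Q3475 (allL N3475 (tt N3479 (iv F15350)) (tt N3500 (iv F15500)) (tt N3395 (iv D3508)) (tt N3503 (iv F15516)) (tt N3396 F15328) (tt N3501 (iv F15506)) (tt N3480 (iv F15358)) (tt N3398 F15329) (tt N3504 (iv F15520)))
theorem Q3477 : ∀ i, i < 3477 → P i := stepQ 3476 Q3476 (allL N3476 (tt N3473 F15330) (tt N3467 F15331) (tt N3425 F15332) (tt N3405 (iv D3509)) (tt N3505 D3538) (tt N3452 F15333) (tt N3468 F15334) (tt N3476 F15335) (tt N3408 F15336))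
theorem Q3478 : ∀ i, i < 3478 → P i := stepQ 3477 Q3477 (allL N3477 (tt N3450 F15337) (tt N3440 F15338) (tt N3506 D3539) (tt N3406 (iv D3510)) (tt N3427 F15339) (tt N3444 F15340) (tt N3472 F15341) (tt N3477 F15342) (tt N3409 F15343))
theorem Q3479 : ∀ i, i < 3479 → P i := stepQ 3478 Q3478 (allL N3478 (tt N3459 F15344) (tt N3466 F15345) (tt N3507 D3540) (tt N3407 (iv D3511)) (tt N3508 D3541) (tt N3447 F15346) (tt N3470 F15347) (tt N3478 F15348) (tt N3454 F15349))
theorem Q3480 : ∀ i, i < 3480 → P i := stepQ 3479 Q3479 (allL N3479 (tt N3475 F15350) (tt N3448 F15351) (tt N3431 F15352) (tt N3508 (iv F15548)) (tt N3408 (iv D3512)) (tt N3509 D3542) (tt N3461 F15353) (tt N3411 F15354) (tt N3505 (iv F15528)))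
theorem Q3481 : ∀ i, i < 3481 → P i := stepQ 3480 Q3480 (allL N3480 (tt N3461 F15355) (tt N3509 (iv F15554)) (tt N3409 (iv D3513)) (tt N3507 (iv F15539)) (tt N3434 F15356) (tt N3448 F15357) (tt N3475 F15358) (tt N3410 F15359) (tt N3506 (iv F15536)))
theorem Q3482 : ∀ i, i < 3482 → P i := stepQ 3481 Q3481 (allL N3481 (tt N3464 F15360) (tt N3410 (iv D3514)) (tt N3438 F15361) (tt N3481 F15362) (tt N3437 F15363) (tt N3411 F15364) (tt N3463 F15365) (tt N3509 (iv F15559)) (tt N3481 F15366))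
theorem Q3483 : ∀ i, i < 3483 → P i := stepQ 3482 Q3482 (allL N3482 (tt N3443 F15367) (tt N3444 F15368) (tt N3471 F15369) (tt N3413 (iv D3515)) (tt N3469 F15370) (tt N3440 F15371) (tt N3457 F15372) (tt N3482 F15373) (tt N3441 F15374))
theorem Q3484 : ∀ i, i < 3484 → P i := stepQ 3483 Q3483 (allL N3483 (tt N3441 F15375) (tt N3422 F15376) (tt N3465 F15377) (tt N3414 (iv D3516)) (tt N3433 F15378) (tt N3439 F15379) (tt N3430 F15380) (tt N3415 F15381) (tt N3443 F15382))
theorem Q3485 : ∀ i, i < 3485 → P i := stepQ 3484 Q3484 (allL N3484 (tt N3425 F15383) (tt N3447 F15384) (tt N3473 F15385) (tt N3417 (iv D3517)) (tt N3472 F15386) (tt N3466 F15387) (tt N3427 F15388) (tt N3484 F15389) (tt N3420 F15390))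
theorem Q3486 : ∀ i, i < 3486 → P i := stepQ 3485 Q3485 (allL N3485 (tt N3427 F15391) (tt N3443 F15392) (tt N3468 F15393) (tt N3418 (iv D3518)) (tt N3450 F15394) (tt N3469 F15395) (tt N3425 F15396) (tt N3485 F15397) (tt N3422 F15398))
theorem Q3487 : ∀ i, i < 3487 → P i := stepQ 3486 Q3486 (allL N3486 (tt N3433 F15399) (tt N3439 F15400) (tt N3430 F15401) (tt N3421 (iv D3519)) (tt N3441 F15402) (tt N3422 F15403) (tt N3465 F15404) (tt N3423 F15405) (tt N3469 F15406))
theorem Q3488 : ∀ i, i < 3488 → P i := stepQ 3487 Q3487 (allL N3487 (tt N3457 F15407) (tt N3425 F15408) (tt N3469 F15409) (tt N3424 (iv D3520)) (tt N3471 F15410) (tt N3468 F15411) (tt N3443 F15412) (tt N3487 F15413) (tt N3430 F15414))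
theorem Q3489 : ∀ i, i < 3489 → P i := stepQ 3488 Q3488 (allL N3488 (tt N3472 F15415) (tt N3471 F15416) (tt N3505 (iv F15523)) (tt N3449 F15417) (tt N3425 (iv D3521)) (tt N3470 (iv F15421)) (tt N3450 F15418) (tt N3488 F15419) (tt N3431 F15420))
theorem Q3490 : ∀ i, i < 3490 → P i := stepQ 3489 Q3489 (allL N3489 (tt N3469 F15422) (tt N3450 F15423) (tt N3457 F15424) (tt N3426 (iv D3522)) (tt N3443 F15425) (tt N3427 F15426) (tt N3471 F15427) (tt N3489 F15428) (tt N3433 F15429))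
theorem Q3491 : ∀ i, i < 3491 → P i := stepQ 3490 Q3490 (allL N3490 (tt N3468 F15430) (tt N3459 (iv F15436)) (tt N3427 (iv D3523)) (tt N3456 F15431) (tt N3506 (iv F15532)) (tt N3457 F15432) (tt N3473 F15433) (tt N3490 F15434) (tt N3434 F15435))
theorem Q3492 : ∀ i, i < 3492 → P i := stepQ 3491 Q3491 (allL N3491 (tt N3471 F15437) (tt N3452 F15438) (tt N3443 F15439) (tt N3428 (iv D3524)) (tt N3457 F15440) (tt N3467 F15441) (tt N3469 F15442) (tt N3491 F15443) (tt N3465 F15444))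
theorem Q3493 : ∀ i, i < 3493 → P i := stepQ 3492 Q3492 (allL N3492 (tt N3430 F15445) (tt N3446 F15446) (tt N3433 F15447) (tt N3429 (iv D3525)) (tt N3465 F15448) (tt N3434 F15449) (tt N3441 F15450) (tt N3436 F15451) (tt N3457 F15452))
theorem Q3494 : ∀ i, i < 3494 → P i := stepQ 3493 Q3493 (allL N3493 (tt N3465 F15453) (tt N3431 F15454) (tt N3441 F15455) (tt N3432 F15456) (tt N3430 (iv D3526)) (tt N3442 F15457) (tt N3433 F15458) (tt N3435 F15459) (tt N3471 F15460))
theorem Q3495 : ∀ i, i < 3495 → P i := stepQ 3494 Q3494 (allL N3494 (tt N3474 F15461) (tt N3442 F15462) (tt N3509 (iv F15555)) (tt N3453 F15463) (tt N3462 F15464) (tt N3431 (iv D3527)) (tt N3454 F15465) (tt N3438 F15466) (tt N3470 F15467))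
theorem Q3496 : ∀ i, i < 3496 → P i := stepQ 3495 Q3495 (allL N3495 (tt N3454 F15468) (tt N3434 (iv D3528)) (tt N3462 F15469) (tt N3445 F15470) (tt N3509 (iv F15557)) (tt N3446 F15471) (tt N3474 F15472) (tt N3437 F15473) (tt N3459 F15474))
theorem Q3497 : ∀ i, i < 3497 → P i := stepQ 3496 Q3496 (allL N3496 (tt N3451 F15475) (tt N3505 (iv F15522)) (tt N3444 (iv D3529)) (tt N3455 F15476) (tt N3467 F15477) (tt N3506 (iv F15533)) (tt N3460 F15478) (tt N3496 F15479) (tt N3448 F15480))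
theorem Q3498 : ∀ i, i < 3498 → P i := stepQ 3497 Q3497 (allL N3497 (tt N3460 F15481) (tt N3508 (iv F15546)) (tt N3447 (iv D3530)) (tt N3448 F15482) (tt N3466 F15483) (tt N3507 (iv F15540)) (tt N3451 F15484) (tt N3497 F15485) (tt N3455 F15486))
theorem Q3499 : ∀ i, i < 3499 → P i := stepQ 3498 Q3498 (allL N3498 (tt N3506 (iv F15529)) (tt N3460 F15487) (tt N3450 (iv D3531)) (tt N3462 F15488) (tt N3468 F15489) (tt N3451 F15490) (tt N3505 (iv F15526)) (tt N3498 F15491) (tt N3461 F15492))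
theorem Q3500 : ∀ i, i < 3500 → P i := stepQ 3499 Q3499 (allL N3499 (tt N3507 (iv F15537)) (tt N3451 (iv D3532)) (tt N3459 F15493) (tt N3461 F15494) (tt N3470 F15495) (tt N3460 F15496) (tt N3508 (iv F15550)) (tt N3499 F15497) (tt N3462 F15498))
theorem Q3501 : ∀ i, i < 3501 → P i := stepQ 3500 Q3500 (allL N3500 (tt N3462 F15499) (tt N3475 F15500) (tt N3454 (iv D3533)) (tt N3506 (iv F15531)) (tt N3474 (iv F15503)) (tt N3455 F15501) (tt N3509 (iv F15558)) (tt N3463 F15502) (tt N3507 (iv F15543)))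
theorem Q3502 : ∀ i, i < 3502 → P i := stepQ 3501 Q3501 (allL N3501 (tt N3509 (iv F15553)) (tt N3455 F15504) (tt N3474 F15505) (tt N3505 (iv F15524)) (tt N3454 (iv D3534)) (tt N3475 F15506) (tt N3462 F15507) (tt N3464 F15508) (tt N3508 (iv F15552)))
theorem Q3503 : ∀ i, i < 3503 → P i := stepQ 3502 Q3502 (allL N3502 (tt N3470 F15509) (tt N3473 F15510) (tt N3508 (iv F15547)) (tt N3458 (iv D3535)) (tt N3507 F15544) (tt N3472 F15511) (tt N3459 F15512) (tt N3502 F15513) (tt N3474 F15514))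
theorem Q3504 : ∀ i, i < 3504 → P i := stepQ 3503 Q3503 (allL N3503 (tt N3508 (iv F15545)) (tt N3506 (iv F15530)) (tt N3470 F15515) (tt N3475 F15516) (tt N3459 (iv D3536)) (tt N3505 (iv F15525)) (tt N3507 (iv F15541)) (tt N3503 F15517) (tt N3509 (iv F15560)))
theorem Q3505 : ∀ i, i < 3505 → P i := stepQ 3504 Q3504 (allL N3504 (tt N3505 (iv F15521)) (tt N3507 (iv F15538)) (tt N3472 (iv D3537)) (tt N3509 (iv F15556)) (tt N3473 F15518) (tt N3508 (iv F15549)) (tt N3506 (iv F15534)) (tt N3504 F15519) (tt N3475 F15520))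
theorem Q3506 : ∀ i, i < 3506 → P i := stepQ 3505 Q3505 (allL N3505 (tt N3504 F15521) (tt N3496 F15522) (tt N3488 F15523) (tt N3501 F15524) (tt N3476 (iv D3538)) (tt N3503 F15525) (tt N3498 F15526) (tt N3505 F15527) (tt N3479 F15528))
theorem Q3507 : ∀ i, i < 3507 → P i := stepQ 3506 Q3506 (allL N3506 (tt N3498 F15529) (tt N3503 F15530) (tt N3477 (iv D3539)) (tt N3500 F15531) (tt N3490 F15532) (tt N3496 F15533) (tt N3504 F15534) (tt N3506 F15535) (tt N3480 F15536))
theorem Q3508 : ∀ i, i < 3508 → P i := stepQ 3507 Q3507 (allL N3507 (tt N3499 F15537) (tt N3504 F15538) (tt N3478 (iv D3540)) (tt N3480 F15539) (tt N3502 (iv F15544)) (tt N3497 F15540) (tt N3503 F15541) (tt N3507 F15542) (tt N3500 F15543))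
theorem Q3509 : ∀ i, i < 3509 → P i := stepQ 3508 Q3508 (allL N3508 (tt N3503 F15545) (tt N3497 F15546) (tt N3502 F15547) (tt N3479 F15548) (tt N3478 (iv D3541)) (tt N3504 F15549) (tt N3499 F15550) (tt N3508 F15551) (tt N3501 F15552))
theorem Q3510 : ∀ i, i < 3510 → P i := stepQ 3509 Q3509 (allL N3509 (tt N3501 F15553) (tt N3480 F15554) (tt N3494 F15555) (tt N3504 F15556) (tt N3495 F15557) (tt N3479 (iv D3542)) (tt N3500 F15558) (tt N3481 F15559) (tt N3503 F15560))

theorem closedN : ∀ i, i < N → P i := Q3510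

end Cfsg.Agent.Helper17.Fi22aTC
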